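import Cfsg.Agent.Known.Kit3
import Cfsg.Agent.S0242

/-!
# The multiplier of `SL₂(9)`
-/

set_option autoImplicit false
set_option maxRecDepth 100000

namespace Cfsg.Lib.Known

open PC Cfsg.Lib.Spor Cfsg.Lib.Spor.Bulk

universe u

noncomputable def sl29_mm : ℕ := 0x707070707070707070707070707070707070707070707070707070707070707
theorem sl29_red : KM.Red 3 (2 * 2) 8 (KM.rdP 3 11 5 117901063) (KM.rdP 3 11 5 sl29_mm) := KM.red_P (by decide +kernel)
noncomputable def sl29_cm : ℕ := 0xff00000000000000ff00000000000000ff00000000000000ff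
noncomputable def sl29_o : ℕ := 0x1000000000000010000000000000100000000000001000000
theorem sl29_c : KM.okC (2 * 2) 8 64 192 24 sl29_cm 4294967295 0xffffffffffffff00 sl29_o = true := by decide +kernel
noncomputable def sl29_O0 (N F : ℕ) : Ops := KM.ops 3 (2 * 2) 8 (KM.rdP 3 11 5 117901063) (KM.rdP 3 11 5 sl29_mm)
  64 192 24 sl29_cm 4294967295 0xffffffffffffff00 sl29_o N F
/-- The basis. -/
abbrev sl29_b := KM.eb (Equiv.refl (Fin 2)) (KM.bω (QuadraticAlgebra.omega : Class.GF9))
theorem sl29_bas : KM.Bas 3 (2 * 2) sl29_b := (KM.fBas_gf9).bas _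
noncomputable def sl29_e (D : ℕ) : ℕ :=
  KM.enc2 3 8 2 2 0 (fun i j => KM.dg 2 D i j % 3) fun i j => KM.dg 2 D i j / 3
noncomputable def sl29_m (D : ℕ) := KM.mat2 (Equiv.refl (Fin 2)) (QuadraticAlgebra.omega : Class.GF9)
  (fun i j => KM.dg 2 D i j % 3) fun i j => KM.dg 2 D i j / 3
theorem sl29_rm (D : ℕ) : KM.RM 3 (2 * 2) 8 sl29_b (sl29_e D)
    (KM.matEnd _ _ (sl29_m D)) := KM.rm_mat2 _ (by decide) (KM.fBas_gf9).tor KM.gf9_w _ _
noncomputable def sl29_O : Ops := sl29_O0 720 10
/-- The model. -/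
noncomputable def sl29_M := KM.matModel (G := (Matrix.SpecialLinearGroup (Fin 2) Class.GF9)) sl29_red sl29_bas sl29_c (slToMat 2 _)
  KM.slToMat_injective
theorem sl29_card : Nat.card (Matrix.SpecialLinearGroup (Fin 2) Class.GF9) = 720 := by
  have := Agent.S0242.result Class.card_GF9 2 (by decide)
  simp only [Fin.prod_univ_two, Fin.val_zero, Fin.val_one] at this
  omega
theorem sl29_has : sl29_M.Has sl29_O := KM.has_mat sl29_red sl29_bas sl29_c _ _ sl29_card _
theorem sl29_p0 : KM.Pr 3 (2 * 2) 8 sl29_b ⊤ (sl29_e 0x1723) (sl29_e 0x3511) :=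
  KM.pr_of sl29_red sl29_bas sl29_c (sl29_rm _) (sl29_rm _) (by decide +kernel) fun _ _ => trivial
theorem sl29_p1 : KM.Pr 3 (2 * 2) 8 sl29_b ⊤ (sl29_e 0x2628) (sl29_e 0x8312) :=
  KM.pr_of sl29_red sl29_bas sl29_c (sl29_rm _) (sl29_rm _) (by decide +kernel) fun _ _ => trivial
theorem sl29_p2 : KM.Pr 3 (2 * 2) 8 sl29_b ⊤ (sl29_e 0x4305) (sl29_e 0x5604) :=
  KM.pr_of sl29_red sl29_bas sl29_c (sl29_rm _) (sl29_rm _) (by decide +kernel) fun _ _ => trivial
theorem sl29_p3 : KM.Pr 3 (2 * 2) 8 sl29_b ⊤ (sl29_e 0x6265) (sl29_e 0x5136) :=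
  KM.pr_of sl29_red sl29_bas sl29_c (sl29_rm _) (sl29_rm _) (by decide +kernel) fun _ _ => trivial
noncomputable def sl29_g : List ℕ := [0x1020102000000000002010000000000010202010000000001000001, 0x1010201000000000001010200000000020102020000000001020002]
theorem sl29_in : ∀ c ∈ sl29_g, sl29_M.In ⊤ c := by
  simp only [sl29_g, List.forall_mem_cons]
  exact ⟨KM.sl_in sl29_red sl29_bas sl29_c (sl29_p0.comm sl29_red sl29_bas sl29_c sl29_p1 (by decide +kernel)), KM.sl_in sl29_red sl29_bas sl29_c (sl29_p2.comm sl29_red sl29_bas sl29_c sl29_p3 (by decide +kernel)), by simp⟩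
def sl29m2_cert : Cert where
  p := 2
  q := 2
  m := 1
  n := 4
  r := 0
  S := 15
  W := 23
  F := 20
  L := 3
  NL := 1
  FV := 1061
  T := 0x8001000200000000000000000000000000000000000000000000000000000000000000000000000000000000000000000000000000000000000000008020c0418000000000000000000000000000000000000000000000000000000000000000000000000000000000000000000000000000000000000000000100310000000000000000000000000000000000000000000000000000000000000000000000000000000000000000000000000000000000000000000000020000000000000000000000000000000000000000000000000000000000000000000000000000000000000000000000000000000000000000000000000000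
  cons := [0x421, 0x842, 0xc63, 0xc61, 0x841, 0x821]
  fus := [(0x841880410000, 0x8000c0010000, [(0x21, 0x3), (0x42, 0x3)]),
    (0x802048308000, 0x8000c0008000, [(0x42, 0x3), (0x21, 0x3)])]
  Ss := [[], [], [], [2081], [3169]]
  zetas := []
  rows := [(33, 0x933993f082f, 0x0),
    (65, 0xd00104ef4bc0, 0x0),
    (66, 0x2af92fc2df94, 0x0),
    (97, 0x2335dc03d6a50, 0x0),
    (98, 0x28ae5ee294090, 0x0),
    (99, 0xccc0a10d49d6, 0x0),
    (129, 0x1a0f0a0423bd2, 0x0),
    (130, 0x2d7361c075a10, 0x0),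
    (131, 0x3440c204c12d0, 0x0),
    (132, 0x624ce5cd3256, 0x0)]
  zrows := []
noncomputable def sl29m2_cs : List ℕ := [sl29_O.one,
  0x1010202000000000201010000000000020202020000000001000102,
  0x2020201000000000100020100000000020101010000000002010200,
  0x1010101000000000201020000000000010102020000000002000102,
  0x2000000000000020000000000000200000000000002000000]
noncomputable def sl29m2_xs : List ℕ := [0x2010101000000000200020200000000010101020000000002020100,
  0x10100000000000201010000000000010000020000000001000102]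
theorem sl29m2_ck : check sl29m2_cert = true := by decide +kernel
theorem sl29m2_m : Ops.mult sl29_O 720 sl29_g
    [(1, [0]), (2, [0]), (1, [2]), (1, [0]), (4, [0]), (2, [5]), (0, [6]), (3, [7]), (8, [1]), (1, [9]), (1, [1, 1, 5, 3]), (6, [2, 11]), (1, [1, 0, 0, 2, 7, 3, 1]), (1, [1, 3, 3, 3, 1]), (3, [2, 9, 4, 9]), (5, [5]), (4, [4, 6, 11, 11, 5]), (6, [6, 5, 5, 7, 12, 12, 12]), (20, [])]
    sl29m2_cs sl29m2_xs sl29m2_cert
    [(1, 38, [(1, 4), (1, 3), (1, 2), (1, 1)])] = true := by decide +kernel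
def sl29m3_cert : Cert where
  p := 3
  q := 9
  m := 3
  n := 2
  r := 1
  S := 20
  W := 23
  F := 13
  L := 3
  NL := 4
  FV := 1028
  T := 0x20000000000000000000000000000000000000000000000000000000000000000000000000000000000000000000000000000000000000000000000000000000000000000000000000000000000000000000000000000000000000000000000000000000000000000000000000000000000000000000000000000000000000000000000000000000000000000000000000000000000000000000000000000000000000
  cons := [0x10841]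
  fus := [(0x108210084100000, 0x20000100000, [(0x421, 0x0), (0x842, 0x0)])]
  Ss := [[], [32801, 32833, 1058, 2114], [32801, 2114]]
  zetas := [[2081]]
  rows := [(33, 0x23a, 0x0),
    (65, 0x4800, 0x1),
    (66, 0x351b, 0x0)]
  zrows := [0x137b]
noncomputable def sl29m3_cs : List ℕ := [sl29_O.one,
  0x20100000000000101020000000000010000010000000002000202,
  0x2000102000000000001000100000000010201000000000000010002]
noncomputable def sl29m3_xs : List ℕ := [0x1020200000000000201000100000000020002010000000000010102]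
theorem sl29m3_ck : check sl29m3_cert = true := by decide +kernel
theorem sl29m3_m : Ops.mult sl29_O 720 sl29_g
    [(1, [0]), (2, [0]), (2, [0]), (1, [3]), (0, [4]), (0, [4]), (6, [6]), (0, [4]), (0, [5]), (0, [9]), (10, [4, 4, 10, 10, 0]), (11, [5, 5, 11, 11, 8]), (6, [0, 1]), (2, [1, 1, 7, 0]), (3, [3, 2, 2, 14, 14, 3]), (4, [3, 2, 15, 2]), (18, [])]
    sl29m3_cs sl29m3_xs sl29m3_cert
    [(1, 12, [(2, 2), (2, 1)])] = true := by decide +kernel
noncomputable def sl29p_i : ℕ → ℕ := getN 0 [0,2,1,4,3,6,5]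
noncomputable def sl29p_R : List (List ℕ) := [[1,1,1],[3,3,3],[3,1,4,2],[5,5,5],[4,6,4,6,1,5,1,6],[5,1,3,6,3,1,5,4,2],[5,1,5,2,5,4,6,4,1]]
noncomputable def sl29p_c1_C : SeqCert := ⟨nat_lit 4, nat_lit 9, nat_lit 7, nat_lit 0x506060503040403010202010000, (NT.leaf (nat_lit 0) (nat_lit 0x148026804780257013702460456023504340212048203720461035104400330022001100000)), (NT.node (nat_lit 3) (NT.node (nat_lit 1) (NT.leaf (nat_lit 1) (nat_lit 0x20202)) (NT.node (nat_lit 2) (NT.leaf (nat_lit 5) (nat_lit 0x40404)) (NT.leaf (nat_lit 32777) (nat_lit 0x2040103)))) (NT.node (nat_lit 4) (NT.leaf (nat_lit 49160) (nat_lit 0x2030104)) (NT.node (nat_lit 5) (NT.leaf (nat_lit 16392) (nat_lit 0x1040203)) (NT.leaf (nat_lit 9) (nat_lit 0x1030204)))))⟩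
noncomputable def sl29p_c1_U : List (List ℕ) := []
noncomputable def sl29p_c1_HL : List ℕ := []
theorem sl29p_c1_head : sl29p_c1_C.head 7 sl29p_i sl29p_R sl29p_c1_U sl29p_c1_HL 9 4 0 = true := by decide +kernel
noncomputable def sl29p_c1_s0 : List ℕ := [nat_lit 0x4008090181420130680c061007808020e0982c0602070100e030203004090180c180b0100414020380c040803808020401808000a]
theorem sl29p_c1_ok0 : sl29p_c1_C.StepsOK 9 19 := (SeqCert.StepsOK.refl _ 9).step (L := sl29p_c1_s0) (by decide +kernel)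
theorem sl29p_c1_ok : sl29p_c1_C.StepsOK (9 + 0) 19 := sl29p_c1_ok0
noncomputable def sl29p_c1_r0 : List ℕ := [nat_lit 0x42018c0840210, nat_lit 0x6302940601321, nat_lit 0x84039c2420502, nat_lit 0x3805503ae1753, nat_lit 0xa182404b01b64, nat_lit 0x5886582c61f75, nat_lit 0xc283443482386, nat_lit 0x7908603ca1c37, nat_lit 0x103844844c2448]
theorem sl29p_c1_final : sl29p_c1_C.final 7 19 (nat_lit 0x1ff) 9 [1,2,3,4] (sl29p_c1_r0) = true := by decide +kernel
theorem sl29p_c1 {G : Type*} [Group G] {g : ℕ → G} {H : Subgroup G} (hg : Sat g 7 sl29p_i sl29p_R)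
    (hU : ∀ u ∈ sl29p_c1_U, wv g u ∈ H) (hL : ∀ l ∈ sl29p_c1_HL, g l ∈ H) :
    IdxLe H (Subgroup.closure {x | ∃ l ∈ ([1,2,3,4] : List ℕ), g l = x}) 9 :=
  SeqCert.idxLe_of_final hg hU hL sl29p_c1_head sl29p_c1_ok sl29p_c1_final
noncomputable def sl29p_c0_C : SeqCert := ⟨nat_lit 7, nat_lit 9, nat_lit 7, nat_lit 0x506060503040403010202010000, (NT.leaf (nat_lit 0) (nat_lit 0x67cf049f3c1a24f019d381274e068b380e6cd019b3415a4d0199301264c066f3015e4b067d2c0584b02892c121cb0395280654a0567281a1c9058524095c9017d240da4903912006448057720118c703591c0994701831c15c47066d181594603711811fc601751819ac50149140a1450479141623a0261100d6c406850c11743015f0c092420477081a0c1016504111410280d41201f024f001134006610015fbf0470fc05cbf0678f8055be0454f819ebd013cf4090bd0448f4110bc0276f00dd9e0550ec10b24014ae811cba0630e4154b90134e4153b8026ee00dba50334dc197b70664d805436023ed811ab6014ed4158b40352d004cb40666a805633023acc119330362b0051310636c0117b00140bc1972e025ab8116a00222b41962d013ab0155ab0326ac10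caa0252a814c29013ea0113a8034c7c1532601289810d2506489408f2103468c051a305388c04922043a88190a2063e8018e9e0516700451c02307010d9c022e6c0449b0632680499902146010b98062e5c08497062a58046940626500c71306224814810010c4008610041e400858f010a3c1868e020c301058c020a2c1048a020e20102860206101808203000004000069ee81a735059ac41a62f0496b81652a0392a416428058e9c06325048a840e2200186801211e0482741a01b017e6811f19047a5809e1601765811d1503725409c15016e5411b14036a5005a130466480d91201624811811035e4409711065a3c1560f0356380950e0152381140d034e340530d064a301520c05462c1910a05422819009053e2418f08053a2010e0803362018d0705321c10c07032e1c18b06052a1818a050526141890405221010804031e1018703051a0c1060303160c1050203120808402010e0810301030a04082010106041810005020000000)), (NT.node (nat_lit 22) (NT.node (nat_lit 11) (NT.node (nat_lit 5) (NT.node (nat_lit 2) (NT.node (nat_lit 1) (NT.leaf (nat_lit 13) (nat_lit 0x60606)) (NT.leaf (nat_lit 1) (nat_lit 0x20202))) (NT.node (nat_lit 3) (NT.leaf (nat_lit 5) (nat_lit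 0x40404)) (NT.node (nat_lit 4) (NT.leaf (nat_lit 32777) (nat_lit 0x2040103)) (NT.leaf (nat_lit 49160) (nat_lit 0x2030104))))) (NT.node (nat_lit 8) (NT.node (nat_lit 6) (NT.leaf (nat_lit 16392) (nat_lit 0x1040203)) (NT.node (nat_lit 7) (NT.leaf (nat_lit 9) (nat_lit 0x1030204)) (NT.leaf (nat_lit 20) (nat_lit 0x50103060301050402)))) (NT.node (nat_lit 9) (NT.leaf (nat_lit 114705) (nat_lit 0x305020602050305)) (NT.node (nat_lit 10) (NT.leaf (nat_lit 81945) (nat_lit 0x10602060203050306)) (NT.leaf (nat_lit 32789) (nat_lit 0x60204050402060103)))))) (NT.node (nat_lit 16) (NT.node (nat_lit 13) (NT.node (nat_lit 12) (NT.leaf (nat_lit 98320) (nat_lit 0x106040604060105)) (NT.leaf (nat_lit 81941) (nat_lit 0x50402060103060204))) (NT.node (nat_lit 14) (NT.leaf (nat_lit 32784) (nat_lit 0x406010501060406)) (NT.node (nat_lit 15) (NT.leaf (nat_lit 65552) (nat_lit 0x105010604060406)) (NT.leaf (nat_lit 12) (nat_lit 0x50505))))) (NT.node (nat_lit 19) (NT.node (nat_lit 17) (NT.leaf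 (nat_lit 32788) (nat_lit 0x30603010504020501)) (NT.node (nat_lit 18) (NT.leaf (nat_lit 49176) (nat_lit 0x20504060401050105)) (NT.leaf (nat_lit 0) (nat_lit 0x10101)))) (NT.node (nat_lit 20) (NT.leaf (nat_lit 32792) (nat_lit 0x50205040604010501)) (NT.node (nat_lit 21) (NT.leaf (nat_lit 49177) (nat_lit 0x30601060206020305)) (NT.leaf (nat_lit 81936) (nat_lit 0x501060406040601))))))) (NT.node (nat_lit 33) (NT.node (nat_lit 27) (NT.node (nat_lit 24) (NT.node (nat_lit 23) (NT.leaf (nat_lit 49161) (nat_lit 0x4010302)) (NT.leaf (nat_lit 4) (nat_lit 0x30303))) (NT.node (nat_lit 25) (NT.leaf (nat_lit 98321) (nat_lit 0x503050206020503)) (NT.node (nat_lit 26) (NT.leaf (nat_lit 114713) (nat_lit 0x20602030503060106)) (NT.leaf (nat_lit 32785) (nat_lit 0x602050305030502))))) (NT.node (nat_lit 30) (NT.node (nat_lit 28) (NT.leaf (nat_lit 16400) (nat_lit 0x604060105010604)) (NT.node (nat_lit 29) (NT.leaf (nat_lit 8) (nat_lit 0x3010402)) (NT.leaf (nat_lit 131097) (nat_lit 0x60203050306010602))))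 (NT.node (nat_lit 31) (NT.leaf (nat_lit 16393) (nat_lit 0x3020401)) (NT.node (nat_lit 32) (NT.leaf (nat_lit 98324) (nat_lit 0x50402050103060301)) (NT.leaf (nat_lit 114704) (nat_lit 0x604060406010501)))))) (NT.node (nat_lit 39) (NT.node (nat_lit 36) (NT.node (nat_lit 34) (NT.leaf (nat_lit 65560) (nat_lit 0x50406040105010502)) (NT.node (nat_lit 35) (NT.leaf (nat_lit 17) (nat_lit 0x502060205030503)) (NT.leaf (nat_lit 65561) (nat_lit 0x60106020602030503)))) (NT.node (nat_lit 37) (NT.leaf (nat_lit 81944) (nat_lit 0x40604010501050205)) (NT.node (nat_lit 38) (NT.leaf (nat_lit 81937) (nat_lit 0x305030502060205)) (NT.leaf (nat_lit 65557) (nat_lit 0x40504020601030602))))) (NT.node (nat_lit 42) (NT.node (nat_lit 40) (NT.leaf (nat_lit 32776) (nat_lit 0x4020301)) (NT.node (nat_lit 41) (NT.leaf (nat_lit 49173) (nat_lit 0x20405040206010306)) (NT.leaf (nat_lit 98329) (nat_lit 0x60206020305030601)))) (NT.node (nat_lit 43) (NT.leaf (nat_lit 65553) (nat_lit 0x503050305020602))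 (NT.node (nat_lit 44) (NT.leaf (nat_lit 16401) (nat_lit 0x206020503050305)) (NT.leaf (nat_lit 114708) (nat_lit 0x40205010306030105))))))))⟩
noncomputable def sl29p_c0_U : List (List ℕ) := []
noncomputable def sl29p_c0_HL : List ℕ := [1,2,3,4]
theorem sl29p_c0_head : sl29p_c0_C.head 7 sl29p_i sl29p_R sl29p_c0_U sl29p_c0_HL 80 7 2 = true := by decide +kernel
noncomputable def sl29p_c0_s0 : List ℕ := [nat_lit 0x209d402011a9f5700180c7ccc67b34831a8e5b81024400d956336ab156a4f040a100dc71abc52fa7e81c1a808f008007e1a0bd9cd0a55a00e153f4fa8403139fa8c02091f1ad46a5b4c87580386cf8d58500c0c7c84008047a162f980bd24d680e1b3d1dea803031e8f35901810f55001008f02c54ad8b30f753a410263c1dc040172c9a54545a946a407129d8580c5204c7f020385490bc602f4974e3a32810243a1be8003031d0e602011c854a95711de2ef6f8204672152a452c95a14c0e22391be7e03029c054be602f4301b2782042703780802f99f0082e6e152c8301d2ac25ac08081b854be60880465f03880d8285b16e26c23281c366c649440606363e9fc03021b0d602011a9924f01814d10a86958ab2b94c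8c101f34314a6030f1a1a802091503806520548aeb930203a6631c880606333b1d60302198ca020143dd52001870c4ec01048c0c2763a5ea3c1b81c36602f808045e8945006052e08842c05d96e2c070d17224020090158437ab961d1003834b4b923bc88c165308c10192d16404002c2e48ef3778e07607059596a4d7ebed8f0a03860acc40105ca8c46a00c2c542980802520e05c8ef377b7c0e1528135fc03031409e02010f8240f19b558cfa7e820284c0d018162762ad49a0809931900209128301b6431da8d60383494490100084e0773c1e6ef1c0f410117811970ba602f56247040408caf13b1438172381c1646710081e440a0114603048940e0e2205008a0028447607069108602001007e02000f07602000e020045128006070b82018380805406061c2ac6203020e06e02010d9562f0180c6c100980c0a341980800320701146030589c0e0b180382a03020c05e02010b81c0450a8c0a1366020142e0704c0603160ac04001402804a25080c0e1b040245027010004c0a0128406070e81c10241180800bf0600940a2018357c0803880100d0181840a70c80c08200f808041e5385c06030f0201603028703602000600c0d018103017010082c060580c061409808041007808020c05808040803808020401808006b,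
 nat_lit 0x9e3a32aa0f6a727c0e0e4f1d19479e470fb80706a7b1a0200272699ecdd16649d038393934cf231ef92eb01c1a9cca008009a90911a504977400e254d188481f2cc8d360705a6a600207a62396eba39a349903839311cb75ce8943e501c1a989e00800962e308cf27723d2b0080625a311788ca255620386d2c5c3080c0c968be2006044b61004024a15038a61299f740712a520f05180ce10950382d292b0103d24520e2983e5b8a21c100a495228e34550f50a070c248a4570180d2506b100c0a92970082e9081b990f87bfea80e25484e33d9ba2c01220705a42a40207a3a646a14028122531820588eb9201b2418ac440e2547138341925a373a0715a3a6594453a2f17c0382d1d440103d184a58b89bad91fcd81029463e4683169915da650407d1941a100c3c8c7c9fc0627465380412453a2413034318d6070da2ab95b0181914f54280c088aac008054f252f180bb2de200e2a4446a380301a222a020ba188012528356449c002052868ac5806274346804124257ab60302212aa0201209c95eb0d75d1780386d05269280c0c34]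
theorem sl29p_c0_ok0 : sl29p_c0_C.StepsOK 82 241 := (SeqCert.StepsOK.refl _ 82).step (L := sl29p_c0_s0) (by decide +kernel)
theorem sl29p_c0_ok : sl29p_c0_C.StepsOK (80 + 2) 241 := sl29p_c0_ok0
noncomputable def sl29p_c0_r0 : List ℕ := [nat_lit 0x1010080a8c028802840280000, nat_lit 0xc02941030302828202018181, nat_lit 0x29008140050504848404038382, nat_lit 0x70706868606058581c0a9c203, nat_lit 0x909088888080787a981824084, nat_lit 0xa0a098982c0aa432dc7abc585, nat_lit 0xb0b0a8aaa028340afc82cc606, nat_lit 0xd0d0c8c8c0c0b8b83c12ac407, nat_lit 0xf0f0e8e8e0e0d8daa83844108, nat_lit 0x10100f8f84c12b45364db34b89, nat_lit 0x11111090ab048541384e34cc0a, nat_lit 0x38ce119185c1ac462b82ae478b, nat_lit 0x129292122c058641ac832f480c, nat_lit 0x6c1ad4714141393b24a13130d, nat_lit 0x2d068741b1499595951514948e, nat_lit 0x1696961607c22ec82e05ad828f, nat_lit 0x304830082e8788422f062f8310, nat_lit 0x8c230c918181797971744d691, nat_lit 0x30888942199999193b51189892, nat_lit 0x9c2b1ca42d5b107354c9a1a13,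 nat_lit 0x31898a429b1b1a9abed3320694, nat_lit 0xac332cb1d1d1c9c9c1c1b9b95, nat_lit 0x328a8b431e9ed4521e1e1d9d96, nat_lit 0x338bb3cb8bc3b44c3304b6cd97, nat_lit 0x4154d2dcb40b8c43b48537ce18, nat_lit 0xcc3b5cd1f1f42554b5a350999, nat_lit 0x358c8d43cfdbbe52d1dc9f9f9a, nat_lit 0x202047d80dc4374e368bb6049b, nat_lit 0x3bd1b885b70d8e44378c38051c, nat_lit 0xec4394f20a0bad143d649d99d, nat_lit 0x390e8f442121551dd7debd509e, nat_lit 0xfc4b9d05d203f9340d44ddb1f, nat_lit 0x398f9044c516a22246d7a1a1a0, nat_lit 0x10c53a5122a2d65e3d0f575ea1, nat_lit 0x3a1091453a8ede60c858bb0922, nat_lit 0x11c5bb8e3cd1bc91bc51bc11a3, nat_lit 0x12463dd2d40b56dee4e2e06124, nat_lit 0x3d9212c63e0d501bd3dd232325, nat_lit 0x3f533f133fcfdc601346be8a26, nat_lit 0x515c23a393c6c0544cdadce027, nat_lit 0x54dda42440139446ce5b408fa8, nat_lit 0x525cc10c4bda24a494c741d529, nat_lit 0x4a99a525420cd8df419495472a, nat_lit 0x4355c31595c74289d95f6d64ab, nat_lit 0x1647c456e9e3c898ca59c38eac, nat_lit 0x441616c7e26245504488c5d72d,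 nat_lit 0x4617465725a5e161c5969748ae, nat_lit 0x26264f5b97c8c75860e1c6902f, nat_lit 0x478ddbe047179848f165e2e230, nat_lit 0x4c5a26a6c8d66a6398c9481131, nat_lit 0x67634edb19494959dee0e963b2, nat_lit 0x6ee54ad5491919c9498eca1633, nat_lit 0x7466cc18ec64cb949a49cb0cb4, nat_lit 0x272765629aca4d5b5da04c93b5, nat_lit 0x4e9967e34d1a9b4a4d8fce1436, nat_lit 0x4f17f2e65052cf8d1bcad0dc37, nat_lit 0x6863d113e6e35adfd09b9c4ab8, nat_lit 0x528c52149ccad35d5a5fd18d39, nat_lit 0x27a7e322531c9d4ae5e35392ba, nat_lit 0x6ae45494554f5fe11dcb55de3b, nat_lit 0x7265d9df5610e3e2d59d9e4b3c, nat_lit 0x581ed85ed6921ecb5710d78f3d, nat_lit 0x599e71e5d8951f4cece4d915be, nat_lit 0x5b5fdb1fda9c66631fcd5a1cbf, nat_lit 0x5b98204ddc135d4fdc93dddac0, nat_lit 0x5f20df60de1120cee8e3de9941, nat_lit 0x6de4e1e1df9da14f60126462c2, nat_lit 0x61a16e64e1177065a1d06097c3, nat_lit 0x635d7767a2506216e29870e5c4, nat_lit 0x651af5e7639e22d0e421649245, nat_lit 0x679b6719661fe69c2352e59d46, nat_lit 0x23d3e81c6a18e996691968a0c7,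 nat_lit 0x24546a9debe46ba46b646b2448, nat_lit 0x6e21eda124d4ec1a6d15ec9f49, nat_lit 0x25556e99efe56fa56f656f254a, nat_lit 0x719f721e7021a5d770a271184b, nat_lit 0x729ba657f326736673e673a64c, nat_lit 0x26d8f41a7566f526f4e6f4a6cd, nat_lit 0x75a2a75af627766776e776a74e, nat_lit 0x772227dd77a7f7e7f867f827cf]
theorem sl29p_c0_final : sl29p_c0_C.final 7 241 (nat_lit 0xffffffffffffffffffff) 80 [1,2,3,4,5,6] (sl29p_c0_r0) = true := by decide +kernel
theorem sl29p_c0 {G : Type*} [Group G] {g : ℕ → G} {H : Subgroup G} (hg : Sat g 7 sl29p_i sl29p_R)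
    (hU : ∀ u ∈ sl29p_c0_U, wv g u ∈ H) (hL : ∀ l ∈ sl29p_c0_HL, g l ∈ H) :
    IdxLe H (Subgroup.closure {x | ∃ l ∈ ([1,2,3,4,5,6] : List ℕ), g l = x}) 80 :=
  SeqCert.idxLe_of_final hg hU hL sl29p_c0_head sl29p_c0_ok sl29p_c0_final
theorem sl29p_ord : OrdLe.{u} 7 sl29p_i sl29p_R [1,2,3,4,5,6] 720 :=
  (((OrdLe.nil 7 sl29p_i sl29p_R).step (Ls := [1,2,3,4]) sl29p_c1).step (Ls := [1,2,3,4,5,6]) sl29p_c0)
noncomputable def sl29p_cs : List ℕ := [sl29_O.one,
  0x1000000000000010200000000000100000000000001020000,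
  0x1000000000000010100000000000100000000000001010000,
  0x1000000000002010100000000000100000000000001010001,
  0x1000000000001010200000000000100000000000001020002,
  0x1020000000000000100020100000000000002010000000002010200,
  0x2010002000000000200000200000000000201020000000000020100]
theorem sl29p_s : Ops.slp sl29_O sl29_g
    [(1, [1]), (0, [1]), (2, [3]), (3, [0]), (0, [1]), (2, [0]), (4, [7]), (2, [1]), (1, [9]), (3, [0]), (1, [0, 2, 0, 1, 11]), (3, [1]), (2, [3, 4, 3, 0]), (0, [0]), (3, [3]), (4, [5]), (5, [6, 5, 6]), (19, [])]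
    sl29p_cs = true := by decide +kernel
theorem sl29p_r : Ops.rels sl29_O sl29p_cs (invRels sl29p_i 7 ++ sl29p_R) = true := by decide +kernel
theorem sl29p_b : Ops.build sl29_O sl29p_cs 720
    [⟨1, 0, 0x10000d000d00000000000d000300040000000400040000000b00000001000000000006000100010000000800010000000000000003000b0000001d0000006b, 10, [4, 6]⟩, ⟨16777473, 0, 12884901907, 4, [1, 3]⟩] = true := by decide +kernel
theorem sl29p_pres : ∃ g : ℕ → (Matrix.SpecialLinearGroup (Fin 2) Class.GF9), Pres g 7 sl29p_i sl29p_R :=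
  (sl29_has.pres (sl29_has.slp sl29_in sl29p_s) sl29_card sl29p_ord (by decide +kernel) sl29p_r sl29p_b).imp fun _ h => h.2
noncomputable def sl29pa_n1 : Net := (Net.cons (nat_lit 1) (nat_lit 0x8)
 (Net.cons (nat_lit 1) (nat_lit 0x12)
 (Net.cons (nat_lit 1) (nat_lit 0x1)
 Net.nil)))
theorem sl29pa_n1_ok : sl29pa_n1.OK 6 := Net.OK_of_ok (by decide +kernel)
noncomputable def sl29pa_n3 : Net := (Net.cons (nat_lit 1) (nat_lit 0x2)
 (Net.cons (nat_lit 1) (nat_lit 0x1)
 Net.nil))
theorem sl29pa_n3_ok : sl29pa_n3.OK 6 := Net.OK_of_ok (by decide +kernel)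
noncomputable def sl29pa_n5 : Net := (Net.cons (nat_lit 3) (nat_lit 0x4)
 (Net.cons (nat_lit 1) (nat_lit 0x1)
 (Net.cons (nat_lit 1) (nat_lit 0x10)
 (Net.cons (nat_lit 3) (nat_lit 0x1)
 Net.nil))))
theorem sl29pa_n5_ok : sl29pa_n5.OK 6 := Net.OK_of_ok (by decide +kernel)
noncomputable def sl29pa_T : ℕ → Net := getN Net.nil [Net.nil, sl29pa_n1, sl29pa_n1.rev, sl29pa_n3, sl29pa_n3.rev, sl29pa_n5, sl29pa_n5.rev]
theorem sl29pa_nets : NetsOK sl29pa_T 6 := netsOK_getN (forall_mem_cons' (Net.OK_nil _) (forall_mem_cons' sl29pa_n1_ok (forall_mem_cons' sl29pa_n1_ok.rev (forall_mem_cons' sl29pa_n3_ok (forall_mem_cons' sl29pa_n3_ok.rev (forall_mem_cons' sl29pa_n5_ok (forall_mem_cons' sl29pa_n5_ok.rev forall_mem_nil')))))))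
theorem sl29pa_w : 6 ≤ 2 ^ 3 := by norm_num
theorem sl29pa_inv_0 : eqsOn sl29pa_T 6 3 (invPairs sl29p_i 7) 0 3 = true := by decide +kernel
theorem sl29pa_r0_0 : eqsOn sl29pa_T 6 3 (relPairs sl29p_i [[1,1,1],[3,3,3],[3,1,4,2],[5,5,5],[4,6,4,6,1,5,1,6],[5,1,3,6,3,1,5,4,2],[5,1,5,2,5,4,6,4,1]]) 0 3 = true := by decide +kernel
theorem sl29pa_inv : ∀ l < 7, prm sl29pa_T 6 (sl29p_i l) = (prm sl29pa_T 6 l)⁻¹ := inv_of_eqs sl29pa_nets sl29pa_w ((EqsBelow.zero _ _ _ _).step sl29pa_inv_0)
theorem sl29pa_rel0 : ∀ r ∈ ([[1,1,1],[3,3,3],[3,1,4,2],[5,5,5],[4,6,4,6,1,5,1,6],[5,1,3,6,3,1,5,4,2],[5,1,5,2,5,4,6,4,1]] : List (List ℕ)), wv (prm sl29pa_T 6) r = 1 := rels_of_eqs sl29pa_nets sl29pa_w sl29pa_inv (by decide +kernel) ((EqsBelow.zero _ _ _ _).step sl29pa_r0_0)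
theorem sl29pa_sat : Sat (prm sl29pa_T 6) 7 sl29p_i sl29p_R := sat_prm rfl sl29pa_inv fun r hr => sl29pa_rel0 r (mem_of_subL (by decide +kernel) r hr)
noncomputable def sl29pal_K0 : ℕ → ℕ := getN 0 [0, (nat_lit 0x38), 0, (nat_lit 0x11), (nat_lit 0x21), 0, 0]
noncomputable def sl29pal_K1 : ℕ → ℕ := getN 0 [0, 0, (nat_lit 0x38), (nat_lit 0x24), (nat_lit 0x12), 0, 0]
noncomputable def sl29pal_a : List ℕ := [0,0,0,0,0,0,0,0,0,1,0,0,0,0]
theorem sl29pal : Lifts (ZMod 3) (invRels sl29p_i 7 ++ sl29p_R) (sl29pal_a.map Nat.cast) :=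
  lifts_of_chk add3 (K0 := sl29pal_K0) (K1 := sl29pal_K1) (by decide) sl29pa_nets rfl rfl rfl sl29pa_sat (by decide +kernel)
theorem sl29p_dvd3 : MultDvd (Matrix.SpecialLinearGroup (Fin 2) Class.GF9) 3 :=
  sl29p_pres.elim fun _ h => multDvd_cyclic h sl29pal [0, 0, -1, 0, -1, 0, 0, 0, 0, 1, 0, 0, 0, 0] (by decide +kernel) (by decide +kernel)

theorem mult_sl29 {F : Type*} [Field F] [Fintype F] (hF : Fintype.card F = 9) :
    HasCyclicSchurMultiplier (Matrix.SpecialLinearGroup (Fin 2) F) 3 := by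
  obtain ⟨e⟩ := Class.nonempty_ringEquiv_GF9 hF
  have h : HasCyclicSchurMultiplier (Matrix.SpecialLinearGroup (Fin 2) Class.GF9) 3 :=
    hasCyclic_of_multDvd (by decide) (multLe_cyclic (a := 0) (b := 1) (sl29_has.pBound sl29_card sl29_in sl29m2_ck sl29m2_m)
      (sl29_has.pBound sl29_card sl29_in sl29m3_ck sl29m3_m) (Nat.zero_le _) le_rfl
      (pBound_others sl29_card 5 4 [] (by decide +kernel) (by simp)) rfl) sl29p_dvd3
  exact Solv.hasSchurMultiplier_congr_left h (Class.slEquiv _ e).symm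

end Cfsg.Lib.Known
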