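import Cfsg.Agent.Known.PronWr
import Cfsg.Agent.S0215
import Cfsg.Agent.Solv.CoprimeSylow

/-! Group theoretic lemmas for pronormality in products of symplectic groups. -/

set_option autoImplicit false

namespace Cfsg.Lib.Known.Pron

open Cfsg Cfsg.Lib.Solv
open scoped Pointwise commutatorElement

/-- The local condition which is inherited by direct products. -/
def Loc {G : Type*} [Group G] (S : Subgroup G) : Prop :=
  ∀ L M : Subgroup G, S ≤ M → M ≤ L → (∀ l ∈ L, ∀ x ∈ M, l * x * l⁻¹ ∈ M) →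
    ∀ g ∈ Subgroup.normalizer (S : Set G),
      g ∈ M ⊔ MulAut.conj g • M ∨ ∀ l ∈ L, g * l * g⁻¹ * l⁻¹ ∈ M

theorem Loc_eq_1' : type_of% @Loc.eq_1 := @Loc.eq_1

theorem oddPron_pi {η : Type*} [Finite η] {G : η → Type*} [∀ i, Group (G i)] [∀ i, Finite (G i)]
    (S : ∀ i, Sylow 2 (G i)) (h : ∀ i, Loc (S i : Subgroup (G i))) : OddPron (∀ i, G i) := by
  classical
  have := Fintype.ofFinite η
  let P : Sylow 2 (∀ i, G i) := ⟨Subgroup.pi Set.univ fun i => S i, fun x => by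
      choose k hk using fun i => (S i).isPGroup' ⟨x.1 i, x.2 i trivial⟩
      refine ⟨∑ i, k i, Subtype.ext (funext fun i => ?_)⟩
      have e : x.1 i ^ 2 ^ k i = 1 := congrArg Subtype.val (hk i)
      obtain ⟨c, hc⟩ := Nat.exists_eq_add_of_le
        (Finset.single_le_sum (f := k) (fun _ _ => Nat.zero_le _) (Finset.mem_univ i))
      change x.1 i ^ 2 ^ _ = 1
      rw [hc, pow_add, pow_mul, e, one_pow], fun {Q} hQ hle => le_antisymm (fun x hx i _ => by
      change x i ∈ (S i : Subgroup (G i))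
      rw [← (S i).is_maximal' (hQ.map (Pi.evalMonoidHom G i)) fun y hy =>
        ⟨Pi.mulSingle i y, hle (Subgroup.mulSingle_mem_pi i y |>.2 fun _ => hy), by simp⟩]
      exact ⟨x, hx, rfl⟩) hle⟩
  have hP : ∀ x, x ∈ (P : Subgroup (∀ i, G i)) ↔ ∀ i, x i ∈ (S i : Subgroup (G i)) := fun x =>
    ⟨fun hx i => hx i trivial, fun hx i _ => hx i⟩
  have hs : ∀ i y, Pi.mulSingle i y ∈ (P : Subgroup (∀ i, G i)) ↔ y ∈ (S i : Subgroup (G i)) :=
    fun i y => (Subgroup.mulSingle_mem_pi i y).trans ⟨fun h => h trivial, fun h _ => h⟩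
  have hc : ∀ i (g : ∀ i, G i) (y : G i), g * Pi.mulSingle i y * g⁻¹ =
      Pi.mulSingle i (g i * y * (g i)⁻¹) := fun i g y => by
    funext j
    by_cases e : j = i
    · subst e; simp
    · simp [Pi.mulSingle_eq_of_ne e]
  refine OddPron.of_sylow P fun H hH => isPronormal_of_sylow P hH fun g hg => ?_
  set K := H ⊔ MulAut.conj g • H
  have key : ∀ i, Pi.mulSingle i (g i) ∈ K ∨
      ∀ x ∈ H, Pi.mulSingle i (g i * x i * (g i)⁻¹ * (x i)⁻¹) ∈ H := fun i => by
    rcases h i (H.map (Pi.evalMonoidHom G i)) (H.comap (MonoidHom.mulSingle G i))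
      (fun y hy => hH ((hs i y).2 hy)) (fun y hy => ⟨_, hy, by simp⟩) (by
        rintro _ ⟨x, hx, rfl⟩ y hy
        have := mul_mem (mul_mem hx hy) (inv_mem hx)
        rwa [MonoidHom.mulSingle_apply, hc] at this) (g i)
      (Subgroup.mem_normalizer_iff.2 fun y => by
        rw [← hs, ← hs, ← hc]; exact Subgroup.mem_normalizer_iff.1 hg _) with h1 | h1
    · left
      refine (show _ ≤ K.comap (MonoidHom.mulSingle G i) from sup_le
        (Subgroup.comap_mono le_sup_left) fun y hy => ?_) h1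
      refine (le_sup_right : _ ≤ K) (mem_conj_smul.2 ?_)
      have := hc i g⁻¹ y
      rw [inv_inv, Pi.inv_apply, inv_inv] at this
      rw [MonoidHom.mulSingle_apply, this]
      exact mem_conj_smul.1 hy
    · exact Or.inr fun x hx => h1 _ ⟨x, hx, rfl⟩
  let w : ∀ i, G i := fun i => if Pi.mulSingle i (g i) ∈ K then g i else 1
  refine ⟨w, Subgroup.pi_mem_of_mulSingle_mem w fun i => ?_, conj_smul_eq_conj_smul_iff.2
    (Subgroup.mem_normalizer_fintype fun x hx => ?_)⟩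
  · by_cases e : Pi.mulSingle i (g i) ∈ K
    · simpa [w, e] using e
    · simp [w, e]
  · have : w⁻¹ * g * x * (w⁻¹ * g)⁻¹ * x⁻¹ ∈ H := Subgroup.pi_mem_of_mulSingle_mem _ fun i => by
      by_cases e : Pi.mulSingle i (g i) ∈ K
      · simp [w, e]
      · simpa [w, e] using (key i).resolve_left e x hx
    simpa using mul_mem this hx

variable {G : Type*} [Group G] [Finite G]

/-- Burnside's transfer theorem, with the complement described by element orders. -/
theorem exists_odd_compl {K P : Subgroup G} (hPK : P ≤ K) (hP : IsPGroup 2 P)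
    (hi : ¬ 2 ∣ P.relIndex K)
    (h : ∀ x ∈ K, (∀ s ∈ P, x * s * x⁻¹ ∈ P) → ∀ s ∈ P, x * s = s * x) :
    ∃ O : Subgroup G, O ≤ K ∧ Odd (Nat.card O) ∧ (∀ x ∈ K, x ∈ O ↔ Odd (orderOf x)) ∧
      ∀ x ∈ K, ∃ o ∈ O, ∃ s ∈ P, x = o * s := by
  let Q : Sylow 2 K := (hP.comap_subtype (K := K)).toSylow hi
  have hQN : Subgroup.normalizer ((Q : Subgroup K) : Set K) ≤
      Subgroup.centralizer ((Q : Subgroup K) : Set K) := fun x hx y hy =>
    Subtype.ext (h x x.2 (fun s hs =>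
      (Subgroup.mem_normalizer_iff.1 hx ⟨s, hPK hs⟩).1 hs) y hy).symm
  have hc := MonoidHom.ker_transferSylow_isComplement' Q hQN
  set O' := (MonoidHom.transferSylow Q hQN).ker with hO'
  have hodd : Odd (Nat.card O') := by
    rw [← hc.index_eq_card, ← Nat.not_even_iff_odd, even_iff_two_dvd]
    exact Q.not_dvd_index
  have hcard : Nat.card (O'.map K.subtype) = Nat.card O' :=
    Subgroup.card_map_of_injective K.subtype_injective
  refine ⟨O'.map K.subtype, Subgroup.map_subtype_le _, hcard ▸ hodd, fun x hx => ⟨fun ho =>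
    (hcard ▸ hodd).of_dvd_nat (Subgroup.orderOf_dvd_natCard _ ho), fun ho => ?_⟩, fun x hx => ?_⟩
  · refine ⟨⟨x, hx⟩, ?_, rfl⟩
    obtain ⟨k, hk⟩ := Q.isPGroup' (MonoidHom.transferSylow Q hQN ⟨x, hx⟩)
    exact eq_one_of_odd_of_two (odd_orderOf_map _ (by rwa [← Subgroup.orderOf_coe])) hk
  · obtain ⟨⟨o, s⟩, e'⟩ := hc.2 ⟨x, hx⟩
    exact ⟨_, ⟨_, o.2, rfl⟩, _, s.2, (congrArg Subtype.val e').symm⟩

theorem orderOf_conj' (g x : G) : orderOf (g * x * g⁻¹) = orderOf x :=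
  orderOf_injective (MulAut.conj g).toMonoidHom (MulAut.conj g).injective x

/-- A sharper form of pronormality for abelian Sylow subgroups. -/
theorem mem_or_le_of_cyclic (P : Sylow 2 G)
    (hab : ∀ a ∈ (P : Subgroup G), ∀ b ∈ (P : Subgroup G), a * b = b * a) {r : ℕ} (hr : r.Prime)
    (hN : Nat.card (Subgroup.normalizer ((P : Subgroup G) : Set G)) = r * Nat.card P)
    (hO : ∀ O : Subgroup G, Odd (Nat.card O) →
      (∀ s ∈ (P : Subgroup G), ∀ o ∈ O, s * o * s⁻¹ ∈ O) → IsCyclic O)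
    (hc : ∀ a ∈ (P : Subgroup G), a ≠ 1 →
      ∃ w ∈ Subgroup.normalizer ((P : Subgroup G) : Set G), w * a ≠ a * w)
    {H : Subgroup G} (hH : (P : Subgroup G) ≤ H) {g : G}
    (hg : g ∈ Subgroup.normalizer ((P : Subgroup G) : Set G)) (hg' : g ∉ (P : Subgroup G)) :
    g ∈ H ⊔ MulAut.conj g • H ∨ H ≤ P := by
  set K := H ⊔ MulAut.conj g • H with hK
  have hPK : (P : Subgroup G) ≤ K := hH.trans le_sup_left
  rcases PG.eq_or_eq_of_card_eq_prime_mul hr (M := P) (L := K ⊓ Subgroup.normalizer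
    ((P : Subgroup G) : Set G)) hN (le_inf hPK Subgroup.le_normalizer) inf_le_right with h | h
  swap
  · exact Or.inl (h.ge hg).1
  right
  obtain ⟨O, hOK, hodd, hmem, hdec⟩ := exists_odd_compl hPK P.isPGroup' (fun hd =>
    P.not_dvd_index (hd.trans (Subgroup.relIndex_dvd_index_of_le hPK))) fun x hx h1 s hs =>
      hab _ (h.le ⟨hx, Subgroup.mem_normalizer_fintype h1⟩) s hs
  have hcyc : IsCyclic O := hO O hodd fun s hs o ho => by
    rw [hmem _ (mul_mem (mul_mem (hPK hs) (hOK ho)) (inv_mem (hPK hs))), orderOf_conj']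
    exact (hmem o (hOK ho)).1 ho
  have e1 : MulAut.conj g • (H ⊓ O) ≤ O := fun x hx => by
    rw [mem_conj_smul] at hx
    rw [hmem x ((le_sup_right : _ ≤ K) (mem_conj_smul.2 hx.1)), ← orderOf_conj' g⁻¹, inv_inv]
    exact (hmem _ (hOK hx.2)).1 hx.2
  have e2 : MulAut.conj g • (H ⊓ O) = H ⊓ O :=
    PG.eq_of_card_eq_of_isCyclic (A := O) e1 inf_le_right
      (Subgroup.card_map_of_injective (MulAut.conj g).injective)
  have : IsCyclic (H ⊓ O : Subgroup G) :=
    isCyclic_of_injective _ (Subgroup.inclusion_injective inf_le_right)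
  obtain ⟨y, hy⟩ := (Subgroup.isCyclic_iff_exists_zpowers_eq_top _).1 this
  have hy0 : y ∈ H ⊓ O := hy ▸ Subgroup.mem_zpowers y
  obtain ⟨m, hm⟩ : g * y * g⁻¹ ∈ Subgroup.zpowers y := by
    rw [hy, ← e2, mem_conj_smul]; simpa [mul_assoc] using hy0
  have hb : ∀ b ∈ (P : Subgroup G), ∃ n : ℤ, y ^ n = b * y * b⁻¹ := fun b hb => by
    rw [← Subgroup.mem_zpowers_iff, hy]
    refine Subgroup.mem_inf.2 ⟨mul_mem (mul_mem (hH hb) hy0.1) (inv_mem (hH hb)), ?_⟩
    have := hPK hb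
    rw [hmem _ (mul_mem (mul_mem this (hOK hy0.2)) (inv_mem this)), orderOf_conj']
    exact (hmem y (hOK hy0.2)).1 hy0.2
  have hgP : ∀ b ∈ (P : Subgroup G), b⁻¹ * (g⁻¹ * b * g) ∈ (P : Subgroup G) := fun b hb =>
    mul_mem (inv_mem hb) (by simpa using (Subgroup.mem_normalizer_iff.1 (inv_mem hg) b).1 hb)
  have hinj : Function.Injective fun b : (P : Subgroup G) =>
      (⟨_, hgP b b.2⟩ : (P : Subgroup G)) := fun b b' e => by
    have e' : b.1⁻¹ * (g⁻¹ * b * g) = b'.1⁻¹ * (g⁻¹ * b' * g) := congrArg Subtype.val e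
    by_contra hne
    obtain ⟨w, hw, hw'⟩ := hc (b.1 * b'.1⁻¹) (mul_mem b.2 (inv_mem b'.2))
      fun e => hne (Subtype.ext (mul_inv_eq_one.1 e))
    rw [← PG.sup_zpowers_eq_of_card_eq_prime_mul hr Subgroup.le_normalizer hN hg hg'] at hw
    refine hw' ((show _ ≤ Subgroup.centralizer {b.1 * b'.1⁻¹} from sup_le (fun s hs =>
      Subgroup.mem_centralizer_singleton_iff.2 (hab _ hs _ (mul_mem b.2 (inv_mem b'.2))))
      (Subgroup.zpowers_le.2 (Subgroup.mem_centralizer_singleton_iff.2 ?_))) hw _ rfl).symm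
    calc g * (b.1 * b'.1⁻¹) = g * (b.1 * (b'.1⁻¹ * (g⁻¹ * b' * g))) * (g⁻¹ * b'.1⁻¹ * g) := by group
      _ = b.1 * b'.1⁻¹ * g := by rw [← e']; group
  have hyc : ∀ a ∈ (P : Subgroup G), y * a = a * y := fun a ha => by
    obtain ⟨b, e⟩ := Finite.injective_iff_surjective.1 hinj ⟨a, ha⟩
    have e' : b.1⁻¹ * (g⁻¹ * b * g) = a := congrArg Subtype.val e
    obtain ⟨n, hn⟩ := hb b b.2
    have h1 : b.1 * g * y * (b.1 * g)⁻¹ = g * b * y * (g * b)⁻¹ := by
      calc b.1 * g * y * (b.1 * g)⁻¹ = b.1 * (g * y * g⁻¹) * b.1⁻¹ := by group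
        _ = (y ^ n) ^ m := by rw [← hm, hn, conj_zpow]
        _ = (y ^ m) ^ n := by rw [← zpow_mul, ← zpow_mul, mul_comm]
        _ = g * (b * y * b.1⁻¹) * g⁻¹ := by
          rw [← hn, ← conj_zpow]; exact congrArg (· ^ n) hm
        _ = _ := by group
    calc y * a = (g * b)⁻¹ * (g * b * y * (g * b)⁻¹) * (b * g) := by rw [← e']; group
      _ = a * y := by rw [← h1, ← e']; group
  have hy1 : y = 1 := by
    obtain ⟨k, hk⟩ := P.isPGroup' ⟨y, h.le ⟨hOK hy0.2, Subgroup.mem_normalizer_fintype fun s hs => by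
      rw [hyc s hs]; simpa using hs⟩⟩
    exact eq_one_of_odd_of_two ((hmem y (hOK hy0.2)).1 hy0.2) (congrArg Subtype.val hk)
  intro x hx
  obtain ⟨o, ho, s, hs, rfl⟩ := hdec x ((le_sup_left : _ ≤ K) hx)
  have : o ∈ H ⊓ O := ⟨by simpa using mul_mem hx (inv_mem (hH hs)), ho⟩
  rw [← hy, hy1, Subgroup.zpowers_one_eq_bot, Subgroup.mem_bot] at this
  rwa [this, one_mul]

/-- The `Z*`-theorem modulo a central 2-subgroup. -/
theorem exists_odd_normal {x : G} (hx : x * x = 1) {Z : Subgroup G} (hZ : Z ≤ Subgroup.center G)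
    (hZ2 : IsPGroup 2 Z) (hxZ : x ∉ Z)
    (hiso : ∀ g, (∃ P : Subgroup G, IsPGroup 2 P ∧ x ∈ P ∧ g * x * g⁻¹ ∈ P) →
      g * x * g⁻¹ * x⁻¹ ∈ Z) :
    ∃ O : Subgroup G, O.Normal ∧ Odd (Nat.card O) ∧
      ∀ a, Odd (orderOf a) → x * a * x⁻¹ = a⁻¹ → a ∈ O := by
  have : Z.Normal := ⟨fun z hz g => by
    rwa [Subgroup.mem_center_iff.1 (hZ hz) g, mul_inv_cancel_right]⟩
  let π := QuotientGroup.mk' Z
  have h2 : orderOf (π x) = 2 := orderOf_eq_prime (by rw [sq, ← map_mul, hx, map_one])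
    fun e => hxZ ((QuotientGroup.eq_one_iff x).1 e)
  obtain ⟨P, hP⟩ := (IsPGroup.of_card (p := 2) (n := 1) (G := Subgroup.zpowers (π x))
    (by rw [Nat.card_zpowers, h2]; rfl)).exists_le_sylow
  have hxP := hP (Subgroup.mem_zpowers _)
  obtain ⟨N, hN, hodd, h⟩ := Cfsg.Agent.S0215.result P (π x) h2 hxP fun g hg => by
    obtain ⟨g, rfl⟩ := QuotientGroup.mk'_surjective Z g
    have := hiso g ⟨(P : Subgroup (G ⧸ Z)).comap π, P.isPGroup'.comap_of_ker_isPGroup π
      (by rwa [QuotientGroup.ker_mk']), hxP, hg⟩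
    rw [← QuotientGroup.eq_one_iff] at this
    exact mul_inv_eq_one.1 this
  have hle : Z ≤ N.comap π := fun z hz => by
    rw [Subgroup.mem_comap, show π z = 1 from (QuotientGroup.eq_one_iff z).2 hz]; exact one_mem _
  obtain ⟨O, hOK, hodd', hmem, -⟩ := exists_odd_compl hle hZ2 (by
    have e : Z = (⊥ : Subgroup (G ⧸ Z)).comap π := by
      rw [MonoidHom.comap_bot, QuotientGroup.ker_mk']
    rw [show Z.relIndex (N.comap π) = ((⊥ : Subgroup (G ⧸ Z)).comap π).relIndex (N.comap π) from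
      congrArg (fun A : Subgroup G => A.relIndex (N.comap π)) e, Subgroup.relIndex_comap,
      Subgroup.map_comap_eq_self_of_surjective (QuotientGroup.mk'_surjective Z),
      Subgroup.relIndex_bot_left, ← even_iff_two_dvd, Nat.not_even_iff_odd]
    exact hodd) fun y _ _ s hs => Subgroup.mem_center_iff.1 (hZ hs) y
  refine ⟨O, ⟨fun o ho g => ?_⟩, hodd', fun a ha hxa => ?_⟩
  · rw [hmem _ ((hN.comap π).conj_mem o (hOK ho) g), orderOf_conj']
    exact (hmem o (hOK ho)).1 ho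
  · have h3 : x * a * x⁻¹ * a⁻¹ ∈ N.comap π := h (π a)
    rw [hxa, ← mul_inv_rev, inv_mem_iff, ← sq] at h3
    obtain ⟨m, hm⟩ := id ha
    have h4 : a = (a ^ 2) ^ (m + 1) := by
      rw [← pow_mul, show 2 * (m + 1) = orderOf a + 1 by omega, pow_succ, pow_orderOf_eq_one,
        one_mul]
    exact (hmem a (h4 ▸ pow_mem h3 _)).2 ha

/-- An element of order four acting on a group of odd order. -/
theorem exists_inverted {O : Subgroup G} [hO : O.Normal] (hodd : Odd (Nat.card O)) {i x a : G}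
    (hi : i * i = x) (hx : x * x = 1) {r : ℕ} [Fact r.Prime] (ha : a ∈ O) (ha1 : a ≠ 1) {k : ℕ}
    (har : a ^ r ^ k = 1) (hxa : x * a * x⁻¹ = a⁻¹) :
    ∃ b ∈ O, b ≠ 1 ∧ (∃ k, b ^ r ^ k = 1) ∧ x * b * x⁻¹ = b⁻¹ ∧
      Commute x ⁅b⁻¹, (i * b * i⁻¹)⁻¹⁆ := by
  have hz : ∀ (y : G) (p k : ℕ), y ^ p ^ k = 1 → IsPGroup p (Subgroup.zpowers y) :=
    fun y p k hy z => ⟨k, Subtype.ext (by
      obtain ⟨z, n, rfl⟩ := z
      simp only [SubgroupClass.coe_pow, OneMemClass.coe_one]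
      rw [← zpow_natCast, ← zpow_mul, mul_comm, zpow_mul, zpow_natCast, hy, one_zpow])⟩
  have hc : ∀ y : G, y ^ 2 ^ 2 = 1 → (Nat.card (Subgroup.zpowers y)).Coprime (Nat.card O) :=
    fun y hy => by
      rw [Nat.card_zpowers]
      exact ((Nat.coprime_two_left.2 hodd).pow_left 2).coprime_dvd_left
        (orderOf_dvd_of_pow_eq_one hy)
  have hn : ∀ y : G, Subgroup.zpowers y ≤ Subgroup.normalizer (O : Set G) := fun y => by
    rw [Subgroup.normalizer_eq_top]; exact le_top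
  have hs : ∀ y : G, Group.IsSolvable (Subgroup.zpowers y) ∨ Group.IsSolvable O := fun y =>
    Or.inl inferInstance
  have hi4 : i ^ 2 ^ 2 = 1 := by
    rw [show 2 ^ 2 = 2 * 2 from rfl, pow_mul, sq i, hi, sq, hx]
  have hx4 : x ^ 2 ^ 2 = 1 := by rw [show 2 ^ 2 = 2 * 2 from rfl, pow_mul, sq x, hx, one_pow]
  obtain ⟨R, h1, h2, h3, h4⟩ := Coprime.exists_invariant_sylow' (hn i) (hc i hi4) (hs i) r
  obtain ⟨R', k0, k1, k2, k3, k4⟩ := Coprime.exists_le_invariant_sylow' (hn x) (hc x hx4) (hs x)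
    (Subgroup.zpowers_le.2 ha) (hz a r k har) (Subgroup.zpowers_le.2
      (Subgroup.mem_normalizer_fintype (by
        rintro _ ⟨n, rfl⟩
        exact ⟨-n, by simp only; rw [← conj_zpow, hxa, inv_zpow']⟩)))
  obtain ⟨c, hc', e⟩ := Coprime.invariant_sylow_conj' (hn x) (hc x hx4) (hs x) h1 h2 h3
    (Subgroup.zpowers_le.2 (hi ▸ mul_mem (h4 (Subgroup.mem_zpowers i))
      (h4 (Subgroup.mem_zpowers i)))) k1 k2 k3 k4
  have hex : ∃ n, ∃ U : Subgroup G, Nat.card U = n ∧ U ≤ R ∧ (∀ u ∈ U, i * u * i⁻¹ ∈ U) ∧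
      ∃ u ∈ U, ¬ Commute x u := by
    refine ⟨_, R, rfl, le_rfl, fun u hu =>
      (Subgroup.mem_normalizer_iff.1 (h4 (Subgroup.mem_zpowers i)) u).1 hu, c⁻¹ * a * c,
      mem_conj_smul.1 (e ▸ k0 (Subgroup.mem_zpowers a)), fun h => ha1 ?_⟩
    have h5 : Commute x c := hc'.2 x (Subgroup.mem_zpowers x)
    have h6 : Commute x a := by
      simpa [mul_assoc] using (h5.mul_right h).mul_right h5.inv_right
    rw [h6.eq, mul_inv_cancel_right] at hxa
    exact eq_one_of_odd_of_two (k := 1) (hodd.of_dvd_nat (Subgroup.orderOf_dvd_natCard _ ha))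
      (by rw [pow_one, sq]; nth_rewrite 1 [hxa]; exact inv_mul_cancel a)
  classical
  obtain ⟨U, hU, hUR, hUi, u, hu, hxu⟩ := Nat.find_spec hex
  have hx' : x⁻¹ = x := inv_eq_of_mul_eq_one_right hx
  have hb : u⁻¹ * (x * u * x⁻¹) ∈ U := mul_mem (inv_mem hu) (by
    have := hUi _ (hUi u hu)
    rwa [show i * (i * u * i⁻¹) * i⁻¹ = i * i * u * (i * i)⁻¹ by group, hi] at this)
  refine ⟨_, h1 (hUR hb), fun e => hxu ?_, ?_, ?_, ?_⟩
  · rw [inv_mul_eq_one, eq_comm, mul_inv_eq_iff_eq_mul] at e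
    exact e
  · obtain ⟨k, hk⟩ := h2 ⟨_, hUR hb⟩
    exact ⟨k, congrArg Subtype.val hk⟩
  · calc x * (u⁻¹ * (x * u * x⁻¹)) * x⁻¹ = x * u⁻¹ * x * u * (x * x)⁻¹ := by group
      _ = _ := by rw [hx, inv_one, mul_one]; nth_rewrite 2 [← hx']; group
  · by_contra hne
    have hp : IsPGroup r U := h2.to_le hUR
    have hnt : U ≠ ⊥ := by
      rintro rfl
      rw [Subgroup.mem_bot.1 hu] at hxu
      exact hxu (Commute.one_right x)
    have hlt : ⁅U, U⁆ < U := by
      have := hp.isNilpotent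
      have := (Subgroup.nontrivial_iff_ne_bot U).2 hnt
      have h7 := Subgroup.map_lt_map_iff_of_injective U.subtype_injective |>.2
        (IsSolvable.commutator_lt_top_of_nontrivial U)
      rwa [commutator_def, Subgroup.map_commutator, ← MonoidHom.range_eq_map,
        Subgroup.range_subtype] at h7
    refine Nat.find_min hex (m := Nat.card (⁅U, U⁆ : Subgroup G)) ?_
      ⟨⁅U, U⁆, rfl, hlt.le.trans hUR, fun y hy => ?_, _,
        Subgroup.commutator_mem_commutator (inv_mem hb) (inv_mem (hUi _ hb)), hne⟩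
    · rw [← hU]
      exact lt_of_le_of_ne (Subgroup.card_le_of_le hlt.le)
        fun e => hlt.ne (Subgroup.eq_of_le_of_card_ge hlt.le e.ge)
    · have h8 : U.map (MulAut.conj i).toMonoidHom ≤ U := by
        rintro _ ⟨u, hu, rfl⟩; exact hUi u hu
      refine Subgroup.commutator_mono h8 h8 ?_
      rw [← Subgroup.map_commutator]
      exact ⟨y, hy, rfl⟩

omit [Finite G] in
/-- The dichotomy for overgroups of a Sylow subgroup of a rank one group. -/
def Loc1 (P : Subgroup G) : Prop :=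
  ∀ H : Subgroup G, P ≤ H → ∀ g ∈ Subgroup.normalizer (P : Set G),
    g ∈ H ⊔ MulAut.conj g • H ∨ H ≤ P

theorem Loc1_eq_1' : type_of% @Loc1.eq_1 := @Loc1.eq_1

theorem Loc1.of_surjective {G' : Type*} [Group G'] (f : G →* G') (hf : Function.Surjective f)
    (P : Sylow 2 G) (hker : f.ker ≤ P) (h : ∀ P' : Sylow 2 G', Loc1 (P' : Subgroup G')) :
    Loc1 (P : Subgroup G) := by
  intro H hH g hg
  have := Finite.of_surjective f hf
  rcases h (P.mapSurjective hf) (H.map f) (Subgroup.map_mono hH) (f g)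
    (Subgroup.mem_normalizer_fintype (by
      rintro _ ⟨y, hy, rfl⟩
      exact ⟨_, (Subgroup.mem_normalizer_iff.1 hg y).1 hy, by simp⟩)) with h1 | h1
  · left
    have h2 : H.map f ⊔ MulAut.conj (f g) • H.map f ≤ (H ⊔ MulAut.conj g • H).map f := by
      refine sup_le (Subgroup.map_mono le_sup_left) fun y hy => ?_
      obtain ⟨x, hx, e⟩ := mem_conj_smul.1 hy
      refine ⟨g * x * g⁻¹, (le_sup_right : _ ≤ H ⊔ _) (mem_conj_smul.2 (by
        simpa [mul_assoc] using hx)), ?_⟩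
      rw [map_mul, map_mul, e, map_inv]; group
    have h3 : g ∈ ((H ⊔ MulAut.conj g • H).map f).comap f := h2 h1
    rwa [Subgroup.comap_map_eq_self ((hker.trans hH).trans le_sup_left)] at h3
  · rw [← Subgroup.comap_map_eq_self hker]
    exact Or.inr (Subgroup.map_le_iff_le_comap.1 h1)

theorem exists_conj_mem_of_le {p : ℕ} [Fact p.Prime] (S : Sylow p G) {L P : Subgroup G}
    (hS : (S : Subgroup G) ≤ L) (hP : IsPGroup p P) (hPL : P ≤ L) :
    ∃ l ∈ L, ∀ y ∈ P, l * y * l⁻¹ ∈ (S : Subgroup G) := by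
  obtain ⟨Q, hQ⟩ := (hP.comap_subtype (K := L)).exists_le_sylow
  obtain ⟨g, hg⟩ := MulAction.exists_smul_eq L Q (S.subtype hS)
  refine ⟨g, g.2, fun y hy => ?_⟩
  have h1 : g * ⟨y, hPL hy⟩ * g⁻¹ ∈ (S.subtype hS : Subgroup L) := by
    rw [← hg, Sylow.coe_subgroup_smul, mem_conj_smul]
    simpa [mul_assoc] using hQ (show (⟨y, hPL hy⟩ : L) ∈ P.comap L.subtype from hy)
  exact h1

omit [Finite G] in
theorem isPGroup_zpowers' {y : G} {p k : ℕ} (hy : y ^ p ^ k = 1) :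
    IsPGroup p (Subgroup.zpowers y) := fun z => ⟨k, Subtype.ext (by
  obtain ⟨z, n, rfl⟩ := z
  simp only [SubgroupClass.coe_pow, OneMemClass.coe_one]
  rw [← zpow_natCast, ← zpow_mul, mul_comm, zpow_mul, zpow_natCast, hy, one_zpow])⟩

theorem isPGroup_dihedral {x a : G} (hx : x * x = 1) (hxa : x * a * x⁻¹ = a⁻¹) {k : ℕ}
    (ha : a ^ 2 ^ k = 1) : IsPGroup 2 (Subgroup.zpowers x ⊔ Subgroup.zpowers a : Subgroup G) :=
  (isPGroup_zpowers' (k := 1) (by rw [pow_one, sq, hx])).to_sup_of_normal_right'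
    (isPGroup_zpowers' ha) (Subgroup.zpowers_le.2 (Subgroup.mem_normalizer_fintype (by
      rintro _ ⟨n, rfl⟩
      exact ⟨-n, by simp only; rw [← conj_zpow, hxa, inv_zpow']⟩)))

omit [Finite G] in
theorem exists_conj_of_odd {x a : G} (hxa : x * a * x⁻¹ = a⁻¹) (ha : Odd (orderOf a)) :
    ∃ j : ℕ, a ^ j * x * (a ^ j)⁻¹ = x * a := by
  obtain ⟨j, hj⟩ := ha
  refine ⟨j, ?_⟩
  have h1 : x⁻¹ * a * x = a⁻¹ := by
    have := congrArg (fun t => x⁻¹ * t⁻¹ * x) hxa
    simpa [mul_assoc] using this.symm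
  have h2 : x⁻¹ * a ^ j * x = (a ^ j)⁻¹ := by
    have := conj_pow (i := j) (a := x⁻¹) (b := a)
    rwa [inv_inv, h1, inv_pow, eq_comm] at this
  have h3 : a * (a ^ j * a ^ j) = 1 := by
    rw [← pow_add, ← pow_succ', ← two_mul, ← hj, pow_orderOf_eq_one]
  calc a ^ j * x * (a ^ j)⁻¹ = x * (x⁻¹ * a ^ j * x * (a ^ j)⁻¹) := by group
    _ = x * a := by rw [h2, ← mul_inv_rev, ← eq_inv_of_mul_eq_one_left h3]

/-- The quotient of the normaliser has prime order, so it is abelian. -/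
theorem comm_mem_of_card {P : Subgroup G} {r : ℕ} (hr : r.Prime)
    (hN : Nat.card (Subgroup.normalizer (P : Set G)) = r * Nat.card P) {a b : G}
    (ha : a ∈ Subgroup.normalizer (P : Set G)) (hb : b ∈ Subgroup.normalizer (P : Set G)) :
    a * b * a⁻¹ * b⁻¹ ∈ P := by
  have := Fact.mk hr
  have h1 := (P.subgroupOf (Subgroup.normalizer (P : Set G))).card_mul_index
  rw [Nat.card_congr (Subgroup.subgroupOfEquivOfLe Subgroup.le_normalizer).toEquiv, hN,
    mul_comm] at h1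
  have h2 := isCyclic_of_prime_card (α := Subgroup.normalizer (P : Set G) ⧸
    P.subgroupOf (Subgroup.normalizer (P : Set G))) (Nat.eq_of_mul_eq_mul_right Nat.card_pos h1)
  have h3 : (⟨a, ha⟩ * ⟨b, hb⟩ * (⟨a, ha⟩)⁻¹ * (⟨b, hb⟩)⁻¹ : Subgroup.normalizer (P : Set G)) ∈
      P.subgroupOf (Subgroup.normalizer (P : Set G)) := by
    rw [← QuotientGroup.eq_one_iff]
    simp only [QuotientGroup.mk_mul, QuotientGroup.mk_inv]
    rw [h2.isMulCommutative.is_comm.comm (QuotientGroup.mk ⟨a, ha⟩), mul_inv_cancel_right,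
      mul_inv_cancel]
  exact h3

end Cfsg.Lib.Known.Pron
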