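/-
Products of p-elements in alternating groups, part A: full cycles and two non-solvability criteria.
-/
import Mathlib

set_option autoImplicit false

namespace Cfsg.Lib.Known.AltP

open Equiv Equiv.Perm
open scoped commutatorElement

variable {α β : Type*}

theorem apply_inv_self (c : Perm β) (x : β) : c (c⁻¹ x) = x := c.apply_symm_apply x

/-- `c` fixes everything outside `S` and is transitive on `S`. -/
structure Tr (c : Perm β) (S : Finset β) : Prop where
  fix : ∀ x, x ∉ S → c x = x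
  tr : ∀ x ∈ S, ∀ y ∈ S, c.SameCycle x y

theorem mem_of_fix {c : Perm β} {S : Finset β} (h : ∀ x, x ∉ S → c x = x) {x : β} (hx : x ∈ S) :
    c x ∈ S := by
  by_contra h1
  have := c.injective (h _ h1)
  exact h1 (this.symm ▸ hx)

theorem inv_mem_of_fix {c : Perm β} {S : Finset β} (h : ∀ x, x ∉ S → c x = x) {x : β} (hx : x ∈ S) :
    c⁻¹ x ∈ S := by
  by_contra h1
  have := h _ h1
  rw [apply_inv_self] at this
  exact h1 (this ▸ hx)

theorem Tr.ne [Finite β] {c : Perm β} {S : Finset β} (h : Tr c S) (h2 : 1 < S.card) {x : β}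
    (hx : x ∈ S) : c x ≠ x := by
  intro e
  obtain ⟨y, hy, hyx⟩ := Finset.exists_mem_ne h2 x
  obtain ⟨n, rfl⟩ := (h.tr x hx y hy).exists_nat_pow_eq
  exact hyx (pow_apply_eq_self_of_apply_eq_self e n)

theorem Tr.insert [DecidableEq β] [Finite β] {c : Perm β} {S : Finset β} (h : Tr c S) {s y : β}
    (hs : s ∈ S) (hy : y ∉ S) : Tr (c * swap s y) (insert y S) := by
  have hsy : s ≠ y := fun e => hy (e ▸ hs)
  have step : ∀ x ∈ S, (c * swap s y).SameCycle x (c x) := by
    intro x hx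
    by_cases hxs : x = s
    · subst hxs
      refine ⟨2, ?_⟩
      rw [zpow_two, mul_apply, mul_apply, mul_apply, swap_apply_left, h.fix y hy, swap_apply_right]
    · refine ⟨1, ?_⟩
      have : x ≠ y := fun e => hy (e ▸ hx)
      simp [swap_apply_of_ne_of_ne hxs this]
  have pw : ∀ (n : ℕ), ∀ x ∈ S, (c ^ n) x ∈ S ∧ (c * swap s y).SameCycle x ((c ^ n) x) := by
    intro n
    induction n with
    | zero => intro x hx; exact ⟨hx, SameCycle.refl _ _⟩
    | succ n ih =>
      intro x hx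
      rw [pow_succ', mul_apply]
      exact ⟨mem_of_fix h.fix (ih x hx).1, (ih x hx).2.trans (step _ (ih x hx).1)⟩
  have inS : ∀ x ∈ S, (c * swap s y).SameCycle s x := by
    intro x hx
    obtain ⟨n, rfl⟩ := (h.tr s hs x hx).exists_nat_pow_eq
    exact (pw n s hs).2
  have all : ∀ x ∈ Insert.insert y S, (c * swap s y).SameCycle s x := by
    intro x hx
    rcases Finset.mem_insert.1 hx with rfl | hx
    · exact ⟨1, by simp [h.fix x hy]⟩
    · exact inS x hx
  refine ⟨fun x hx => ?_, fun x hx z hz => (all x hx).symm.trans (all z hz)⟩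
  rw [Finset.mem_insert, not_or] at hx
  have : x ≠ s := fun e => hx.2 (e ▸ hs)
  rw [mul_apply, swap_apply_of_ne_of_ne this hx.1, h.fix x hx.2]

/-- Every even permutation is a quotient of two full cycles. -/
theorem exists_tr_mul [DecidableEq β] [Fintype β] : ∀ (n : ℕ) (S : Finset β), S.card = n + 1 →
    ∀ σ : Perm β, (∀ x, x ∉ S → σ x = x) → sign σ = 1 → ∃ c, Tr c S ∧ Tr (σ * c) S := by
  intro n
  induction n with
  | zero =>
    intro S hS σ hσ _
    obtain ⟨a, rfl⟩ := Finset.card_eq_one.1 hS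
    refine ⟨1, ⟨fun _ _ => rfl, fun x hx y hy => ?_⟩, ⟨fun x hx => by simpa using hσ x hx,
      fun x hx y hy => ?_⟩⟩ <;>
    · rw [Finset.mem_singleton] at hx hy
      subst hx hy
      exact SameCycle.refl _ _
  | succ n ih =>
    intro S hS σ hσ hs
    obtain ⟨y, hy⟩ : S.Nonempty := Finset.card_pos.1 (by omega)
    have hc : (S.erase y).card = n + 1 := by rw [Finset.card_erase_of_mem hy]; omega
    have key : ∃ a ∈ S.erase y, ∃ b ∈ S.erase y, (σ * swap a y * swap b y) y = y := by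
      by_cases h1 : σ y = y
      · obtain ⟨a, ha⟩ : (S.erase y).Nonempty := Finset.card_pos.1 (by omega)
        exact ⟨a, ha, a, ha, by simp [mul_assoc, h1]⟩
      · have hb : σ⁻¹ y ∈ S.erase y := Finset.mem_erase.2 ⟨fun e => h1 (by
          conv_lhs => rw [← e]
          simp), inv_mem_of_fix hσ hy⟩
        by_cases h2 : ∃ a ∈ S.erase y, a ≠ σ⁻¹ y
        · obtain ⟨a, ha, hab⟩ := h2
          refine ⟨a, ha, σ⁻¹ y, hb, ?_⟩
          rw [mul_apply, mul_apply, swap_apply_right,
            swap_apply_of_ne_of_ne hab.symm (Finset.mem_erase.1 hb).1, apply_inv_self]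
        · push Not at h2
          exfalso
          have : σ = swap (σ⁻¹ y) y := by
            ext x
            by_cases hx : x = y
            · subst hx
              rw [swap_apply_right]
              exact h2 _ (Finset.mem_erase.2 ⟨h1, mem_of_fix hσ hy⟩)
            · by_cases hxS : x ∈ S
              · rw [h2 x (Finset.mem_erase.2 ⟨hx, hxS⟩)]; simp
              · rw [hσ x hxS, swap_apply_of_ne_of_ne _ hx]
                exact fun e => hxS (e ▸ (Finset.mem_erase.1 hb).2)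
          rw [this, sign_swap (Finset.mem_erase.1 hb).1] at hs
          exact absurd hs (by decide)
    obtain ⟨a, ha, b, hb, hfix⟩ := key
    obtain ⟨ha1, ha2⟩ := Finset.mem_erase.1 ha
    obtain ⟨hb1, hb2⟩ := Finset.mem_erase.1 hb
    have hσ' : ∀ x, x ∉ S.erase y → (σ * swap a y * swap b y) x = x := by
      intro x hx
      by_cases hxy : x = y
      · rw [hxy, hfix]
      · have hxS : x ∉ S := fun h => hx (Finset.mem_erase.2 ⟨hxy, h⟩)
        have e1 : x ≠ b := fun e => hxS (e ▸ hb2)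
        have e2 : x ≠ a := fun e => hxS (e ▸ ha2)
        rw [mul_apply, mul_apply, swap_apply_of_ne_of_ne e1 hxy,
          swap_apply_of_ne_of_ne e2 hxy, hσ x hxS]
    obtain ⟨c, h1, h2⟩ := ih _ hc _ hσ' (by simp [hs, sign_swap ha1, sign_swap hb1])
    have hy' : y ∉ S.erase y := Finset.notMem_erase y S
    have hcy : c⁻¹ y = y := by rw [inv_eq_iff_eq, h1.fix y hy']
    have e1 := h1.insert (inv_mem_of_fix h1.fix ha) hy'
    have e2 := h2.insert (inv_mem_of_fix h1.fix hb) hy'
    rw [Finset.insert_erase hy] at e1 e2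
    refine ⟨_, e1, ?_⟩
    have f : ∀ t, c * swap (c⁻¹ t) y = swap t y * c := by
      intro t
      rw [mul_swap_eq_swap_mul, apply_inv_self, h1.fix y hy']
    convert e2 using 1
    rw [mul_assoc _ c, f, f]
    simp [mul_assoc]

/-- An even permutation with a cycle of length at least three times a full cycle can be made a cycle
fixing two points. -/
theorem exists_tr_two [DecidableEq β] [Fintype β] (h3 : 3 ≤ Fintype.card β) {σ : Perm β}
    (hs : sign σ = 1) {x : β} (h1 : σ x ≠ x) (h2 : σ (σ x) ≠ x) :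
    ∃ (c : Perm β) (y z : β), y ≠ z ∧ Tr c Finset.univ ∧
      Tr (σ * c) ((Finset.univ.erase y).erase z) := by
  set y := σ x with hy
  set z := σ y with hz
  have hyz : z ≠ y := fun e => h1 (σ.injective (e.trans hy))
  have hzS : z ∈ Finset.univ.erase y := Finset.mem_erase.2 ⟨hyz, Finset.mem_univ _⟩
  set S := (Finset.univ.erase y).erase z with hS
  have hxS : x ∈ S := by simp [hS, h1.symm, h2.symm]
  have hyS : y ∉ S := by simp [hS]
  have hzS' : z ∉ S := by simp [hS]
  have hcard : S.card = (Fintype.card β - 3) + 1 := by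
    rw [hS, Finset.card_erase_of_mem hzS, Finset.card_erase_of_mem (Finset.mem_univ _),
      Finset.card_univ]
    omega
  obtain ⟨c, t1, t2⟩ := exists_tr_mul _ S hcard (σ * (swap x y * swap x z)) (by
    intro v hv
    by_cases hvz : v = z
    · rw [hvz, mul_apply, mul_apply, swap_apply_right, swap_apply_left]
    · have hvy : v = y := by
        by_contra hvy
        exact hv (by simp [hS, hvz, hvy])
      rw [hvy, mul_apply, mul_apply, swap_apply_of_ne_of_ne h1 hyz.symm, swap_apply_right])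
    (by simp [hs, sign_swap h1.symm, sign_swap h2.symm])
  have ht := inv_mem_of_fix t1.fix hxS
  have e1 := (t1.insert ht hyS).insert (Finset.mem_insert_of_mem ht)
    (y := z) (by simp [hyz, hzS'])
  refine ⟨_, y, z, hyz.symm, (by convert e1 using 1; ext v; simp [hS]; tauto), ?_⟩
  convert t2 using 1
  rw [mul_swap_eq_swap_mul c, mul_assoc _ c, mul_swap_eq_swap_mul c, apply_inv_self,
    t1.fix y hyS, t1.fix z hzS']
  simp [mul_assoc]

theorem exists_abelian_normal {G : Type*} [Group G] {H : Subgroup G} (hs : Group.IsSolvable H)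
    (hH : H ≠ ⊥) : ∃ A : Subgroup G, A ≠ ⊥ ∧ (∀ a ∈ A, ∀ b ∈ A, a * b = b * a) ∧
      ∀ h ∈ H, ∀ a ∈ A, h * a * h⁻¹ ∈ A := by
  classical
  have hex : ∃ n, derivedSeries H n = ⊥ := hs.solvable
  have h0 : Nat.find hex ≠ 0 := by
    intro h
    have := Nat.find_spec hex
    rw [h, derivedSeries_zero] at this
    apply hH
    rw [eq_bot_iff]
    intro x hx
    have h1 : (⟨x, hx⟩ : H) ∈ (⊥ : Subgroup H) := this ▸ Subgroup.mem_top _
    exact congrArg Subtype.val (Subgroup.mem_bot.1 h1)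
  obtain ⟨k, hk⟩ := Nat.exists_eq_succ_of_ne_zero h0
  have h1 : derivedSeries H k ≠ ⊥ := Nat.find_min hex (by omega)
  have h2 : derivedSeries H (k + 1) = ⊥ := by
    have := Nat.find_spec hex
    rwa [hk] at this
  refine ⟨(derivedSeries H k).map H.subtype, ?_, ?_, ?_⟩
  · rwa [Ne, Subgroup.map_eq_bot_iff_of_injective _ H.subtype_injective]
  · rintro _ ⟨a, ha, rfl⟩ _ ⟨b, hb, rfl⟩
    have : ⁅a, b⁆ ∈ derivedSeries H (k + 1) := Subgroup.commutator_mem_commutator ha hb
    rw [h2, Subgroup.mem_bot, commutatorElement_eq_one_iff_mul_comm] at this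
    exact congrArg Subtype.val this
  · rintro h hh _ ⟨a, ha, rfl⟩
    exact ⟨_, (derivedSeries_normal H k).conj_mem a ha ⟨h, hh⟩, rfl⟩

section Ab

variable {H A : Subgroup (Perm β)}

theorem rel_apply (hn : ∀ h ∈ H, ∀ a ∈ A, h * a * h⁻¹ ∈ A) {h : Perm β} (hh : h ∈ H) {x y : β}
    (hxy : ∃ a ∈ A, a x = y) : ∃ a ∈ A, a (h x) = h y := by
  obtain ⟨a, ha, rfl⟩ := hxy
  exact ⟨_, hn h hh a ha, by simp⟩

theorem rel_symm {x y : β} (hxy : ∃ a ∈ A, a x = y) : ∃ a ∈ A, a y = x := by
  obtain ⟨a, ha, rfl⟩ := hxy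
  exact ⟨a⁻¹, A.inv_mem ha, by simp⟩

theorem rel_trans {x y z : β} (hxy : ∃ a ∈ A, a x = y) (hyz : ∃ a ∈ A, a y = z) :
    ∃ a ∈ A, a x = z := by
  obtain ⟨a, ha, rfl⟩ := hxy
  obtain ⟨b, hb, rfl⟩ := hyz
  exact ⟨b * a, A.mul_mem hb ha, rfl⟩

theorem eq_of_apply_eq (hc : ∀ a ∈ A, ∀ b ∈ A, a * b = b * a) {x : β}
    (ht : ∀ y, ∃ a ∈ A, a x = y) {a b : Perm β} (ha : a ∈ A) (hb : b ∈ A) (h : a x = b x) :
    a = b := by
  ext y
  obtain ⟨e, he, rfl⟩ := ht y
  rw [← mul_apply, hc a ha e he, mul_apply, h, ← mul_apply, hc e he b hb, mul_apply]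

theorem exists_rel_ne [Finite β] (hA : A ≠ ⊥) (hn : ∀ h ∈ H, ∀ a ∈ A, h * a * h⁻¹ ∈ A)
    {c : Perm β} (hc : c ∈ H) (ht : ∀ x y, c.SameCycle x y) (x : β) :
    ∃ y, y ≠ x ∧ ∃ a ∈ A, a x = y := by
  obtain ⟨a, ha, ha1⟩ := (Subgroup.bot_or_exists_ne_one A).resolve_left hA
  obtain ⟨v, hv⟩ : ∃ v, a v ≠ v := by
    by_contra h
    push Not at h
    exact ha1 (Equiv.ext h)
  obtain ⟨n, rfl⟩ := (ht v x).exists_nat_pow_eq
  exact ⟨(c ^ n) (a v), fun e => hv ((c ^ n).injective e),
    rel_apply hn (H.pow_mem hc n) ⟨a, ha, rfl⟩⟩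

theorem eq_of_sq_apply {g : Perm β} {N : ℕ} (hN : Odd N) (hg : g ^ N = 1) {x : β}
    (h : g (g x) = x) : g x = x := by
  obtain ⟨k, rfl⟩ := hN
  have : ∀ k : ℕ, (g ^ (2 * k)) x = x := by
    intro k
    induction k with
    | zero => rfl
    | succ k ih => rw [Nat.mul_succ, pow_add, mul_apply, sq, mul_apply, h, ih]
  have h2 := DFunLike.congr_fun hg x
  rwa [pow_succ', mul_apply, this, one_apply] at h2

end Ab

/-- First criterion. -/
theorem not_solvable_two [DecidableEq β] [Fintype β] (hodd : Odd (Fintype.card β))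
    (h4 : 4 ≤ Fintype.card β)
    {H : Subgroup (Perm β)} {c d : Perm β} (hc : c ∈ H) (hd : d ∈ H)
    (hcN : c ^ Fintype.card β = 1) (tc : Tr c Finset.univ) {y z : β} (hyz : y ≠ z)
    (td : Tr d ((Finset.univ.erase y).erase z)) : ¬ Group.IsSolvable H := by
  intro hs
  have ht : ∀ x y, c.SameCycle x y := fun x y => tc.tr x (Finset.mem_univ _) y (Finset.mem_univ _)
  have hH : H ≠ ⊥ := by
    intro h
    rw [h, Subgroup.mem_bot] at hc
    subst hc
    exact hyz (sameCycle_one.1 (ht y z))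
  obtain ⟨A, hA, hcm, hn⟩ := exists_abelian_normal hs hH
  have dy : d y = y := td.fix y (by simp)
  have dz : d z = z := td.fix z (by simp)
  have mem : ∀ v, v ≠ y → v ≠ z → v ∈ (Finset.univ.erase y).erase z := by
    intro v h1 h2; simp [h1, h2]
  have spread : ∀ w, d w = w → ∀ v, v ≠ y → v ≠ z → (∃ a ∈ A, a w = v) →
      ∀ v', v' ≠ y → v' ≠ z → ∃ a ∈ A, a w = v' := by
    intro w hw v h1 h2 hv v' h1' h2'
    obtain ⟨n, rfl⟩ := (td.tr v (mem v h1 h2) v' (mem v' h1' h2')).exists_nat_pow_eq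
    have := rel_apply hn (H.pow_mem hd n) hv
    rwa [pow_apply_eq_self_of_apply_eq_self hw] at this
  have hyz' : ∃ a ∈ A, a y = z := by
    obtain ⟨v, hv, hr⟩ := exists_rel_ne hA hn hc ht y
    obtain ⟨v', hv', hr'⟩ := exists_rel_ne hA hn hc ht z
    by_cases h1 : v = z
    · exact h1 ▸ hr
    by_cases h2 : v' = y
    · exact rel_symm (h2 ▸ hr')
    exact rel_trans (spread y dy v hv h1 hr v' h2 hv') (rel_symm hr')
  have htr : ∀ v, ∃ a ∈ A, a y = v := by
    by_cases h : ∃ v, v ≠ y ∧ v ≠ z ∧ ∃ a ∈ A, a y = v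
    · obtain ⟨v, h1, h2, h3⟩ := h
      intro v'
      by_cases e1 : v' = y
      · exact ⟨1, A.one_mem, e1.symm⟩
      by_cases e2 : v' = z
      · exact e2 ▸ hyz'
      exact spread y dy v h1 h2 h3 v' e1 e2
    · exfalso
      obtain ⟨n, hn'⟩ := (ht y z).exists_nat_pow_eq
      have h1 := rel_apply hn (H.pow_mem hc n) hyz'
      rw [hn'] at h1
      have h2 := rel_trans hyz' h1
      have h3 : (c ^ n) z = y := by
        by_contra h3
        exact h ⟨_, h3, fun e => hyz ((c ^ n).injective (hn'.trans e.symm)), h2⟩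
      have := eq_of_sq_apply (g := c ^ n) hodd (by rw [← pow_mul, mul_comm, pow_mul, hcN, one_pow])
        (x := y) (by rw [hn', h3])
      exact hyz (this.symm.trans hn')
  obtain ⟨a, ha, hay⟩ := hyz'
  have h1 : d * a * d⁻¹ = a := by
    refine eq_of_apply_eq hcm htr (hn d hd a ha) ha ?_
    have : d⁻¹ y = y := by rw [inv_eq_iff_eq, dy]
    rw [mul_apply, mul_apply, this, hay, dz]
  have h2 : d (a z) = a z := by
    conv_rhs => rw [← h1]
    have : d⁻¹ z = z := by rw [inv_eq_iff_eq, dz]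
    rw [mul_apply, mul_apply, this]
  have h3 : a z = y := by
    by_contra h3
    have h4 : a z ≠ z := fun e => hyz (a.injective (hay.trans e.symm))
    exact td.ne (by
      rw [Finset.card_erase_of_mem (by simp [hyz.symm]), Finset.card_erase_of_mem (Finset.mem_univ _),
        Finset.card_univ]
      omega) (mem _ h3 h4) h2
  have h4 : a ^ 2 ^ 1 = 1 := by
    refine eq_of_apply_eq hcm htr (A.pow_mem ha _) A.one_mem ?_
    rw [pow_one, sq, mul_apply, hay, h3, one_apply]
  have : Fact (Nat.Prime 2) := ⟨Nat.prime_two⟩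
  obtain ⟨v, hv⟩ := exists_fixed_point_of_prime (Nat.two_dvd_ne_zero.2 (Nat.odd_iff.1 hodd)) h4
  obtain ⟨e, he, rfl⟩ := htr v
  rw [← mul_apply, hcm a ha e he, mul_apply, hay] at hv
  exact hyz (e.injective hv).symm

end Cfsg.Lib.Known.AltP
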