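/-
Induction from a subgroup `C` with an abelian quotient `π : C → Q`, when the elements outside the
kernel of `π` form a trivial intersection set with normalizer `N` and `N / C` acts without fixed
points on `Q`.  The generalized characters `alpha λ = (1 - λ ∘ π)^G`.
-/
import Cfsg.Agent.Char.Isometry
import Cfsg.Agent.Char.IndChar
import Cfsg.Agent.Char.Linear

set_option autoImplicit false

namespace Cfsg.Lib.Known.TI

open Cfsg Cfsg.Lib.Char
open scoped ComplexConjugate

variable {G : Type*} [Group G]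

/-- The trivial intersection set-up. -/
structure TIData (C N : Subgroup G) {Q : Type*} [Group Q] (π : C →* Q) : Prop where
  le : C ≤ N
  comm : ∀ a b : Q, a * b = b * a
  surj : Function.Surjective π
  conj_mem : ∀ n ∈ N, ∀ c ∈ C, n * c * n⁻¹ ∈ C
  ti : ∀ (x : G) (c : C), π c ≠ 1 → x * c * x⁻¹ ∈ C → x ∈ N
  fpf : ∀ n (hn : n ∈ N), n ∉ C → ∀ c : C, π ⟨n * c * n⁻¹, conj_mem n hn c c.2⟩ = π c → π c = 1

theorem tiData_of_centralizer (A : Subgroup G)
    (hC : ∀ u ∈ A, u ≠ 1 → Subgroup.centralizer {u} = A) :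
    TIData A (Subgroup.normalizer (A : Set G)) (MonoidHom.id A) where
  le := Subgroup.le_normalizer
  comm a b := by
    by_cases ha : (a : G) = 1
    · ext
      simp [ha]
    · have : (b : G) ∈ Subgroup.centralizer {(a : G)} := (hC a a.2 ha).symm ▸ b.2
      rw [Subgroup.mem_centralizer_singleton_iff] at this
      exact Subtype.ext this.symm
  surj := Function.surjective_id
  conj_mem n hn c hc := (Subgroup.mem_normalizer_iff.mp hn c).mp hc
  ti x c hc hx := by
    have hc1 : (c : G) ≠ 1 := fun h => hc (Subtype.ext h)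
    have h1 := hC _ hx (by simpa using hc1)
    have h2 := hC _ c.2 hc1
    rw [Subgroup.mem_normalizer_iff]
    intro y
    conv_lhs => rw [← h2]
    conv_rhs => rw [← h1]
    simp only [Subgroup.mem_centralizer_singleton_iff]
    constructor
    · intro h
      calc x * y * x⁻¹ * (x * c * x⁻¹) = x * (y * c) * x⁻¹ := by group
        _ = x * c * x⁻¹ * (x * y * x⁻¹) := by rw [h]; group
    · intro h
      calc y * c = x⁻¹ * (x * y * x⁻¹ * (x * c * x⁻¹)) * x := by group
        _ = c * y := by rw [h]; group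
  fpf n _ hnA c h := by
    by_contra hc
    have hc1 : (c : G) ≠ 1 := fun h => hc (Subtype.ext h)
    apply hnA
    rw [← hC _ c.2 hc1, Subgroup.mem_centralizer_singleton_iff]
    have h' : n * c * n⁻¹ = c := congrArg Subtype.val h
    exact mul_inv_eq_iff_eq_mul.mp h'

/-- In a self-centralizing subgroup of odd order whose normalizer has even order, all elements
are real. -/
theorem isConj_inv_of_centralizer [Finite G] (A : Subgroup G)
    (hC : ∀ u ∈ A, u ≠ 1 → Subgroup.centralizer {u} = A) (hodd : Odd (Nat.card A))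
    (heven : 2 ∣ Nat.card (Subgroup.normalizer (A : Set G))) {a : G} (ha : a ∈ A) :
    IsConj a a⁻¹ := by
  obtain ⟨t, ht⟩ := exists_prime_orderOf_dvd_card' 2 heven
  have h := tiData_of_centralizer A hC
  have ht2 : (t : G) * t = 1 := by
    have := pow_orderOf_eq_one t
    rw [ht, sq] at this
    exact congrArg Subtype.val this
  have htA : (t : G) ∉ A := by
    intro htA
    have h1 : orderOf (⟨t, htA⟩ : A) ∣ Nat.card A := orderOf_dvd_natCard _
    rw [← Subgroup.orderOf_coe, Subgroup.orderOf_coe t, ht] at h1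
    exact hodd.not_two_dvd_nat h1
  have hb := h.conj_mem t t.2 a ha
  have hc := congrArg Subtype.val (h.comm ⟨a, ha⟩ ⟨_, hb⟩)
  have ht' : (t : G)⁻¹ = t := inv_eq_of_mul_eq_one_right ht2
  have h1 := h.fpf t t.2 htA ⟨_, A.mul_mem ha hb⟩ (Subtype.ext (by
    change (t : G) * (a * (t * a * (t : G)⁻¹)) * (t : G)⁻¹ = a * (t * a * (t : G)⁻¹)
    change a * (t * a * (t : G)⁻¹) = t * a * (t : G)⁻¹ * a at hc
    rw [hc]
    calc (t : G) * (t * a * (t : G)⁻¹ * a) * (t : G)⁻¹
        = (t * t) * a * ((t : G)⁻¹ * a * (t : G)⁻¹) := by group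
      _ = a * (t * a * (t : G)⁻¹) := by rw [ht2, ht']; group
      _ = _ := hc))
  exact isConj_iff.mpr ⟨t, (eq_inv_of_mul_eq_one_right (congrArg Subtype.val h1))⟩

variable [Fintype G]

/-- `(1 - λ ∘ π)^G` -/
noncomputable def alpha {C : Subgroup G} {Q : Type*} [Group Q] (π : C →* Q) (lam : Q →* ℂˣ) :
    G → ℂ :=
  indFun C fun c => 1 - (lam (π c) : ℂ)

section Alpha

variable {C : Subgroup G} {Q : Type*} [Group Q] (π : C →* Q) (lam : Q →* ℂˣ)

theorem alpha_gen : IsGeneralizedCharacter G (alpha π lam) :=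
  isGeneralizedCharacter_indFun (isCharacter_one.isGeneralizedCharacter.sub
    (isIrrCharacter_monoidHom (lam.comp π)).isGeneralizedCharacter)

theorem alpha_class : IsClassFunction G (alpha π lam) := indFun_isClassFunction _ _

theorem alpha_one : alpha π lam 1 = 0 := by simp [alpha, indFun_one]

theorem alpha_eq_zero {g : G} (hg : ∀ x (h : x * g * x⁻¹ ∈ C), π ⟨_, h⟩ = 1) :
    alpha π lam g = 0 :=
  indFun_eq_zero _ _ fun x h => by simp [hg x h]

theorem alpha_eq_zero' {g : G} (hg : ∀ x, x * g * x⁻¹ ∉ C) : alpha π lam g = 0 :=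
  indFun_eq_zero_of_not_conj _ _ hg

theorem inner_alpha [Fintype C] {χ : G → ℂ} (hχ : IsClassFunction G χ) :
    classInner (alpha π lam) χ =
      (Nat.card C : ℂ)⁻¹ * ∑ c : C, (1 - (lam (π c) : ℂ)) * conj (χ c) :=
  classInner_indFun_left C _ hχ

variable {π lam}

omit [Fintype G] in
theorem comp_ne_one (hπ : Function.Surjective π) (hl : lam ≠ 1) : lam.comp π ≠ 1 := by
  intro h
  apply hl
  ext q
  obtain ⟨c, rfl⟩ := hπ q
  simpa using DFunLike.congr_fun h c

theorem inner_alpha_of_const (hπ : Function.Surjective π) (hl : lam ≠ 1) {χ : G → ℂ}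
    (hχ : IsClassFunction G χ) {k : ℂ} (hk : ∀ c : C, π c ≠ 1 → χ c = k) :
    classInner (alpha π lam) χ = conj k := by
  have := Fintype.ofFinite C
  rw [inner_alpha π lam hχ]
  have h1 : ∀ c : C, (1 - (lam (π c) : ℂ)) * conj (χ c) =
      conj k - conj k * (lam.comp π c : ℂ) := by
    intro c
    by_cases hc : π c = 1
    · simp [hc]
    · rw [hk c hc]
      simp only [MonoidHom.comp_apply]
      ring
  simp only [h1, Finset.sum_sub_distrib, ← Finset.mul_sum,
    sum_monoidHom_apply_of_ne_one (comp_ne_one hπ hl)]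
  simp [← Nat.card_eq_fintype_card, ← mul_assoc, inv_mul_cancel₀ (card_ne_zero C)]

theorem inner_alpha_one (hπ : Function.Surjective π) (hl : lam ≠ 1) :
    classInner (alpha π lam) (fun _ => 1) = 1 := by
  rw [inner_alpha_of_const hπ hl (isClassFunction_const 1) (k := 1) fun _ _ => rfl, map_one]

end Alpha

/-- A class function with constant inner products with all `alpha λ` is constant on `A - 1`. -/
theorem apply_eq_of_inner_alpha {A : Subgroup G} (hA : ∀ a b : A, a * b = b * a) {χ : G → ℂ}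
    (hχ : IsClassFunction G χ) {k : ℂ}
    (h : ∀ lam : A →* ℂˣ, lam ≠ 1 → classInner (alpha (MonoidHom.id A) lam) χ = conj k)
    {a : G} (ha : a ∈ A) (ha1 : a ≠ 1) : χ a = k := by
  classical
  have := Fintype.ofFinite A
  set φ : A → ℂ := fun a => χ a - k with hφ
  have hφc : IsClassFunction A φ := (hχ.res A).sub (isClassFunction_const k)
  have h1 : ∀ ψ : IrrCharacter A, classInner φ ψ = classInner φ (fun _ => 1) * (ψ : A → ℂ) 1 := by
    rintro ⟨ψ, hψ⟩
    obtain ⟨lam, rfl⟩ := hψ.exists_monoidHom_of_comm hA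
    simp only [map_one, Units.val_one, mul_one]
    by_cases hl : lam = 1
    · subst hl
      rfl
    have h2 := inner_alpha_of_const (π := MonoidHom.id A) Function.surjective_id hl
      (isClassFunction_const k) (k := k) fun _ _ => rfl
    have h3 : classInner (alpha (MonoidHom.id A) lam) (χ - fun _ => k) = 0 := by
      rw [classInner_sub_right, h lam hl, h2, sub_self]
    rw [alpha, classInner_indFun_left _ _ (hχ.sub (isClassFunction_const k)),
      classInner_eq_zero_comm] at h3
    rw [eq_comm, ← sub_eq_zero, ← classInner_sub_right]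
    exact h3
  have h2 := hφc.apply_eq_sum_irr ⟨a, ha⟩
  simp only [h1, mul_assoc, ← Finset.mul_sum, sum_irr_degree_mul] at h2
  rw [if_neg (fun h => ha1 (congrArg Subtype.val h)), mul_zero] at h2
  exact sub_eq_zero.mp h2

namespace TIData

variable {C N : Subgroup G} {Q : Type*} [Group Q] {π : C →* Q} (h : TIData C N π)

omit [Fintype G] in
/-- conjugation by an element of `N` -/
def cj (n : N) : C →* C :=
  MonoidHom.mk' (fun c => ⟨n * c * n⁻¹, h.conj_mem n n.2 c c.2⟩) fun a b => Subtype.ext (by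
    simp [mul_assoc])

omit [Fintype G] in
@[simp] theorem coe_cj (n : N) (c : C) : (h.cj n c : G) = n * c * n⁻¹ := rfl

omit [Fintype G] in
theorem cj_mul (n m : N) (c : C) : h.cj (n * m) c = h.cj n (h.cj m c) :=
  Subtype.ext (by simp [mul_assoc])

omit [Fintype G] in
theorem cj_surj (n : N) : Function.Surjective (h.cj n) := fun c =>
  ⟨h.cj n⁻¹ c, Subtype.ext (by simp [mul_assoc])⟩

omit [Fintype G] in
theorem π_cj_of_mem {n : N} (hn : (n : G) ∈ C) (c : C) : π (h.cj n c) = π c := by
  have : h.cj n c = ⟨n, hn⟩ * c * ⟨n, hn⟩⁻¹ := rfl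
  rw [this, map_mul, map_mul, map_inv, h.comm (π _) (π c), mul_inv_cancel_right]

theorem mem_of_comp_cj {lam : Q →* ℂˣ} (hl : lam ≠ 1) {n : N}
    (hn : (lam.comp π).comp (h.cj n) = lam.comp π) : (n : G) ∈ C := by
  by_contra hnC
  have : Finite Q := Finite.of_surjective π h.surj
  obtain ⟨s, hs⟩ := h.surj.hasRightInverse
  have hinj : Function.Injective fun q => π (h.cj n (s q)) * q⁻¹ := by
    intro q q' hq
    have h1 := h.fpf n n.2 hnC (s q * (s q')⁻¹) (by
      change π (h.cj n (s q * (s q')⁻¹)) = _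
      simp only [map_mul, map_inv, hs q, hs q']
      have hq' : π (h.cj n (s q)) * q⁻¹ = π (h.cj n (s q')) * q'⁻¹ := hq
      rw [mul_inv_eq_iff_eq_mul.mp hq', mul_assoc (π _), h.comm (π _), mul_inv_cancel_right,
        h.comm])
    rw [map_mul, map_inv, hs q, hs q'] at h1
    exact mul_inv_eq_one.mp h1
  apply hl
  ext q
  obtain ⟨q', rfl⟩ := Finite.surjective_of_injective hinj q
  have h2 : lam (π (h.cj n (s q'))) = lam (π (s q')) := DFunLike.congr_fun hn (s q')
  simp [h2, hs q']

include h in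
theorem ind_apply [Fintype N] (θ : C → ℂ) {c : C} (hc : π c ≠ 1) :
    indFun C θ c = (Nat.card C : ℂ)⁻¹ * ∑ n : N, θ (h.cj n c) := by
  classical
  rw [indFun_apply']
  congr 1
  rw [← Finset.sum_subset (Finset.subset_univ (Finset.univ.filter (· ∈ N))),
    Finset.sum_subtype (p := (· ∈ N)) _ (by simp)]
  · exact Finset.sum_congr rfl fun n _ => extendByZero_coe C θ (h.cj n c)
  · intro x _ hx
    exact extendByZero_of_notMem C θ fun hx' => hx (by simpa using h.ti x c hc hx')

variable {e : ℕ} (he : Nat.card N = e * Nat.card C)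
include h he

theorem ind_one_apply {c : C} (hc : π c ≠ 1) : indFun C (fun _ => 1) c = e := by
  have := Fintype.ofFinite N
  rw [h.ind_apply _ hc]
  simp only [Finset.sum_const, Finset.card_univ, ← Nat.card_eq_fintype_card, he]
  have := card_ne_zero C
  simp only [nsmul_eq_mul, Nat.cast_mul]
  field_simp

theorem norm_alpha_sub_le (lam : Q →* ℂˣ) {c : C} (hc : π c ≠ 1) : ‖alpha π lam c - e‖ ≤ e := by
  have := Fintype.ofFinite N
  have h1 : alpha π lam c - e = -indFun C (fun c => (lam (π c) : ℂ)) c := by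
    rw [← h.ind_one_apply he hc, alpha]
    have := congrFun (indFun_sub C (fun _ => 1) (fun c => (lam (π c) : ℂ))) c
    rw [Pi.sub_apply] at this
    rw [← sub_eq_zero, sub_neg_eq_add, sub_add, ← this, sub_eq_zero]
    rfl
  rw [h1, norm_neg, h.ind_apply _ hc, norm_mul, norm_inv, Complex.norm_natCast]
  have h2 : ‖∑ n : N, (lam (π (h.cj n c)) : ℂ)‖ ≤ e * Nat.card C := by
    refine (norm_sum_le _ _).trans (le_of_eq ?_)
    have : ∀ n : N, ‖(lam (π (h.cj n c)) : ℂ)‖ = 1 := fun n =>
      norm_monoidHom_apply (lam.comp π) _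
    simp [this, ← Nat.card_eq_fintype_card, he]
  have h3 : (0 : ℝ) < Nat.card C := by exact_mod_cast Nat.card_pos
  rw [inv_mul_le_iff₀ h3]
  linarith

open Classical in
theorem inner_alpha_alpha_eq [Fintype N] {lam mu : Q →* ℂˣ} (hl : lam ≠ 1) (hm : mu ≠ 1) :
    classInner (alpha π lam) (alpha π mu) = e + (Nat.card C : ℂ)⁻¹ *
      ∑ n : N, if lam.comp π = (mu.comp π).comp (h.cj n) then 1 else 0 := by
  have := Fintype.ofFinite C
  have hC := card_ne_zero C
  rw [inner_alpha π lam (alpha_class π mu)]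
  have h1 : ∀ c : C, (1 - (lam (π c) : ℂ)) * conj (alpha π mu c) = (Nat.card C : ℂ)⁻¹ *
      ∑ n : N, (1 - (lam (π c) : ℂ)) * conj (1 - (mu (π (h.cj n c)) : ℂ)) := by
    intro c
    by_cases hc : π c = 1
    · simp [hc]
    · rw [alpha, h.ind_apply _ hc, ← Finset.mul_sum, ← map_sum, map_mul, map_inv₀, map_natCast]
      ring
  simp only [h1]
  rw [← Finset.mul_sum, Finset.sum_comm, Finset.mul_sum]
  have h2 : ∀ n : N, (Nat.card C : ℂ)⁻¹ *
      ∑ c : C, (1 - (lam (π c) : ℂ)) * conj (1 - (mu (π (h.cj n c)) : ℂ)) =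
      1 + if lam.comp π = (mu.comp π).comp (h.cj n) then 1 else 0 := by
    intro n
    have h3 := classInner_monoidHom (lam.comp π) ((mu.comp π).comp (h.cj n))
    have h4 := classInner_monoidHom (lam.comp π) 1
    have h5 := classInner_monoidHom 1 ((mu.comp π).comp (h.cj n))
    rw [if_neg (comp_ne_one h.surj hl)] at h4
    rw [if_neg (comp_ne_one (h.cj_surj n) (comp_ne_one h.surj hm)).symm] at h5
    have h6 := classInner_one_one (G := C)
    have h7 : (Nat.card C : ℂ)⁻¹ *
        ∑ c : C, (1 - (lam (π c) : ℂ)) * conj (1 - (mu (π (h.cj n c)) : ℂ)) =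
        classInner ((fun _ => 1) - fun c => (lam.comp π c : ℂ))
        ((fun _ => 1) - fun c => ((mu.comp π).comp (h.cj n) c : ℂ)) := by
      simp only [classInner, Pi.sub_apply, MonoidHom.comp_apply]
    rw [h7, classInner_sub_left, classInner_sub_right, classInner_sub_right, h3, h6]
    simp only [MonoidHom.one_apply, Units.val_one] at h4 h5
    rw [h4, h5]
    ring
  simp only [h2, Finset.sum_add_distrib, Finset.sum_const, Finset.card_univ,
    ← Nat.card_eq_fintype_card, he, nsmul_eq_mul, Nat.cast_mul]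
  field_simp

theorem inner_alpha_self {lam : Q →* ℂˣ} (hl : lam ≠ 1) :
    classInner (alpha π lam) (alpha π lam) = e + 1 := by
  classical
  have := Fintype.ofFinite N
  rw [h.inner_alpha_alpha_eq he hl hl]
  have h1 : ∀ n : N, lam.comp π = (lam.comp π).comp (h.cj n) ↔ n ∈ C.subgroupOf N := by
    intro n
    refine ⟨fun hn => h.mem_of_comp_cj hl hn.symm, fun hn => ?_⟩
    ext c
    simp [h.π_cj_of_mem hn]
  simp only [h1, Finset.sum_boole]
  rw [← Fintype.card_subtype, ← Nat.card_eq_fintype_card,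
    Nat.card_congr (Subgroup.subgroupOfEquivOfLe h.le).toEquiv, inv_mul_cancel₀ (card_ne_zero C)]

theorem alpha_eq_or_inner {lam mu : Q →* ℂˣ} (hl : lam ≠ 1) (hm : mu ≠ 1) :
    alpha π lam = alpha π mu ∨ classInner (alpha π lam) (alpha π mu) = e := by
  classical
  have := Fintype.ofFinite N
  by_cases hn : ∃ n : N, lam.comp π = (mu.comp π).comp (h.cj n)
  · left
    obtain ⟨n, hn⟩ := hn
    funext g
    rw [alpha, alpha, indFun_apply', indFun_apply']
    congr 1
    refine Fintype.sum_equiv (Equiv.mulLeft (n : G)) _ _ fun x => ?_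
    by_cases hx : x * g * x⁻¹ ∈ C
    · have h1 : (Equiv.mulLeft (n : G)) x * g * ((Equiv.mulLeft (n : G)) x)⁻¹ =
          (h.cj n ⟨_, hx⟩ : G) := by simp [mul_assoc]
      rw [h1, extendByZero_coe, extendByZero_of_mem _ _ hx]
      have h2 : lam (π ⟨_, hx⟩) = mu (π (h.cj n ⟨_, hx⟩)) := DFunLike.congr_fun hn ⟨_, hx⟩
      rw [h2]
    · rw [extendByZero_of_notMem _ _ hx, extendByZero_of_notMem]
      intro hx'
      apply hx
      have := h.conj_mem _ (N.inv_mem n.2) _ hx'
      simpa [mul_assoc] using this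
  · right
    push Not at hn
    rw [h.inner_alpha_alpha_eq he hl hm]
    simp [hn]

end TIData

end Cfsg.Lib.Known.TI
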