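/-
The seven-dimensional representation of the Chevalley group of type `G₂` in characteristic three, as a
subrepresentation of the adjoint one.
-/
import Cfsg.Agent.Known.ReeMat
import Cfsg.Agent.Chev.TwistG2

set_option autoImplicit false
set_option linter.unusedSimpArgs false

namespace Cfsg.Lib.Known.Ree

open Cfsg.Lie Cfsg.Lib.Chev Cfsg.Lib.Chev.Core Matrix

variable {K : Type*} [Field K]

/-- Codes of the basis vectors of the invariant subspace. -/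
def idx7 : Fin 7 → ℕ := ![9, 8, 7, 12, 4, 3, 2]

/-- Positions of the basis vectors of the invariant subspace. -/
def row7 : Fin 7 → chevG2.Idx :=
  ![Sum.inr (9 : Fin 12), Sum.inr (8 : Fin 12), Sum.inr (7 : Fin 12), Sum.inl (0 : Fin 2), Sum.inr (4 : Fin 12),
    Sum.inr (3 : Fin 12), Sum.inr (2 : Fin 12)]

/-- The inclusion of the invariant subspace. -/
noncomputable def J7 (K : Type*) [Field K] : Matrix chevG2.Idx (Fin 7) K :=
  Matrix.of fun i j => eB chevG2 K (idx7 j) i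

theorem J7_row (i j : Fin 7) : J7 K (row7 i) j = (1 : M7 K) i j := by
  have h : chevG2.nroots = 12 := rfl
  fin_cases i <;> fin_cases j <;> simp [J7, row7, idx7, eB, eR, eH, h] <;> rfl

theorem J7_mul_row (A : M7 K) : (J7 K * A).submatrix row7 id = A := by
  ext i j
  simp [Matrix.mul_apply, J7_row, Matrix.one_apply]

/-- `g` acts on the invariant subspace by the matrix `A`. -/
def Rel7 (g : GL chevG2.Idx K) (A : M7 K) : Prop := (g : Matrix chevG2.Idx chevG2.Idx K) * J7 K = J7 K * A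

theorem Rel7.mul {g g' : GL chevG2.Idx K} {A A' : M7 K} (h : Rel7 g A) (h' : Rel7 g' A') :
    Rel7 (g * g') (A * A') := by
  unfold Rel7 at *
  rw [Units.val_mul, Matrix.mul_assoc, h', ← Matrix.mul_assoc, h, Matrix.mul_assoc]

theorem rel_one : Rel7 (1 : GL chevG2.Idx K) 1 := by simp [Rel7]

theorem Rel7.congr {g : GL chevG2.Idx K} {A A' : M7 K} (h : Rel7 g A) (e : A = A') : Rel7 g A' := e ▸ h

/-- The matrix of the action on the invariant subspace. -/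
noncomputable def res7 (g : GL chevG2.Idx K) : M7 K :=
  ((g : Matrix chevG2.Idx chevG2.Idx K) * J7 K).submatrix row7 id

theorem Rel7.eq {g : GL chevG2.Idx K} {A : M7 K} (h : Rel7 g A) : res7 g = A := by
  rw [res7, h, J7_mul_row]

theorem rel_of_col {g : GL chevG2.Idx K} {A : M7 K}
    (h : ∀ j, (g : Matrix chevG2.Idx chevG2.Idx K) *ᵥ eB chevG2 K (idx7 j) = ∑ i, A i j • eB chevG2 K (idx7 i)) :
    Rel7 g A := by
  ext i j
  have := congrFun (h j) i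
  simp only [Finset.sum_apply, Pi.smul_apply, smul_eq_mul, mul_comm (A _ _)] at this
  exact this

/-- The root element number 0 in the seven-dimensional representation. -/
def X0 (t : K) : M7 K :=
  !![1, 0, 0, 0, 0, 0, 0;
    0, 1, 0, 0, 0, 0, 0;
    0, 0, 1, 0, 0, 0, 0;
    0, 0, 0, 1, 0, 0, 0;
    0, 0, 0, 0, 1, 0, 0;
    -t, 0, 0, 0, 0, 1, 0;
    0, t, 0, 0, 0, 0, 1]

/-- The root element number 1 in the seven-dimensional representation. -/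
def X1 (t : K) : M7 K :=
  !![1, 0, 0, 0, 0, 0, 0;
    0, 1, 0, 0, 0, 0, 0;
    0, 0, 1, 0, 0, 0, 0;
    0, 0, 0, 1, 0, 0, 0;
    -t, 0, 0, 0, 1, 0, 0;
    0, 0, 0, 0, 0, 1, 0;
    0, 0, t, 0, 0, 0, 1]

/-- The root element number 2 in the seven-dimensional representation. -/
def X2 (t : K) : M7 K :=
  !![1, 0, 0, 0, 0, 0, 0;
    0, 1, 0, 0, 0, 0, 0;
    0, 0, 1, 0, 0, 0, 0;
    t, 0, 0, 1, 0, 0, 0;
    0, -t, 0, 0, 1, 0, 0;
    0, 0, t, 0, 0, 1, 0;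
    -t ^ 2, 0, 0, t, 0, 0, 1]

/-- The root element number 3 in the seven-dimensional representation. -/
def X3 (t : K) : M7 K :=
  !![1, 0, 0, 0, 0, 0, 0;
    0, 1, 0, 0, 0, 0, 0;
    -t, 0, 1, 0, 0, 0, 0;
    0, -t, 0, 1, 0, 0, 0;
    0, 0, 0, 0, 1, 0, 0;
    0, -t ^ 2, 0, -t, 0, 1, 0;
    0, 0, 0, 0, t, 0, 1]

/-- The root element number 4 in the seven-dimensional representation. -/
def X4 (t : K) : M7 K :=
  !![1, 0, 0, 0, 0, 0, 0;
    t, 1, 0, 0, 0, 0, 0;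
    0, 0, 1, 0, 0, 0, 0;
    0, 0, -t, 1, 0, 0, 0;
    0, 0, -t ^ 2, -t, 1, 0, 0;
    0, 0, 0, 0, 0, 1, 0;
    0, 0, 0, 0, 0, -t, 1]

/-- The root element number 5 in the seven-dimensional representation. -/
def X5 (t : K) : M7 K :=
  !![1, 0, 0, 0, 0, 0, 0;
    0, 1, 0, 0, 0, 0, 0;
    0, t, 1, 0, 0, 0, 0;
    0, 0, 0, 1, 0, 0, 0;
    0, 0, 0, 0, 1, 0, 0;
    0, 0, 0, 0, -t, 1, 0;
    0, 0, 0, 0, 0, 0, 1]

/-- The root element number 6 in the seven-dimensional representation. -/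
def X6 (t : K) : M7 K :=
  !![1, 0, 0, 0, 0, 0, 0;
    0, 1, t, 0, 0, 0, 0;
    0, 0, 1, 0, 0, 0, 0;
    0, 0, 0, 1, 0, 0, 0;
    0, 0, 0, 0, 1, -t, 0;
    0, 0, 0, 0, 0, 1, 0;
    0, 0, 0, 0, 0, 0, 1]

/-- The root element number 7 in the seven-dimensional representation. -/
def X7 (t : K) : M7 K :=
  !![1, t, 0, 0, 0, 0, 0;
    0, 1, 0, 0, 0, 0, 0;
    0, 0, 1, t, -t ^ 2, 0, 0;
    0, 0, 0, 1, t, 0, 0;
    0, 0, 0, 0, 1, 0, 0;
    0, 0, 0, 0, 0, 1, -t;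
    0, 0, 0, 0, 0, 0, 1]

/-- The root element number 8 in the seven-dimensional representation. -/
def X8 (t : K) : M7 K :=
  !![1, 0, -t, 0, 0, 0, 0;
    0, 1, 0, t, 0, -t ^ 2, 0;
    0, 0, 1, 0, 0, 0, 0;
    0, 0, 0, 1, 0, t, 0;
    0, 0, 0, 0, 1, 0, t;
    0, 0, 0, 0, 0, 1, 0;
    0, 0, 0, 0, 0, 0, 1]

/-- The root element number 9 in the seven-dimensional representation. -/
def X9 (t : K) : M7 K :=
  !![1, 0, 0, -t, 0, 0, -t ^ 2;
    0, 1, 0, 0, -t, 0, 0;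
    0, 0, 1, 0, 0, t, 0;
    0, 0, 0, 1, 0, 0, -t;
    0, 0, 0, 0, 1, 0, 0;
    0, 0, 0, 0, 0, 1, 0;
    0, 0, 0, 0, 0, 0, 1]

/-- The root element number 10 in the seven-dimensional representation. -/
def X10 (t : K) : M7 K :=
  !![1, 0, 0, 0, -t, 0, 0;
    0, 1, 0, 0, 0, 0, 0;
    0, 0, 1, 0, 0, 0, t;
    0, 0, 0, 1, 0, 0, 0;
    0, 0, 0, 0, 1, 0, 0;
    0, 0, 0, 0, 0, 1, 0;
    0, 0, 0, 0, 0, 0, 1]

/-- The root element number 11 in the seven-dimensional representation. -/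
def X11 (t : K) : M7 K :=
  !![1, 0, 0, 0, 0, -t, 0;
    0, 1, 0, 0, 0, 0, t;
    0, 0, 1, 0, 0, 0, 0;
    0, 0, 0, 1, 0, 0, 0;
    0, 0, 0, 0, 1, 0, 0;
    0, 0, 0, 0, 0, 1, 0;
    0, 0, 0, 0, 0, 0, 1]

variable [CharP K 3]

theorem rel_of_chk {r : ℕ} (t : K) {A : M7 K} {V : List Vec}
    (h1 : ∀ j : Fin 7, veqMod 3 (applyL certG2.T r [(1, 0, 1)] [(idx7 j, 0, 0, 1)]) (V.getD j []) = true)
    (h2 : ∀ j : Fin 7, evalV chevG2 t 0 (V.getD j []) = ∑ i, A i j • eB chevG2 K (idx7 i)) :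
    Rel7 (xGL chevG2 K r t) A := rel_of_col fun j => by
  have := veqMod_sound (D := chevG2) t 0 (h1 j)
  rw [applyL_sound t 0 certG2.lk rfl, evalV_basis, h2] at this
  rw [certG2.coe_xGL rootG2, ← this]
  simp [Core.evalP]

theorem rel_X0 (t : K) : Rel7 (xGL chevG2 K 0 t) (X0 t) :=
  rel_of_chk t (V := [[(9, 0, 0, 1), (3, 1, 0, -1)],
    [(8, 0, 0, 1), (2, 1, 0, 1)],
    [(7, 0, 0, 1)],
    [(12, 0, 0, 1)],
    [(4, 0, 0, 1)],
    [(3, 0, 0, 1)],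
    [(2, 0, 0, 1)]])
    (by decide +kernel) (fun j => by
      fin_cases j <;> simp [evalV, X0, idx7, Fin.sum_univ_seven, add_comm, add_assoc, add_left_comm])

theorem rel_X1 (t : K) : Rel7 (xGL chevG2 K 1 t) (X1 t) :=
  rel_of_chk t (V := [[(9, 0, 0, 1), (4, 1, 0, -1)],
    [(8, 0, 0, 1)],
    [(7, 0, 0, 1), (2, 1, 0, 1)],
    [(12, 0, 0, 1)],
    [(4, 0, 0, 1)],
    [(3, 0, 0, 1)],
    [(2, 0, 0, 1)]])
    (by decide +kernel) (fun j => by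
      fin_cases j <;> simp [evalV, X1, idx7, Fin.sum_univ_seven, add_comm, add_assoc, add_left_comm])

theorem rel_X2 (t : K) : Rel7 (xGL chevG2 K 2 t) (X2 t) :=
  rel_of_chk t (V := [[(9, 0, 0, 1), (12, 1, 0, 1), (2, 2, 0, -1)],
    [(8, 0, 0, 1), (4, 1, 0, -1)],
    [(7, 0, 0, 1), (3, 1, 0, 1)],
    [(12, 0, 0, 1), (2, 1, 0, 1)],
    [(4, 0, 0, 1)],
    [(3, 0, 0, 1)],
    [(2, 0, 0, 1)]])
    (by decide +kernel) (fun j => by
      fin_cases j <;> simp [evalV, X2, idx7, Fin.sum_univ_seven, add_comm, add_assoc, add_left_comm])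

theorem rel_X3 (t : K) : Rel7 (xGL chevG2 K 3 t) (X3 t) :=
  rel_of_chk t (V := [[(9, 0, 0, 1), (7, 1, 0, -1)],
    [(8, 0, 0, 1), (12, 1, 0, -1), (3, 2, 0, -1)],
    [(7, 0, 0, 1)],
    [(12, 0, 0, 1), (3, 1, 0, -1)],
    [(4, 0, 0, 1), (2, 1, 0, 1)],
    [(3, 0, 0, 1)],
    [(2, 0, 0, 1)]])
    (by decide +kernel) (fun j => by
      fin_cases j <;> simp [evalV, X3, idx7, Fin.sum_univ_seven, add_comm, add_assoc, add_left_comm])

theorem rel_X4 (t : K) : Rel7 (xGL chevG2 K 4 t) (X4 t) :=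
  rel_of_chk t (V := [[(9, 0, 0, 1), (8, 1, 0, 1)],
    [(8, 0, 0, 1)],
    [(7, 0, 0, 1), (12, 1, 0, -1), (4, 2, 0, -1)],
    [(12, 0, 0, 1), (4, 1, 0, -1)],
    [(4, 0, 0, 1)],
    [(3, 0, 0, 1), (2, 1, 0, -1)],
    [(2, 0, 0, 1)]])
    (by decide +kernel) (fun j => by
      fin_cases j <;> simp [evalV, X4, idx7, Fin.sum_univ_seven, add_comm, add_assoc, add_left_comm])

theorem rel_X5 (t : K) : Rel7 (xGL chevG2 K 5 t) (X5 t) :=
  rel_of_chk t (V := [[(9, 0, 0, 1)],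
    [(8, 0, 0, 1), (7, 1, 0, 1)],
    [(7, 0, 0, 1)],
    [(12, 0, 0, 1)],
    [(4, 0, 0, 1), (3, 1, 0, -1)],
    [(3, 0, 0, 1)],
    [(2, 0, 0, 1)]])
    (by decide +kernel) (fun j => by
      fin_cases j <;> simp [evalV, X5, idx7, Fin.sum_univ_seven, add_comm, add_assoc, add_left_comm])

theorem rel_X6 (t : K) : Rel7 (xGL chevG2 K 6 t) (X6 t) :=
  rel_of_chk t (V := [[(9, 0, 0, 1)],
    [(8, 0, 0, 1)],
    [(8, 1, 0, 1), (7, 0, 0, 1)],
    [(12, 0, 0, 1)],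
    [(4, 0, 0, 1)],
    [(4, 1, 0, -1), (3, 0, 0, 1)],
    [(2, 0, 0, 1)]])
    (by decide +kernel) (fun j => by
      fin_cases j <;> simp [evalV, X6, idx7, Fin.sum_univ_seven, add_comm, add_assoc, add_left_comm])

theorem rel_X7 (t : K) : Rel7 (xGL chevG2 K 7 t) (X7 t) :=
  rel_of_chk t (V := [[(9, 0, 0, 1)],
    [(9, 1, 0, 1), (8, 0, 0, 1)],
    [(7, 0, 0, 1)],
    [(7, 1, 0, 1), (12, 0, 0, 1)],
    [(7, 2, 0, -1), (12, 1, 0, 1), (4, 0, 0, 1)],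
    [(3, 0, 0, 1)],
    [(3, 1, 0, -1), (2, 0, 0, 1)]])
    (by decide +kernel) (fun j => by
      fin_cases j <;> simp [evalV, X7, idx7, Fin.sum_univ_seven, add_comm, add_assoc, add_left_comm])

theorem rel_X8 (t : K) : Rel7 (xGL chevG2 K 8 t) (X8 t) :=
  rel_of_chk t (V := [[(9, 0, 0, 1)],
    [(8, 0, 0, 1)],
    [(9, 1, 0, -1), (7, 0, 0, 1)],
    [(8, 1, 0, 1), (12, 0, 0, 1)],
    [(4, 0, 0, 1)],
    [(8, 2, 0, -1), (12, 1, 0, 1), (3, 0, 0, 1)],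
    [(4, 1, 0, 1), (2, 0, 0, 1)]])
    (by decide +kernel) (fun j => by
      fin_cases j <;> simp [evalV, X8, idx7, Fin.sum_univ_seven, add_comm, add_assoc, add_left_comm])

theorem rel_X9 (t : K) : Rel7 (xGL chevG2 K 9 t) (X9 t) :=
  rel_of_chk t (V := [[(9, 0, 0, 1)],
    [(8, 0, 0, 1)],
    [(7, 0, 0, 1)],
    [(9, 1, 0, -1), (12, 0, 0, 1)],
    [(8, 1, 0, -1), (4, 0, 0, 1)],
    [(7, 1, 0, 1), (3, 0, 0, 1)],
    [(9, 2, 0, -1), (12, 1, 0, -1), (2, 0, 0, 1)]])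
    (by decide +kernel) (fun j => by
      fin_cases j <;> simp [evalV, X9, idx7, Fin.sum_univ_seven, add_comm, add_assoc, add_left_comm])

theorem rel_X10 (t : K) : Rel7 (xGL chevG2 K 10 t) (X10 t) :=
  rel_of_chk t (V := [[(9, 0, 0, 1)],
    [(8, 0, 0, 1)],
    [(7, 0, 0, 1)],
    [(12, 0, 0, 1)],
    [(9, 1, 0, -1), (4, 0, 0, 1)],
    [(3, 0, 0, 1)],
    [(7, 1, 0, 1), (2, 0, 0, 1)]])
    (by decide +kernel) (fun j => by
      fin_cases j <;> simp [evalV, X10, idx7, Fin.sum_univ_seven, add_comm, add_assoc, add_left_comm])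

theorem rel_X11 (t : K) : Rel7 (xGL chevG2 K 11 t) (X11 t) :=
  rel_of_chk t (V := [[(9, 0, 0, 1)],
    [(8, 0, 0, 1)],
    [(7, 0, 0, 1)],
    [(12, 0, 0, 1)],
    [(4, 0, 0, 1)],
    [(9, 1, 0, -1), (3, 0, 0, 1)],
    [(8, 1, 0, 1), (2, 0, 0, 1)]])
    (by decide +kernel) (fun j => by
      fin_cases j <;> simp [evalV, X11, idx7, Fin.sum_univ_seven, add_comm, add_assoc, add_left_comm])

theorem three_eq_zero : (3 : K) = 0 := by exact_mod_cast CharP.cast_eq_zero K 3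

omit [CharP K 3] in
theorem prod_aux (A c d B C : K) : X6 A * (X8 c * (X9 d * (X10 B * X11 C))) =
    !![1, 0, -c, -d, -B, -C - c * d, -B * c - d ^ 2;
      0, 1, A, c, -d, A * d - c ^ 2, A * B + C - c * d;
      0, 0, 1, 0, 0, d, B;
      0, 0, 0, 1, 0, c, -d;
      0, 0, 0, 0, 1, -A, c;
      0, 0, 0, 0, 0, 1, 0;
      0, 0, 0, 0, 0, 0, 1] := by
  have e1 : X10 B * X11 C =
    !![1, 0, 0, 0, -B, -C, 0;
      0, 1, 0, 0, 0, 0, C;
      0, 0, 1, 0, 0, 0, B;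
      0, 0, 0, 1, 0, 0, 0;
      0, 0, 0, 0, 1, 0, 0;
      0, 0, 0, 0, 0, 1, 0;
      0, 0, 0, 0, 0, 0, 1] := by
    rw [X10, X11, mul7]; apply ext7 <;> ring1
  have e2 : X9 d * (X10 B * X11 C) =
    !![1, 0, 0, -d, -B, -C, -d ^ 2;
      0, 1, 0, 0, -d, 0, C;
      0, 0, 1, 0, 0, d, B;
      0, 0, 0, 1, 0, 0, -d;
      0, 0, 0, 0, 1, 0, 0;
      0, 0, 0, 0, 0, 1, 0;
      0, 0, 0, 0, 0, 0, 1] := by
    rw [e1, X9, mul7]; apply ext7 <;> ring1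
  have e3 : X8 c * (X9 d * (X10 B * X11 C)) =
    !![1, 0, -c, -d, -B, -C - c * d, -B * c - d ^ 2;
      0, 1, 0, c, -d, -c ^ 2, C - c * d;
      0, 0, 1, 0, 0, d, B;
      0, 0, 0, 1, 0, c, -d;
      0, 0, 0, 0, 1, 0, c;
      0, 0, 0, 0, 0, 1, 0;
      0, 0, 0, 0, 0, 0, 1] := by
    rw [e2, X8, mul7]; apply ext7 <;> ring1
  rw [e3, X6, mul7]; apply ext7 <;> ring1

omit [CharP K 3] in
theorem W_conj7 (a00 a01 a02 a03 a04 a05 a06 a10 a11 a12 a13 a14 a15 a16 a20 a21 a22 a23 a24 a25 a26 a30 a31 a32 a33 a34 a35 a36 a40 a41 a42 a43 a44 a45 a46 a50 a51 a52 a53 a54 a55 a56 a60 a61 a62 a63 a64 a65 a66 : K) :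
    Wm K * !![a00, a01, a02, a03, a04, a05, a06; a10, a11, a12, a13, a14, a15, a16; a20, a21, a22, a23, a24, a25, a26; a30, a31, a32, a33, a34, a35, a36; a40, a41, a42, a43, a44, a45, a46; a50, a51, a52, a53, a54, a55, a56; a60, a61, a62, a63, a64, a65, a66] * Wm K =
      !![a66, a65, a64, a63, a62, a61, a60; a56, a55, a54, a53, a52, a51, a50; a46, a45, a44, a43, a42, a41, a40; a36, a35, a34, a33, a32, a31, a30; a26, a25, a24, a23, a22, a21, a20; a16, a15, a14, a13, a12, a11, a10; a06, a05, a04, a03, a02, a01, a00] := by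
  rw [Wm, mul7, mul7]; apply ext7 <;> ring1

theorem prod_pos (a A b B c C : K) :
    X7 a * (X6 A * (X8 (a * A + b) * (X9 (a ^ 2 * A + c) * (X10 B * (X11 C * 1))))) = Um' a A b B c C := by
  have h3 : (3 : K) = 0 := three_eq_zero
  rw [mul_one, prod_aux, X7, mul7, Um']
  apply ext7 <;> first | ring1 | grind

omit [CharP K 3] in
theorem W_conj_X (t : K) : X4 (-t) = Wm K * X7 t * Wm K ∧ X5 (-t) = Wm K * X6 t * Wm K ∧
    X3 (-t) = Wm K * X8 t * Wm K ∧ X2 (-t) = Wm K * X9 t * Wm K ∧ X1 (-t) = Wm K * X10 t * Wm K ∧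
    X0 (-t) = Wm K * X11 t * Wm K := by
  refine ⟨?_, ?_, ?_, ?_, ?_, ?_⟩
  · rw [X7, W_conj7, X4]; apply ext7 <;> ring1
  · rw [X6, W_conj7, X5]; apply ext7 <;> ring1
  · rw [X8, W_conj7, X3]; apply ext7 <;> ring1
  · rw [X9, W_conj7, X2]; apply ext7 <;> ring1
  · rw [X10, W_conj7, X1]; apply ext7 <;> ring1
  · rw [X11, W_conj7, X0]; apply ext7 <;> ring1

theorem UWUWU : Um' (0 : K) 0 1 1 0 0 * (Wm K * Um' 0 0 1 1 0 0 * Wm K) * Um' 0 0 1 1 0 0 = Wm K := by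
  have h3 : (3 : K) = 0 := three_eq_zero
  have e : Um' (0 : K) 0 1 1 0 0 * (Wm K * Um' 0 0 1 1 0 0 * Wm K) =
    !![0, 0, 0, 0, 0, 0, -1;
      0, 0, 0, 0, 0, -1, 0;
      0, 0, 0, 0, -1, 0, 1;
      0, 0, 0, -1, 0, 1, 0;
      0, 0, -1, 0, 0, 0, 1;
      0, -1, 0, 1, 0, 1, 0;
      -1, 0, -1, 0, -1, 0, 1] := by
    rw [Um', W_conj7, mul7]; apply ext7 <;> first | ring1 | grind
  rw [e, Um', mul7, Wm]
  apply ext7 <;> first | ring1 | grind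

variable (θ : K →+* K)

theorem rel_reeW (t u v : K) :
    Rel7 (word (xGL chevG2 K) (reeW θ t u v)) (Um' (θ t) t (θ u) u (θ v) v) := by
  rw [← prod_pos]
  exact (rel_X7 _).mul ((rel_X6 _).mul ((rel_X8 _).mul ((rel_X9 _).mul ((rel_X10 _).mul
    ((rel_X11 _).mul rel_one)))))

theorem rel_negW (t u v : K) :
    Rel7 (word (xGL chevG2 K) (chevG2.negWord (reeW θ t u v))) (Wm K * Um' (θ t) t (θ u) u (θ v) v * Wm K) := by
  have h := (rel_X4 (-θ t)).mul ((rel_X5 (-t)).mul ((rel_X3 (-(θ t * t + θ u))).mul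
    ((rel_X2 (-(θ t ^ 2 * t + θ v))).mul ((rel_X1 (-u)).mul ((rel_X0 (-v)).mul rel_one)))))
  refine Rel7.congr h ?_
  have hW : ∀ A : M7 K, Wm K * (Wm K * A) = A := fun A => by rw [← mul_assoc, Wm_mul_Wm, one_mul]
  rw [← prod_pos, (W_conj_X _).1, (W_conj_X _).2.1, (W_conj_X _).2.2.1, (W_conj_X _).2.2.2.1,
    (W_conj_X _).2.2.2.2.1, (W_conj_X _).2.2.2.2.2]
  simp only [mul_assoc, hW, mul_one]

omit [CharP K 3] in
theorem rel_tor (k : Kˣ) : Rel7 (torGL rootG2 K (reeChar θ k)) (Dm' (θ k) k (θ k)⁻¹ (k : K)⁻¹) := by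
  refine rel_of_col fun j => ?_
  have h : ∀ r < 12, ∀ a b : ℤ, rootG2.rc r (0 : Fin 2) = a ∧ rootG2.rc r (1 : Fin 2) = b →
      ((torGL rootG2 K (reeChar θ k) : GL chevG2.Idx K) : Matrix chevG2.Idx chevG2.Idx K) *ᵥ eB chevG2 K r =
        (θ k ^ a * (k : K) ^ b) • eB chevG2 K r := fun r hr a b hab => by
    rw [eB_of_lt hr, coe_torGL, charDiag_mulVec_eR _ hr, ← hab.1, ← hab.2]
    exact congrArg (· • _) (coe_chr_reeChar θ k _)
  have h12 : ((torGL rootG2 K (reeChar θ k) : GL chevG2.Idx K) : Matrix chevG2.Idx chevG2.Idx K) *ᵥ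
      eB chevG2 K 12 = eB chevG2 K 12 := by
    rw [coe_torGL]
    ext (i | i) <;> simp [ChevalleyDatum.charDiag, mulVec_diagonal, eB, eH, show chevG2.nroots = 12 from rfl]
  fin_cases j
  · simp [idx7, Dm', Fin.sum_univ_seven, h 9 (by norm_num) 2 1 (by decide +kernel), zpow_ofNat]
  · simp [idx7, Dm', Fin.sum_univ_seven, h 8 (by norm_num) 1 1 (by decide +kernel)]
  · simp [idx7, Dm', Fin.sum_univ_seven, h 7 (by norm_num) 1 0 (by decide +kernel)]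
  · simp [idx7, Dm', Fin.sum_univ_seven, h12]
  · simp [idx7, Dm', Fin.sum_univ_seven, h 4 (by norm_num) (-1) 0 (by decide +kernel)]
  · simp [idx7, Dm', Fin.sum_univ_seven, h 3 (by norm_num) (-1) (-1) (by decide +kernel)]
  · simp [idx7, Dm', Fin.sum_univ_seven, h 2 (by norm_num) (-2) (-1) (by decide +kernel), zpow_ofNat]

end Cfsg.Lib.Known.Ree
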