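/-
Abelian subgroups `T` that are the centralisers of all their elements of order greater than two and whose elements of
odd order form a cyclic Hall subgroup `A`: normalisers, conjugacy and counting.
-/
import Cfsg.Agent.Known.ReeEasy
import Cfsg.Agent.Solv.CyclicP

set_option autoImplicit false

namespace Cfsg.Lib.Known.Ree

variable {G : Type*} [Group G]

/-- A torus `T` with odd part `A`. -/
structure IsTor (T A : Subgroup G) : Prop where
  comm : ∀ a ∈ T, ∀ b ∈ T, a * b = b * a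
  cent : ∀ a ∈ T, a * a ≠ 1 → Subgroup.centralizer {a} = T
  mem_A : ∀ a, a ∈ A ↔ a ∈ T ∧ Odd (orderOf a)
  cyc : IsCyclic A
  hall : (Nat.card A).Coprime A.index

theorem mul_self_ne_one_of_odd {a : G} (h : Odd (orderOf a)) (h1 : a ≠ 1) : a * a ≠ 1 := fun h2 =>
  h1 (orderOf_eq_one_iff.1
    (Nat.Coprime.eq_one_of_dvd h.coprime_two_right (orderOf_dvd_of_pow_eq_one ((sq a).trans h2))))

theorem mul_self_ne_one_iff {a : G} [Finite G] : a * a ≠ 1 ↔ 2 < orderOf a := by
  rw [← sq, Ne, ← orderOf_dvd_iff_pow_eq_one]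
  have := orderOf_pos a
  refine ⟨fun h => ?_, fun h h' => absurd (Nat.le_of_dvd two_pos h') (by omega)⟩
  by_contra h'
  have : orderOf a = 1 ∨ orderOf a = 2 := by omega
  rcases this with e | e <;> simp [e] at h

theorem exists_conj_le_of_hall [Finite G] {A B : Subgroup G} (hall : (Nat.card A).Coprime A.index) {p : ℕ}
    [Fact p.Prime] (hp : p ∣ Nat.card A) (hB : IsPGroup p B) : ∃ k : G, ∀ b ∈ B, k⁻¹ * b * k ∈ A := by
  obtain ⟨P⟩ : Nonempty (Sylow p A) := inferInstance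
  have h1 : ¬ p ∣ ((P : Subgroup A).map A.subtype).index := by
    rw [← Subgroup.relIndex_mul_index (Subgroup.map_subtype_le _), (Fact.out : p.Prime).dvd_mul, Subgroup.relIndex,
      Subgroup.subgroupOf, Subgroup.comap_map_eq_self_of_injective A.subtype_injective]
    rintro (h | h)
    · exact P.not_dvd_index h
    · exact (Fact.out : p.Prime).one_lt.ne' (Nat.eq_one_of_dvd_coprimes hall hp h)
  obtain ⟨Q, hQ⟩ := hB.exists_le_sylow
  obtain ⟨k, rfl⟩ := MulAction.exists_smul_eq G ((P.isPGroup'.map A.subtype).toSylow h1) Q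
  refine ⟨k, fun b hb => ?_⟩
  have := hQ hb
  rw [Sylow.coe_subgroup_smul, Subgroup.mem_pointwise_smul_iff_inv_smul_mem] at this
  exact Subgroup.map_subtype_le _ (by simpa [mul_assoc] using this)

theorem conj_mul_self_ne_one {a k : G} (h : a * a ≠ 1) : k * a * k⁻¹ * (k * a * k⁻¹) ≠ 1 := by
  rwa [conj_mul, Ne, conj_eq_one_iff]

theorem conj_mul_self_ne_one' {a k : G} (h : a * a ≠ 1) : k⁻¹ * a * k * (k⁻¹ * a * k) ≠ 1 := by
  simpa using conj_mul_self_ne_one (k := k⁻¹) h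

theorem card_mul_of_TI [Finite G] {T N : Subgroup G} (P : ℕ → Prop) (hN : ∀ n ∈ N, ∀ x ∈ T, n * x * n⁻¹ ∈ T)
    (hTI : ∀ x ∈ T, P (orderOf x) → ∀ k, k * x * k⁻¹ ∈ T → k ∈ N)
    (hP : ∀ x : G, P (orderOf x) → ∃ k : G, k⁻¹ * x * k ∈ T) :
    Nat.card {x : G // P (orderOf x)} * Nat.card N = Nat.card G * Nat.card {x : T // P (orderOf x)} := by
  classical
  have := Fintype.ofFinite G
  have key := Finset.card_mul_eq_card_mul (fun (x k : G) => k⁻¹ * x * k ∈ T)
    (s := Finset.univ.filter fun x : G => P (orderOf x)) (t := Finset.univ)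
    (m := Nat.card N) (n := Nat.card {x : T // P (orderOf x)}) ?_ ?_
  · rw [Nat.card_eq_fintype_card (α := G), ← Finset.card_univ, ← key, Nat.card_eq_fintype_card,
      Fintype.card_subtype]
  · intro x hx
    have hx := (Finset.mem_filter.mp hx).2
    obtain ⟨k₀, hk₀⟩ := hP x hx
    rw [Nat.card_eq_fintype_card, Fintype.card_subtype]
    symm
    apply Finset.card_bij (fun n _ => k₀ * n)
    · intro n hn
      have := hN _ (N.inv_mem (Finset.mem_filter.mp hn).2) _ hk₀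
      simpa [Finset.bipartiteAbove, mul_assoc] using this
    · intro a _ b _ h
      exact mul_left_cancel h
    · intro k hk
      simp only [Finset.bipartiteAbove, Finset.mem_filter, Finset.mem_univ, true_and] at hk
      refine ⟨k₀⁻¹ * k, ?_, by simp⟩
      simp only [Finset.mem_filter, Finset.mem_univ, true_and]
      exact hTI _ hk (by rwa [ReeModel.orderOf_conj']) _ (by simpa [mul_assoc] using hk₀)
  · intro k _
    rw [← Nat.card_eq_finsetCard]
    refine Nat.card_congr ⟨fun x => ⟨⟨k⁻¹ * x * k, (Finset.mem_filter.1 x.2).2⟩, ?_⟩,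
      fun x => ⟨k * x.1 * k⁻¹, ?_⟩, fun x => Subtype.ext (by simp [mul_assoc]),
      fun x => Subtype.ext (Subtype.ext (by simp [mul_assoc]))⟩
    · rw [← Subgroup.orderOf_coe, ReeModel.orderOf_conj']
      exact (Finset.mem_filter.1 (Finset.mem_filter.1 x.2).1).2
    · have h3 := x.2
      rw [← Subgroup.orderOf_coe, ← ReeModel.orderOf_conj _ k] at h3
      simpa [Finset.bipartiteBelow, mul_assoc] using h3

theorem card_two_lt_add [Finite G] (T : Subgroup G) :
    Nat.card {x : T // 2 < orderOf x ∧ orderOf x ∣ Nat.card T} + {x | x ∈ T ∧ x * x = 1}.ncard = Nat.card T := by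
  have h1 : Nat.card {x : T // 2 < orderOf x ∧ orderOf x ∣ Nat.card T} =
      ((T : Set G) \ {x | x ∈ T ∧ x * x = 1}).ncard :=
    Nat.card_congr ⟨fun x => ⟨x.1, x.1.2, fun h => mul_self_ne_one_iff.2 x.2.1 (Subtype.ext h.2)⟩,
      fun x => ⟨⟨x.1, x.2.1⟩, mul_self_ne_one_iff.1 fun h => x.2.2 ⟨x.2.1, congrArg Subtype.val h⟩,
        orderOf_dvd_natCard _⟩, fun _ => rfl, fun _ => rfl⟩
  rw [h1, Set.ncard_sdiff_add_ncard_of_subset fun x hx => hx.1]
  rfl

namespace IsTor

variable {T A : Subgroup G} (h : IsTor T A)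
include h

theorem le : A ≤ T := fun a ha => ((h.mem_A a).1 ha).1

theorem odd {a : G} (ha : a ∈ A) : Odd (orderOf a) := ((h.mem_A a).1 ha).2

theorem cent_A {a : G} (ha : a ∈ A) (h1 : a ≠ 1) : Subgroup.centralizer {a} = T :=
  h.cent a (h.le ha) (mul_self_ne_one_of_odd (h.odd ha) h1)

theorem mem_of_commute {a g : G} (ha : a ∈ T) (h1 : a * a ≠ 1) (hg : Commute g a) : g ∈ T :=
  h.cent a ha h1 ▸ Subgroup.mem_centralizer_singleton_iff.2 hg

theorem map_equiv {G' : Type*} [Group G'] (e : G ≃* G') : IsTor (T.map e.toMonoidHom) (A.map e.toMonoidHom) where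
  comm := by
    rintro _ ⟨a, ha, rfl⟩ _ ⟨b, hb, rfl⟩
    rw [← map_mul, h.comm a ha b hb, map_mul]
  cent := by
    rintro _ ⟨a, ha, rfl⟩ h1
    rw [← h.cent a ha fun h2 => h1 (by rw [← map_mul, h2, map_one])]
    exact centralizer_singleton_equiv e a
  mem_A a := by rw [Subgroup.mem_map_equiv, Subgroup.mem_map_equiv, h.mem_A, MulEquiv.orderOf_eq]
  cyc := by
    have := h.cyc
    exact isCyclic_of_surjective _ (e.subgroupMap A).surjective
  hall := by
    rw [card_map_equiv]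
    exact (A.index_map_equiv e).symm ▸ h.hall

theorem odd_card [Finite G] : Odd (Nat.card A) := by
  obtain ⟨a, ha⟩ := h.cyc.exists_ofOrder_eq_natCard
  rw [← ha, ← Subgroup.orderOf_coe]
  exact h.odd a.2

theorem mem_normalizer {a k : G} (ha : a ∈ T) (h1 : a * a ≠ 1) (hk : k * a * k⁻¹ ∈ T) :
    k ∈ Subgroup.normalizer (T : Set G) := by
  have h2 := h.cent _ hk (conj_mul_self_ne_one h1)
  have h3 := centralizer_singleton_equiv (MulAut.conj k) a
  rw [h.cent a ha h1, MulAut.conj_apply, h2] at h3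
  rw [Subgroup.mem_normalizer_iff]
  intro g
  conv_rhs => rw [h3, Subgroup.mem_map_equiv]
  simp [mul_assoc]

theorem normalizer_le [Finite G] {B : Subgroup G} (hB : B ≤ A) :
    Subgroup.normalizer (T : Set G) ≤ Subgroup.normalizer (B : Set G) := by
  intro k hk
  have := h.cyc
  have h1 : B.map (MulAut.conj k).toMonoidHom = B := Cfsg.Lib.Solv.PG.eq_of_card_eq_of_isCyclic (A := A) (by
    rintro _ ⟨b, hb, rfl⟩
    exact (h.mem_A _).2 ⟨(Subgroup.mem_normalizer_iff.1 hk b).1 (h.le (hB hb)),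
      (MulAut.conj k).orderOf_eq b ▸ h.odd (hB hb)⟩) hB (card_map_equiv _ _)
  rw [Subgroup.mem_normalizer_iff]
  intro g
  conv_rhs => rw [← h1, Subgroup.mem_map_equiv]
  simp [mul_assoc]

theorem normalizer_eq [Finite G] {B : Subgroup G} (hB : B ≤ A) (h1 : B ≠ ⊥) :
    Subgroup.normalizer (B : Set G) = Subgroup.normalizer (T : Set G) := by
  refine le_antisymm (fun k hk => ?_) (h.normalizer_le hB)
  obtain ⟨⟨b, hb⟩, hb1⟩ := Subgroup.ne_bot_iff_exists_ne_one.1 h1
  exact h.mem_normalizer (h.le (hB hb)) (mul_self_ne_one_of_odd (h.odd (hB hb)) fun e => hb1 (Subtype.ext e))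
    (h.le (hB ((Subgroup.mem_normalizer_iff.1 hk b).1 hb)))

theorem centralizer_eq {B : Subgroup G} (hB : B ≤ A) (h1 : B ≠ ⊥) : Subgroup.centralizer (B : Set G) = T := by
  obtain ⟨⟨b, hb⟩, hb1⟩ := Subgroup.ne_bot_iff_exists_ne_one.1 h1
  apply le_antisymm
  · rw [← h.cent_A (hB hb) fun e => hb1 (Subtype.ext e)]
    exact Subgroup.centralizer_le (by simpa using hb)
  · exact fun g hg a ha => h.comm a (h.le (hB ha)) g hg

theorem exists_conj_of_prime [Finite G] {p : ℕ} (hp : p.Prime) (hA : p ∣ Nat.card A) {x : G} (hx : p ∣ orderOf x) :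
    ∃ k : G, k⁻¹ * x * k ∈ T := by
  have := Fact.mk hp
  have h1 : orderOf (x ^ (orderOf x / p)) = p := orderOf_pow_orderOf_div (orderOf_pos x).ne' hx
  obtain ⟨k, hk⟩ := exists_conj_le_of_hall h.hall hA (GL2.isPGroup_zpowers_of_pow (x := x ^ (orderOf x / p)) (k := 1)
    (by rw [pow_one]; exact orderOf_dvd_iff_pow_eq_one.1 h1.dvd))
  have h2 := hk _ (Subgroup.mem_zpowers _)
  refine ⟨k, h.cent_A h2 (fun e => hp.one_lt.ne' (by rw [← h1, ← ReeModel.orderOf_conj' _ k, e, orderOf_one])) ▸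
    Subgroup.mem_centralizer_singleton_iff.2 ?_⟩
  have : x * x ^ (orderOf x / p) = x ^ (orderOf x / p) * x := (Commute.pow_right rfl _).eq
  calc k⁻¹ * x * k * (k⁻¹ * x ^ (orderOf x / p) * k) = k⁻¹ * (x * x ^ (orderOf x / p)) * k := by group
    _ = _ := by rw [this]; group

theorem exists_conj_mem_A [Finite G] {x : G} (hx : orderOf x ∣ Nat.card A) : ∃ k : G, k⁻¹ * x * k ∈ A := by
  by_cases h1 : orderOf x = 1
  · exact ⟨1, by simp [orderOf_eq_one_iff.1 h1]⟩
  obtain ⟨p, hp, hpx⟩ := Nat.exists_prime_and_dvd h1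
  obtain ⟨k, hk⟩ := h.exists_conj_of_prime hp (hpx.trans hx) hpx
  exact ⟨k, (h.mem_A _).2 ⟨hk, by rw [ReeModel.orderOf_conj']; exact h.odd_card.of_dvd_nat hx⟩⟩

theorem exists_conj_le [Finite G] {B : Subgroup G} (hB : IsCyclic B) (hd : Nat.card B ∣ Nat.card A) :
    ∃ k : G, B.map (MulAut.conj k).toMonoidHom ≤ A := by
  obtain ⟨b, rfl⟩ := (Subgroup.isCyclic_iff_exists_zpowers_eq_top B).1 hB
  obtain ⟨k, hk⟩ := h.exists_conj_mem_A (x := b) (by rwa [← Nat.card_zpowers])
  exact ⟨k⁻¹, by rw [MonoidHom.map_zpowers, Subgroup.zpowers_le]; simpa using hk⟩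

theorem exists_eq_map [Finite G] {B C : Subgroup G} (hB : IsCyclic B) (hC : IsCyclic C)
    (hd : Nat.card B ∣ Nat.card A) (e : Nat.card B = Nat.card C) :
    ∃ g : G, C = B.map (MulAut.conj g).toMonoidHom := by
  obtain ⟨k, hk⟩ := h.exists_conj_le hB hd
  obtain ⟨l, hl⟩ := h.exists_conj_le hC (e ▸ hd)
  have := h.cyc
  have h1 := Cfsg.Lib.Solv.PG.eq_of_card_eq_of_isCyclic hk hl (by rw [card_map_equiv, card_map_equiv, e])
  refine ⟨l⁻¹ * k, ?_⟩
  ext x
  have h2 := congrArg (l * x * l⁻¹ ∈ ·) h1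
  simp only [Subgroup.mem_map_equiv] at h2 ⊢
  simpa [mul_assoc, -map_mul] using h2.symm

theorem exists_isTor [Finite G] {B : Subgroup G} (hB : IsCyclic B) (e : Nat.card B = Nat.card A) :
    ∃ g : G, IsTor (T.map (MulAut.conj g).toMonoidHom) B := by
  obtain ⟨g, rfl⟩ := h.exists_eq_map h.cyc hB dvd_rfl e.symm
  exact ⟨g, h.map_equiv _⟩

theorem isCyclic_of_isPGroup [Finite G] {p : ℕ} [Fact p.Prime] (hp : p ∣ Nat.card A) {B : Subgroup G}
    (hB : IsPGroup p B) : IsCyclic B := by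
  obtain ⟨k, hk⟩ := exists_conj_le_of_hall h.hall hp hB
  have := h.cyc
  refine isCyclic_of_injective ((MulAut.conj k⁻¹).toMonoidHom.comp B.subtype |>.codRestrict A fun b => by
    simpa using hk b b.2) fun a b e => Subtype.ext ((MulAut.conj k⁻¹).injective (congrArg Subtype.val e))

theorem exists_normalizer_eq [Finite G] {p : ℕ} [Fact p.Prime] (hp : p ∣ Nat.card A) {B : Subgroup G}
    (hB : IsPGroup p B) (h1 : B ≠ ⊥) : ∃ C : Subgroup G, IsCyclic C ∧ Nat.card C = Nat.card A ∧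
      Subgroup.normalizer (B : Set G) = Subgroup.normalizer (C : Set G) := by
  obtain ⟨k, hk⟩ := exists_conj_le_of_hall h.hall hp hB
  have h2 := h.map_equiv (MulAut.conj k)
  have h3 : B ≤ A.map (MulAut.conj k).toMonoidHom := fun b hb => ⟨_, hk b hb, by simp [mul_assoc]⟩
  exact ⟨_, h2.cyc, card_map_equiv _ _, by
    rw [h2.normalizer_eq h3 h1, h2.normalizer_eq le_rfl fun e => h1 (eq_bot_iff.2 (e ▸ h3))]⟩

theorem card_mul [Finite G] (P : ℕ → Prop) (h2 : ∀ d, P d → 2 < d)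
    (hP : ∀ x : G, P (orderOf x) → ∃ k : G, k⁻¹ * x * k ∈ T) :
    Nat.card {x : G // P (orderOf x)} * Nat.card (Subgroup.normalizer (T : Set G)) =
      Nat.card G * Nat.card {x : T // P (orderOf x)} :=
  card_mul_of_TI P (fun n hn x hx => (Subgroup.mem_normalizer_iff.1 hn x).1 hx)
    (fun _ hx hPx _ hk => h.mem_normalizer hx (mul_self_ne_one_iff.2 (h2 _ hPx)) hk) hP

theorem orderOf_dvd_of_prime [Finite G] {p : ℕ} (hp : p.Prime) (hA : p ∣ Nat.card A) {x : G} (hx : p ∣ orderOf x) :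
    orderOf x ∣ Nat.card T := by
  obtain ⟨k, hk⟩ := h.exists_conj_of_prime hp hA hx
  exact ReeModel.orderOf_conj' x k ▸ T.orderOf_dvd_natCard hk

omit h in
theorem card_orderOf_eq [Finite G] (hA : IsCyclic A) {d : ℕ} (hd : d ∣ Nat.card A) :
    Nat.card {x : A // orderOf x = d} = d.totient := by
  classical
  have := Fintype.ofFinite A
  rw [Nat.card_eq_fintype_card, Fintype.card_subtype,
    IsCyclic.card_orderOf_eq_totient (by rwa [← Nat.card_eq_fintype_card])]

theorem card_orderOf_eq_odd [Finite G] {d : ℕ} (hd : d ∣ Nat.card A) :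
    Nat.card {x : T // orderOf x = d} = d.totient := by
  rw [← card_orderOf_eq h.cyc hd]
  exact Nat.card_congr ⟨fun x => ⟨⟨x.1, (h.mem_A _).2 ⟨x.1.2, by
      rw [Subgroup.orderOf_coe, x.2]; exact h.odd_card.of_dvd_nat hd⟩⟩, by simpa using x.2⟩,
    fun x => ⟨⟨x.1, h.le x.1.2⟩, by simpa using x.2⟩, fun _ => rfl, fun _ => rfl⟩

theorem card_order_mul [Finite G] {d : ℕ} (h1 : 1 < d) (hd : d ∣ Nat.card A) :
    Nat.card {x : G // orderOf x = d} * Nat.card (Subgroup.normalizer (T : Set G)) = Nat.card G * d.totient := by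
  rw [← h.card_orderOf_eq_odd hd]
  refine h.card_mul (· = d) (fun e he => ?_) fun x hx => ?_
  · obtain ⟨c, hc⟩ := h.odd_card.of_dvd_nat hd
    omega
  · obtain ⟨k, hk⟩ := h.exists_conj_mem_A (hx ▸ hd)
    exact ⟨k, h.le hk⟩

end IsTor

end Cfsg.Lib.Known.Ree
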