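/-
Small Ree groups: the tori of orders `q - 1` and `q + 1`.
-/
import Cfsg.Agent.Known.ReeTor
import Cfsg.Agent.Known.SL2Orders
import Cfsg.Agent.S0208
import Cfsg.Agent.S0209

set_option autoImplicit false

namespace Cfsg.Lib.Known.Ree

open Cfsg.Lib.Known.GL2

/-- The elements of odd order of an abelian subgroup. -/
def oddPart {G : Type*} [Group G] (T : Subgroup G) (hT : ∀ a ∈ T, ∀ b ∈ T, a * b = b * a) : Subgroup G where
  carrier := {a | a ∈ T ∧ Odd (orderOf a)}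
  one_mem' := ⟨T.one_mem, by simp⟩
  mul_mem' := fun {a b} ha hb => ⟨T.mul_mem ha.1 hb.1,
    (ha.2.mul hb.2).of_dvd_nat (Commute.orderOf_mul_dvd_mul_orderOf (hT a ha.1 b hb.1))⟩
  inv_mem' := fun ha => ⟨T.inv_mem ha.1, by simpa using ha.2⟩

theorem card_eq_of_odd {G : Type*} [Group G] [Finite G] {A C : Subgroup G} (hC : IsCyclic C) {k : ℕ} (hk : Odd k)
    (h : Nat.card C = 2 * k) (hA : ∀ a, a ∈ A ↔ a ∈ C ∧ Odd (orderOf a)) : Nat.card A = k := by
  let _ : CommGroup C := IsCyclic.commGroup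
  rw [← card_odd_order hk h]
  exact Nat.card_congr ⟨fun a => ⟨⟨a, ((hA a).1 a.2).1⟩, by simpa using ((hA a).1 a.2).2⟩,
    fun a => ⟨a.1, (hA _).2 ⟨a.1.2, by simpa using a.2⟩⟩, fun _ => rfl, fun _ => rfl⟩

theorem coprime_index {G : Type*} [Group G] [Finite G] {A : Subgroup G} {n : ℕ} (h : Nat.card G = Nat.card A * n)
    (hc : (Nat.card A).Coprime n) : (Nat.card A).Coprime A.index := by
  rwa [Nat.eq_of_mul_eq_mul_left Nat.card_pos (A.card_mul_index.trans h)]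

theorem commute_of_pow_three {G : Type*} [Group G] {g v : G} (h3 : ¬ 3 ∣ orderOf g) (h : Commute (g ^ 3) v) :
    Commute g v := by
  obtain ⟨n, hn⟩ := exists_pow_eq_self_of_coprime (x := g) ((Nat.prime_three.coprime_iff_not_dvd).2 h3)
  exact hn ▸ h.pow_left n

section Arith

variable {q : ℕ} (h8 : q % 8 = 3) (h3 : 3 ∣ q)

include h8 in
theorem arith_card : q ^ 3 * (q - 1) * (q ^ 3 + 1) = q ^ 3 * 8 * ((q - 1) / 2) * ((q + 1) / 4) * (q ^ 2 - q + 1) := by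
  obtain ⟨k, rfl⟩ : ∃ k, q = 8 * k + 3 := ⟨q / 8, by omega⟩
  rw [show (8 * k + 3 - 1) / 2 = 4 * k + 1 by omega, show (8 * k + 3 + 1) / 4 = 2 * k + 1 by omega,
    show (8 * k + 3) ^ 2 - (8 * k + 3) = 64 * k ^ 2 + 40 * k + 6 from Nat.sub_eq_of_eq_add (by ring),
    show 8 * k + 3 - 1 = 8 * k + 2 from rfl]
  ring

theorem coprime_N_sub_one : (q ^ 2 - q + 1).Coprime (q * (q - 1)) := by
  rw [Nat.mul_sub_one, ← sq]
  simp

include h8 h3 in
theorem coprime_N_add_one : (q ^ 2 - q + 1).Coprime (q + 1) := by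
  obtain ⟨k, rfl⟩ : ∃ k, q = k + 2 := ⟨q - 2, by omega⟩
  rw [show (k + 2) ^ 2 - (k + 2) + 1 = 3 + (k + 2 + 1) * k from by
    rw [show (k + 2) ^ 2 - (k + 2) = k ^ 2 + 3 * k + 2 from Nat.sub_eq_of_eq_add (by ring)]; ring,
    Nat.coprime_add_mul_left_left, Nat.prime_three.coprime_iff_not_dvd]
  omega

include h8 in
theorem coprime_k0 : ((q - 1) / 2).Coprime (q * (q + 1)) := by
  obtain ⟨k, rfl⟩ : ∃ k, q = 8 * k + 3 := ⟨q / 8, by omega⟩
  rw [show (8 * k + 3 - 1) / 2 = 4 * k + 1 by omega, show (8 * k + 3) * (8 * k + 3 + 1) =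
    2 + (4 * k + 1) * (16 * k + 10) by ring, Nat.coprime_add_mul_left_right, Nat.coprime_two_right]
  exact ⟨2 * k, by ring⟩

include h8 in
theorem coprime_k1 : ((q + 1) / 4).Coprime (q * (q - 1)) := by
  obtain ⟨k, rfl⟩ : ∃ k, q = 8 * k + 3 := ⟨q / 8, by omega⟩
  rw [show (8 * k + 3 + 1) / 4 = 2 * k + 1 by omega, show 8 * k + 3 - 1 = 8 * k + 2 from rfl,
    show (8 * k + 3) * (8 * k + 2) = 2 + (2 * k + 1) * (32 * k + 4) by ring, Nat.coprime_add_mul_left_right,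
    Nat.coprime_two_right]
  exact ⟨k, rfl⟩

end Arith

namespace ReeModel

variable {K : Type*} [Field K] [Fintype K] {τ : RTw K} {m : ℕ} {G : Type*} [Group G] (M : ReeModel τ m G)

include M in
theorem card_G' : Nat.card G = Fintype.card K ^ 3 * 8 * ((Fintype.card K - 1) / 2) * ((Fintype.card K + 1) / 4) *
    (Fintype.card K ^ 2 - Fintype.card K + 1) := by
  rw [M.card_G, arith_card M.fin.mod_eight]

/-! ### The split torus -/

theorem H_comm : ∀ a ∈ M.H, ∀ b ∈ M.H, a * b = b * a := by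
  rintro _ ⟨l, rfl⟩ _ ⟨k, rfl⟩
  exact M.h_comm l k

/-- The odd part of `H`. -/
def A₀ : Subgroup G := oddPart M.H M.H_comm

theorem card_A₀ : Nat.card M.A₀ = (Fintype.card K - 1) / 2 := by
  have := M.finite
  have := M.fin.mod_eight
  exact card_eq_of_odd M.isCyclic_H ⟨(Fintype.card K - 3) / 4, by omega⟩ (by rw [card_H]; omega) fun _ => Iff.rfl

theorem isTor_H : IsTor M.H M.A₀ where
  comm := M.H_comm
  cent := by
    rintro _ ⟨l, rfl⟩ h
    exact M.centralizer_h (by rintro rfl; simp at h) (by rintro rfl; exact h M.t_mul_t)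
  mem_A _ := Iff.rfl
  cyc := by
    have := M.isCyclic_H
    exact Subgroup.isCyclic_of_le (H' := M.H) fun _ h => h.1
  hall := by
    have := M.finite
    have h8 := M.fin.mod_eight
    refine coprime_index (n := Fintype.card K ^ 3 * 8 * ((Fintype.card K + 1) / 4) *
      (Fintype.card K ^ 2 - Fintype.card K + 1)) (by rw [card_A₀, M.card_G']; ring) ?_
    rw [card_A₀]
    have h1 := coprime_k0 h8
    refine (((h1.coprime_mul_right_right.pow_right 3).mul_right ?_).mul_right ?_).mul_right ?_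
    · exact (h1.coprime_dvd_right (Dvd.dvd.mul_left (show 2 ∣ _ by omega) _)).pow_right 3
    · exact h1.coprime_dvd_right (Dvd.dvd.mul_left (Nat.div_dvd_of_dvd (by omega)) _)
    · exact (coprime_N_sub_one.coprime_dvd_right (Dvd.dvd.mul_left (Nat.div_dvd_of_dvd (by omega)) _)).symm

theorem card_normalizer_H (hm : 1 ≤ m) :
    Nat.card (Subgroup.normalizer (M.H : Set G)) = 2 * (Fintype.card K - 1) := by
  obtain ⟨l, h1, h2⟩ := M.fin.exists_unit hm
  have h3 : M.h l * M.h l ≠ 1 := fun h => M.h_inv_ne h1 h2 (inv_eq_of_mul_eq_one_right h)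
  rw [card_eq_ncard_mul _ (M.h l), M.centralizer_h h1 h2, inf_eq_right.2 Subgroup.le_normalizer, card_H]
  congr 1
  refine Set.ncard_eq_two.2 ⟨M.h l, (M.h l)⁻¹, (M.h_inv_ne h1 h2).symm, ?_⟩
  ext y
  constructor
  · rintro ⟨n, hn, rfl⟩
    rcases M.mem_H_or_of_conj h1 h2 (g := n⁻¹)
      (by simpa using (Subgroup.mem_normalizer_iff.1 hn _).1 (M.h_mem_H l)) with h | h
    · exact Or.inl (by simpa using M.conj_h_of_mem_H h l)
    · exact Or.inr (by simpa using M.conj_h_of_mul_w_mem h l)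
  · rintro (rfl | rfl)
    · exact ⟨1, Subgroup.one_mem _, by simp⟩
    · exact ⟨M.w, M.isTor_H.mem_normalizer (M.h_mem_H l) h3 (M.w_conj_h l ▸ M.H.inv_mem (M.h_mem_H l)),
        M.w_conj_h l⟩

/-! ### The torus of order `q + 1` -/

variable (K) in
/-- The non-split torus of `SL₂(K)`. -/
abbrev C₁ : Subgroup (SL2 K) := Subgroup.centralizer {(slLin K).w}

include τ in
theorem isTorus_C₁ : (slLin K).IsTorus (C₁ K) := (slLin K).isTorus_centralizer τ.isEll_w.disc_ne_zero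

/-- The torus of order `q + 1`. -/
def T₁ : Subgroup G := M.tl (C₁ K)

theorem card_T₁ : Nat.card M.T₁ = Fintype.card K + 1 := by
  rw [T₁, M.card_tl (isTorus_C₁ (τ := τ)).Z_le, card_centralizer_ell_SL τ.isEll_w]

theorem t_mem_T₁ : M.t ∈ M.T₁ := M.t_mem_tl _

theorem w_mem_T₁ : M.w ∈ M.T₁ := M.φ_w ▸ M.φ_mem_tl (Subgroup.mem_centralizer_singleton_iff.2 rfl)

theorem T₁_comm : ∀ a ∈ M.T₁, ∀ b ∈ M.T₁, a * b = b * a := by
  have h : ∀ y ∈ C₁ K, ∀ z ∈ C₁ K, Commute (M.φ y) (M.φ z) := fun y hy z hz =>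
    Commute.map ((isTorus_C₁ (τ := τ)).comm y hy z hz) M.φ
  rintro _ ⟨y, hy, rfl | rfl⟩ _ ⟨z, hz, rfl | rfl⟩
  · exact h y hy z hz
  · exact (M.commute_t_φ y).symm.mul_right (h y hy z hz)
  · exact (M.commute_t_φ z).mul_left (h y hy z hz)
  · exact ((Commute.refl _).mul_right (M.commute_t_φ z)).mul_left ((M.commute_t_φ y).symm.mul_right (h y hy z hz))

theorem exists_φ_of_odd {S : Subgroup (SL2 K)} {a : G} (ha : a ∈ M.tl S) (h : Odd (orderOf a)) :
    ∃ y ∈ S, a = M.φ y := by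
  obtain ⟨y, hy, rfl | rfl⟩ := ha
  · exact ⟨y, hy, rfl⟩
  · obtain ⟨k, hk⟩ := h
    have h1 := pow_orderOf_eq_one (M.t * M.φ y)
    rw [hk, (M.commute_t_φ y).mul_pow, pow_succ M.t, pow_mul, sq, t_mul_t, one_pow, one_mul, ← map_pow] at h1
    exact absurd (by rw [h1, map_one]) (M.φ_ne_t_mul 1 (y ^ (2 * k + 1)))

theorem φ_mul_self_iff {y : SL2 K} : M.φ y * M.φ y = 1 ↔ y ∈ (slLin K).Z ∨ ((slLin K).ρ y).trace = 0 := by
  rw [← map_mul, φ_eq_one_iff, mem_Z_SL, mul_self_eq_one_iff_SL τ.two_ne_zero, mul_self_eq_neg_one_iff_SL]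

theorem mem_tl_of_commute {y : SL2 K} (hy : M.φ y * M.φ y ≠ 1) {g : G} (h1 : Commute g M.t)
    (h2 : Commute g (M.φ y)) : g ∈ M.tl (Subgroup.centralizer {y}) := by
  have key : ∀ z, Commute (M.φ z) (M.φ y) → z ∈ Subgroup.centralizer {y} := fun z hz => by
    rcases M.commute_φ_iff.1 hz with h | h
    · exact Subgroup.mem_centralizer_singleton_iff.2 h
    · have h3 := (slLin K).trace_eq_of_isConj (isConj_iff.2 ⟨z, show z * y * z⁻¹ = -y by
        rw [mul_inv_eq_iff_eq_mul, h, neg_mul]⟩)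
      rw [ρ_neg_SL, Matrix.trace_neg] at h3
      exact absurd (M.φ_mul_self_iff.2 (Or.inr (τ.eq_zero_of_neg_eq h3.symm))) hy
  obtain ⟨z, rfl | rfl⟩ := M.exists_of_commute_t h1
  · exact ⟨z, key z h2, Or.inl rfl⟩
  · exact ⟨z, key z (by simpa [← mul_assoc] using (M.commute_t_φ y).mul_left h2), Or.inr rfl⟩

theorem cases_of_mem_T₁ {g : G} (hg : g ∈ M.T₁) (h : g * g = 1) : g = 1 ∨ g = M.t ∨ g = M.w ∨ g = M.t * M.w := by
  have key : ∀ y ∈ C₁ K, M.φ y * M.φ y = 1 → M.φ y = 1 ∨ M.φ y = M.w := fun y hy h => by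
    rcases M.φ_mul_self_iff.1 h with h | h
    · exact Or.inl (M.φ_eq_one_iff.2 h)
    · rcases (isTorus_C₁ (τ := τ)).eq_or_eq_bar (Subgroup.mem_centralizer_singleton_iff.2 rfl) τ.isEll_w.not_isScal hy
        (isConj_of_trace_SL (by
          rw [trace_w_SL]
          intro h4
          exact τ.two_ne_zero (pow_eq_zero_iff (n := 2) (by norm_num) |>.1 (by linear_combination -h4)))
          (by rw [h, trace_w_SL])) with rfl | rfl
      · exact Or.inr M.φ_w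
      · exact Or.inr (by rw [bar_SL, map_inv, φ_w, w_inv])
  obtain ⟨y, hy, rfl | rfl⟩ := hg
  · rcases key y hy h with h | h <;> simp [h]
  · rcases key y hy (by
      rwa [← mul_assoc, t_conj_φ] at h) with h | h <;> simp [h]

/-- The odd part of `T₁`. -/
def A₁ : Subgroup G := oddPart M.T₁ M.T₁_comm

theorem isCyclic_map_C₁ : IsCyclic ((C₁ K).map M.φ) := by
  have := (slLin K).isCyclic_centralizer_ell τ.isEll_w
  exact isCyclic_of_surjective _ (M.φ.subgroupMap_surjective (C₁ K))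

theorem card_map_C₁ : Nat.card ((C₁ K).map M.φ) = (Fintype.card K + 1) / 2 := by
  have h2 : M.φ.ker = (slLin K).Z := by ext; exact M.φ_eq_one_iff
  have h3 := Subgroup.card_eq_card_quotient_mul_card_subgroup (M.φ.domRestrict (C₁ K)).ker
  rw [Nat.card_congr (QuotientGroup.quotientKerEquivRange (M.φ.domRestrict (C₁ K))).toEquiv,
    MonoidHom.domRestrict_range, MonoidHom.ker_domRestrict, h2,
    Nat.card_congr (Subgroup.subgroupOfEquivOfLe (isTorus_C₁ (τ := τ)).Z_le).toEquiv,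
    card_Z_SL τ.two_ne_zero, card_centralizer_ell_SL τ.isEll_w] at h3
  omega

theorem mem_A₁_iff (a : G) : a ∈ M.A₁ ↔ a ∈ (C₁ K).map M.φ ∧ Odd (orderOf a) :=
  ⟨fun h => ⟨by obtain ⟨y, hy, rfl⟩ := M.exists_φ_of_odd h.1 h.2; exact ⟨y, hy, rfl⟩, h.2⟩,
    fun ⟨⟨_, hy, e⟩, h⟩ => ⟨e ▸ M.φ_mem_tl hy, h⟩⟩

theorem card_A₁ : Nat.card M.A₁ = (Fintype.card K + 1) / 4 := by
  have := M.finite
  have := M.fin.mod_eight
  exact card_eq_of_odd M.isCyclic_map_C₁ ⟨(Fintype.card K - 3) / 8, by omega⟩ (by rw [card_map_C₁]; omega)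
    M.mem_A₁_iff

theorem exists_conj_pair {v a : G} (hv : orderOf v = 2) (ha : Odd (orderOf a)) (h1 : a ≠ 1)
    (hd : orderOf a ∣ Fintype.card K + 1) (h : Commute a v) :
    ∃ n : G, ∃ c ∈ C₁ K, n * M.t * n⁻¹ = v ∧ n * M.φ c * n⁻¹ = a := by
  obtain ⟨k, rfl⟩ := isConj_iff.1 (M.isConj_t hv)
  obtain ⟨y, -, hy⟩ := M.exists_φ_of_odd (S := ⊤) (a := k⁻¹ * a * k) (M.centralizer_t ▸
    Subgroup.mem_centralizer_singleton_iff.2 (by
      calc k⁻¹ * a * k * M.t = k⁻¹ * (a * (k * M.t * k⁻¹)) * k := by group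
        _ = _ := by rw [h.eq]; group)) (by rwa [orderOf_conj'])
  have h2 : orderOf (M.φ y) = orderOf a := by rw [← hy, orderOf_conj']
  have h3 := M.fin.three_dvd
  have := τ.charP
  have h4 : IsEll ((slLin K).ρ y) := isEll_of_orderOf_SL 3 (fun h4 => by
      have h5 : (y ^ orderOf a) ^ 2 = 1 := by
        rw [sq]; exact mul_self_of_mem_Z_SL (M.φ_eq_one_iff.1 (by rw [map_pow, ← h2, pow_orderOf_eq_one]))
      rw [← pow_mul] at h5
      have := (h4.trans (orderOf_dvd_of_pow_eq_one h5)).trans (Nat.mul_dvd_mul_right hd 2)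
      omega) fun h4 => h1 (by
      have h5 := (h2 ▸ orderOf_map_dvd M.φ y).trans h4
      have h6 : orderOf a ∣ 2 := by
        have := (Nat.dvd_sub_iff_right (show Fintype.card K - 1 ≤ Fintype.card K + 1 by omega) hd).2 h5
        rwa [show Fintype.card K + 1 - (Fintype.card K - 1) = 2 by have := Fintype.card_pos (α := K); omega] at this
      exact orderOf_eq_one_iff.1 (ha.coprime_two_right.eq_one_of_dvd h6))
  obtain ⟨c, hc, hcy⟩ := (slLin K).exists_isConj_mem_centralizer τ.isEll_w h4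
  obtain ⟨z, rfl⟩ := isConj_iff.1 hcy
  refine ⟨k * M.φ z, c, hc, ?_, ?_⟩
  · rw [mul_assoc k, ← (M.commute_t_φ z).eq]; group
  · rw [map_mul, map_mul, map_inv] at hy
    calc k * M.φ z * M.φ c * (k * M.φ z)⁻¹ = k * (M.φ z * M.φ c * (M.φ z)⁻¹) * k⁻¹ := by group
      _ = a := by rw [← hy]; group

theorem mem_T₁_of_commute {v a : G} (hv : v ∈ M.T₁) (hv2 : orderOf v = 2) (ha : a ∈ M.A₁) (h1 : a ≠ 1) {g : G}
    (h2 : Commute g v) (h3 : Commute g a) : g ∈ M.T₁ := by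
  have := M.finite
  obtain ⟨n, c, hc, e1, e2⟩ := M.exists_conj_pair hv2 ha.2 h1 (M.card_T₁ ▸ M.T₁.orderOf_dvd_natCard ha.1)
    (M.T₁_comm a ha.1 v hv)
  have h4 : M.φ c * M.φ c ≠ 1 := mul_self_ne_one_of_odd (by rw [← orderOf_conj _ n, e2]; exact ha.2)
    fun e => h1 (by rw [← e2, e]; simp)
  have key : ∀ g, Commute g v → Commute g a → g ∈ M.T₁.map (MulAut.conj n).toMonoidHom := fun g h2 h3 => by
    refine ⟨n⁻¹ * g * n, ?_, by simp [mul_assoc]⟩
    have := M.mem_tl_of_commute h4 (g := n⁻¹ * g * n) (by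
      calc n⁻¹ * g * n * M.t = n⁻¹ * (g * (n * M.t * n⁻¹)) * n := by group
        _ = n⁻¹ * (n * M.t * n⁻¹ * g) * n := by rw [e1, h2.eq]
        _ = _ := by group) (by
      calc n⁻¹ * g * n * M.φ c = n⁻¹ * (g * (n * M.φ c * n⁻¹)) * n := by group
        _ = n⁻¹ * (n * M.φ c * n⁻¹ * g) * n := by rw [e2, h3.eq]
        _ = _ := by group)
    rwa [(isTorus_C₁ (τ := τ)).cent c hc fun e => h4 (M.φ_mul_self_iff.2 (Or.inl e))] at this
  have h5 : M.T₁ = M.T₁.map (MulAut.conj n).toMonoidHom := Subgroup.eq_of_le_of_card_ge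
    (fun g hg => key g (M.T₁_comm g hg v hv) (M.T₁_comm g hg a ha.1)) (card_map_equiv _ _).le
  exact h5 ▸ key g h2 h3

include M in
theorem not_three_dvd_of_commute {a g : G} (ha : (orderOf a).Coprime 6) (h1 : a ≠ 1) (h : Commute g a) :
    ¬ 3 ∣ orderOf g := fun h3 => by
  have := M.finite
  have h4 : orderOf (g ^ (orderOf g / 3)) = 3 := orderOf_pow_orderOf_div (orderOf_pos g).ne' h3
  have h5 := (h.pow_left (orderOf g / 3)).orderOf_mul_eq_mul_orderOf_of_coprime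
    (by rw [h4]; exact (ha.coprime_dvd_right (by norm_num)).symm)
  have h6 := M.orderOf_cases_of_three_dvd (g := g ^ (orderOf g / 3) * a) (by rw [h5, h4]; simp)
  rw [h5, h4] at h6
  have h7 : orderOf a ≠ 1 := fun e => h1 (orderOf_eq_one_iff.1 e)
  rcases h6 with h6 | h6 | h6
  · omega
  · rw [show orderOf a = 2 by omega] at ha; norm_num at ha
  · rw [show orderOf a = 3 by omega] at ha; norm_num at ha

theorem coprime_six_of_mem_A₁ {a : G} (ha : a ∈ M.A₁) : (orderOf a).Coprime 6 := by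
  have h1 := M.card_T₁ ▸ M.T₁.orderOf_dvd_natCard ha.1
  have h3 := M.fin.three_dvd
  refine Nat.Coprime.mul_right (m := 2) (n := 3) ha.2.coprime_two_right
    (Nat.prime_three.coprime_iff_not_dvd.2 fun h => ?_).symm
  have := h.trans h1
  omega

theorem eq_of_conj_of_commute {a : G} (ha : a ∈ M.A₁) (h1 : a ≠ 1) {g v : G} (hg : Commute g a) (hv : v ∈ M.T₁)
    (hv2 : orderOf v = 2) (h : g * v * g⁻¹ ∈ M.T₁) : Commute g v := by
  have := M.finite
  have hN : ∀ y ∈ M.T₁, g * y * g⁻¹ ∈ M.T₁ := fun y hy => M.mem_T₁_of_commute h (by rwa [orderOf_conj]) ha h1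
    (Commute.map (M.T₁_comm y hy v hv) (MulAut.conj g)) (by
      have := Commute.map (M.T₁_comm y hy a ha.1) (MulAut.conj g)
      rwa [MulAut.conj_apply, MulAut.conj_apply, hg.eq, mul_inv_cancel_right] at this)
  have hfix : ∀ y ∈ M.T₁, orderOf y = 2 → g * y * g⁻¹ = y → Commute g v := fun y hy hy2 e =>
    M.T₁_comm g (M.mem_T₁_of_commute hy hy2 ha h1 (mul_inv_eq_iff_eq_mul.1 e) hg) v hv
  have hc : ∀ y ∈ M.T₁, orderOf y = 2 → g * y * g⁻¹ = M.t ∨ g * y * g⁻¹ = M.w ∨ g * y * g⁻¹ = M.t * M.w :=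
    fun y hy hy2 => (M.cases_of_mem_T₁ (hN y hy) (by
      rw [conj_mul, ← sq, ← hy2, pow_orderOf_eq_one]; simp)).resolve_left (by
      rw [conj_eq_one_iff]; rintro rfl; simp at hy2)
  have htw : M.t * M.w ∈ M.T₁ := M.T₁.mul_mem M.t_mem_T₁ M.w_mem_T₁
  have h3 : ∀ y z u, g * y * g⁻¹ = z → g * z * g⁻¹ = u → g * u * g⁻¹ = y → g * y * g⁻¹ = y :=
    fun y z u e1 e2 e3 => mul_inv_eq_iff_eq_mul.2 (commute_of_pow_three (M.not_three_dvd_of_commute
      (M.coprime_six_of_mem_A₁ ha) h1 hg) (mul_inv_eq_iff_eq_mul.1 (by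
        calc g ^ 3 * y * (g ^ 3)⁻¹ = g * (g * (g * y * g⁻¹) * g⁻¹) * g⁻¹ := by
              simp only [pow_succ, pow_zero, one_mul, mul_inv_rev, mul_assoc]
          _ = y := by rw [e1, e2, e3])))
  have e0 : g * (M.t * M.w) * g⁻¹ = g * M.t * g⁻¹ * (g * M.w * g⁻¹) := (conj_mul).symm
  have hne : g * M.t * g⁻¹ ≠ g * M.w * g⁻¹ := by simpa using M.w_ne_t.symm
  rcases hc _ M.t_mem_T₁ M.orderOf_t with e1 | e1 | e1
  · exact hfix _ M.t_mem_T₁ M.orderOf_t e1
  · rcases hc _ M.w_mem_T₁ M.orderOf_w with e2 | e2 | e2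
    · exact hfix _ htw M.orderOf_tw (by rw [e0, e1, e2, t_mul_w])
    · exact hfix _ M.w_mem_T₁ M.orderOf_w e2
    · exact hfix _ M.t_mem_T₁ M.orderOf_t (h3 _ _ _ e1 e2 (by
        rw [e0, e1, e2, t_mul_w, w_mul_w_mul]))
  · rcases hc _ M.w_mem_T₁ M.orderOf_w with e2 | e2 | e2
    · exact hfix _ M.w_mem_T₁ M.orderOf_w (h3 _ _ _ e2 e1 (by
        rw [e0, e1, e2, t_mul_w, mul_assoc, t_mul_t, mul_one]))
    · exact hfix _ M.w_mem_T₁ M.orderOf_w e2
    · exact absurd (e1.trans e2.symm) hne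

theorem mem_T₁_of_commute_A₁ {a : G} (ha : a ∈ M.A₁) (h1 : a ≠ 1) {g : G} (hg : Commute g a) : g ∈ M.T₁ := by
  have := M.finite
  have hta : Commute M.t a := M.T₁_comm _ M.t_mem_T₁ a ha.1
  have hwa : Commute (g * M.w * g⁻¹) a := (hg.mul_left (M.T₁_comm _ M.w_mem_T₁ a ha.1)).mul_left hg.inv_left
  have hw2 : orderOf (g * M.w * g⁻¹) = 2 := by rw [orderOf_conj, orderOf_w]
  rcases Nat.even_or_odd (orderOf (M.t * (g * M.w * g⁻¹))) with h | h
  · obtain ⟨e1, e2, e3⟩ := Cfsg.Agent.S0209.result _ _ M.orderOf_t hw2 h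
    have h2 := M.mem_T₁_of_commute M.t_mem_T₁ M.orderOf_t ha h1 e2 ((hta.mul_left hwa).pow_left _)
    exact M.mem_T₁_of_commute M.w_mem_T₁ M.orderOf_w ha h1 (M.eq_of_conj_of_commute ha h1 hg M.w_mem_T₁ M.orderOf_w
      (M.mem_T₁_of_commute h2 e1 ha h1 e3.symm hwa)) hg
  · obtain ⟨d, hd, e⟩ := Cfsg.Agent.S0208.result _ _ M.orderOf_t hw2 h
    have hda : Commute d a := Subgroup.mem_centralizer_singleton_iff.1
      ((Subgroup.closure_le (Subgroup.centralizer {a})).2 (by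
        rintro _ (rfl | rfl)
        exacts [Subgroup.mem_centralizer_singleton_iff.2 hta, Subgroup.mem_centralizer_singleton_iff.2 hwa]) hd)
    have e1 : g⁻¹ * d * M.t * (g⁻¹ * d)⁻¹ = M.w := by
      calc g⁻¹ * d * M.t * (g⁻¹ * d)⁻¹ = g⁻¹ * (d * M.t * d⁻¹) * g := by group
        _ = M.w := by rw [e]; group
    have := M.eq_of_conj_of_commute ha h1 (hg.inv_left.mul_left hda) M.t_mem_T₁ M.orderOf_t (e1 ▸ M.w_mem_T₁)
    rw [this.eq, mul_inv_cancel_right] at e1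
    exact absurd e1.symm M.w_ne_t

include M in
theorem odd_orderOf_mul_self (a : G) : Odd (orderOf (a * a)) := by
  have := M.finite
  rw [← Nat.not_even_iff_odd, even_iff_two_dvd, ← sq, orderOf_pow]
  intro h
  apply M.not_four_dvd_orderOf a
  rcases Nat.even_or_odd (orderOf a) with ⟨k, hk⟩ | h'
  · rw [hk, ← two_mul, Nat.gcd_mul_right_left, Nat.mul_div_cancel_left _ two_pos] at h
    omega
  · rw [h'.coprime_two_right, Nat.div_one] at h
    exact absurd h h'.not_two_dvd_nat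

theorem isTor_T₁ : IsTor M.T₁ M.A₁ where
  comm := M.T₁_comm
  cent a ha h := le_antisymm
    (fun g hg => M.mem_T₁_of_commute_A₁ ⟨M.T₁.mul_mem ha ha, M.odd_orderOf_mul_self a⟩ h (by
      have : Commute g a := Subgroup.mem_centralizer_singleton_iff.1 hg
      exact this.mul_right this))
    fun g hg => Subgroup.mem_centralizer_singleton_iff.2 (M.T₁_comm g hg a ha)
  mem_A _ := Iff.rfl
  cyc := by
    have := M.isCyclic_map_C₁
    exact Subgroup.isCyclic_of_le (H' := (C₁ K).map M.φ) fun a h => ((M.mem_A₁_iff a).1 h).1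
  hall := by
    have := M.finite
    have h8 := M.fin.mod_eight
    refine coprime_index (n := Fintype.card K ^ 3 * 8 * ((Fintype.card K - 1) / 2) *
      (Fintype.card K ^ 2 - Fintype.card K + 1)) (by rw [card_A₁, M.card_G']; ring) ?_
    rw [card_A₁]
    have h1 := coprime_k1 h8
    refine (((h1.coprime_mul_right_right.pow_right 3).mul_right ?_).mul_right ?_).mul_right ?_
    · exact (h1.coprime_dvd_right (Dvd.dvd.mul_left (show 2 ∣ _ by omega) _)).pow_right 3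
    · exact h1.coprime_dvd_right (Dvd.dvd.mul_left (Nat.div_dvd_of_dvd (by omega)) _)
    · exact ((coprime_N_add_one h8 M.fin.three_dvd).coprime_dvd_right (Nat.div_dvd_of_dvd (by omega))).symm

theorem exists_mem_A₁ (hm : 1 ≤ m) : ∃ a ∈ M.A₁, a ≠ 1 := by
  have h1 : M.A₁ ≠ ⊥ := fun h => by
    have h2 := M.card_A₁
    have := M.fin.le_card hm
    rw [h, Subgroup.card_bot] at h2
    omega
  obtain ⟨a, ha⟩ := Subgroup.ne_bot_iff_exists_ne_one.1 h1
  exact ⟨a, a.2, fun e => ha (Subtype.ext e)⟩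

theorem exists_conj_t_eq (hm : 1 ≤ m) {v : G} (hv : v ∈ M.T₁) (hv2 : orderOf v = 2) :
    ∃ n ∈ Subgroup.normalizer (M.T₁ : Set G), n * M.t * n⁻¹ = v := by
  obtain ⟨a, ha, h1⟩ := M.exists_mem_A₁ hm
  obtain ⟨n, c, hc, e1, e2⟩ := M.exists_conj_pair hv2 ha.2 h1 (M.card_T₁ ▸ M.T₁.orderOf_dvd_natCard ha.1)
    (M.T₁_comm a ha.1 v hv)
  exact ⟨n, M.isTor_T₁.mem_normalizer (M.φ_mem_tl hc) (mul_self_ne_one_of_odd
    (by rw [← orderOf_conj _ n, e2]; exact ha.2) fun e => h1 (by rw [← e2, e]; simp)) (e2 ▸ ha.1), e1⟩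

theorem conj_φ_of_eq {g : G} {z : SL2 K} (h : g = M.φ z ∨ g = M.t * M.φ z) (y : SL2 K) :
    g * M.φ y * g⁻¹ = M.φ (z * y * z⁻¹) := by
  rcases h with rfl | rfl
  · simp
  · rw [← (M.t_conj_φ (z * y * z⁻¹)), map_mul, map_mul, map_inv, mul_inv_rev, t_inv]; group

theorem normalizer_T₁_inf : Subgroup.normalizer (M.T₁ : Set G) ⊓ Subgroup.centralizer {M.t} =
    M.tl (Subgroup.normalizer (C₁ K : Set (SL2 K))) := by
  have := M.finite
  apply le_antisymm
  · rintro g ⟨h1, h2⟩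
    obtain ⟨z, hz⟩ := M.exists_of_commute_t (Subgroup.mem_centralizer_singleton_iff.1 h2)
    refine ⟨z, Subgroup.mem_normalizer_iff.2 fun y => ?_, hz⟩
    rw [← M.φ_mem_tl_iff (isTorus_C₁ (τ := τ)).Z_le, ← M.φ_mem_tl_iff (isTorus_C₁ (τ := τ)).Z_le,
      ← M.conj_φ_of_eq hz]
    exact Subgroup.mem_normalizer_iff.1 h1 _
  · rintro g ⟨z, hz, h⟩
    have h1 : Commute g M.t := M.commute_t_of_mem_tl ⟨z, hz, h⟩
    refine ⟨Subgroup.mem_normalizer_fintype ?_, Subgroup.mem_centralizer_singleton_iff.2 h1⟩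
    rintro _ ⟨y, hy, rfl | rfl⟩
    · exact M.conj_φ_of_eq h y ▸ M.φ_mem_tl ((Subgroup.mem_normalizer_iff.1 hz y).1 hy)
    · rw [← conj_mul, h1.eq, mul_inv_cancel_right, M.conj_φ_of_eq h]
      exact M.T₁.mul_mem M.t_mem_T₁ (M.φ_mem_tl ((Subgroup.mem_normalizer_iff.1 hz y).1 hy))

theorem card_normalizer_T₁ (hm : 1 ≤ m) :
    Nat.card (Subgroup.normalizer (M.T₁ : Set G)) = 6 * (Fintype.card K + 1) := by
  have h1 : {y | ∃ n ∈ Subgroup.normalizer (M.T₁ : Set G), n * M.t * n⁻¹ = y} = {M.t, M.w, M.t * M.w} := by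
    ext y
    constructor
    · rintro ⟨n, hn, rfl⟩
      exact (M.cases_of_mem_T₁ ((Subgroup.mem_normalizer_iff.1 hn _).1 M.t_mem_T₁)
        (by rw [conj_mul, t_mul_t]; simp)).resolve_left (by simpa [conj_eq_one_iff] using M.t_ne_one)
    · rintro (rfl | rfl | rfl)
      exacts [M.exists_conj_t_eq hm M.t_mem_T₁ M.orderOf_t, M.exists_conj_t_eq hm M.w_mem_T₁ M.orderOf_w,
        M.exists_conj_t_eq hm (M.T₁.mul_mem M.t_mem_T₁ M.w_mem_T₁) M.orderOf_tw]
  rw [card_eq_ncard_mul _ M.t, h1, normalizer_T₁_inf, M.card_tl ((isTorus_C₁ (τ := τ)).Z_le.trans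
    Subgroup.le_normalizer), (isTorus_C₁ (τ := τ)).card_normalizer
    ⟨_, Subgroup.mem_centralizer_singleton_iff.2 rfl, τ.isEll_w.not_isScal⟩, card_centralizer_ell_SL τ.isEll_w,
    Set.ncard_eq_three.2 ⟨_, _, _, M.w_ne_t.symm, by simpa using M.w_ne_one, by simpa using M.t_ne_one, rfl⟩]
  ring

end ReeModel

end Cfsg.Lib.Known.Ree
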