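/-
Small Ree groups: the numbers of elements of orders 2, 3, 6, 9 and of the elements conjugate into the tori of
orders `q - 1` and `q + 1`.
-/
import Cfsg.Agent.Known.ReeTori

set_option autoImplicit false

namespace Cfsg.Lib.Known.Ree

theorem indicator_sum {d : ℕ} {A B C : Prop} [Decidable A] [Decidable B] [Decidable C]
    (h : d = 1 ∨ d = 2 ∨ d = 3 ∨ d = 6 ∨ d = 9 ∨ (2 < d ∧ A) ∨ (2 < d ∧ B) ∨ (1 < d ∧ C))
    (e1 : 3 ∣ d → ¬ A) (e2 : 3 ∣ d → ¬ B) (e4 : A → B → ¬ 2 < d) (e5 : A ∨ B → C → d = 1)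
    (e6 : d = 2 ∨ d = 3 ∨ d = 6 ∨ d = 9 → ¬ C) :
    (if d = 1 then 1 else 0) + (if d = 2 then 1 else 0) + (if d = 3 then 1 else 0) + (if d = 6 then 1 else 0) +
      (if d = 9 then 1 else 0) + (if 2 < d ∧ A then 1 else 0) + (if 2 < d ∧ B then 1 else 0) +
      (if 1 < d ∧ C then 1 else 0) = 1 := by
  rcases h with rfl | rfl | rfl | rfl | rfl | ⟨h, h'⟩ | ⟨h, h'⟩ | ⟨h, h'⟩
  any_goals simp_all
  all_goals grind

theorem arith_pi {k a b c : ℕ}
    (h2 : 1 + (k + 3) ^ 2 * (k ^ 2 + 5 * k + 6 + 1) + (k ^ 2 + 6 * k + 8) * ((k + 3) ^ 3 + 1) +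
      (k + 3) ^ 2 * (k + 2) * ((k + 3) ^ 3 + 1) + (k + 3) ^ 2 * (k + 2) * ((k + 3) ^ 3 + 1) + b + c + a =
      (k + 3) ^ 3 * (k + 2) * ((k + 3) ^ 3 + 1))
    (h5 : b * (2 * (k + 2)) = (k + 3) ^ 3 * (k + 2) * ((k + 3) ^ 3 + 1) * k)
    (h6 : c * (6 * (k + 3 + 1)) = (k + 3) ^ 3 * (k + 2) * ((k + 3) ^ 3 + 1) * k) :
    3 * (a * (k ^ 2 + 5 * k + 6 + 1)) = (k + 3) ^ 3 * (k + 2) * ((k + 3) ^ 3 + 1) * ((k + 3) * (k + 1)) := by
  have h7 : 2 * b = (k + 3) ^ 3 * ((k + 3) ^ 3 + 1) * k :=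
    Nat.eq_of_mul_eq_mul_right (show 0 < k + 2 by omega) (by linear_combination h5)
  have h9 : 6 * c = (k + 3) ^ 3 * (k + 2) * (k ^ 2 + 5 * k + 7) * k :=
    Nat.eq_of_mul_eq_mul_right (show 0 < k + 4 by omega) (by linear_combination h6)
  have h10 : 2 * (3 * a) = 2 * ((k + 3) ^ 4 * ((k + 2) * (k + 4)) * (k + 1)) := by
    zify at h2 h7 h9 ⊢
    linear_combination 6 * h2 - 3 * h7 - h9
  rw [← mul_assoc, Nat.eq_of_mul_eq_mul_left two_pos h10]
  ring

namespace ReeModel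

variable {K : Type*} [Field K] [Fintype K] {τ : RTw K} {m : ℕ} {G : Type*} [Group G] (M : ReeModel τ m G)

include M in
theorem card_order_two : Nat.card {g : G // orderOf g = 2} =
    Fintype.card K ^ 2 * (Fintype.card K ^ 2 - Fintype.card K + 1) := by
  have h1 := card_eq_ncard_mul (⊤ : Subgroup G) M.t
  have h2 : {y | ∃ n ∈ (⊤ : Subgroup G), n * M.t * n⁻¹ = y} = {g : G | orderOf g = 2} := by
    ext y
    exact ⟨fun ⟨n, _, h⟩ => by rw [← h, Set.mem_ofPred_eq, orderOf_conj, orderOf_t],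
      fun h => by simpa using isConj_iff.1 (M.isConj_t h)⟩
  rw [h2, top_inf_eq, card_centralizer_t, Subgroup.card_top, M.card_G] at h1
  have h3 := M.fin.three_le
  refine Nat.eq_of_mul_eq_mul_right (Nat.mul_pos (Nat.mul_pos (by omega) (by omega)) (by omega)) (h1.symm.trans ?_)
  obtain ⟨k, hk⟩ : ∃ k, Fintype.card K = k + 1 := ⟨Fintype.card K - 1, by omega⟩
  rw [hk, show (k + 1) ^ 2 - (k + 1) = k ^ 2 + k from Nat.sub_eq_of_eq_add (by ring), Nat.add_sub_cancel]
  ring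

theorem mem_B_of_three_dvd {x k : G} (hx : x ∈ M.B) (h : 3 ∣ orderOf x) (hk : k * x * k⁻¹ ∈ M.B) : k ∈ M.B := by
  have := M.finite
  have h1 : orderOf (x ^ (orderOf x / 3)) = 3 := orderOf_pow_orderOf_div (orderOf_pos x).ne' h
  refine M.mem_B_of_conj' (M.mem_U_of_pow (k := 1) (M.B.pow_mem hx (orderOf x / 3))
    (by rw [pow_one]; exact orderOf_dvd_iff_pow_eq_one.1 h1.dvd)) (fun e => by simp [e] at h1) ?_
  rw [← conj_pow]
  exact M.B.pow_mem hk _

theorem card_order_eq_of_three_dvd {d : ℕ} (hd : 3 ∣ d) : Nat.card {g : G // orderOf g = d} =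
    Nat.card {g : M.B // orderOf g = d} * (Fintype.card K ^ 3 + 1) := by
  have := M.finite
  have h := card_mul_of_TI (T := M.B) (N := M.B) (· = d)
    (fun n hn x hx => M.B.mul_mem (M.B.mul_mem hn hx) (M.B.inv_mem hn))
    (fun x hx h k hk => M.mem_B_of_three_dvd hx (h ▸ hd) hk) fun x h => M.exists_conj_mem_B_of_three_dvd (h ▸ hd)
  rw [← M.B.card_mul_index, index_B] at h
  exact Nat.eq_of_mul_eq_mul_right (Nat.card_pos (α := M.B)) (h.trans (by ring))

theorem card_B_eq_card_U {d k : ℕ} (hd : d ∣ 3 ^ k) :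
    Nat.card {g : M.B // orderOf g = d} = Nat.card {g : M.U // orderOf g = d} :=
  Nat.card_congr ⟨fun x => ⟨⟨x.1, M.mem_U_of_pow (k := k) x.1.2 (orderOf_dvd_iff_pow_eq_one.1 (by
      rw [Subgroup.orderOf_coe, x.2]; exact hd))⟩, by simpa using x.2⟩,
    fun x => ⟨⟨x.1, M.U_le_B x.1.2⟩, by simpa using x.2⟩, fun _ => rfl, fun _ => rfl⟩

include M in
theorem card_order_three : Nat.card {g : G // orderOf g = 3} =
    (Fintype.card K ^ 2 - 1) * (Fintype.card K ^ 3 + 1) := by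
  rw [M.card_order_eq_of_three_dvd dvd_rfl, M.card_B_eq_card_U (k := 1) (by norm_num), card_order_three_U]

include M in
theorem card_order_nine : Nat.card {g : G // orderOf g = 9} =
    Fintype.card K ^ 2 * (Fintype.card K - 1) * (Fintype.card K ^ 3 + 1) := by
  rw [M.card_order_eq_of_three_dvd (by norm_num), M.card_B_eq_card_U (k := 2) (by norm_num)]
  congr 1
  have : Nat.card (Kˣ × K × K) = Nat.card {g : M.U // orderOf g = 9} := Nat.card_eq_of_bijective
    (fun p => ⟨⟨M.x p.1 p.2.1 p.2.2, M.x_mem_U _ _ _⟩, by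
      rw [← Subgroup.orderOf_coe]; exact M.orderOf_x p.1.ne_zero _ _⟩) ⟨fun p p' h => by
      have := M.x_inj.1 (congrArg (fun g => (g.1 : G)) h)
      exact Prod.ext (Units.ext this.1) (Prod.ext this.2.1 this.2.2), by
      rintro ⟨⟨_, a, b, c, rfl⟩, h⟩
      rw [← Subgroup.orderOf_coe, M.orderOf_U_eq_nine (M.x_mem_U _ _ _), x_mem_E_iff] at h
      exact ⟨(Units.mk0 a h, b, c), rfl⟩⟩
  rw [← this, Nat.card_prod, Nat.card_prod, Nat.card_units, Nat.card_eq_fintype_card]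
  ring

theorem orderOf_x_mul_t {a b c : K} : orderOf (M.x a b c * M.t) = 6 ↔ b - a * τ.σ a ≠ 0 := by
  obtain ⟨u, -, h⟩ := M.exists_conj_t a b c
  rw [← orderOf_conj' _ u, h]
  refine ⟨fun h1 h2 => ?_, M.orderOf_Q_mul_t⟩
  rw [h2, x_zero, one_mul, orderOf_t] at h1
  omega

include M in
theorem card_order_six : Nat.card {g : G // orderOf g = 6} =
    Fintype.card K ^ 2 * (Fintype.card K - 1) * (Fintype.card K ^ 3 + 1) := by
  rw [M.card_order_eq_of_three_dvd (by norm_num)]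
  congr 1
  have : Nat.card (K × Kˣ × K) = Nat.card {g : M.B // orderOf g = 6} := Nat.card_eq_of_bijective
    (fun p => ⟨⟨M.x p.1 (p.2.1 + p.1 * τ.σ p.1) p.2.2 * M.t, M.B.mul_mem (M.x_mem_B _ _ _) M.t_mem_B⟩, by
      rw [← Subgroup.orderOf_coe, orderOf_x_mul_t]; simp⟩) ⟨fun p p' h => by
      obtain ⟨h1, h2, h3⟩ := M.x_inj.1 (mul_right_cancel (congrArg (fun g => (g.1 : G)) h))
      rw [h1, add_left_inj] at h2
      exact Prod.ext h1 (Prod.ext (Units.ext h2) h3), by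
      rintro ⟨⟨_, a, b, c, l, rfl⟩, h⟩
      rw [← Subgroup.orderOf_coe] at h
      change orderOf (M.x a b c * M.h l) = 6 at h
      have h1 : l = -1 := by
        by_contra h2
        by_cases h1 : l = 1
        · have := orderOf_dvd_of_pow_eq_one (M.x_pow_nine a b c)
          rw [h1, map_one, mul_one] at h
          rw [h] at this
          omega
        · obtain ⟨u, -, e⟩ := M.exists_conj_h a b c h1 h2
          apply M.not_three_dvd_orderOf_h l
          rw [← e, orderOf_conj', h]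
          norm_num
      subst h1
      exact ⟨(a, Units.mk0 _ (M.orderOf_x_mul_t.1 h), c), Subtype.ext (Subtype.ext (by simp [t]))⟩⟩
  rw [← this, Nat.card_prod, Nat.card_prod, Nat.card_units, Nat.card_eq_fintype_card]
  ring

include M in
theorem exists_prime_of_two_lt {x : G} (h : 2 < orderOf x) : ∃ p, p.Prime ∧ p ≠ 2 ∧ p ∣ orderOf x := by
  obtain ⟨p, hp, h1⟩ := Nat.exists_prime_and_dvd (n := orderOf (x * x))
    (by have := M.finite; simpa using mul_self_ne_one_iff.2 h)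
  refine ⟨p, hp, ?_, h1.trans (by rw [← sq]; exact orderOf_pow_dvd 2)⟩
  rintro rfl
  exact (M.odd_orderOf_mul_self x).not_two_dvd_nat h1

theorem exists_conj_mem_H {x : G} (h : 2 < orderOf x) (hd : orderOf x ∣ Fintype.card K - 1) :
    ∃ k : G, k⁻¹ * x * k ∈ M.H := by
  have := M.finite
  have := M.fin.mod_eight
  obtain ⟨p, hp, h2, h3⟩ := M.exists_prime_of_two_lt h
  refine M.isTor_H.exists_conj_of_prime hp ?_ h3
  rw [card_A₀]
  exact ((Nat.coprime_primes hp Nat.prime_two).2 h2).dvd_of_dvd_mul_left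
    (by rw [Nat.mul_div_cancel' (by omega)]; exact h3.trans hd)

theorem exists_conj_mem_T₁ {x : G} (h : 2 < orderOf x) (hd : orderOf x ∣ Fintype.card K + 1) :
    ∃ k : G, k⁻¹ * x * k ∈ M.T₁ := by
  have := M.finite
  have := M.fin.mod_eight
  obtain ⟨p, hp, h2, h3⟩ := M.exists_prime_of_two_lt h
  refine M.isTor_T₁.exists_conj_of_prime hp ?_ h3
  rw [card_A₁]
  exact (((Nat.coprime_primes hp Nat.prime_two).2 h2).pow_right 2).dvd_of_dvd_mul_left
    (by rw [show 2 ^ 2 = 4 from rfl, Nat.mul_div_cancel' (by omega)]; exact h3.trans hd)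

theorem eq_one_or_eq_t {g : G} (hg : g ∈ M.H) (h : g * g = 1) : g = 1 ∨ g = M.t := by
  obtain ⟨l, rfl⟩ := hg
  rw [← map_mul, M.h_eq_one, Units.ext_iff, Units.val_mul, Units.val_one, mul_self_eq_one_iff] at h
  rcases h with h | h
  · exact Or.inl (M.h_eq_one.2 (Units.ext h))
  · exact Or.inr (by rw [show l = -1 from Units.ext h, t])

include M in
theorem card_split (hm : 1 ≤ m) :
    Nat.card {g : G // 2 < orderOf g ∧ orderOf g ∣ Fintype.card K - 1} * (2 * (Fintype.card K - 1)) =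
      Nat.card G * (Fintype.card K - 3) := by
  have := M.finite
  have h1 := M.isTor_H.card_mul (fun d => 2 < d ∧ d ∣ Fintype.card K - 1) (fun _ h => h.1)
    fun x h => M.exists_conj_mem_H h.1 h.2
  have h2 := card_two_lt_add M.H
  have h3 : {x | x ∈ M.H ∧ x * x = 1} = {1, M.t} := by
    ext x
    refine ⟨fun h => M.eq_one_or_eq_t h.1 h.2, ?_⟩
    rintro (rfl | rfl)
    exacts [⟨M.H.one_mem, by simp⟩, ⟨M.t_mem_H, M.t_mul_t⟩]
  rw [h3, Set.ncard_pair M.t_ne_one.symm, card_H] at h2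
  rw [M.card_normalizer_H hm] at h1
  rw [h1]
  congr 1
  omega

theorem ncard_invol_T₁ : {x | x ∈ M.T₁ ∧ x * x = 1}.ncard = 4 := by
  have h3 : {x | x ∈ M.T₁ ∧ x * x = 1} = {1, M.t, M.w, M.t * M.w} := by
    ext x
    refine ⟨fun h => M.cases_of_mem_T₁ h.1 h.2, ?_⟩
    rintro (rfl | rfl | rfl | rfl)
    exacts [⟨M.T₁.one_mem, by simp⟩, ⟨M.t_mem_T₁, M.t_mul_t⟩, ⟨M.w_mem_T₁, M.w_mul_w⟩,
      ⟨M.T₁.mul_mem M.t_mem_T₁ M.w_mem_T₁, M.tw_mul_tw⟩]
  rw [h3, Set.ncard_insert_of_notMem (by simp [M.t_ne_one.symm, M.w_ne_one.symm, M.tw_ne_one.symm]),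
    Set.ncard_eq_three.2 ⟨_, _, _, M.w_ne_t.symm, by simpa using M.w_ne_one, by simpa using M.t_ne_one, rfl⟩]

include M in
theorem card_nonsplit (hm : 1 ≤ m) :
    Nat.card {g : G // 2 < orderOf g ∧ orderOf g ∣ Fintype.card K + 1} * (6 * (Fintype.card K + 1)) =
      Nat.card G * (Fintype.card K - 3) := by
  have := M.finite
  have h1 := M.isTor_T₁.card_mul (fun d => 2 < d ∧ d ∣ Fintype.card K + 1) (fun _ h => h.1)
    fun x h => M.exists_conj_mem_T₁ h.1 h.2
  have h2 := card_two_lt_add M.T₁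
  rw [ncard_invol_T₁, card_T₁] at h2
  rw [M.card_normalizer_T₁ hm] at h1
  rw [h1]
  congr 1
  omega

include M in
theorem prime_cases {p : ℕ} (hp : p.Prime) (h : p ∣ Nat.card G) : p = 2 ∨ p = 3 ∨ p ∣ Nat.card M.A₀ ∨
    p ∣ Nat.card M.A₁ ∨ p ∣ Fintype.card K ^ 2 - Fintype.card K + 1 := by
  rw [M.card_G', hp.dvd_mul, hp.dvd_mul, hp.dvd_mul, hp.dvd_mul] at h
  rw [card_A₀, card_A₁]
  rcases h with (((h | h) | h) | h) | h
  · rw [M.fin.card, ← pow_mul] at h
    exact Or.inr (Or.inl ((Nat.prime_dvd_prime_iff_eq hp Nat.prime_three).1 (hp.dvd_of_dvd_pow h)))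
  · exact Or.inl ((Nat.prime_dvd_prime_iff_eq hp Nat.prime_two).1 (hp.dvd_of_dvd_pow (n := 3) h))
  all_goals simp [h]

include M in
theorem coprime_N : (Fintype.card K ^ 2 - Fintype.card K + 1).Coprime
    (Fintype.card K * (Fintype.card K - 1) * (Fintype.card K + 1)) :=
  coprime_N_sub_one.mul_right (coprime_N_add_one M.fin.mod_eight M.fin.three_dvd)

include M in
theorem coprime_N_six : (Fintype.card K ^ 2 - Fintype.card K + 1).Coprime 6 := by
  have := M.fin.mod_eight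
  exact coprime_N_sub_one.coprime_dvd_right (mul_dvd_mul M.fin.three_dvd (show 2 ∣ _ by omega))

include M in
theorem orderOf_dvd_N {g c : G} (hg : orderOf g ∣ Fintype.card K ^ 2 - Fintype.card K + 1) (h1 : g ≠ 1)
    (h : Commute c g) {r : ℕ} (hr : r.Prime) (hc : r ∣ orderOf c) : r ∣ Fintype.card K ^ 2 - Fintype.card K + 1 := by
  have := M.finite
  have h8 := M.fin.mod_eight
  have h2 : orderOf (c ^ (orderOf c / r)) = r := orderOf_pow_orderOf_div (orderOf_pos c).ne' hc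
  have h3 : Commute (c ^ (orderOf c / r)) g := h.pow_left _
  generalize c ^ (orderOf c / r) = d at h2 h3
  by_contra hN
  have h4 : ¬ orderOf g ∣ Fintype.card K * (Fintype.card K - 1) * (Fintype.card K + 1) := fun h4 =>
    h1 (orderOf_eq_one_iff.1 (Nat.eq_one_of_dvd_coprimes M.coprime_N hg h4))
  have h5 := h3.orderOf_mul_eq_mul_orderOf_of_coprime
    (by rw [h2]; exact (hr.coprime_iff_not_dvd.2 hN).coprime_dvd_right hg)
  have key : ∀ {T A : Subgroup G}, IsTor T A → r ∣ Nat.card A → orderOf g ∣ Nat.card T := fun hT hA =>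
    (Dvd.intro_left _ h5.symm).trans (hT.orderOf_dvd_of_prime hr hA (by rw [h5, h2]; simp))
  rcases M.prime_cases hr (hc.trans (orderOf_dvd_natCard c)) with rfl | rfl | h6 | h6 | h6
  · obtain ⟨k, hk⟩ := M.exists_conj_eq_t h2
    apply h4
    rw [← M.card_centralizer_t, ← orderOf_conj' g k]
    refine Subgroup.orderOf_dvd_natCard _ (Subgroup.mem_centralizer_singleton_iff.2 ?_)
    rw [← hk]
    calc k⁻¹ * g * k * (k⁻¹ * d * k) = k⁻¹ * (g * d) * k := by group
      _ = _ := by rw [← h3.eq]; group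
  · exact M.not_three_dvd_of_commute (M.coprime_N_six.coprime_dvd_left hg) h1 h3 h2.symm.dvd
  · exact h4 (Dvd.dvd.mul_right (Dvd.dvd.mul_left (M.card_H ▸ key M.isTor_H h6) _) _)
  · exact h4 (Dvd.dvd.mul_left (M.card_T₁ ▸ key M.isTor_T₁ h6) _)
  · exact hN h6

include M in
theorem card_centralizer_dvd_N {g : G} (hg : orderOf g ∣ Fintype.card K ^ 2 - Fintype.card K + 1) (h1 : g ≠ 1) :
    Nat.card (Subgroup.centralizer ({g} : Set G)) ∣ Fintype.card K ^ 2 - Fintype.card K + 1 := by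
  have := M.finite
  have h8 := M.fin.mod_eight
  have h2 := Subgroup.card_subgroup_dvd_card (Subgroup.centralizer ({g} : Set G))
  rw [M.card_G'] at h2
  refine Nat.Coprime.dvd_of_dvd_mul_left (Nat.Coprime.symm (Nat.coprime_of_dvd fun r hr h3 h4 => ?_)) h2
  have := Fact.mk hr
  obtain ⟨c, hc⟩ := exists_prime_orderOf_dvd_card' r h4
  have h5 := M.orderOf_dvd_N hg h1 (Subgroup.mem_centralizer_singleton_iff.1 c.2) hr
    (by rw [Subgroup.orderOf_coe, hc])
  have h6 : (Fintype.card K ^ 2 - Fintype.card K + 1).Coprime (Fintype.card K ^ 3 * 8 * ((Fintype.card K - 1) / 2) *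
      ((Fintype.card K + 1) / 4)) :=
    (((M.coprime_N.coprime_mul_right_right.coprime_mul_right_right.pow_right 3).mul_right
      ((M.coprime_N_six.coprime_dvd_right (by norm_num : 2 ∣ 6)).pow_right 3)).mul_right
      (coprime_N_sub_one.coprime_dvd_right (Dvd.dvd.mul_left (Nat.div_dvd_of_dvd (by omega)) _))).mul_right
      (M.coprime_N.coprime_dvd_right (Dvd.dvd.mul_left (Nat.div_dvd_of_dvd (by omega)) _))
  exact hr.one_lt.ne' (Nat.eq_one_of_dvd_coprimes h6 h5 h3)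

include M in
theorem orderOf_cases (x : G) : orderOf x = 1 ∨ orderOf x = 2 ∨ orderOf x = 3 ∨ orderOf x = 6 ∨ orderOf x = 9 ∨
    (2 < orderOf x ∧ orderOf x ∣ Fintype.card K - 1) ∨ (2 < orderOf x ∧ orderOf x ∣ Fintype.card K + 1) ∨
    (1 < orderOf x ∧ orderOf x ∣ Fintype.card K ^ 2 - Fintype.card K + 1) := by
  have := M.finite
  have h0 := orderOf_pos x
  by_cases h2 : 2 < orderOf x
  swap
  · omega
  by_cases h3 : 3 ∣ orderOf x
  · have := M.orderOf_cases_of_three_dvd h3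
    omega
  obtain ⟨p, hp, hp2, hpx⟩ := M.exists_prime_of_two_lt h2
  rcases M.prime_cases hp (hpx.trans (orderOf_dvd_natCard x)) with rfl | rfl | h | h | h
  · exact absurd rfl hp2
  · exact absurd hpx h3
  · simp [h2, M.card_H ▸ M.isTor_H.orderOf_dvd_of_prime hp h hpx]
  · simp [h2, M.card_T₁ ▸ M.isTor_T₁.orderOf_dvd_of_prime hp h hpx]
  · have h4 : orderOf (x ^ (orderOf x / p)) = p := orderOf_pow_orderOf_div h0.ne' hpx
    have h5 := (Subgroup.orderOf_dvd_natCard _ (Subgroup.mem_centralizer_singleton_iff.2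
      (Commute.pow_right (Commute.refl x) (orderOf x / p)))).trans (M.card_centralizer_dvd_N (by rwa [h4])
      fun e => hp.one_lt.ne' (by rw [← h4, e, orderOf_one]))
    simp [h5, show 1 < orderOf x by omega]

include M in
theorem card_pi (hm : 1 ≤ m) :
    3 * (Nat.card {g : G // 1 < orderOf g ∧ orderOf g ∣ Fintype.card K ^ 2 - Fintype.card K + 1} *
      (Fintype.card K ^ 2 - Fintype.card K + 1)) = Nat.card G * (Fintype.card K * (Fintype.card K - 2)) := by
  classical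
  have := M.finite
  have := Fintype.ofFinite G
  have h8 := M.fin.mod_eight
  have h3 := M.fin.three_dvd
  have h1 : ∀ x : G, (if orderOf x = 1 then 1 else 0) + (if orderOf x = 2 then 1 else 0) +
      (if orderOf x = 3 then 1 else 0) + (if orderOf x = 6 then 1 else 0) + (if orderOf x = 9 then 1 else 0) +
      (if 2 < orderOf x ∧ orderOf x ∣ Fintype.card K - 1 then 1 else 0) +
      (if 2 < orderOf x ∧ orderOf x ∣ Fintype.card K + 1 then 1 else 0) +
      (if 1 < orderOf x ∧ orderOf x ∣ Fintype.card K ^ 2 - Fintype.card K + 1 then 1 else 0) = 1 := fun x => by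
    have e1 : ∀ d, 3 ∣ d → ¬ d ∣ Fintype.card K - 1 := fun d h h' => by have := h.trans h'; omega
    have e2 : ∀ d, 3 ∣ d → ¬ d ∣ Fintype.card K + 1 := fun d h h' => by have := h.trans h'; omega
    have e3 : ∀ d, d ∣ Fintype.card K ^ 2 - Fintype.card K + 1 → d.Coprime 6 := fun d h =>
      M.coprime_N_six.coprime_dvd_left h
    have e4 : ∀ d, d ∣ Fintype.card K - 1 → d ∣ Fintype.card K + 1 → ¬ 2 < d := fun d h h' => by
      have := (Nat.dvd_sub_iff_right (show Fintype.card K - 1 ≤ Fintype.card K + 1 by omega) h').2 h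
      rw [show Fintype.card K + 1 - (Fintype.card K - 1) = 2 by omega] at this
      exact not_lt.2 (Nat.le_of_dvd two_pos this)
    have e5 : ∀ d, d ∣ Fintype.card K - 1 ∨ d ∣ Fintype.card K + 1 → d ∣ Fintype.card K ^ 2 - Fintype.card K + 1 →
        d = 1 := fun d h h' => Nat.eq_one_of_dvd_coprimes M.coprime_N h' (by
      rcases h with h | h
      exacts [(h.mul_left _).mul_right _, h.mul_left _])
    have e6 : ∀ d, d = 2 ∨ d = 3 ∨ d = 6 ∨ d = 9 → ¬ d ∣ Fintype.card K ^ 2 - Fintype.card K + 1 := by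
      rintro d (rfl | rfl | rfl | rfl) h <;> exact absurd (e3 _ h) (by norm_num)
    exact indicator_sum (M.orderOf_cases x) (e1 _) (e2 _) (e4 _) (e5 _) (e6 _)
  have h2 := Finset.sum_congr (s₁ := Finset.univ) rfl fun x _ => h1 x
  simp only [Finset.sum_add_distrib, ← Finset.card_filter, ← Fintype.card_subtype, ← Nat.card_eq_fintype_card,
    Finset.sum_const, Finset.card_univ, smul_eq_mul, mul_one] at h2
  have h4 : Nat.card {x : G // orderOf x = 1} = 1 := by simp
  have h5 := M.card_split hm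
  have h6 := M.card_nonsplit hm
  rw [h4, M.card_order_two, M.card_order_three, M.card_order_six, M.card_order_nine] at h2
  rw [Nat.card_eq_fintype_card (α := K)] at h2
  rw [M.card_G] at h2 h5 h6 ⊢
  generalize Nat.card {g : G // 1 < orderOf g ∧ orderOf g ∣ Fintype.card K ^ 2 - Fintype.card K + 1} = a at h2 ⊢
  generalize Nat.card {g : G // 2 < orderOf g ∧ orderOf g ∣ Fintype.card K - 1} = b at h2 h5
  generalize Nat.card {g : G // 2 < orderOf g ∧ orderOf g ∣ Fintype.card K + 1} = c at h2 h6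
  obtain ⟨k, hk⟩ : ∃ k, Fintype.card K = k + 3 := ⟨Fintype.card K - 3, by omega⟩
  rw [hk] at h2 h5 h6 ⊢
  rw [show (k + 3) ^ 2 - (k + 3) = k ^ 2 + 5 * k + 6 from Nat.sub_eq_of_eq_add (by ring)] at h2 ⊢
  rw [show (k + 3) ^ 2 - 1 = k ^ 2 + 6 * k + 8 from Nat.sub_eq_of_eq_add (by ring)] at h2
  simp only [show k + 3 - 1 = k + 2 from rfl, show k + 3 - 2 = k + 1 from rfl, Nat.add_sub_cancel] at h2 h5 h6 ⊢
  exact arith_pi h2 h5 h6

end ReeModel

end Cfsg.Lib.Known.Ree
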