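/-
An element of prime order `p` of a group with a faithful seven-dimensional representation over the field with `q`
elements, where `q` has order six modulo `p`: its centraliser is cyclic and contains at most six of its conjugates.
-/
import Mathlib

set_option autoImplicit false

namespace Cfsg.Lib.Known.Ree

open Polynomial Matrix

theorem orderOf_cast_eq_six {p q : ℕ} (hp : p.Prime) (hp3 : p ≠ 3) (hq : 1 ≤ q) (h : p ∣ q ^ 2 - q + 1) :
    orderOf (q : ZMod p) = 6 := by
  have := Fact.mk hp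
  have h1 : (q : ZMod p) ^ 2 - q + 1 = 0 := by
    have h2 := (ZMod.natCast_eq_zero_iff _ _).2 h
    rwa [Nat.cast_add, Nat.cast_sub (by nlinarith), Nat.cast_pow, Nat.cast_one] at h2
  have h3 : (3 : ZMod p) ≠ 0 := fun h3 => hp3 ((Nat.prime_dvd_prime_iff_eq hp Nat.prime_three).1
    ((ZMod.natCast_eq_zero_iff 3 p).1 (by exact_mod_cast h3)))
  have h2 : (2 : ZMod p) ≠ 0 := fun h2 => by
    have e := ((ZMod.natCast_eq_zero_iff 2 p).1 (by exact_mod_cast h2))
    have e2 : p = 2 := (Nat.prime_dvd_prime_iff_eq hp Nat.prime_two).1 e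
    have e3 := Nat.even_mul_pred_self q
    rw [Nat.mul_sub_one, ← sq] at e3
    rw [e2] at h
    obtain ⟨k, hk⟩ := e3
    omega
  refine orderOf_eq_of_pow_and_pow_div_prime (by norm_num)
    (by linear_combination ((q : ZMod p) ^ 3 - 1) * (q + 1) * h1) fun r hr hr6 h4 => ?_
  have : r = 2 ∨ r = 3 := by
    have := Nat.le_of_dvd (by norm_num) hr6
    have := hr.two_le
    interval_cases r <;> simp_all (config := { decide := true })
  rcases this with rfl | rfl
  · exact h2 (by linear_combination (q + 1 : ZMod p) * h1 - (h4 : (q : ZMod p) ^ 3 = 1))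
  · exact h3 (by
      have h5 : (q : ZMod p) ^ 2 = 1 := h4
      linear_combination h5 + (q + 2 : ZMod p) * (h1 - h5))

theorem multiset_seven {F : Type*} [DecidableEq F] (R : Multiset F) (hR : R.card = 7) (e : ℕ → F)
    (he : Set.InjOn e (Set.Iio 6)) (hc : ∀ i, R.count (e i) = R.count (e 0)) (h0 : e 0 ∈ R) :
    R.count (e 0) = 1 ∧ ∃ μ, R.count μ = 1 ∧ (∀ i < 6, μ ≠ e i) ∧ ∀ a ∈ R, a = μ ∨ ∃ i < 6, a = e i := by
  have h1 : 1 ≤ R.count (e 0) := Multiset.one_le_count_iff_mem.2 h0
  have hs : ((Finset.range 6).image e).card = 6 := by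
    rw [Finset.card_image_of_injOn (by simpa using he), Finset.card_range]
  have h2 : R.count (e 0) = 1 := by
    have h3 : ∑ a ∈ (Finset.range 6).image e, R.count a ≤ ∑ a ∈ R.toFinset, R.count a :=
      Finset.sum_le_sum_of_subset fun a ha => by
        obtain ⟨i, -, rfl⟩ := Finset.mem_image.1 ha
        exact Multiset.mem_toFinset.2 (Multiset.one_le_count_iff_mem.1 (hc i ▸ h1))
    rw [Multiset.toFinset_sum_count_eq, hR, Finset.sum_congr rfl (g := fun _ => R.count (e 0)) (fun a ha => by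
      obtain ⟨i, -, rfl⟩ := Finset.mem_image.1 ha
      exact hc i), Finset.sum_const, hs, smul_eq_mul] at h3
    omega
  refine ⟨h2, ?_⟩
  have h3 : ((Finset.range 6).image e).val ≤ R := by
    rw [Multiset.le_iff_subset (Finset.nodup _)]
    intro a ha
    obtain ⟨i, -, rfl⟩ := Finset.mem_image.1 (show a ∈ (Finset.range 6).image e from ha)
    exact Multiset.one_le_count_iff_mem.1 (hc i ▸ h1)
  obtain ⟨T, hT⟩ := Multiset.le_iff_exists_add.1 h3
  have h4 : T.card = 1 := by
    have := congrArg Multiset.card hT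
    rw [Multiset.card_add, Finset.card_val, hs, hR] at this
    omega
  obtain ⟨μ, rfl⟩ := Multiset.card_eq_one.1 h4
  have h5 : μ ∉ (Finset.range 6).image e := fun h => by
    obtain ⟨i, -, hi⟩ := Finset.mem_image.1 h
    have h6 := hc i
    rw [h2, hi, hT, Multiset.count_add, Multiset.count_eq_one_of_mem (Finset.nodup _) h] at h6
    simp at h6
  refine ⟨μ, ?_, fun i hi h => h5 (Finset.mem_image.2 ⟨i, Finset.mem_range.2 hi, h.symm⟩), fun a ha => ?_⟩
  · rw [hT, Multiset.count_add, Multiset.count_eq_zero_of_notMem h5]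
    simp
  · rw [hT, Multiset.mem_add] at ha
    rcases ha with ha | ha
    · obtain ⟨i, hi, rfl⟩ := Finset.mem_image.1 (show a ∈ (Finset.range 6).image e from ha)
      exact Or.inr ⟨i, Finset.mem_range.1 hi, rfl⟩
    · exact Or.inl (Multiset.mem_singleton.1 ha)

section

variable {F : Type*} [Field F] {n : Type*} [Fintype n] [DecidableEq n]

theorem exists_smul_of_count_eq_one [DecidableEq F] {A : Matrix n n F} {a : F} (h : A.charpoly.roots.count a = 1)
    {v u : n → F} (hv0 : v ≠ 0) (hv : A *ᵥ v = a • v) (hu : A *ᵥ u = a • u) : ∃ κ : F, κ • v = u := by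
  have h1 := LinearMap.finrank_eigenspace_le A.toLin' a
  rw [charpoly_toLin', ← count_roots, h] at h1
  have hv' : v ∈ Module.End.eigenspace A.toLin' a := Module.End.mem_eigenspace_iff.2 (by simpa using hv)
  have hu' : u ∈ Module.End.eigenspace A.toLin' a := Module.End.mem_eigenspace_iff.2 (by simpa using hu)
  have hne : (⟨v, hv'⟩ : Module.End.eigenspace A.toLin' a) ≠ 0 := fun h => hv0 (congrArg Subtype.val h)
  have h2 : Module.finrank F (Module.End.eigenspace A.toLin' a) = 1 :=
    le_antisymm h1 (Module.finrank_pos_iff_exists_ne_zero.2 ⟨_, hne⟩)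
  obtain ⟨κ, hκ⟩ := exists_smul_eq_of_finrank_eq_one h2 hne ⟨u, hu'⟩
  exact ⟨κ, congrArg Subtype.val hκ⟩

theorem mem_roots_charpoly_iff {A : Matrix n n F} {a : F} :
    a ∈ A.charpoly.roots ↔ ∃ v, v ≠ 0 ∧ A *ᵥ v = a • v := by
  rw [mem_roots A.charpoly_monic.ne_zero, ← charpoly_toLin', ← Module.End.hasEigenvalue_iff_isRoot_charpoly]
  constructor
  · intro h
    obtain ⟨v, hv⟩ := h.exists_hasEigenvector
    exact ⟨v, hv.2, by simpa using hv.apply_eq_smul⟩
  · rintro ⟨v, h0, hv⟩
    exact Module.End.hasEigenvalue_of_hasEigenvector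
      ⟨Module.End.mem_eigenspace_iff.2 (by simpa using hv), h0⟩

theorem pow_mulVec_of_eigen {A : Matrix n n F} {a : F} {v : n → F} (hv : A *ᵥ v = a • v) (k : ℕ) :
    (A ^ k) *ᵥ v = a ^ k • v := by
  induction k with
  | zero => simp
  | succ k ih => rw [pow_succ, ← mulVec_mulVec, hv, mulVec_smul, ih, smul_smul, pow_succ']

theorem exists_eigen_ne_one [IsAlgClosed F] {A : Matrix n n F} {p : ℕ} (hp : (p : F) ≠ 0) (h : A ^ p = 1)
    (h1 : A ≠ 1) : ∃ (a : F) (v : n → F), a ≠ 1 ∧ v ≠ 0 ∧ A *ᵥ v = a • v := by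
  have hW : ∀ v ∈ LinearMap.range (A - 1).toLin', A.toLin' v ∈ LinearMap.range (A - 1).toLin' := by
    rintro _ ⟨v, rfl⟩
    exact ⟨A *ᵥ v, by simp [mulVec_sub]⟩
  have : Nontrivial (LinearMap.range (A - 1).toLin') := by
    rw [Submodule.nontrivial_iff_ne_bot, Ne, LinearMap.range_eq_bot, map_eq_zero_iff _ toLin'.injective]
    exact sub_ne_zero.2 h1
  obtain ⟨a, ha⟩ := Module.End.exists_eigenvalue (A.toLin'.restrict hW)
  obtain ⟨⟨_, u, rfl⟩, hv⟩ := ha.exists_hasEigenvector
  have h2 : A *ᵥ ((A - 1) *ᵥ u) = a • (A - 1) *ᵥ u := by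
    exact congrArg Subtype.val hv.apply_eq_smul
  have h3 : (A - 1) *ᵥ u ≠ 0 := fun h => hv.2 (Subtype.ext h)
  refine ⟨a, _, ?_, h3, h2⟩
  rintro rfl
  have h4 : (∑ i ∈ Finset.range p, A ^ i) *ᵥ ((A - 1) *ᵥ u) = 0 := by
    rw [mulVec_mulVec, geom_sum_mul, h, sub_self, zero_mulVec]
  rw [sum_mulVec, Finset.sum_congr rfl fun i _ => pow_mulVec_of_eigen h2 i] at h4
  simp only [one_pow, one_smul, Finset.sum_const, Finset.card_range] at h4
  rw [← Nat.cast_smul_eq_nsmul F] at h4
  exact h3 ((smul_eq_zero.1 h4).resolve_left hp)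

end

theorem exists_singer {K : Type*} [Field K] [Fintype K] {G : Type*} [Group G]
    (ρ : G →* Matrix (Fin 7) (Fin 7) K) (hρ : Function.Injective ρ) {g : G} {p : ℕ} (hp : p.Prime)
    (hg : orderOf g = p) (h6 : orderOf (Fintype.card K : ZMod p) = 6)
    (hC : ∀ c, Commute c g → c ^ (Fintype.card K - 1) = 1 → c = 1) :
    (∃ f : Subgroup.centralizer ({g} : Set G) →* AlgebraicClosure K, Function.Injective f) ∧
      ∀ c, Commute c g → IsConj g c → ∃ i < 6, c = g ^ Fintype.card K ^ i := by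
  classical
  have := Fact.mk hp
  set q := Fintype.card K with hq
  let F := AlgebraicClosure K
  let φ : F →+* F := (FiniteField.frobeniusAlgHom K F).toRingHom
  have hφ : ∀ x, φ x = x ^ q := fun x => rfl
  let R : G →* Matrix (Fin 7) (Fin 7) F := (algebraMap K F).mapMatrix.toMonoidHom.comp ρ
  have hR : Function.Injective R := fun a b h => hρ (Matrix.map_injective (algebraMap K F).injective h)
  have hRφ : ∀ c, (R c).map φ = R c := fun c => by
    ext i j
    exact (FiniteField.frobeniusAlgHom K F).commutes _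
  have hφv : ∀ {c a v}, R c *ᵥ v = a • v → R c *ᵥ (φ ∘ v) = φ a • (φ ∘ v) := fun {c a v} h => by
    ext i
    rw [← hRφ c, ← RingHom.map_mulVec, h]
    simp
  have hφ0 : ∀ {v : Fin 7 → F}, v ≠ 0 → φ ∘ v ≠ 0 := fun {v} h h' => h (funext fun i =>
    φ.injective ((congrFun h' i).trans (map_zero φ).symm))
  have hg1 : g ≠ 1 := fun h => hp.one_lt.ne (by rw [← hg, h, orderOf_one])
  have hgp : g ^ p = 1 := hg ▸ pow_orderOf_eq_one g
  have hpF : (p : F) ≠ 0 := fun h => by
    have h1 : (p : K) = 0 := (algebraMap K F).injective (by rw [map_natCast, h, map_zero])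
    have h2 : p ∣ ringChar K := by
      rw [CharP.ringChar_of_prime_eq_zero hp h1]
    have h3 := (ZMod.natCast_eq_zero_iff q p).2 ((prime_dvd_char_iff_dvd_card p).1 h2)
    have h4 := pow_orderOf_eq_one (q : ZMod p)
    rw [h6, h3] at h4
    simp at h4
  obtain ⟨ζ, v, hζ1, hv0, hv⟩ := exists_eigen_ne_one (A := R g) hpF (by rw [← map_pow, hgp, map_one])
    (fun h => hg1 (hR (h.trans (map_one R).symm)))
  have hζp : ζ ^ p = 1 := by
    have h1 := pow_mulVec_of_eigen hv p
    rw [← map_pow, hgp, map_one, one_mulVec] at h1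
    exact smul_left_injective F hv0 (h1.symm.trans (one_smul _ _).symm)
  have hζ : IsPrimitiveRoot ζ p := (orderOf_eq_prime hζp hζ1) ▸ IsPrimitiveRoot.orderOf ζ
  let e : ℕ → F := fun i => ζ ^ q ^ i
  have he0 : e 0 = ζ := by simp [e]
  have heφ : ∀ i, φ (e i) = e (i + 1) := fun i => by rw [hφ, ← pow_mul, ← pow_succ]
  have hee : ∀ i j, e i = e j ↔ (q : ZMod p) ^ i = (q : ZMod p) ^ j := fun i j => by
    rw [← Nat.cast_pow, ← Nat.cast_pow, ZMod.natCast_eq_natCast_iff, hζ.eq_orderOf]
    exact (hζ.isOfFinOrder hp.ne_zero).pow_eq_pow_iff_modEq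
  have he : Set.InjOn e (Set.Iio 6) := fun i hi j hj h =>
    pow_injOn_Iio_orderOf (h6 ▸ hi) (h6 ▸ hj) ((hee i j).1 h)
  have he6 : ∀ i, e (i + 6) = e i := fun i => by rw [hee, pow_add, ← h6, pow_orderOf_eq_one, mul_one]
  have hcount : ∀ a, (R g).charpoly.roots.count (φ a) = (R g).charpoly.roots.count a := fun a => by
    rw [count_roots, count_roots, eq_rootMultiplicity_map φ.injective a, ← charpoly_map, hRφ]
  obtain ⟨hc1, μ, hμ1, hμe, hall⟩ := multiset_seven (R g).charpoly.roots
    (by rw [IsAlgClosed.card_roots_eq_natDegree, charpoly_natDegree_eq_dim, Fintype.card_fin]) e he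
    (fun i => by
      induction i with
      | zero => rfl
      | succ i ih => rw [← heφ, hcount, ih]) (mem_roots_charpoly_iff.2 ⟨v, hv0, he0 ▸ hv⟩)
  rw [he0] at hc1
  have hμe' : ∀ i, μ ≠ e i := fun i => by
    induction i using Nat.strong_induction_on with | _ i ih
    by_cases hi : i < 6
    · exact hμe i hi
    · obtain ⟨j, rfl⟩ : ∃ j, i = j + 6 := ⟨i - 6, by omega⟩
      exact he6 j ▸ ih j (by omega)
  have hμR : μ ∈ (R g).charpoly.roots := Multiset.one_le_count_iff_mem.1 hμ1.ge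
  have hμφ : φ μ = μ := by
    rcases hall (φ μ) (Multiset.one_le_count_iff_mem.1 (by rw [hcount, hμ1])) with h | ⟨i, -, h⟩
    · exact h
    · rw [← he6, ← heφ] at h
      exact absurd (φ.injective h) (hμe' _)
  obtain ⟨u, hu0, hu⟩ := mem_roots_charpoly_iff.1 hμR
  have hcomm : ∀ {c : G} {a : F} {y : Fin 7 → F}, Commute c g → R g *ᵥ y = a • y → R g *ᵥ (R c *ᵥ y) = a • (R c *ᵥ y) :=
    fun {c a y} hc hy => by rw [mulVec_mulVec, ← map_mul, ← hc.eq, map_mul, ← mulVec_mulVec, hy, mulVec_smul]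
  have hex : ∀ c : Subgroup.centralizer ({g} : Set G), ∃ κ : F, κ • v = R c *ᵥ v := fun c =>
    exists_smul_of_count_eq_one hc1 hv0 hv (hcomm (Subgroup.mem_centralizer_singleton_iff.1 c.2) hv)
  choose f₀ hf₀ using hex
  let f : Subgroup.centralizer ({g} : Set G) →* F :=
    { toFun := f₀
      map_one' := smul_left_injective F hv0 (by simp [hf₀])
      map_mul' := fun a b => smul_left_injective F hv0 (by
        simp only [hf₀, Subgroup.coe_mul, map_mul]
        rw [← mulVec_mulVec, ← hf₀ b, mulVec_smul, ← hf₀ a, smul_smul, mul_comm]) }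
  have hf : ∀ c, R c.1 *ᵥ v = f c • v := fun c => (hf₀ c).symm
  have hiter : ∀ {c : G} {a : F}, R c *ᵥ v = a • v → ∀ i : ℕ, (φ^[i] ∘ v ≠ 0) ∧ R c *ᵥ (φ^[i] ∘ v) = φ^[i] a • (φ^[i] ∘ v) :=
    fun {c a} h i => by
      induction i with
      | zero => exact ⟨hv0, h⟩
      | succ i ih =>
        rw [Function.iterate_succ']
        exact ⟨hφ0 ih.1, hφv ih.2⟩
  have hei : ∀ i, φ^[i] ζ = e i := fun i => by
    induction i with
    | zero => exact he0.symm
    | succ i ih => rw [Function.iterate_succ_apply', ih, heφ]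
  have hinj : Function.Injective f := by
    rw [injective_iff_map_eq_one]
    intro c hc
    have hcg : Commute c.1 g := Subgroup.mem_centralizer_singleton_iff.1 c.2
    refine Subtype.ext (hC c hcg (hR ?_))
    obtain ⟨β, hβ⟩ := exists_smul_of_count_eq_one hμ1 hu0 hu (hcomm hcg hu)
    obtain ⟨κ, hκ⟩ := exists_smul_of_count_eq_one hμ1 hu0 hu (hμφ ▸ hφv hu)
    have hβ0 : β ≠ 0 := by
      rintro rfl
      apply hu0
      rw [← one_mulVec u, ← map_one R, ← inv_mul_cancel c.1, map_mul, ← mulVec_mulVec, ← hβ]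
      simp
    have hβφ : φ β = β := by
      apply smul_left_injective F (hφ0 hu0)
      change φ β • (φ ∘ u) = β • (φ ∘ u)
      rw [← hφv hβ.symm, ← hκ, mulVec_smul, ← hβ, smul_comm]
    have hβ1 : β ^ (q - 1) = 1 := by
      apply mul_right_cancel₀ hβ0
      rw [← pow_succ, Nat.sub_add_cancel Fintype.card_pos, ← hφ, hβφ, one_mul]
    let b : Option (Fin 6) → (Fin 7 → F) := fun i => i.elim u fun i => φ^[i] ∘ v
    have hb : LinearIndependent F b := Module.End.eigenvectors_linearIndependent' (R g).toLin'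
      (fun i : Option (Fin 6) => i.elim μ fun i => e i) (by
        rintro (_ | i) (_ | j) h
        · rfl
        · exact absurd h (hμe' j)
        · exact absurd h.symm (hμe' i)
        · exact congrArg some (Fin.ext (he i.2 j.2 h))) b (by
        rintro (_ | i)
        · exact ⟨Module.End.mem_eigenspace_iff.2 (by simpa [b] using hu), hu0⟩
        · exact ⟨Module.End.mem_eigenspace_iff.2 (by simpa [b, hei] using (hiter hv i).2), (hiter hv i).1⟩)
    apply toLin'.injective
    refine LinearMap.ext_on_range (hb.span_eq_top_of_card_eq_finrank (by simp)) ?_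
    rw [map_pow R, map_one R]
    rintro (_ | i)
    · simpa [b, hβ1, -toLin'_pow] using pow_mulVec_of_eigen hβ.symm (q - 1)
    · have h1 := (hiter (hf c) i).2
      rw [hc, Function.iterate_fixed (map_one φ)] at h1
      simpa [b, -toLin'_pow] using pow_mulVec_of_eigen h1 (q - 1)
  refine ⟨⟨f, hinj⟩, fun c hc hcj => ?_⟩
  let c' : Subgroup.centralizer ({g} : Set G) := ⟨c, Subgroup.mem_centralizer_singleton_iff.2 hc⟩
  let g' : Subgroup.centralizer ({g} : Set G) := ⟨g, Subgroup.mem_centralizer_singleton_iff.2 rfl⟩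
  have hfg : f g' = ζ := smul_left_injective F hv0 ((hf g').symm.trans hv)
  obtain ⟨k, hk⟩ := isConj_iff.1 hcj
  have h1 : (R c).charpoly = (R g).charpoly := by
    rw [← hk, map_mul, charpoly_mul_comm, ← map_mul, inv_mul_cancel_left]
  have h2 : f c' ∈ (R g).charpoly.roots := h1 ▸ mem_roots_charpoly_iff.2 ⟨v, hv0, hf c'⟩
  rcases hall _ h2 with h | ⟨i, hi, h⟩
  · have h3 : c' ^ q = c' := hinj (by rw [map_pow, ← hφ, h, hμφ])
    have h4 : c = 1 := hC c hc (by
      apply mul_right_cancel (b := c)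
      rw [← pow_succ, Nat.sub_add_cancel Fintype.card_pos, one_mul]
      exact congrArg Subtype.val h3)
    rw [h4, conj_eq_one_iff] at hk
    exact absurd hk hg1
  · exact ⟨i, hi, congrArg Subtype.val (hinj (show f c' = f (g' ^ q ^ i) by rw [map_pow, hfg, h]))⟩

end Cfsg.Lib.Known.Ree
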