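/-
Small Ree groups: the cyclic tori of orders `q - r + 1` and `q + r + 1`, `r = 3 ^ (m + 1)`.
-/
import Cfsg.Agent.Known.ReeCount
import Cfsg.Agent.Known.ReeSinger

set_option autoImplicit false

namespace Cfsg.Lib.Known.Ree

/-- The number of non-identity elements of order dividing `n`. -/
noncomputable def cnt (G : Type*) [Group G] (n : ℕ) : ℕ := {g : G | 1 < orderOf g ∧ orderOf g ∣ n}.ncard

section Cnt

variable {G : Type*} [Group G] [Finite G]

theorem cnt_mono {a b : ℕ} (h : a ∣ b) : cnt G a ≤ cnt G b :=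
  Set.ncard_le_ncard fun _ hg => ⟨hg.1, hg.2.trans h⟩

theorem cnt_add_le {a b : ℕ} (h : a.Coprime b) : cnt G a + cnt G b ≤ cnt G (a * b) := by
  rw [cnt, cnt, ← Set.ncard_union_eq (Set.disjoint_left.2 fun g h1 h2 =>
    h1.1.ne' (Nat.eq_one_of_dvd_coprimes h h1.2 h2.2))]
  refine Set.ncard_le_ncard ?_
  rintro g (hg | hg)
  exacts [⟨hg.1, hg.2.mul_right _⟩, ⟨hg.1, hg.2.mul_left _⟩]

theorem IsTor.cnt_mul {T : Subgroup G} (h : IsTor T T) :
    cnt G (Nat.card T) * Nat.card (Subgroup.normalizer (T : Set G)) = Nat.card G * (Nat.card T - 1) := by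
  have h1 := h.card_mul (fun d => 1 < d ∧ d ∣ Nat.card T) (fun d hd => by
    obtain ⟨c, hc⟩ := h.odd_card.of_dvd_nat hd.2
    omega) fun x hx => h.exists_conj_mem_A hx.2
  have h2 : Nat.card {x : T // 1 < orderOf x ∧ orderOf x ∣ Nat.card T} = ((T : Set G) \ {1}).ncard :=
    Nat.card_congr ⟨fun x => ⟨x.1, x.1.2, fun e => x.2.1.ne' (orderOf_eq_one_iff.2 (Subtype.ext e))⟩,
      fun x => ⟨⟨x.1, x.2.1⟩, lt_of_le_of_ne (orderOf_pos _) fun e => x.2.2
        (congrArg Subtype.val (orderOf_eq_one_iff.1 e.symm)), orderOf_dvd_natCard _⟩, fun _ => rfl, fun _ => rfl⟩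
  rw [h2, Set.ncard_sdiff_singleton_of_mem T.one_mem] at h1
  exact h1

theorem IsTor.coprime_card {T T' : Subgroup G} (h : IsTor T T) (h' : IsTor T' T') {p : ℕ} (h1 : p ∣ Nat.card T')
    (h2 : ¬ p ∣ Nat.card T) : (Nat.card T).Coprime (Nat.card T') := by
  refine Nat.coprime_of_dvd fun r hr h3 h4 => h2 (h1.trans ?_)
  obtain ⟨a, ha⟩ := h'.cyc.exists_ofOrder_eq_natCard
  rw [← Subgroup.orderOf_coe] at ha
  exact ha ▸ h.orderOf_dvd_of_prime hr h3 (ha ▸ h4)

theorem cnt_mul_le {T T' : Subgroup G} (h : IsTor T T) (h' : IsTor T' T') :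
    cnt G (Nat.card T * Nat.card T') ≤ cnt G (Nat.card T) + cnt G (Nat.card T') := by
  refine (Set.ncard_le_ncard ?_).trans (Set.ncard_union_le _ _)
  intro g hg
  obtain ⟨p, hp, h1⟩ := Nat.exists_prime_and_dvd hg.1.ne'
  rcases hp.dvd_mul.1 (h1.trans hg.2) with h2 | h2
  exacts [Or.inl ⟨hg.1, h.orderOf_dvd_of_prime hp h2 h1⟩, Or.inr ⟨hg.1, h'.orderOf_dvd_of_prime hp h2 h1⟩]

end Cnt

theorem bound_six {c n a g : ℕ} (h : c * (n * a) = g * (a - 1)) (hn : n ≤ 6) (ha : 7 ≤ a) : g ≤ 7 * c := by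
  obtain ⟨b, rfl⟩ : ∃ b, a = b + 7 := ⟨a - 7, by omega⟩
  rw [show b + 7 - 1 = b + 6 from rfl] at h
  have : c * (n * (b + 7)) ≤ c * (6 * (b + 7)) := by gcongr
  nlinarith

theorem bound_four {c n a g : ℕ} (h : c * (n * a) = g * (a - 1)) (hn : n ≤ 4) (ha : 7 ≤ a) : 3 * g ≤ 14 * c := by
  obtain ⟨b, rfl⟩ : ∃ b, a = b + 7 := ⟨a - 7, by omega⟩
  rw [show b + 7 - 1 = b + 6 from rfl] at h
  have : c * (n * (b + 7)) ≤ c * (4 * (b + 7)) := by gcongr
  nlinarith

theorem arith_two_tori {q g a b c d : ℕ} (hg : 0 < g) (hq : 2 ≤ q) (ha : 1 ≤ a) (hb : 1 ≤ b)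
    (hab : a * b = q ^ 2 - q + 1) (h1 : c * (6 * a) = g * (a - 1)) (h2 : d * (6 * b) = g * (b - 1))
    (h : 3 * ((c + d) * (q ^ 2 - q + 1)) = g * (q * (q - 2))) : a + b = 2 * q + 2 := by
  rw [← hab] at h
  have h3 : q ≤ q ^ 2 := by nlinarith
  zify [ha, hb, hq, h3] at *
  apply mul_left_cancel₀ hg.ne'
  linear_combination (b : ℤ) * h1 + (a : ℤ) * h2 - 2 * h + 2 * (g : ℤ) * hab

theorem eq_of_add_of_mul {q r a b : ℕ} (hr : r ^ 2 = 3 * q) (hrq : r ≤ q) (h1 : a + b = 2 * q + 2)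
    (h2 : a * b = q ^ 2 - q + 1) : (a = q - r + 1 ∧ b = q + r + 1) ∨ (b = q - r + 1 ∧ a = q + r + 1) := by
  have h3 : q ≤ q ^ 2 := by nlinarith
  have h4 : ((a : ℤ) - (q - r + 1)) * (a - (q + r + 1)) = 0 := by
    zify [h3] at *
    linear_combination (a : ℤ) * h1 - h2 - hr
  rcases mul_eq_zero.1 h4 with h | h <;> omega

namespace ReeModel

variable {K : Type*} [Field K] [Fintype K] {τ : RTw K} {m : ℕ} {G : Type*} [Group G] (M : ReeModel τ m G)

include M in
theorem singer {g : G} {p : ℕ} (hp : p.Prime) (hg : orderOf g = p)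
    (h : p ∣ Fintype.card K ^ 2 - Fintype.card K + 1) :
    IsCyclic (Subgroup.centralizer ({g} : Set G)) ∧
      ∀ c, Commute c g → IsConj g c → ∃ i < 6, c = g ^ Fintype.card K ^ i := by
  have := M.finite
  have h1 : g ≠ 1 := fun e => hp.one_lt.ne' (by rw [← hg, e, orderOf_one])
  obtain ⟨⟨f, hf⟩, h2⟩ := exists_singer M.ρ M.ρ_inj hp hg (orderOf_cast_eq_six hp (by
    rintro rfl
    exact absurd (M.coprime_N_six.coprime_dvd_left h) (by norm_num)) Fintype.card_pos h) fun c hc hc1 =>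
      orderOf_eq_one_iff.1 (Nat.eq_one_of_dvd_coprimes M.coprime_N
        ((Subgroup.orderOf_dvd_natCard _ (Subgroup.mem_centralizer_singleton_iff.2 hc)).trans
          (M.card_centralizer_dvd_N (hg ▸ h) h1))
        (((orderOf_dvd_of_pow_eq_one hc1).mul_left _).mul_right _))
  exact ⟨isCyclic_of_injective_ringHom f hf, h2⟩

omit [Fintype K] in
theorem comm_of_isCyclic {T : Subgroup G} (h : IsCyclic T) : ∀ a ∈ T, ∀ b ∈ T, a * b = b * a := fun a ha b hb =>
  congrArg Subtype.val (h.isMulCommutative.is_comm.comm (⟨a, ha⟩ : T) ⟨b, hb⟩)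

include M in
theorem centralizer_eq_of_prime {g : G} {p : ℕ} (hp : p.Prime) (hg : orderOf g = p)
    (h : p ∣ Fintype.card K ^ 2 - Fintype.card K + 1) {a : G} (ha : Commute a g) (h1 : a ≠ 1) :
    Subgroup.centralizer {a} = Subgroup.centralizer {g} := by
  have := M.finite
  have hc := comm_of_isCyclic (M.singer hp hg h).1
  have ha' := Subgroup.mem_centralizer_singleton_iff.2 ha
  refine le_antisymm (fun c hc => ?_) fun c hc' => Subgroup.mem_centralizer_singleton_iff.2 (hc c hc' a ha')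
  obtain ⟨r, hr, h2⟩ := Nat.exists_prime_and_dvd (n := orderOf a) (by simpa using h1)
  have h3 : orderOf (a ^ (orderOf a / r)) = r := orderOf_pow_orderOf_div (orderOf_pos a).ne' h2
  exact Subgroup.mem_centralizer_singleton_iff.2 (comm_of_isCyclic (M.singer hr h3 (M.orderOf_dvd_N (hg ▸ h)
    (fun e => hp.one_lt.ne' (by rw [← hg, e, orderOf_one])) ha hr h2)).1 _
    (Subgroup.mem_centralizer_singleton_iff.2
      (Commute.pow_right (Subgroup.mem_centralizer_singleton_iff.1 hc) _)) _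
    (Subgroup.mem_centralizer_singleton_iff.2 (ha.symm.pow_right _)))

include M in
theorem isTor_centralizer {g : G} {p : ℕ} (hp : p.Prime) (hg : orderOf g = p)
    (h : p ∣ Fintype.card K ^ 2 - Fintype.card K + 1) :
    IsTor (Subgroup.centralizer ({g} : Set G)) (Subgroup.centralizer {g}) := by
  have := M.finite
  have h1 : g ≠ 1 := fun e => hp.one_lt.ne' (by rw [← hg, e, orderOf_one])
  refine ⟨comm_of_isCyclic (M.singer hp hg h).1, fun a ha h2 => M.centralizer_eq_of_prime hp hg h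
    (Subgroup.mem_centralizer_singleton_iff.1 ha) (by rintro rfl; simp at h2), fun a => ⟨fun ha => ⟨ha, ?_⟩, And.left⟩,
    (M.singer hp hg h).1, Nat.coprime_of_dvd fun r hr h2 h3 => ?_⟩
  · exact Nat.coprime_two_right.1 ((M.coprime_N_six.coprime_dvd_left ((Subgroup.orderOf_dvd_natCard _ ha).trans
      (M.card_centralizer_dvd_N (hg ▸ h) h1))).coprime_dvd_right (by norm_num))
  · have := Fact.mk hr
    obtain ⟨y, hy⟩ := exists_prime_orderOf_dvd_card' r h2
    rw [← Subgroup.orderOf_coe] at hy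
    have hy1 : (y : G) ≠ 1 := fun e => hr.one_lt.ne' (by rw [← hy, e, orderOf_one])
    obtain ⟨P, hP⟩ := (GL2.isPGroup_zpowers_of_pow (p := r) (x := (y : G)) (k := 1)
      (by rw [pow_one, ← hy, pow_orderOf_eq_one])).exists_le_sylow
    have hyP : (y : G) ∈ (P : Subgroup G) := hP (Subgroup.mem_zpowers _)
    have : Nontrivial P := ⟨⟨⟨y, hyP⟩, 1, fun e => hy1 (congrArg Subtype.val e)⟩⟩
    have := P.isPGroup'.center_nontrivial
    obtain ⟨⟨z, hz⟩, hz1⟩ := exists_ne (1 : Subgroup.center P)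
    have h4 : ∀ u ∈ (P : Subgroup G), Commute u z := fun u hu =>
      congrArg Subtype.val (Subgroup.mem_center_iff.1 hz ⟨u, hu⟩)
    have h5 : (z : G) ∈ Subgroup.centralizer {g} := by
      rw [← M.centralizer_eq_of_prime hp hg h (Subgroup.mem_centralizer_singleton_iff.1 y.2) hy1]
      exact Subgroup.mem_centralizer_singleton_iff.2 (h4 _ hyP).symm
    have h6 : (P : Subgroup G) ≤ Subgroup.centralizer {g} := fun u hu => by
      rw [← M.centralizer_eq_of_prime hp hg h (Subgroup.mem_centralizer_singleton_iff.1 h5)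
        fun e => hz1 (Subtype.ext (Subtype.ext e))]
      exact Subgroup.mem_centralizer_singleton_iff.2 (h4 u hu)
    exact P.not_dvd_index (h3.trans (Subgroup.index_dvd_of_le h6))

include M in
theorem not_five_dvd : ¬ 5 ∣ Nat.card G := by
  have h1 : Fintype.card K ^ 2 % 5 = 4 := by
    rw [M.fin.card, ← pow_mul, mul_comm, pow_mul, pow_succ, pow_mul, Nat.mul_mod, Nat.pow_mod]
    simp
  have h2 := M.fin.three_le
  rw [M.card_G, Nat.prime_five.dvd_mul, Nat.prime_five.dvd_mul]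
  have h3 : Fintype.card K % 5 = 2 ∨ Fintype.card K % 5 = 3 := by
    rw [Nat.pow_mod] at h1
    have : Fintype.card K % 5 < 5 := Nat.mod_lt _ (by norm_num)
    interval_cases Fintype.card K % 5 <;> simp_all
  rintro ((h | h) | h)
  · have := Nat.prime_five.dvd_of_dvd_pow h
    omega
  · omega
  · rw [Nat.dvd_iff_mod_eq_zero, Nat.add_mod, Nat.pow_mod] at h
    rcases h3 with h3 | h3 <;> simp [h3] at h

include M in
theorem exists_pi_torus {p : ℕ} (hp : p.Prime) (h : p ∣ Fintype.card K ^ 2 - Fintype.card K + 1) :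
    ∃ T : Subgroup G, IsTor T T ∧ p ∣ Nat.card T ∧ Nat.card T ∣ Fintype.card K ^ 2 - Fintype.card K + 1 ∧
      7 ≤ Nat.card T ∧ ∃ n, (n ≤ 4 ∨ n = 6) ∧ Nat.card (Subgroup.normalizer (T : Set G)) = n * Nat.card T := by
  have := M.finite
  have := Fact.mk hp
  obtain ⟨g, hg⟩ := exists_prime_orderOf_dvd_card' (G := G) p (M.card_G' ▸ h.mul_left _)
  have h1 : g ≠ 1 := fun e => hp.one_lt.ne' (by rw [← hg, e, orderOf_one])
  have hT := M.isTor_centralizer hp hg h
  have h2 : p ∣ Nat.card (Subgroup.centralizer ({g} : Set G)) :=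
    hg ▸ Subgroup.orderOf_dvd_natCard _ (Subgroup.mem_centralizer_singleton_iff.2 rfl)
  have h3 := card_eq_ncard_mul (Subgroup.normalizer (Subgroup.centralizer ({g} : Set G) : Set G)) g
  rw [inf_eq_right.2 Subgroup.le_normalizer] at h3
  refine ⟨_, hT, h2, M.card_centralizer_dvd_N (hg ▸ h) h1, le_trans ?_ (Nat.le_of_dvd Nat.card_pos h2), _, ?_, h3⟩
  · have h4 := orderOf_cast_eq_six hp (by
      rintro rfl
      exact absurd (M.coprime_N_six.coprime_dvd_left h) (by norm_num)) Fintype.card_pos h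
    have h5 : (Fintype.card K : ZMod p) ≠ 0 := fun e => by
      have := pow_orderOf_eq_one (Fintype.card K : ZMod p)
      rw [h4, e] at this
      simp at this
    have h6 := Nat.le_of_dvd (by have := hp.two_le; omega) (h4 ▸ ZMod.orderOf_dvd_card_sub_one h5)
    omega
  · have h4 : {y | ∃ n ∈ Subgroup.normalizer (Subgroup.centralizer ({g} : Set G) : Set G), n * g * n⁻¹ = y}.ncard ≤
        6 := by
      refine (Set.ncard_le_ncard (t := (fun i => g ^ Fintype.card K ^ i) '' Set.Iio 6) ?_).trans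
        ((Set.ncard_image_le).trans (by simp))
      rintro _ ⟨n, hn, rfl⟩
      obtain ⟨i, hi, e⟩ := (M.singer hp hg h).2 _ (Subgroup.mem_centralizer_singleton_iff.1
        ((Subgroup.mem_normalizer_iff.1 hn g).1 (Subgroup.mem_centralizer_singleton_iff.2 rfl)))
        (isConj_iff.2 ⟨n, rfl⟩)
      exact ⟨i, hi, e.symm⟩
    have h5 : {y | ∃ n ∈ Subgroup.normalizer (Subgroup.centralizer ({g} : Set G) : Set G), n * g * n⁻¹ = y}.ncard ≠
        5 := fun e => M.not_five_dvd ((Dvd.intro _ (by rw [h3, e])).trans (Subgroup.card_subgroup_dvd_card _))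
    omega

include M in
theorem exists_pi_tori (hm : 1 ≤ m) : ∃ T T' : Subgroup G, IsTor T T ∧ IsTor T' T' ∧
    Nat.card T = Fintype.card K - 3 ^ (m + 1) + 1 ∧ Nat.card T' = Fintype.card K + 3 ^ (m + 1) + 1 ∧
    Nat.card (Subgroup.normalizer (T : Set G)) = 6 * Nat.card T ∧
    Nat.card (Subgroup.normalizer (T' : Set G)) = 6 * Nat.card T' := by
  have := M.finite
  have hq := M.fin.le_card hm
  have hG : 0 < Nat.card G := Nat.card_pos
  have hR : 3 * (cnt G (Fintype.card K ^ 2 - Fintype.card K + 1) * (Fintype.card K ^ 2 - Fintype.card K + 1)) =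
    Nat.card G * (Fintype.card K * (Fintype.card K - 2)) := M.card_pi hm
  have hNG : Fintype.card K ^ 2 - Fintype.card K + 1 ∣ Nat.card G := M.card_G' ▸ Dvd.intro_left _ rfl
  have hr := M.fin.r_sq
  have hr' := M.fin.r_le
  have hex := fun {p} (hp : Nat.Prime p) h => M.exists_pi_torus hp h
  generalize Fintype.card K = q at hq hR hNG hr hr' hex ⊢
  have hq2 : q ≤ q ^ 2 := by nlinarith
  have hN1 : q ^ 2 - q + 1 ≠ 1 := by
    have : q + 1 ≤ q ^ 2 := by nlinarith
    omega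
  have hlt : 3 * cnt G (q ^ 2 - q + 1) < Nat.card G := by
    refine lt_of_mul_lt_mul_right (a := q ^ 2 - q + 1) ?_ (Nat.zero_le _)
    rw [mul_assoc, hR]
    refine Nat.mul_lt_mul_of_pos_left ?_ hG
    obtain ⟨k, rfl⟩ : ∃ k, q = k + 2 := ⟨q - 2, by omega⟩
    zify [hq2, show 2 ≤ k + 2 by omega]
    nlinarith
  have hnext : ∀ {a p : ℕ} {T : Subgroup G}, IsTor T T → Nat.card T * a ∣ q ^ 2 - q + 1 → p ∣ a → p.Prime →
      ¬ p ∣ Nat.card T := fun {a p T} hT h1 h2 hp h3 => by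
    have h4 : a ∣ T.index := Nat.dvd_of_mul_dvd_mul_left Nat.card_pos (T.card_mul_index ▸ h1.trans hNG)
    exact hp.one_lt.ne' (Nat.eq_one_of_dvd_coprimes hT.hall h3 (h2.trans h4))
  obtain ⟨p, hp, h1⟩ := Nat.exists_prime_and_dvd hN1
  obtain ⟨T, hT, -, ⟨a, ha⟩, h7, n, hn, hN⟩ := hex hp h1
  have hc := hT.cnt_mul
  rw [hN] at hc
  by_cases ha1 : a = 1
  · rw [ha1, mul_one] at ha
    rw [← ha, Nat.add_sub_cancel] at hc
    have h2 : n * (q - 2) = 3 * (q - 1) := by
      apply Nat.eq_of_mul_eq_mul_left (Nat.mul_pos hG (show 0 < q by omega))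
      zify [hq2, show 2 ≤ q by omega, show 1 ≤ q by omega] at hR hc ⊢
      linear_combination 3 * hc - (n : ℤ) * hR
    rcases hn with hn | rfl
    · interval_cases n <;> omega
    · omega
  obtain ⟨p', hp', h2⟩ := Nat.exists_prime_and_dvd ha1
  obtain ⟨T', hT', h3, hd', h7', n', hn', hN'⟩ := hex hp' (ha ▸ h2.mul_left _)
  have hc' := hT'.cnt_mul
  rw [hN'] at hc'
  have hco := hT.coprime_card hT' h3 (hnext hT ha.symm.dvd h2 hp')
  obtain ⟨b, hb⟩ := hco.mul_dvd_of_dvd_of_dvd ⟨a, ha⟩ hd'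
  have e1 := bound_six hc (by omega) h7
  have e2 := bound_six hc' (by omega) h7'
  have e3 := cnt_add_le (G := G) hco
  by_cases hb1 : b = 1
  · rw [hb1, mul_one] at hb
    have e4 := cnt_mul_le hT hT'
    rw [← hb] at e3 e4
    obtain rfl : n = 6 := hn.resolve_left fun h => by have := bound_four hc h h7; omega
    obtain rfl : n' = 6 := hn'.resolve_left fun h => by have := bound_four hc' h h7'; omega
    rw [← le_antisymm e3 e4] at hR
    rcases eq_of_add_of_mul hr hr' (arith_two_tori hG (by omega) (by omega) (by omega) hb.symm hc hc' hR) hb.symm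
      with ⟨h4, h5⟩ | ⟨h4, h5⟩
    exacts [⟨T, T', hT, hT', h4, h5, hN, hN'⟩, ⟨T', T, hT', hT, h4, h5, hN', hN⟩]
  · obtain ⟨p'', hp'', h4⟩ := Nat.exists_prime_and_dvd hb1
    obtain ⟨T'', hT'', h5, hd'', h7'', n'', hn'', hN''⟩ := hex hp'' (hb ▸ h4.mul_left _)
    have hc'' := hT''.cnt_mul
    rw [hN''] at hc''
    have hco' : (Nat.card T * Nat.card T').Coprime (Nat.card T'') := Nat.Coprime.mul_left
      (hT.coprime_card hT'' h5 (hnext hT (a := Nat.card T' * b) (by rw [hb, mul_assoc]) (h4.mul_left _) hp''))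
      (hT'.coprime_card hT'' h5 (hnext hT' (a := Nat.card T * b) (by rw [hb]; exact Dvd.intro 1 (by ring))
        (h4.mul_left _) hp''))
    have e4 := bound_six hc'' (by omega) h7''
    have e5 := cnt_add_le (G := G) hco'
    have e6 := cnt_mono (G := G) (hco'.mul_dvd_of_dvd_of_dvd ⟨b, hb⟩ hd'')
    omega

end ReeModel

end Cfsg.Lib.Known.Ree
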