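/-
Small Ree groups: the four Hall tori, element orders and solvable subgroups.
-/
import Cfsg.Agent.Known.ReePi
import Cfsg.Agent.S0048

set_option autoImplicit false

namespace Cfsg.Lib.Known.Ree

open GL2

theorem card_order_two_mul {T : Type*} [Group T] (hT : ∀ a b : T, Commute a b) {i : ℕ} (hi : Odd i) :
    Nat.card {g : T // orderOf g = 2 * i} = Nat.card {g : T // orderOf g = 2} * Nat.card {g : T // orderOf g = i} := by
  obtain ⟨k, rfl⟩ := hi
  rw [← Nat.card_prod]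
  refine Nat.card_congr ⟨fun g => (⟨g.1 ^ (2 * k + 1), ?_⟩, ⟨g.1 ^ (2 * k + 2), ?_⟩), fun p => ⟨p.1.1 * p.2.1, ?_⟩,
    fun g => Subtype.ext ?_, fun p => Prod.ext (Subtype.ext ?_) (Subtype.ext ?_)⟩
  · rw [orderOf_pow' _ (by omega), g.2, Nat.gcd_eq_right (Dvd.intro_left 2 rfl), Nat.mul_div_cancel _ (by omega)]
  · rw [orderOf_pow' _ (by omega), g.2, show 2 * k + 2 = 2 * (k + 1) by ring, Nat.gcd_mul_left,
      show (2 * k + 1).gcd (k + 1) = 1 by rw [show 2 * k + 1 = k + (k + 1) by ring, Nat.gcd_add_self_left]; simp,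
      mul_one, Nat.mul_div_cancel_left _ two_pos]
  · rw [(hT _ _).orderOf_mul_eq_mul_orderOf_of_coprime (by rw [p.1.2, p.2.2]; simp), p.1.2, p.2.2]
  · have := pow_orderOf_eq_one g.1
    rw [g.2] at this
    simp only
    rw [← pow_add, show 2 * k + 1 + (2 * k + 2) = 2 * (2 * k + 1) + 1 by ring, pow_succ, this, one_mul]
  · have h1 := pow_orderOf_eq_one p.1.1
    have h2 := pow_orderOf_eq_one p.2.1
    rw [p.1.2] at h1
    rw [p.2.2] at h2
    simp only
    rw [(hT _ _).mul_pow, h2, mul_one, pow_succ, pow_mul, h1, one_pow, one_mul]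
  · have h1 := pow_orderOf_eq_one p.1.1
    have h2 := pow_orderOf_eq_one p.2.1
    rw [p.1.2] at h1
    rw [p.2.2] at h2
    simp only
    rw [(hT _ _).mul_pow, pow_succ p.2.1, h2, show 2 * k + 2 = 2 * (k + 1) by ring, pow_mul, h1, one_pow, one_mul,
      one_mul]

theorem exists_orderOf_eq_of_dvd {G : Type*} [Group G] [Finite G] {C : Subgroup G} (hC : IsCyclic C) {d : ℕ}
    (hd : d ∣ Nat.card C) : ∃ g : G, orderOf g = d := by
  obtain ⟨a, ha⟩ := hC.exists_ofOrder_eq_natCard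
  rw [← Subgroup.orderOf_coe] at ha
  exact ⟨_, orderOf_pow_orderOf_div (orderOf_pos (a : G)).ne' (ha ▸ hd)⟩

theorem exists_pgroup_normalized {G : Type*} [Group G] [Finite G] {S : Subgroup G} (hS : Group.IsSolvable S)
    (h : S ≠ ⊥) : ∃ p : ℕ, p.Prime ∧ ∃ B : Subgroup G, B ≤ S ∧ B ≠ ⊥ ∧ IsPGroup p B ∧
      S ≤ Subgroup.normalizer (B : Set G) := by
  have := (Subgroup.nontrivial_iff_ne_bot S).2 h
  obtain ⟨p, hp, N, hN, h1, h2⟩ := Cfsg.Agent.S0048.exists_normal_pgroup S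
  refine ⟨p, hp, N.map S.subtype, Subgroup.map_subtype_le _, fun e => h1 ?_, h2.map _, ?_⟩
  · rwa [Subgroup.map_eq_bot_iff_of_injective _ S.subtype_injective] at e
  · have := Subgroup.le_normalizer_map (H := N) S.subtype
    rwa [Subgroup.normalizer_eq_top, ← MonoidHom.range_eq_map, Subgroup.range_subtype] at this

namespace ReeModel

variable {K : Type*} [Field K] [Fintype K] {τ : RTw K} {m : ℕ} {G : Type*} [Group G] (M : ReeModel τ m G)

/-- The model moved by an inner automorphism. -/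
def conj (k : G) : ReeModel τ m G := M.ofEquiv (MulAut.conj k⁻¹)

theorem conj_x (k : G) (a b c : K) : (M.conj k).x a b c = k * M.x a b c * k⁻¹ := by simp [conj, ofEquiv]
theorem conj_h (k : G) (l : Kˣ) : (M.conj k).h l = k * M.h l * k⁻¹ := by simp [conj, ofEquiv, h]
theorem conj_w (k : G) : (M.conj k).w = k * M.w * k⁻¹ := by simp [conj, ofEquiv]
theorem conj_t (k : G) : (M.conj k).t = k * M.t * k⁻¹ := M.conj_h k _

include M in
theorem exists_t_eq {v : G} (hv : orderOf v = 2) : ∃ M' : ReeModel τ m G, M'.t = v := by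
  obtain ⟨k, rfl⟩ := isConj_iff.1 (M.isConj_t hv)
  exact ⟨M.conj k, M.conj_t k⟩

include M in
theorem N_eq : Fintype.card K ^ 2 - Fintype.card K + 1 =
    (Fintype.card K - 3 ^ (m + 1) + 1) * (Fintype.card K + 3 ^ (m + 1) + 1) := by
  have h1 := M.fin.r_sq
  have h2 := M.fin.r_le
  zify [h2, Nat.le_self_pow two_ne_zero (Fintype.card K)] at h1 ⊢
  linear_combination h1

/-- `k` is the order of one of the four cyclic Hall subgroups. -/
def IsK (q r k : ℕ) : Prop := k = (q - 1) / 2 ∨ k = (q + 1) / 4 ∨ k = q - r + 1 ∨ k = q + r + 1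

include M in
theorem exists_tor (hm : 1 ≤ m) {k : ℕ} (hk : IsK (Fintype.card K) (3 ^ (m + 1)) k) :
    ∃ T A : Subgroup G, IsTor T A ∧ Nat.card A = k := by
  obtain ⟨T, T', h, h', e, e', -⟩ := M.exists_pi_tori hm
  rcases hk with rfl | rfl | rfl | rfl
  exacts [⟨_, _, M.isTor_H, M.card_A₀⟩, ⟨_, _, M.isTor_T₁, M.card_A₁⟩, ⟨_, _, h, e⟩, ⟨_, _, h', e'⟩]

include M in
theorem exists_isK {p : ℕ} (hp : p.Prime) (h2 : p ≠ 2) (h3 : p ≠ 3) (h : p ∣ Nat.card G) :
    ∃ k, IsK (Fintype.card K) (3 ^ (m + 1)) k ∧ p ∣ k := by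
  rcases M.prime_cases hp h with h | h | h | h | h
  · exact absurd h h2
  · exact absurd h h3
  · exact ⟨_, Or.inl M.card_A₀, h⟩
  · exact ⟨_, Or.inr (Or.inl M.card_A₁), h⟩
  · rcases hp.dvd_mul.1 (M.N_eq ▸ h) with h | h
    exacts [⟨_, Or.inr (Or.inr (Or.inl rfl)), h⟩, ⟨_, Or.inr (Or.inr (Or.inr rfl)), h⟩]

include M in
theorem isCyclic_of_isPGroup (hm : 1 ≤ m) {p : ℕ} [hp : Fact p.Prime] (h3 : 3 < p) {B : Subgroup G}
    (hB : IsPGroup p B) : IsCyclic B := by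
  have := M.finite
  rcases hB.card_eq_or_dvd with h | h
  · have := (Nat.card_eq_one_iff_unique.1 h).1
    infer_instance
  · obtain ⟨k, hk, h1⟩ := M.exists_isK hp.out (by omega) (by omega) (h.trans (B.card_subgroup_dvd_card))
    obtain ⟨T, A, hT, rfl⟩ := M.exists_tor hm hk
    exact hT.isCyclic_of_isPGroup h1 hB

theorem orderOf_dvd_of_mem_T₁ {g : G} (hg : g ∈ M.T₁) : orderOf g ∣ (Fintype.card K + 1) / 2 := by
  have := M.finite
  have h1 : ∀ y ∈ C₁ K, M.φ y ^ ((Fintype.card K + 1) / 2) = 1 := fun y hy => orderOf_dvd_iff_pow_eq_one.1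
    (M.card_map_C₁ ▸ Subgroup.orderOf_dvd_natCard _ (Subgroup.mem_map_of_mem M.φ hy))
  have h2 := M.fin.mod_eight
  obtain ⟨y, hy, rfl | rfl⟩ := hg
  · exact orderOf_dvd_of_pow_eq_one (h1 y hy)
  · refine orderOf_dvd_of_pow_eq_one ?_
    rw [(M.commute_t_φ y).mul_pow, h1 y hy, mul_one, ← orderOf_dvd_iff_pow_eq_one, orderOf_t]
    omega

include M in
theorem exists_orderOf_iff (hm : 1 ≤ m) (d : ℕ) : (∃ g : G, orderOf g = d) ↔
    (d ∣ 6 ∨ d ∣ 9 ∨ d ∣ Fintype.card K - 1 ∨ d ∣ (Fintype.card K + 1) / 2 ∨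
      d ∣ Fintype.card K - 3 ^ (m + 1) + 1 ∨ d ∣ Fintype.card K + 3 ^ (m + 1) + 1) := by
  have := M.finite
  obtain ⟨T, T', h, h', e, e', -⟩ := M.exists_pi_tori hm
  constructor
  · rintro ⟨g, rfl⟩
    rcases M.orderOf_cases g with h1 | h1 | h1 | h1 | h1 | h1 | h1 | h1
    iterate 5 simp [h1]
    · simp [h1.2]
    · obtain ⟨k, hk⟩ := M.exists_conj_mem_T₁ h1.1 h1.2
      have := M.orderOf_dvd_of_mem_T₁ hk
      rw [orderOf_conj'] at this
      simp [this]
    · obtain ⟨p, hp, h2⟩ := Nat.exists_prime_and_dvd h1.1.ne'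
      rcases hp.dvd_mul.1 (M.N_eq ▸ h2.trans h1.2) with h3 | h3
      · simp [e ▸ h.orderOf_dvd_of_prime hp (e ▸ h3) h2]
      · simp [e' ▸ h'.orderOf_dvd_of_prime hp (e' ▸ h3) h2]
  · have key : ∀ g : G, d ∣ orderOf g → ∃ g : G, orderOf g = d := fun g hg =>
      ⟨_, orderOf_pow_orderOf_div (orderOf_pos g).ne' hg⟩
    rintro (h1 | h1 | h1 | h1 | h1 | h1)
    · exact key _ (M.orderOf_Q_mul_t one_ne_zero ▸ h1)
    · exact key _ (M.orderOf_x one_ne_zero 0 0 ▸ h1)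
    · exact exists_orderOf_eq_of_dvd M.isCyclic_H (M.card_H ▸ h1)
    · exact exists_orderOf_eq_of_dvd M.isCyclic_map_C₁ (M.card_map_C₁ ▸ h1)
    · exact exists_orderOf_eq_of_dvd h.cyc (e ▸ h1)
    · exact exists_orderOf_eq_of_dvd h'.cyc (e' ▸ h1)

include M in
theorem card_order_split (hm : 1 ≤ m) {i : ℕ} (h2 : 2 < i) (hi : i ∣ Fintype.card K - 1) :
    2 * Nat.card {g : G // orderOf g = i} = i.totient * Fintype.card K ^ 3 * (Fintype.card K ^ 3 + 1) := by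
  have := M.finite
  have h1 := M.isTor_H.card_mul (· = i) (fun _ e => e ▸ h2) fun x hx => M.exists_conj_mem_H (hx ▸ h2) (hx ▸ hi)
  rw [IsTor.card_orderOf_eq M.isCyclic_H (M.card_H ▸ hi), M.card_normalizer_H hm, M.card_G] at h1
  have h3 := M.fin.three_le
  apply Nat.eq_of_mul_eq_mul_right (show 0 < Fintype.card K - 1 by omega)
  linear_combination h1

include M in
theorem card_G'' : Nat.card G = Fintype.card K ^ 3 * (Fintype.card K - 1) *
    (Fintype.card K ^ 2 - Fintype.card K + 1) * (Fintype.card K + 1) := by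
  rw [M.card_G]
  zify [Nat.le_self_pow two_ne_zero (Fintype.card K)]
  ring

include M in
theorem card_order_nonsplit (hm : 1 ≤ m) {i : ℕ} (h1 : 1 < i) (hi : i ∣ (Fintype.card K + 1) / 4) :
    6 * Nat.card {g : G // orderOf g = i} =
      i.totient * Fintype.card K ^ 3 * (Fintype.card K - 1) * (Fintype.card K ^ 2 - Fintype.card K + 1) := by
  have := M.finite
  have h2 := M.isTor_T₁.card_order_mul h1 (M.card_A₁ ▸ hi)
  rw [M.card_normalizer_T₁ hm, M.card_G''] at h2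
  apply Nat.eq_of_mul_eq_mul_right (show 0 < Fintype.card K + 1 by omega)
  linear_combination h2

theorem card_T₁_two_mul {i : ℕ} (hi : i ∣ (Fintype.card K + 1) / 4) :
    Nat.card {g : M.T₁ // orderOf g = 2 * i} = 3 * i.totient := by
  have := M.finite
  rw [card_order_two_mul (fun a b => Subtype.ext (M.T₁_comm a a.2 b b.2))
    (M.isTor_T₁.odd_card.of_dvd_nat (M.card_A₁ ▸ hi)), M.isTor_T₁.card_orderOf_eq_odd (d := i) (M.card_A₁ ▸ hi)]
  have h1 : Nat.card {g : M.T₁ // orderOf g = 2} = ({x | x ∈ M.T₁ ∧ x * x = 1} \ {1}).ncard :=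
    Nat.card_congr ⟨fun x => ⟨x.1, ⟨x.1.2, by
      rw [← sq, ← orderOf_dvd_iff_pow_eq_one, Subgroup.orderOf_coe, x.2]⟩,
      fun e => by have := x.2; rw [← Subgroup.orderOf_coe, Set.mem_singleton_iff.1 e] at this; simp at this⟩,
      fun x => ⟨⟨x.1, x.2.1.1⟩, (Subgroup.orderOf_mk _ _).trans (orderOf_eq_prime (by rw [sq]; exact x.2.1.2) x.2.2)⟩,
      fun _ => rfl, fun _ => rfl⟩
  rw [h1, Set.ncard_sdiff_singleton_of_mem (by simp), M.ncard_invol_T₁]

include M in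
theorem card_order_nonsplit_two (hm : 1 ≤ m) {i : ℕ} (h1 : 1 < i) (hi : i ∣ (Fintype.card K + 1) / 4) :
    2 * Nat.card {g : G // orderOf g = 2 * i} =
      i.totient * Fintype.card K ^ 3 * (Fintype.card K - 1) * (Fintype.card K ^ 2 - Fintype.card K + 1) := by
  have := M.finite
  have h3 := M.fin.mod_eight
  have h2 := M.isTor_T₁.card_mul (· = 2 * i) (fun _ e => by omega) fun x hx => M.exists_conj_mem_T₁ (by omega)
    (hx ▸ (Nat.mul_dvd_mul_left 2 hi).trans (Dvd.intro 2 (by omega)))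
  rw [M.card_T₁_two_mul hi, M.card_normalizer_T₁ hm, M.card_G''] at h2
  apply Nat.eq_of_mul_eq_mul_right (show 0 < 3 * (Fintype.card K + 1) by omega)
  linear_combination h2

include M in
theorem card_order_pi {T : Subgroup G} (hT : IsTor T T) (hN : Nat.card (Subgroup.normalizer (T : Set G)) =
    6 * Nat.card T) {k : ℕ} (hk : Fintype.card K ^ 2 - Fintype.card K + 1 = Nat.card T * k) {i : ℕ} (h1 : 1 < i)
    (hi : i ∣ Nat.card T) :
    6 * Nat.card {g : G // orderOf g = i} = i.totient * Fintype.card K ^ 3 * (Fintype.card K ^ 2 - 1) * k := by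
  have := M.finite
  have h2 := hT.card_order_mul h1 hi
  rw [hN, M.card_G'', hk] at h2
  rw [show Fintype.card K ^ 2 - 1 = (Fintype.card K + 1) * (Fintype.card K - 1) from Nat.sq_sub_sq _ 1]
  apply Nat.eq_of_mul_eq_mul_right (Nat.card_pos (α := T))
  linear_combination h2

theorem mem_T₁_of_commute_tw {g : G} (h1 : Commute g M.t) (h2 : Commute g M.w) (h : g * g ≠ 1) : g ∈ M.T₁ := by
  have key : ∀ z, M.φ z * M.φ z ≠ 1 → Commute (M.φ z) M.w → z ∈ C₁ K := fun z hz h => by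
    rcases M.commute_φ_iff.1 (M.φ_w ▸ h) with h | h
    · exact Subgroup.mem_centralizer_singleton_iff.2 h
    · have h3 := (slLin K).trace_eq_of_isConj (isConj_iff.2 ⟨(slLin K).w, show
        (slLin K).w * z * ((slLin K).w)⁻¹ = -z by rw [mul_inv_eq_iff_eq_mul, neg_mul, h, neg_neg]⟩)
      rw [ρ_neg_SL, Matrix.trace_neg] at h3
      exact absurd (M.φ_mul_self_iff.2 (Or.inr (τ.eq_zero_of_neg_eq h3.symm))) hz
  obtain ⟨z, rfl | rfl⟩ := M.exists_of_commute_t h1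
  · exact ⟨z, key z h h2, Or.inl rfl⟩
  · exact ⟨z, key z (by rwa [← mul_assoc, t_conj_φ] at h)
      (by simpa [← mul_assoc] using M.commute_t_w.mul_left h2), Or.inr rfl⟩

include M in
theorem exists_tw_mem {B : Subgroup G} (hB : ∀ b ∈ B, b * b = 1) (h : 2 < Nat.card B) :
    ∃ M' : ReeModel τ m G, M'.t ∈ B ∧ M'.w ∈ B := by
  have := M.finite
  have key : ∀ v : G, ∃ y ∈ B, y ≠ 1 ∧ y ≠ v := fun v => by
    by_contra! hc
    have h1 : (B : Set G) ⊆ {1, v} := fun y hy => by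
      by_cases e : y = 1
      exacts [Or.inl e, Or.inr (hc y hy e)]
    have h2 := (Set.ncard_le_ncard h1).trans ((Set.ncard_insert_le 1 {v}).trans (by simp : _ ≤ 2))
    rw [← Nat.card_coe_set_eq] at h2
    exact absurd h (not_lt.2 h2)
  obtain ⟨v, hv, hv1, -⟩ := key 1
  obtain ⟨M, rfl⟩ := M.exists_t_eq (orderOf_eq_prime (by rw [sq, hB v hv]) hv1)
  obtain ⟨y, hy, h1, h2⟩ := key M.t
  obtain ⟨z, hz, hz1⟩ : ∃ z, M.φ z ∈ B ∧ M.φ z ≠ 1 := by
    obtain ⟨z, rfl | rfl⟩ := M.exists_of_commute_t (g := y) (by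
      have h3 := hB _ (B.mul_mem hy hv)
      calc y * M.t = y * (y * M.t * (y * M.t)) * M.t⁻¹ * M.t * M.t := by rw [h3]; group
        _ = y * y * (M.t * y) * (M.t * M.t) := by group
        _ = _ := by rw [hB y hy, M.t_mul_t, one_mul, mul_one])
    · exact ⟨z, hy, h1⟩
    · exact ⟨z, (B.mul_mem_cancel_left hv).1 hy, fun e => h2 (by rw [e, mul_one])⟩
  obtain ⟨u, rfl⟩ := isConj_iff.1 (isConj_of_trace_SL (g := (slLin K).w) (h := z) (by
      rw [trace_w_SL]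
      intro h4
      exact τ.two_ne_zero (pow_eq_zero_iff (n := 2) (by norm_num) |>.1 (by linear_combination -h4)))
    (by rw [trace_w_SL, (M.φ_mul_self_iff.1 (hB _ hz)).resolve_left fun e => hz1 (M.φ_eq_one_iff.2 e)]))
  refine ⟨M.conj (M.φ u), ?_, ?_⟩
  · rwa [conj_t, ← (M.commute_t_φ u).eq, mul_inv_cancel_right]
  · rwa [conj_w, ← φ_w, ← map_inv, ← map_mul, ← map_mul]

end ReeModel

/-- The subgroups whose normalisers cover the solvable subgroups. -/
def IsLocal (q r : ℕ) {G : Type*} [Group G] (S : Subgroup G) : Prop :=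
  ∃ A : Subgroup G, S ≤ Subgroup.normalizer (A : Set G) ∧
    ((∃ P : Sylow 2 G, A = P) ∨ (∃ P : Sylow 3 G, A = P) ∨ (IsCyclic A ∧ ReeModel.IsK q r (Nat.card A)))

namespace ReeModel

variable {K : Type*} [Field K] [Fintype K] {τ : RTw K} {m : ℕ} {G : Type*} [Group G] (M : ReeModel τ m G)

include M in
theorem isLocal_of_two (hm : 1 ≤ m) {S B : Subgroup G} (hB : IsPGroup 2 B) (h : 2 < Nat.card B)
    (hS : S ≤ Subgroup.normalizer (B : Set G)) : IsLocal (Fintype.card K) (3 ^ (m + 1)) S := by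
  have := M.finite
  obtain ⟨P, hP⟩ := hB.exists_le_sylow
  have h8 : Nat.card P = 8 := by
    obtain ⟨k, hk⟩ := M.exists_sylow_two_eq P
    rw [← M.card_S, ← card_map_equiv (MulAut.conj k) M.S, ← hk]
  have h1 : Nat.card B ∣ 2 ^ 3 := (Subgroup.card_dvd_of_le hP).trans h8.dvd
  obtain ⟨i, hi, e⟩ := (Nat.dvd_prime_pow Nat.prime_two).1 h1
  interval_cases i
  · omega
  · omega
  · have hsq : ∀ b ∈ B, b * b = 1 := fun b hb => by
      obtain ⟨k, hk⟩ := hB ⟨b, hb⟩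
      exact M.mul_self_of_pow (congrArg Subtype.val hk)
    obtain ⟨M, ht, hw⟩ := M.exists_tw_mem hsq h
    have h2 : {x | x ∈ M.T₁ ∧ x * x = 1} = (B : Set G) := Set.eq_of_subset_of_ncard_le (fun x hx => by
      rcases M.cases_of_mem_T₁ hx.1 hx.2 with rfl | rfl | rfl | rfl
      exacts [B.one_mem, ht, hw, B.mul_mem ht hw]) (by rw [M.ncard_invol_T₁]; exact e.le)
    obtain ⟨a, ha, ha1⟩ := M.exists_mem_A₁ hm
    refine ⟨M.A₁, fun g hg => M.isTor_T₁.normalizer_le le_rfl ?_, Or.inr (Or.inr ⟨M.isTor_T₁.cyc,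
      Or.inr (Or.inl M.card_A₁)⟩)⟩
    have h3 := mul_self_ne_one_of_odd ha.2 ha1
    have h4 : ∀ v ∈ B, Commute (g * a * g⁻¹) v := fun v hv => by
      have h5 : g⁻¹ * v * g ∈ (B : Set G) := by
        simpa using (Subgroup.mem_normalizer_iff.1 (Subgroup.inv_mem _ (hS hg)) v).1 hv
      rw [← h2] at h5
      simpa [mul_assoc] using Commute.map (M.T₁_comm a ha.1 _ h5.1) (MulAut.conj g)
    exact M.isTor_T₁.mem_normalizer ha.1 h3 (M.mem_T₁_of_commute_tw (h4 _ ht) (h4 _ hw) (conj_mul_self_ne_one h3))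
  · exact ⟨B, hS, Or.inl ⟨P, Subgroup.eq_of_le_of_card_ge hP (by rw [h8, e]; rfl)⟩⟩

include M in
theorem isLocal_of_odd (hm : 1 ≤ m) {p : ℕ} (hp : p.Prime) (h2 : p ≠ 2) {S B : Subgroup G} (hB : IsPGroup p B)
    (h : B ≠ ⊥) (hS : S ≤ Subgroup.normalizer (B : Set G)) : IsLocal (Fintype.card K) (3 ^ (m + 1)) S := by
  have := M.finite
  have := Fact.mk hp
  by_cases h3 : p = 3
  · subst h3
    obtain ⟨P, hP⟩ := hB.exists_le_sylow
    refine ⟨P, fun g hg => Sylow.smul_eq_iff_mem_normalizer.1 ?_, Or.inr (Or.inl ⟨P, rfl⟩)⟩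
    by_contra hc
    refine h (eq_bot_iff.2 (M.sylow_three_inf hc ▸ le_inf (fun b hb => ?_) hP))
    have h5 : g⁻¹ * b * g ∈ (B : Set G) := by
      simpa using (Subgroup.mem_normalizer_iff.1 (Subgroup.inv_mem _ (hS hg)) b).1 hb
    rw [Sylow.coe_subgroup_smul, Subgroup.mem_pointwise_smul_iff_inv_smul_mem]
    simpa using hP h5
  · obtain ⟨k, hk, h1⟩ := M.exists_isK hp h2 h3 ((hB.card_eq_or_dvd.resolve_left fun e =>
      h (Subgroup.card_eq_one.1 e)).trans B.card_subgroup_dvd_card)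
    obtain ⟨T, A, hT, rfl⟩ := M.exists_tor hm hk
    obtain ⟨C, h4, h5, h6⟩ := hT.exists_normalizer_eq h1 hB h
    exact ⟨C, h6 ▸ hS, Or.inr (Or.inr ⟨h4, h5 ▸ hk⟩)⟩

omit [Fintype K] in
theorem isLocal_of_isPGroup {q r : ℕ} {S : Subgroup G} (hS : IsPGroup 2 S) : IsLocal q r S := by
  obtain ⟨P, hP⟩ := hS.exists_le_sylow
  exact ⟨P, hP.trans Subgroup.le_normalizer, Or.inl ⟨P, rfl⟩⟩

theorem isLocal_of_le (hm : 1 ≤ m) {S : Subgroup G} (hS : Group.IsSolvable S) (ht : M.t ∈ S)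
    (h : S ≤ Subgroup.centralizer {M.t}) : IsLocal (Fintype.card K) (3 ^ (m + 1)) S := by
  have := M.finite
  have hc : ∀ g ∈ S, ∃ z, M.φ z ∈ S ⊓ M.φ.range ∧ (g = M.φ z ∨ g = M.t * M.φ z) := fun g hg => by
    obtain ⟨z, rfl | rfl⟩ := M.exists_of_commute_t (Subgroup.mem_centralizer_singleton_iff.1 (h hg))
    exacts [⟨z, ⟨hg, z, rfl⟩, Or.inl rfl⟩, ⟨z, ⟨(S.mul_mem_cancel_left ht).1 hg, z, rfl⟩, Or.inr rfl⟩]
  by_cases h1 : S ⊓ M.φ.range = ⊥
  · refine isLocal_of_isPGroup fun g => ⟨1, Subtype.ext ?_⟩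
    obtain ⟨z, hz, e⟩ := hc g g.2
    rw [h1, Subgroup.mem_bot] at hz
    rcases e with e | e <;> simp [e, hz, sq]
  obtain ⟨p, hp, B, h2, h3, h4, h5⟩ := exists_pgroup_normalized (S := S ⊓ M.φ.range)
    (Group.isSolvable_of_isSolvable_injective (Subgroup.inclusion_injective inf_le_left)) h1
  have h6 : ∀ g ∈ S, ∀ y, M.φ y ∈ B → ∃ y', M.φ y' ∈ B ∧ g * M.φ y * g⁻¹ = M.φ y' := fun g hg y hy => by
    obtain ⟨z, hz, e⟩ := hc g hg
    exact ⟨_, M.conj_φ_of_eq (Or.inl rfl) y ▸ (Subgroup.mem_normalizer_iff.1 (h5 hz) _).1 hy, M.conj_φ_of_eq e y⟩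
  by_cases h7 : p = 2
  · subst h7
    refine M.isLocal_of_two hm (B := M.tl (B.comap M.φ)) ?_ ?_ fun g hg => Subgroup.mem_normalizer_fintype ?_
    · rintro ⟨_, y, hy, rfl | rfl⟩
      · obtain ⟨k, hk⟩ := h4 ⟨_, hy⟩
        exact ⟨k, Subtype.ext (congrArg Subtype.val hk :)⟩
      · obtain ⟨k, hk⟩ := h4 ⟨_, hy⟩
        refine ⟨1, Subtype.ext ?_⟩
        have := M.mul_self_of_pow (congrArg Subtype.val hk)
        simp only [pow_one, sq, Subgroup.coe_mul, Subgroup.coe_one]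
        rwa [← mul_assoc, t_conj_φ]
    · obtain ⟨⟨b, hb⟩, hb1⟩ := Subgroup.ne_bot_iff_exists_ne_one.1 h3
      obtain ⟨y, rfl⟩ := (h2 hb).2
      have h8 : ({1, M.t, M.φ y} : Set G) ⊆ M.tl (B.comap M.φ) := by
        rintro _ (rfl | rfl | rfl)
        exacts [Subgroup.one_mem _, M.t_mem_tl _, M.φ_mem_tl hb]
      have h9 := Set.ncard_le_ncard h8
      rw [(Set.ncard_eq_three.2 ⟨_, _, _, M.t_ne_one.symm, fun e => hb1 (Subtype.ext e.symm),
        (M.φ_ne_t y).symm, rfl⟩ :), ← Nat.card_coe_set_eq] at h9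
      exact h9
    · rintro _ ⟨y, hy, rfl | rfl⟩
      · obtain ⟨y', h8, e⟩ := h6 g hg y hy
        exact ⟨y', h8, Or.inl e⟩
      · obtain ⟨y', h8, e⟩ := h6 g hg y hy
        refine ⟨y', h8, Or.inr ?_⟩
        rw [← e, ← mul_assoc, (Subgroup.mem_centralizer_singleton_iff.1 (h hg) :)]
        simp only [mul_assoc]
  · refine M.isLocal_of_odd hm hp h7 h4 h3 fun g hg => Subgroup.mem_normalizer_fintype fun b hb => ?_
    obtain ⟨y, rfl⟩ := (h2 hb).2
    obtain ⟨y', h8, e⟩ := h6 g hg y hb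
    exact e ▸ h8

include M in
theorem isLocal_of_isSolvable (hm : 1 ≤ m) {S : Subgroup G} (hS : Group.IsSolvable S) :
    IsLocal (Fintype.card K) (3 ^ (m + 1)) S := by
  have := M.finite
  by_cases h : S = ⊥
  · exact isLocal_of_isPGroup (h ▸ IsPGroup.of_bot)
  obtain ⟨p, hp, B, h1, h2, h3, h4⟩ := exists_pgroup_normalized hS h
  by_cases h5 : p = 2
  · subst h5
    by_cases h6 : 2 < Nat.card B
    · exact M.isLocal_of_two hm h3 h6 h4
    obtain ⟨⟨b, hb⟩, hb1⟩ := Subgroup.ne_bot_iff_exists_ne_one.1 h2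
    have hb2 : b ≠ 1 := fun e => hb1 (Subtype.ext e)
    obtain ⟨k, hk⟩ := h3 ⟨b, hb⟩
    obtain ⟨M, rfl⟩ := M.exists_t_eq (v := b) (orderOf_eq_prime (by
      rw [sq]; exact M.mul_self_of_pow (congrArg Subtype.val hk)) hb2)
    refine M.isLocal_of_le hm hS (h1 hb) fun g hg => Subgroup.mem_centralizer_singleton_iff.2 ?_
    have h7 : ({1, M.t} : Set G) = B := Set.eq_of_subset_of_ncard_le (by
      rintro _ (rfl | rfl)
      exacts [B.one_mem, hb]) (by rw [Set.ncard_pair hb2.symm, ← Nat.card_coe_set_eq]; exact not_lt.1 h6)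
    have h8 : g * M.t * g⁻¹ ∈ (B : Set G) := (Subgroup.mem_normalizer_iff.1 (h4 hg) _).1 hb
    rcases h7 ▸ h8 with e | e
    · exact absurd (conj_eq_one_iff.1 e) hb2
    · exact mul_inv_eq_iff_eq_mul.1 e
  · exact M.isLocal_of_odd hm hp h5 h3 h2 h4

end ReeModel

end Cfsg.Lib.Known.Ree
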