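/-
Small Ree groups: the lower bound for the character degrees.
-/
import Cfsg.Agent.Known.ReeLocal
import Cfsg.Agent.Known.SzCharU

set_option autoImplicit false

namespace Cfsg.Lib.Known.Ree

open Cfsg Cfsg.Lib.Char
open scoped ComplexConjugate

theorem sum_mul_eq_zero_of_sum {G A : Type*} [Group G] [Group A] [Fintype A] {χ : G → ℂ} (hχ : IsCharacter G χ)
    (f : A →* G) (h : ∑ a, χ (f a) = 0) (g : G) : ∑ a, χ (g * f a) = 0 := by
  obtain ⟨d, ρ, rfl⟩ := hχ
  have hA : (Fintype.card A : ℂ) ≠ 0 := by simp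
  have h1 : IsIdempotentElem ((Fintype.card A : ℂ)⁻¹ • ∑ a, ρ (f a)) := by
    have h2 : ∀ b, ρ (f b) * ∑ a, ρ (f a) = ∑ a, ρ (f a) := fun b => by
      rw [Finset.mul_sum]
      exact Fintype.sum_equiv (Equiv.mulLeft b) _ _ fun a => by simp
    rw [IsIdempotentElem, smul_mul_smul_comm, Finset.sum_mul, Finset.sum_congr rfl fun b _ => h2 b, Finset.sum_const,
      Finset.card_univ, ← Nat.cast_smul_eq_nsmul ℂ, smul_smul, inv_mul_cancel_right₀ hA]
  have h2 := (smul_eq_zero.1 (LinearMap.IsIdempotentElem.eq_zero_of_trace_eq_zero h1 (by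
    rw [map_smul, map_sum]
    exact smul_eq_zero_of_right _ h))).resolve_left (inv_ne_zero hA)
  have h3 : ∑ a, ρ.character (g * f a) = LinearMap.trace ℂ _ (ρ g * ∑ a, ρ (f a)) := by
    rw [Finset.mul_sum, map_sum]
    simp only [Representation.character, map_mul]
  rw [h3, h2, mul_zero, map_zero]

namespace ReeModel

variable {K : Type*} [Field K] [Fintype K] {τ : RTw K} {m : ℕ} {G : Type*} [Group G] (M : ReeModel τ m G)

/-- The centre of `U` as a homomorphism. -/
def zHom : Multiplicative K →* G := MonoidHom.mk' (fun c => M.x 0 0 c.toAdd) fun a b => by simp [x_mul_E]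

/-- The subgroup `E` as a homomorphism. -/
def eHom : Multiplicative (K × K) →* G :=
  MonoidHom.mk' (fun c => M.x 0 c.toAdd.1 c.toAdd.2) fun a b => by simp [x_mul_E]

theorem isConj_Z {c : K} (hc : c ≠ 0) : IsConj (M.x 0 0 1) (M.x 0 0 c) := by
  obtain ⟨l, hl⟩ := τ.exists_unit_sq_mul_σ hc
  exact isConj_iff.2 ⟨M.h l, by rw [h_conj_x, hl]; simp⟩

theorem isConj_E {b : K} (hb : b ≠ 0) (c : K) : IsConj (M.x 0 b 0) (M.x 0 b c) :=
  isConj_iff.2 ⟨M.x (c / b) 0 0, by rw [x_conj_E, div_mul_cancel₀ _ hb, zero_add]⟩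

theorem isConj_t_mul_Z (c : K) : IsConj M.t (M.t * M.x 0 0 c) :=
  isConj_iff.2 ⟨M.x 0 0 c, by
    rw [x_inv_E, t_mul_x, mul_assoc, t_mul_x, ← mul_assoc, Z_mul_x]
    congr 1
    exact M.x_congr (by simp) (by simp) (by linear_combination c * τ.three)⟩

theorem sum_Z {χ : G → ℂ} (hχ : IsClassFunction G χ) :
    ∑ c : Multiplicative K, χ (M.zHom c) = χ 1 + (Fintype.card K - 1) * χ (M.x 0 0 1) := by
  rw [← M.x_zero, ← SzChar.sum_eq_zero_add (f := fun c => χ (M.x 0 0 c)) fun c hc =>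
    (hχ.eq_of_isConj (M.isConj_Z hc)).symm]
  exact Fintype.sum_equiv Multiplicative.toAdd _ _ fun _ => rfl

theorem exists_n₀ {χ : G → ℂ} (hχ : IsCharacter G χ) :
    ∃ n : ℕ, χ 1 + (Fintype.card K - 1) * χ (M.x 0 0 1) = Fintype.card K * n := by
  obtain ⟨n, hn⟩ := (hχ.comp M.zHom).exists_nat_classInner isCharacter_one
  have h1 := card_mul_classInner (fun b => χ (M.zHom b)) (fun _ => 1)
  simp only [hn, map_one, mul_one, Nat.card_eq_fintype_card, Fintype.card_multiplicative] at h1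
  exact ⟨n, by rw [h1, M.sum_Z hχ.isClassFunction]⟩

theorem exists_n₁ {χ : G → ℂ} (hχ : IsCharacter G χ) :
    ∃ n : ℕ, χ 1 - χ (M.x 0 0 1) = Fintype.card K ^ 2 * n := by
  obtain ⟨lam, hlam⟩ := exists_monoidHom_apply_ne_one_of_comm (G := Multiplicative K) mul_comm
    (g := Multiplicative.ofAdd 1) (by simp)
  have h0 : ∑ c : K, conj (lam (Multiplicative.ofAdd c) : ℂ) = 0 := by
    rw [← map_sum, map_eq_zero, ← sum_monoidHom_apply_of_ne_one (lam := lam) (by rintro rfl; simp at hlam)]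
    exact Fintype.sum_equiv Multiplicative.ofAdd _ _ fun _ => rfl
  let mu : Multiplicative (K × K) →* ℂˣ := lam.comp (AddMonoidHom.snd K K).toMultiplicative
  obtain ⟨n, hn⟩ := (hχ.comp M.eHom).exists_nat_classInner (isIrrCharacter_monoidHom mu).isCharacter
  have h1 := card_mul_classInner (fun b => χ (M.eHom b)) (fun b => mu b)
  rw [hn, ← Fintype.sum_equiv Multiplicative.ofAdd
    (fun p : K × K => conj (lam (Multiplicative.ofAdd p.2) : ℂ) * χ (M.x 0 p.1 p.2)) _ (fun _ => mul_comm _ _),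
    Fintype.sum_prod_type, Finset.sum_eq_single (0 : K) (fun b _ hb => by
      simp only [← hχ.isClassFunction.eq_of_isConj (M.isConj_E hb _), ← Finset.sum_mul, h0, zero_mul]) (by simp),
    SzChar.sum_mul_eq_zero_sub (f := fun c => χ (M.x 0 0 c))
      (fun c hc => (hχ.isClassFunction.eq_of_isConj (M.isConj_Z hc)).symm) h0 (by simp), M.x_zero] at h1
  exact ⟨n, by rw [← h1]; simp [sq]⟩

theorem eight_dvd {χ : G → ℂ} (hχ : IsCharacter G χ) (h : χ M.t = 0) : ∃ n : ℕ, χ 1 = 8 * n := by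
  have := M.finite
  have := Fintype.ofFinite M.S
  obtain ⟨n, hn⟩ := (hχ.res M.S).exists_nat_classInner isCharacter_one
  have h1 := card_mul_classInner (fun b : M.S => χ b) (fun _ => 1)
  rw [hn, M.card_S, Finset.sum_eq_single 1 (fun b _ hb => by
    rw [← hχ.isClassFunction.eq_of_isConj (M.isConj_t (orderOf_eq_prime (by rw [sq, M.mul_self_of_mem_S b.2])
      fun e => hb (Subtype.ext e))), h, zero_mul]) (by simp)] at h1
  exact ⟨n, by simpa using h1.symm⟩

include M in
theorem degree_ge [IsSimpleGroup G] {χ : G → ℂ} (hχ : IsIrrCharacter G χ) (h1 : χ ≠ fun _ => 1) {k : ℕ}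
    (hk : χ 1 = k) : Fintype.card K ^ 2 - Fintype.card K + 1 ≤ k := by
  have := M.finite
  obtain ⟨n₀, h0⟩ := M.exists_n₀ hχ.isCharacter
  obtain ⟨n, hn⟩ := M.exists_n₁ hχ.isCharacter
  have hq : (Fintype.card K : ℂ) ≠ 0 := by simp
  have hq3 := M.fin.three_le
  have h2 : k = n₀ + (Fintype.card K ^ 2 - Fintype.card K) * n := by
    have : (k : ℂ) = n₀ + (Fintype.card K ^ 2 - Fintype.card K) * n := by
      apply mul_left_cancel₀ hq
      rw [← hk]
      linear_combination h0 + (Fintype.card K - 1) * hn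
    rw [← Nat.cast_pow, ← Nat.cast_sub (Nat.le_self_pow two_ne_zero _)] at this
    exact_mod_cast this
  have h3 : n ≠ 0 := by
    rintro rfl
    rw [Nat.cast_zero, mul_zero, sub_eq_zero] at hn
    simpa [M.x_eq_one] using hχ.eq_one_of_apply_eq_of_isSimpleGroup h1 hn.symm
  by_contra hc
  have h4 : 0 < Fintype.card K ^ 2 - Fintype.card K := Nat.sub_pos_of_lt (by nlinarith)
  obtain rfl : n = 1 := by
    by_contra h5
    have : (Fintype.card K ^ 2 - Fintype.card K) * 2 ≤ (Fintype.card K ^ 2 - Fintype.card K) * n :=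
      Nat.mul_le_mul_left _ (by omega)
    omega
  obtain rfl : n₀ = 0 := by omega
  have h5 := sum_mul_eq_zero_of_sum hχ.isCharacter M.zHom (by rw [M.sum_Z hχ.isClassFunction, h0]; simp) M.t
  rw [Finset.sum_congr rfl fun c _ => (hχ.isClassFunction.eq_of_isConj (M.isConj_t_mul_Z c.toAdd)).symm] at h5
  obtain ⟨j, hj⟩ := M.eight_dvd hχ.isCharacter (by simpa using h5)
  have h6 : k = 8 * j := by exact_mod_cast hk.symm.trans hj
  have h7 := M.fin.mod_eight
  have h8 : Fintype.card K ^ 2 % 8 = 1 := by rw [Nat.pow_mod, h7]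
  omega

end ReeModel

end Cfsg.Lib.Known.Ree
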