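import Mathlib
/-!
# An isometry of the lattice `E₇` has no characteristic polynomial divisible by `X ^ 6 + 1`
-/
set_option autoImplicit false

namespace Cfsg.Lib.Known.E7L

open Polynomial Matrix

theorem exists_cyclotomic_dvd {m : ℕ} (hm : 0 < m) {p : ℤ} (hp : Prime p) (a : ℤ) (f : ℤ[X])
    (hf : f.Monic) (h : ∀ z : ℂ, aeval z f = 0 → z ^ m = 1) (hpf : p ∣ f.eval a) :
    ∃ d, 0 < d ∧ cyclotomic d ℤ ∣ f ∧ p ∣ (cyclotomic d ℤ).eval a := by
  induction hn : f.natDegree using Nat.strong_induction_on generalizing f with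
  | _ n ih =>
    rcases Nat.eq_zero_or_pos n with rfl | h0
    · rw [hf.natDegree_eq_zero] at hn
      rw [hn, eval_one] at hpf
      exact absurd (isUnit_of_dvd_one hpf) hp.not_unit
    obtain ⟨z, hz⟩ := IsAlgClosed.exists_aeval_eq_zero ℂ f (by
      rw [degree_eq_natDegree hf.ne_zero, hn]; exact_mod_cast h0.ne')
    have h1 : IsOfFinOrder z := isOfFinOrder_iff_pow_eq_one.2 ⟨m, hm, h z hz⟩
    have h2 := cyclotomic_eq_minpoly (IsPrimitiveRoot.orderOf z) h1.orderOf_pos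
    obtain ⟨g, rfl⟩ : cyclotomic (orderOf z) ℤ ∣ f := h2 ▸ minpoly.isIntegrallyClosed_dvd
      ((IsPrimitiveRoot.orderOf z).isIntegral h1.orderOf_pos) hz
    rw [eval_mul] at hpf
    rcases hp.dvd_or_dvd hpf with h3 | h3
    · exact ⟨_, h1.orderOf_pos, dvd_mul_right _ _, h3⟩
    have hg : g.Monic := (cyclotomic.monic _ _).of_mul_monic_left hf
    obtain ⟨d, h4, h5, h6⟩ := ih g.natDegree (by
      rw [← hn, (cyclotomic.monic _ _).natDegree_mul hg, natDegree_cyclotomic]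
      have := Nat.totient_pos.2 h1.orderOf_pos
      omega) g hg (fun w hw => h w (by rw [map_mul, hw, mul_zero])) h3 rfl
    exact ⟨d, h4, h5.mul_left _, h6⟩

theorem eq_orderOf_of_dvd_cyclotomic {p d : ℕ} [hp : Fact p.Prime] (hd : 0 < d) {a : ℕ}
    (h : (p : ℤ) ∣ (cyclotomic d ℤ).eval (a : ℤ))
    (hlt : d.totient < (p - 1) * (orderOf (a : ZMod p)).totient) : d = orderOf (a : ZMod p) := by
  obtain ⟨k, e, he, rfl⟩ := Nat.exists_eq_pow_mul_and_not_dvd hd.ne' p hp.out.ne_one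
  have : NeZero (e : ZMod p) := ⟨by rwa [Ne, ZMod.natCast_eq_zero_iff]⟩
  have h1 : (cyclotomic (p ^ k * e) (ZMod p)).IsRoot (a : ZMod p) := by
    rw [← ZMod.intCast_zmod_eq_zero_iff_dvd] at h
    rw [← map_cyclotomic_int, IsRoot, eval_map, ← Int.cast_natCast, ← eq_intCast (Int.castRingHom _),
      eval₂_at_apply]
    exact h
  have h2 := (isRoot_cyclotomic_prime_pow_mul_iff_of_charP.1 h1).eq_orderOf
  obtain _ | k := k
  · simpa using h2
  rw [Nat.totient_mul (Nat.Coprime.pow_left _ (hp.out.coprime_iff_not_dvd.2 he)),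
    Nat.totient_prime_pow_succ hp.out, ← h2, mul_assoc] at hlt
  exact absurd (Nat.le_mul_of_pos_left _ (pow_pos hp.out.pos k)) (not_le.2 hlt)

theorem root_charpoly {n : Type*} [Fintype n] [DecidableEq n] {R : Type*} [CommRing R] [IsDomain R]
    {A : Matrix n n R} {m : ℕ} (h : A ^ m = 1) {z : R} (hz : A.charpoly.eval z = 0) : z ^ m = 1 := by
  rw [Matrix.eval_charpoly, ← Matrix.exists_mulVec_eq_zero_iff] at hz
  obtain ⟨v, hv, h1⟩ := hz
  have h2 : A *ᵥ v = z • v := by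
    rw [Matrix.sub_mulVec, sub_eq_zero] at h1
    rw [← h1]; ext i; simp [Matrix.mulVec_diagonal]
  have h3 : ∀ k : ℕ, (A ^ k) *ᵥ v = z ^ k • v := fun k => by
    induction k with
    | zero => simp
    | succ k ih => rw [pow_succ, ← Matrix.mulVec_mulVec, h2, Matrix.mulVec_smul, ih, smul_smul,
        pow_succ']
  have h4 := h3 m
  rw [h, Matrix.one_mulVec] at h4
  have h5 : (z ^ m - 1) • v = 0 := by rw [sub_smul, ← h4, one_smul, sub_self]
  exact sub_eq_zero.1 ((smul_eq_zero.1 h5).resolve_right hv)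

theorem orderOf_two_13 : orderOf ((2 : ℕ) : ZMod 13) = 12 := by
  rw [orderOf_eq_iff (by norm_num)]; decide

theorem orderOf_two_5 : orderOf ((2 : ℕ) : ZMod 5) = 4 := by
  rw [orderOf_eq_iff (by norm_num)]; decide

theorem charpoly_eq {A : Matrix (Fin 7) (Fin 7) ℤ} {m : ℕ} (hm : 0 < m) (h : A ^ m = 1)
    (h13 : 13 ∣ A.charpoly.eval 2) (h5 : 5 ∣ A.charpoly.eval 2) :
    ∃ ε : ℤ, ε ^ 2 = 1 ∧ A.charpoly = (X ^ 6 + 1) * (X - C ε) := by
  have hroot : ∀ z : ℂ, aeval z A.charpoly = 0 → z ^ m = 1 := fun z hz =>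
    root_charpoly (A := A.map (Int.castRingHom ℂ)) (by
      rw [← RingHom.mapMatrix_apply, ← map_pow, h, map_one]) (by
      rw [Matrix.charpoly_map, eval_map]; exact hz)
  have hdeg : A.charpoly.natDegree = 7 := by simp
  have hle : ∀ d, cyclotomic d ℤ ∣ A.charpoly → d.totient ≤ 7 := fun d hd => by
    rw [← hdeg, ← natDegree_cyclotomic d ℤ]
    exact natDegree_le_of_dvd hd A.charpoly_monic.ne_zero
  have : Fact (Nat.Prime 13) := ⟨by norm_num⟩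
  have : Fact (Nat.Prime 5) := ⟨by norm_num⟩
  have o13 := orderOf_two_13
  have o5 := orderOf_two_5
  obtain ⟨d, hd, h1, h2⟩ := exists_cyclotomic_dvd hm (Int.prime_iff_natAbs_prime.2 (by norm_num)) 2 _
    A.charpoly_monic hroot h13
  obtain ⟨e, he, h3, h4⟩ := exists_cyclotomic_dvd hm (Int.prime_iff_natAbs_prime.2 (by norm_num)) 2 _
    A.charpoly_monic hroot h5
  have hd' := eq_orderOf_of_dvd_cyclotomic (p := 13) (a := 2) hd h2 (by
    rw [o13, show Nat.totient 12 = 4 by decide]; have := hle d h1; omega)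
  have he' := eq_orderOf_of_dvd_cyclotomic (p := 5) (a := 2) he h4 (by
    rw [o5, show Nat.totient 4 = 2 by decide]; have := hle e h3; omega)
  rw [o13] at hd'
  rw [o5] at he'
  subst hd' he'
  obtain ⟨g, hg⟩ := h3
  have h6 : cyclotomic 12 ℤ ∣ g := by
    rw [hg] at h1
    refine ((cyclotomic.irreducible (by norm_num)).prime.dvd_or_dvd h1).resolve_left fun h7 => ?_
    have := natDegree_le_of_dvd h7 (cyclotomic_ne_zero _ _)
    rw [natDegree_cyclotomic, natDegree_cyclotomic] at this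
    exact absurd this (by decide)
  obtain ⟨k, rfl⟩ := h6
  have c4 : cyclotomic 4 ℤ = X ^ 2 + 1 := by
    rw [← cyclotomic_expand_eq_cyclotomic (n := 2) Nat.prime_two dvd_rfl, cyclotomic_two]; simp
  have c12 : cyclotomic 12 ℤ = X ^ 4 - X ^ 2 + 1 := by
    rw [← cyclotomic_expand_eq_cyclotomic (n := 6) Nat.prime_two (by norm_num), cyclotomic_six]
    simp [← pow_mul]
  have h7 : A.charpoly = (X ^ 6 + 1) * k := by rw [hg, c4, c12]; ring
  have hm6 : (X ^ 6 + 1 : ℤ[X]).Monic := by monicity!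
  have hk : k.Monic := hm6.of_mul_monic_left (h7 ▸ A.charpoly_monic)
  have hk1 : k.natDegree = 1 := by
    rw [h7, hm6.natDegree_mul hk, show (X ^ 6 + 1 : ℤ[X]).natDegree = 6 by compute_degree!] at hdeg
    omega
  have h8 : k = X - C (-k.coeff 0) := by
    rw [hk.eq_X_add_C hk1]; simp
  have h9 := root_charpoly h (z := -k.coeff 0) (by rw [h7, h8]; simp)
  refine ⟨_, ?_, h7.trans (by rw [← h8])⟩
  rcases Int.isUnit_iff.1 (IsUnit.of_pow_eq_one h9 hm.ne') with e | e <;> rw [e] <;> norm_num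

/-- The form of the lattice. -/
def B (x y : Fin 7 → ℤ) : ℤ := 2 * (x 0 * y 0 + x 1 * y 1 + x 2 * y 2 + x 3 * y 3 + x 4 * y 4 +
  x 5 * y 5 + x 6 * y 6) - (x 0 * y 2 + x 2 * y 0 + x 1 * y 3 + x 3 * y 1 + x 2 * y 3 + x 3 * y 2 +
  x 3 * y 4 + x 4 * y 3 + x 4 * y 5 + x 5 * y 4 + x 5 * y 6 + x 6 * y 5)

theorem B_eq_1' : type_of% @B.eq_1 := @B.eq_1

theorem B_comm (x y : Fin 7 → ℤ) : B x y = B y x := by simp only [B]; ring
theorem B_add (x y z : Fin 7 → ℤ) : B (x + y) z = B x z + B y z := by simp only [B, Pi.add_apply]; ring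
theorem B_sub (x y z : Fin 7 → ℤ) : B (x - y) z = B x z - B y z := by simp only [B, Pi.sub_apply]; ring
theorem B_smul (c : ℤ) (x z : Fin 7 → ℤ) : B (c • x) z = c * B x z := by
  simp only [B, Pi.smul_apply, smul_eq_mul]; ring

theorem B_pos {x : Fin 7 → ℤ} (hx : x ≠ 0) : 0 < B x x := by
  have h : 12 * B x x = 6 * (2 * x 1 - x 3) ^ 2 + 6 * (2 * x 0 - x 2) ^ 2 + 2 * (3 * x 2 - 2 * x 3) ^ 2
      + 6 * (2 * x 6 - x 5) ^ 2 + 2 * (3 * x 5 - 2 * x 4) ^ 2 + (4 * x 4 - 3 * x 3) ^ 2 + x 3 ^ 2 := by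
    simp only [B]; ring
  by_contra h1
  have a1 := sq_nonneg (2 * x 1 - x 3)
  have a2 := sq_nonneg (2 * x 0 - x 2)
  have a3 := sq_nonneg (3 * x 2 - 2 * x 3)
  have a4 := sq_nonneg (2 * x 6 - x 5)
  have a5 := sq_nonneg (3 * x 5 - 2 * x 4)
  have a6 := sq_nonneg (4 * x 4 - 3 * x 3)
  have a7 := sq_nonneg (x 3)
  have b1 := pow_eq_zero_iff two_ne_zero |>.1 (show (2 * x 1 - x 3) ^ 2 = 0 by omega)
  have b2 := pow_eq_zero_iff two_ne_zero |>.1 (show (2 * x 0 - x 2) ^ 2 = 0 by omega)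
  have b3 := pow_eq_zero_iff two_ne_zero |>.1 (show (3 * x 2 - 2 * x 3) ^ 2 = 0 by omega)
  have b4 := pow_eq_zero_iff two_ne_zero |>.1 (show (2 * x 6 - x 5) ^ 2 = 0 by omega)
  have b5 := pow_eq_zero_iff two_ne_zero |>.1 (show (3 * x 5 - 2 * x 4) ^ 2 = 0 by omega)
  have b6 := pow_eq_zero_iff two_ne_zero |>.1 (show (4 * x 4 - 3 * x 3) ^ 2 = 0 by omega)
  have b7 := pow_eq_zero_iff two_ne_zero |>.1 (show x 3 ^ 2 = 0 by omega)
  exact hx (funext fun i => by fin_cases i <;> simp <;> omega)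

/-- Twice the dual form. -/
def Q (m : Fin 7 → ℤ) : ℤ := 4 * m 0 ^ 2 + 7 * m 1 ^ 2 + 12 * m 2 ^ 2 + 24 * m 3 ^ 2 + 15 * m 4 ^ 2 +
  8 * m 5 ^ 2 + 3 * m 6 ^ 2 + 2 * (4 * m 0 * m 1 + 6 * m 0 * m 2 + 8 * m 0 * m 3 + 6 * m 0 * m 4 +
  4 * m 0 * m 5 + 2 * m 0 * m 6 + 8 * m 1 * m 2 + 12 * m 1 * m 3 + 9 * m 1 * m 4 + 6 * m 1 * m 5 +
  3 * m 1 * m 6 + 16 * m 2 * m 3 + 12 * m 2 * m 4 + 8 * m 2 * m 5 + 4 * m 2 * m 6 +
  18 * m 3 * m 4 + 12 * m 3 * m 5 + 6 * m 3 * m 6 + 10 * m 4 * m 5 + 5 * m 4 * m 6 + 4 * m 5 * m 6)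

theorem Q_eq_1' : type_of% @Q.eq_1 := @Q.eq_1

theorem Q_ne (m : Fin 7 → ℤ) : Q m ≠ 1 ∧ Q m ≠ 2 := by
  obtain ⟨k, hk⟩ : ∃ k, Q m = 3 * (m 1 + m 4 + m 6) ^ 2 + 4 * k :=
    ⟨m 0 ^ 2 + m 1 ^ 2 + 3 * m 2 ^ 2 + 6 * m 3 ^ 2 + 3 * m 4 ^ 2 +
      2 * m 5 ^ 2 + (2 * m 0 * m 1 + 3 * m 0 * m 2 + 4 * m 0 * m 3 + 3 * m 0 * m 4 +
      2 * m 0 * m 5 + m 0 * m 6 + 4 * m 1 * m 2 + 6 * m 1 * m 3 + 3 * m 1 * m 4 + 3 * m 1 * m 5 +
      8 * m 2 * m 3 + 6 * m 2 * m 4 + 4 * m 2 * m 5 + 2 * m 2 * m 6 +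
      9 * m 3 * m 4 + 6 * m 3 * m 5 + 3 * m 3 * m 6 + 5 * m 4 * m 5 + m 4 * m 6 + 2 * m 5 * m 6),
      by simp only [Q]; ring⟩
  rcases Int.even_or_odd' (m 1 + m 4 + m 6) with ⟨s, hs | hs⟩ <;> rw [hs] at hk
  · have : Q m = 4 * (3 * s ^ 2 + k) := by rw [hk]; ring
    omega
  · have : Q m = 4 * (3 * s ^ 2 + 3 * s + k) + 3 := by rw [hk]; ring
    omega

theorem not_dvd_sq {a : Fin 7 → ℤ} (ha : a ≠ 0) : ¬ ∀ x, B a a ∣ B x a ^ 2 := fun h => by
  let μ : Fin 7 → ℤ := fun i => B (Pi.single i 1) a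
  obtain ⟨x, hx⟩ := Finset.gcd_eq_sum_mul Finset.univ μ
  set g := Finset.univ.gcd μ
  have h1 : ∀ i, ∃ t, μ i = g * t := fun i => Finset.gcd_dvd (Finset.mem_univ i)
  choose t ht using h1
  have h2 : B x a = g := by
    rw [hx]; simp [μ, B, Fin.sum_univ_succ]; ring
  have h3 : Q μ = 2 * B a a := by simp [μ, B, Q]; ring
  have h4 : Q μ = g ^ 2 * Q t := by simp only [Q, ht]; ring
  obtain ⟨k, hk⟩ := h x
  have h5 := B_pos ha
  have h6 : k * Q t = 2 := mul_left_cancel₀ h5.ne' (by rw [← mul_assoc, ← hk, h2, ← h4, h3, mul_comm])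
  have h7 : 0 < Q t := by
    have : 0 < g ^ 2 * Q t := by rw [← h4, h3]; omega
    exact pos_of_mul_pos_right this (sq_nonneg g)
  have h8 := Int.le_of_dvd two_pos (Dvd.intro_left _ h6)
  have := Q_ne t
  omega

theorem eigen_dep {A : Matrix (Fin 7) (Fin 7) ℤ} {ε : ℤ} (hε : ε ^ 2 = 1)
    (h : A.charpoly = (X ^ 6 + 1) * (X - C ε)) {a b : Fin 7 → ℤ} (ha : a ≠ 0) (h1 : A *ᵥ a = ε • a)
    (h2 : A *ᵥ b = ε • b) (h3 : B b a = 0) : b = 0 := by
  by_contra hb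
  let φ := Matrix.toLin' (A.map (Int.castRingHom ℚ))
  have h4 : φ.charpoly.rootMultiplicity (ε : ℚ) = 1 := by
    have h5 : ((X : ℚ[X]) ^ 6 + 1).eval (ε : ℚ) ≠ 0 := by
      have : (ε : ℚ) ^ 2 = 1 := by exact_mod_cast hε
      simp only [eval_add, eval_pow, eval_X, eval_one]
      rw [show (ε : ℚ) ^ 6 = ((ε : ℚ) ^ 2) ^ 3 by ring, this]; norm_num
    rw [Matrix.charpoly_toLin', Matrix.charpoly_map, h, show ((X ^ 6 + 1) * (X - C ε) : ℤ[X]).map
      (Int.castRingHom ℚ) = (X ^ 6 + 1) * (X - C (ε : ℚ)) by simp]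
    rw [rootMultiplicity_mul (mul_ne_zero (fun e => h5 (by rw [e, eval_zero])) (X_sub_C_ne_zero _)),
      rootMultiplicity_eq_zero h5, rootMultiplicity_X_sub_C_self]
  have hmem : ∀ v : Fin 7 → ℤ, A *ᵥ v = ε • v → (fun i => (v i : ℚ)) ∈ Module.End.eigenspace φ ε :=
    fun v hv => by
      rw [Module.End.mem_eigenspace_iff]
      funext i
      have := congrArg (Int.cast : ℤ → ℚ) (congrFun hv i)
      simpa [φ, Matrix.mulVec, dotProduct] using this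
  have h5 : LinearIndependent ℚ ![(⟨_, hmem a h1⟩ : Module.End.eigenspace φ ε), ⟨_, hmem b h2⟩] := by
    rw [LinearIndependent.pair_iff]
    intro s t hst
    have h6 : ∀ i, s * a i + t * b i = 0 := fun i => congrFun (congrArg Subtype.val hst) i
    have h7 : s * (B a a : ℤ) + t * (B b a : ℤ) = 0 := by
      simp only [B]; push_cast
      linear_combination (2 * a 0 - a 2) * h6 0 + (2 * a 1 - a 3) * h6 1 +
        (2 * a 2 - a 0 - a 3) * h6 2 + (2 * a 3 - a 1 - a 2 - a 4) * h6 3 +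
        (2 * a 4 - a 3 - a 5) * h6 4 + (2 * a 5 - a 4 - a 6) * h6 5 + (2 * a 6 - a 5) * h6 6
    have h8 : s = 0 := by
      have := (B_pos ha).ne'
      simpa [h3, this] using h7
    obtain ⟨i, hi⟩ := Function.ne_iff.1 hb
    refine ⟨h8, ?_⟩
    simpa [h8, show b i ≠ 0 from hi] using h6 i
  have h6 := h5.fintype_card_le_finrank.trans (LinearMap.finrank_eigenspace_le φ ε)
  rw [h4] at h6
  simp at h6

theorem not_dvd_charpoly {A : Matrix (Fin 7) (Fin 7) ℤ} (hA : ∀ x y, B (A *ᵥ x) (A *ᵥ y) = B x y)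
    {m : ℕ} (hm : 0 < m) (h : A ^ m = 1) : ¬ 65 ∣ A.charpoly.eval 2 := fun h65 => by
  obtain ⟨ε, hε, hχ⟩ := charpoly_eq hm h (Dvd.dvd.trans (by norm_num) h65)
    (Dvd.dvd.trans (by norm_num) h65)
  have hA' : ∀ (k : ℕ) x y, B ((A ^ k) *ᵥ x) ((A ^ k) *ᵥ y) = B x y := fun k => by
    induction k with
    | zero => simp
    | succ k ih => intro x y; rw [pow_succ', ← mulVec_mulVec, ← mulVec_mulVec, hA, ih]
  have h1 := A.aeval_self_charpoly
  rw [hχ, mul_comm] at h1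
  simp only [map_mul, map_add, map_sub, map_pow, aeval_X, map_one, aeval_C] at h1
  have h2 : ∀ x, A *ᵥ ((A ^ 6 + 1) *ᵥ x) = ε • ((A ^ 6 + 1) *ᵥ x) := fun x => by
    rw [sub_mul, sub_eq_zero] at h1
    rw [mulVec_mulVec, h1, ← Algebra.smul_def, smul_mulVec]
  have h3 : ∀ (k : ℕ) v, A *ᵥ v = ε • v → (A ^ k) *ᵥ v = ε ^ k • v := fun k v hv => by
    induction k with
    | zero => simp
    | succ k ih => rw [pow_succ, ← mulVec_mulVec, hv, mulVec_smul, ih, smul_smul, pow_succ']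
  obtain ⟨x₀, hx₀⟩ : ∃ x, (A ^ 6 + 1) *ᵥ x ≠ 0 := by
    by_contra! h4
    have h5 : A ^ 6 = -1 := eq_neg_of_add_eq_zero_left (Matrix.ext_of_mulVec_single fun i => by
      rw [h4, zero_mulVec])
    have h6 := congrArg Matrix.det h5
    rw [det_pow, det_neg, det_one] at h6
    have : 0 ≤ A.det ^ 6 := by positivity
    simp [h6] at this
  set a := (A ^ 6 + 1) *ᵥ x₀
  have ha : A *ᵥ a = ε • a := h2 x₀
  have e6 : ε ^ 6 = 1 := by rw [show ε ^ 6 = (ε ^ 2) ^ 3 by ring, hε, one_pow]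
  have e3 : ε ^ 3 = ε := by rw [pow_succ, hε, one_mul]
  refine not_dvd_sq hx₀ fun x => ?_
  have h4 : B ((A ^ 6 + 1) *ᵥ x) a = 2 * B x a := by
    have := hA' 6 x a
    rw [h3 6 a ha, e6, one_smul] at this
    rw [add_mulVec, one_mulVec, B_add, this, two_mul]
  have h5 := eigen_dep hε hχ hx₀ ha (b := B a a • (A ^ 6 + 1) *ᵥ x - (2 * B x a) • a) (by
    rw [mulVec_sub, mulVec_smul, mulVec_smul, h2, ha]; module) (by
    rw [B_sub, B_smul, B_smul, h4]; ring)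
  have h6 : B a a * B ((A ^ 6 + 1) *ᵥ x) x = 2 * B x a ^ 2 := by
    rw [← B_smul, sub_eq_zero.1 h5, B_smul, B_comm a x]; ring
  have h7 : ε * B ((A ^ 6 + 1) *ᵥ x) x = 2 * B x ((A ^ 3) *ᵥ x) := by
    have h8 := hA' 3 ((A ^ 6 + 1) *ᵥ x) x
    have h9 := hA' 3 ((A ^ 3) *ᵥ x) x
    rw [h3 3 _ (h2 x), e3, B_smul] at h8
    rw [mulVec_mulVec, ← pow_add] at h9
    rw [← h8, ← mul_assoc, ← sq, hε, one_mul, add_mulVec, one_mulVec, B_add, h9, B_comm _ x, two_mul]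
  refine ⟨ε * B x ((A ^ 3) *ᵥ x), mul_left_cancel₀ two_ne_zero ?_⟩
  rw [← h6]
  linear_combination (B a a * ε) * h7 - (B a a * B ((A ^ 6 + 1) *ᵥ x) x) * hε

end Cfsg.Lib.Known.E7L
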