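import Cfsg.Agent.Known.Kit3

/-!
# The multipliers of `A₆` and `A₇`
-/

set_option autoImplicit false
set_option maxRecDepth 100000

namespace Cfsg.Lib.Known

open PC Cfsg.Lib.Spor Cfsg.Lib.Spor.Bulk

universe u

theorem permHom_injective {ι : Type} [Fintype ι] [DecidableEq ι] :
    Function.Injective (Matrix.permMatrixHom : Equiv.Perm ι →* Matrix ι ι (ZMod 2)) :=
  (injective_iff_map_eq_one _).2 fun g h => inv_eq_one.1 (Equiv.ext fun i => by
    have := congrFun (congrFun h i) i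
    simpa [Equiv.Perm.permMatrix, PEquiv.toMatrix_apply, Equiv.toPEquiv_apply] using this)

noncomputable def al6_mm : ℕ := 0x249249249249249249249249249249249249249249249249249249
theorem al6_red : KM.Red 2 (1 * 6) 3 (Nat.land 37449) (Nat.land al6_mm) := KM.red_2 (by decide +kernel)
noncomputable def al6_cm : ℕ := 0x7000000007000000007000000007000000007000000007
noncomputable def al6_o : ℕ := 0x1000000008000000040000000200000001000000008000
theorem al6_c : KM.okC (1 * 6) 3 36 180 15 al6_cm 262143 68719476728 al6_o = true := by decide +kernel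
noncomputable def al6_O0 (N F : ℕ) : Ops := KM.ops 2 (1 * 6) 3 (Nat.land 37449) (Nat.land al6_mm)
  36 180 15 al6_cm 262143 68719476728 al6_o N F
/-- The basis. -/
abbrev al6_b := KM.eb (Equiv.refl (Fin 6)) fun _ => (1 : ZMod 2)
theorem al6_bas : KM.Bas 2 (1 * 6) al6_b := (KM.fBas_zmod 2).bas _
noncomputable def al6_e (D : ℕ) : ℕ := KM.enc1 2 3 6 (KM.dg 6 D)
noncomputable def al6_m (D : ℕ) := KM.mat1 (F := ZMod 2) (Equiv.refl (Fin 6)) (KM.dg 6 D)
theorem al6_rm (D : ℕ) : KM.RM 2 (1 * 6) 3 al6_b (al6_e D)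
    (KM.matEnd _ _ (al6_m D)) := KM.rm_mat1 _ (by decide) (KM.fBas_zmod 2).tor _
noncomputable def al6_O : Ops := al6_O0 360 7
/-- The model. -/
noncomputable def al6_M := KM.matModel (G := (alternatingGroup (Fin 6))) al6_red al6_bas al6_c ((Matrix.permMatrixHom (R := ZMod 2)).comp (alternatingGroup (Fin 6)).subtype)
  (permHom_injective.comp Subtype.val_injective)
theorem al6_card : Nat.card (alternatingGroup (Fin 6)) = 360 := by
  have := two_mul_nat_card_alternatingGroup (α := Fin 6)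
  rw [Nat.card_perm, Nat.card_fin, show Nat.factorial 6 = 720 by decide] at this
  omega
theorem al6_has : al6_M.Has al6_O := KM.has_mat al6_red al6_bas al6_c _ _ al6_card _
noncomputable def al6_g : List ℕ := [al6_e 0x100000010000001000000010000001000100, al6_e 0x10000001000000100000010100000000001]
theorem al6_in : ∀ c ∈ al6_g, al6_M.In ⊤ c := by
  simp only [al6_g, List.forall_mem_cons]
  exact ⟨KM.mat_in al6_red al6_bas al6_c (al6_rm _) ⟨List.formPerm [0, 1, 2], Equiv.Perm.mem_alternatingGroup.2 (by decide +kernel)⟩ trivial (by decide +kernel), KM.mat_in al6_red al6_bas al6_c (al6_rm _) ⟨List.formPerm [1, 2, 3, 4, 5], Equiv.Perm.mem_alternatingGroup.2 (by decide +kernel)⟩ trivial (by decide +kernel), by simp⟩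
def al6m2_cert : Cert where
  p := 2
  q := 4
  m := 2
  n := 3
  r := 1
  S := 10
  W := 22
  F := 11
  L := 3
  NL := 3
  FV := 1060
  T := 0x300c00000000000000000000000000000000000000000000000000000000000000000000000000000188000000000000000000000000000000000000000000000000000000000000000000000000000000000000000000000000000000000000000000000000000000000000000000000000000000000000000000
  cons := [0xc62, 0x841, 0x821]
  fus := [(0x6100400, 0x300400, [(0x42, 0x0)]),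
    (0x6200c00, 0x300800, [(0x42, 0x0)])]
  Ss := [[], [32833, 1057, 3169], [33857, 2113, 3137], [2081]]
  zetas := [[3137]]
  rows := [(33, 0x76bcf8, 0x1),
    (65, 0x46630c, 0x0),
    (66, 0xf2429f, 0x1),
    (97, 0x41bd04, 0x1),
    (98, 0xcc7184, 0x1),
    (99, 0x96801c, 0x1)]
  zrows := [0x764108]
noncomputable def al6m2_cs : List ℕ := [al6_O.one,
  0x40000000008000000001000008000000001000000000200,
  0x8000000001000001000000000200000000040000008000,
  0x40000001000000000001000000200000000008000008000]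
noncomputable def al6m2_xs : List ℕ := [0x8000000000008000000200000000040000001000000000001,
  0x8000000040000000001000000200000001000000008000]
theorem al6m2_ck : check al6m2_cert = true := by decide +kernel
theorem al6m2_m : Ops.mult al6_O 360 al6_g
    [(1, [0]), (2, [1]), (1, [2]), (3, [0]), (2, [4]), (5, [5]), (2, [1]), (2, [4]), (1, [0]), (0, [3]), (7, [1, 1, 2]), (1, [1, 0]), (2, [1, 0]), (3, [3, 0]), (1, [4, 3, 0]), (0, [2, 5, 4, 6]), (1, [3, 3, 6]), (2, [2, 7, 7]), (8, [7, 9, 3]), (21, [])]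
    al6m2_cs al6m2_xs al6m2_cert
    [(8, 11, [(1, 3), (1, 2)]), (1, 2, [(1, 1)])] = true := by decide +kernel
def al6m3_cert : Cert where
  p := 3
  q := 9
  m := 3
  n := 2
  r := 1
  S := 10
  W := 22
  F := 7
  L := 3
  NL := 2
  FV := 1028
  T := 0x8000000000000000000000000000000000000000000000000000000000000000000000000000000000000000000000000000000000000000000000000000000000000000000000000000000000000000000
  cons := [0x10841]
  fus := [(0x4208400, 0x200400, [(0x421, 0x0), (0x842, 0x0)])]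
  Ss := [[], [32802, 1058], [32834, 2114]]
  zetas := [[2081]]
  rows := [(33, 0x6ce9, 0x0),
    (65, 0x6d20, 0x1),
    (66, 0x2530, 0x0)]
  zrows := [0x7f7b]
noncomputable def al6m3_cs : List ℕ := [al6_O.one,
  0x8000000000001000000040000000200000001000000000008,
  0x1000000008000000200000001000000000040000008000]
noncomputable def al6m3_xs : List ℕ := [0x8000000000008000000200000000040000001000000000001]
theorem al6m3_ck : check al6m3_cert = true := by decide +kernel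
theorem al6m3_m : Ops.mult al6_O 360 al6_g
    [(0, [1]), (0, [1]), (2, [0]), (4, [4]), (0, [2]), (6, [0]), (3, [6]), (0, [1]), (2, [0]), (9, [7]), (8, [8, 8, 1]), (0, [0, 0, 0, 9, 3]), (10, [10, 7]), (1, [1, 2, 2, 11, 1, 3]), (0, [0, 2, 3, 0]), (1, [3, 13, 3]), (2, [2, 3, 5]), (19, [])]
    al6m3_cs al6m3_xs al6m3_cert
    [(8, 5, [(2, 2)]), (1, 6, [(2, 1)])] = true := by decide +kernel
noncomputable def al6p_i : ℕ → ℕ := getN 0 [0,2,1,3,4,5]
noncomputable def al6p_R : List (List ℕ) := [[1,1,1],[3,1,3,1,3,1],[4,3,2,4,3,2],[4,1,4,1,4,1],[5,1,5,2,3,2],[5,4,5,4,5,4]]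
noncomputable def al6p_c3_C : SeqCert := ⟨nat_lit 2, nat_lit 9, nat_lit 6, nat_lit 0x50504040303010202010000, (NT.leaf (nat_lit 0) (nat_lit 0x26028014000)), (NT.leaf (nat_lit 1) (nat_lit 0x20202))⟩
noncomputable def al6p_c3_U : List (List ℕ) := []
noncomputable def al6p_c3_HL : List ℕ := []
theorem al6p_c3_head : al6p_c3_C.head 6 al6p_i al6p_R al6p_c3_U al6p_c3_HL 3 2 0 = true := by decide +kernel
noncomputable def al6p_c3_s0 : List ℕ := [nat_lit 0x4018080001]
theorem al6p_c3_ok0 : al6p_c3_C.StepsOK 3 4 := (SeqCert.StepsOK.refl _ 3).step (L := al6p_c3_s0) (by decide +kernel)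
theorem al6p_c3_ok : al6p_c3_C.StepsOK (3 + 0) 4 := al6p_c3_ok0
noncomputable def al6p_c3_r0 : List ℕ := [nat_lit 0x24024, nat_lit 0x18079, nat_lit 0x32052]
theorem al6p_c3_final : al6p_c3_C.final 6 4 (nat_lit 0x7) 3 [1,2] (al6p_c3_r0) = true := by decide +kernel
theorem al6p_c3 {G : Type*} [Group G] {g : ℕ → G} {H : Subgroup G} (hg : Sat g 6 al6p_i al6p_R)
    (hU : ∀ u ∈ al6p_c3_U, wv g u ∈ H) (hL : ∀ l ∈ al6p_c3_HL, g l ∈ H) :
    IdxLe H (Subgroup.closure {x | ∃ l ∈ ([1,2] : List ℕ), g l = x}) 3 :=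
  SeqCert.idxLe_of_final hg hU hL al6p_c3_head al6p_c3_ok al6p_c3_final
noncomputable def al6p_c2_C : SeqCert := ⟨nat_lit 2, nat_lit 9, nat_lit 6, nat_lit 0x50504040303010202010000, (NT.leaf (nat_lit 0) (nat_lit 0x3b02b01002d019034000)), (NT.node (nat_lit 1) (NT.leaf (nat_lit 1) (nat_lit 0x20202)) (NT.leaf (nat_lit 16389) (nat_lit 0x30203020302)))⟩
noncomputable def al6p_c2_U : List (List ℕ) := []
noncomputable def al6p_c2_HL : List ℕ := [1,2]
theorem al6p_c2_head : al6p_c2_C.head 6 al6p_i al6p_R al6p_c2_U al6p_c2_HL 4 2 1 = true := by decide +kernel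
noncomputable def al6p_c2_s0 : List ℕ := [nat_lit 0x30081203028140206028080002]
theorem al6p_c2_ok0 : al6p_c2_C.StepsOK 5 7 := (SeqCert.StepsOK.refl _ 5).step (L := al6p_c2_s0) (by decide +kernel)
theorem al6p_c2_ok : al6p_c2_C.StepsOK (4 + 1) 7 := al6p_c2_ok0
noncomputable def al6p_c2_r0 : List ℕ := [nat_lit 0x9048080, nat_lit 0xc036049, nat_lit 0x3702a0be, nat_lit 0x32054077]
theorem al6p_c2_final : al6p_c2_C.final 6 7 (nat_lit 0xf) 4 [1,2,3] (al6p_c2_r0) = true := by decide +kernel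
theorem al6p_c2 {G : Type*} [Group G] {g : ℕ → G} {H : Subgroup G} (hg : Sat g 6 al6p_i al6p_R)
    (hU : ∀ u ∈ al6p_c2_U, wv g u ∈ H) (hL : ∀ l ∈ al6p_c2_HL, g l ∈ H) :
    IdxLe H (Subgroup.closure {x | ∃ l ∈ ([1,2,3] : List ℕ), g l = x}) 4 :=
  SeqCert.idxLe_of_final hg hU hL al6p_c2_head al6p_c2_ok al6p_c2_final
noncomputable def al6p_c1_C : SeqCert := ⟨nat_lit 3, nat_lit 9, nat_lit 6, nat_lit 0x50504040303010202010000, (NT.leaf (nat_lit 0) (nat_lit 0x490064044c09303280c001000e302640510420000)), (NT.node (nat_lit 2) (NT.node (nat_lit 1) (NT.leaf (nat_lit 16393) (nat_lit 0x30401030401)) (NT.leaf (nat_lit 1) (nat_lit 0x20202))) (NT.node (nat_lit 3) (NT.leaf (nat_lit 16397) (nat_lit 0x40204020402)) (NT.node (nat_lit 4) (NT.leaf (nat_lit 16388) (nat_lit 0x10301030103)) (NT.leaf (nat_lit 8) (nat_lit 0x40302040302)))))⟩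
noncomputable def al6p_c1_U : List (List ℕ) := []
noncomputable def al6p_c1_HL : List ℕ := [1,2,3]
theorem al6p_c1_head : al6p_c1_C.head 6 al6p_i al6p_R al6p_c1_U al6p_c1_HL 5 3 2 = true := by decide +kernel
noncomputable def al6p_c1_s0 : List ℕ := [nat_lit 0x150404c20090281010110781c120501818040b018140a0203014040102008180a018140005]
theorem al6p_c1_ok0 : al6p_c1_C.StepsOK 7 12 := (SeqCert.StepsOK.refl _ 7).step (L := al6p_c1_s0) (by decide +kernel)
theorem al6p_c1_ok : al6p_c1_C.StepsOK (5 + 2) 12 := al6p_c1_ok0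
noncomputable def al6p_c1_r0 : List ℕ := [nat_lit 0x883002c0280, nat_lit 0xc03d0198111, nat_lit 0x4d838814845a, nat_lit 0x4902204101cb, nat_lit 0x5a0258560524]
theorem al6p_c1_final : al6p_c1_C.final 6 12 (nat_lit 0x1f) 5 [1,2,3,4] (al6p_c1_r0) = true := by decide +kernel
theorem al6p_c1 {G : Type*} [Group G] {g : ℕ → G} {H : Subgroup G} (hg : Sat g 6 al6p_i al6p_R)
    (hU : ∀ u ∈ al6p_c1_U, wv g u ∈ H) (hL : ∀ l ∈ al6p_c1_HL, g l ∈ H) :
    IdxLe H (Subgroup.closure {x | ∃ l ∈ ([1,2,3,4] : List ℕ), g l = x}) 5 :=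
  SeqCert.idxLe_of_final hg hU hL al6p_c1_head al6p_c1_ok al6p_c1_final
noncomputable def al6p_c0_C : SeqCert := ⟨nat_lit 3, nat_lit 9, nat_lit 6, nat_lit 0x50504040303010202010000, (NT.leaf (nat_lit 0) (nat_lit 0x16504b406d047009c056c0d305480c90124100030004003b00a201681110520000)), (NT.node (nat_lit 5) (NT.node (nat_lit 2) (NT.node (nat_lit 1) (NT.leaf (nat_lit 16400) (nat_lit 0x10502030205)) (NT.leaf (nat_lit 65552) (nat_lit 0x30205010502))) (NT.node (nat_lit 3) (NT.leaf (nat_lit 20) (nat_lit 0x50405040504)) (NT.node (nat_lit 4) (NT.leaf (nat_lit 16393) (nat_lit 0x30401030401)) (NT.leaf (nat_lit 32784) (nat_lit 0x50203020501))))) (NT.node (nat_lit 7) (NT.node (nat_lit 6) (NT.leaf (nat_lit 1) (nat_lit 0x20202)) (NT.leaf (nat_lit 16397) (nat_lit 0x40204020402))) (NT.node (nat_lit 8) (NT.leaf (nat_lit 16388) (nat_lit 0x10301030103)) (NT.node (nat_lit 9) (NT.leaf (nat_lit 8) (nat_lit 0x40302040302)) (NT.leaf (nat_lit 16) (nat_lit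 0x50105020302))))))⟩
noncomputable def al6p_c0_U : List (List ℕ) := []
noncomputable def al6p_c0_HL : List ℕ := [1,2,3,4]
theorem al6p_c0_head : al6p_c0_C.head 6 al6p_i al6p_R al6p_c0_U al6p_c0_HL 6 3 3 = true := by decide +kernel
noncomputable def al6p_c0_s0 : List ℕ := [nat_lit 0x1082810160481412210507c380b02820141d0c82416050382008130281c0a060401c0405030580e190381408060205024050280c08020800c0a050104c040c0184c0a01010341c0d01814000a]
theorem al6p_c0_ok0 : al6p_c0_C.StepsOK 9 19 := (SeqCert.StepsOK.refl _ 9).step (L := al6p_c0_s0) (by decide +kernel)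
theorem al6p_c0_ok : al6p_c0_C.StepsOK (6 + 3) 19 := al6p_c0_ok0
noncomputable def al6p_c0_r0 : List ℕ := [nat_lit 0x88400380340300, nat_lit 0xc01105084c8489, nat_lit 0x59014865822019a, nat_lit 0x6987e06101d0763, nat_lit 0x9687982a8718254, nat_lit 0x9208a82e086882d]
theorem al6p_c0_final : al6p_c0_C.final 6 19 (nat_lit 0x3f) 6 [1,2,3,4,5] (al6p_c0_r0) = true := by decide +kernel
theorem al6p_c0 {G : Type*} [Group G] {g : ℕ → G} {H : Subgroup G} (hg : Sat g 6 al6p_i al6p_R)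
    (hU : ∀ u ∈ al6p_c0_U, wv g u ∈ H) (hL : ∀ l ∈ al6p_c0_HL, g l ∈ H) :
    IdxLe H (Subgroup.closure {x | ∃ l ∈ ([1,2,3,4,5] : List ℕ), g l = x}) 6 :=
  SeqCert.idxLe_of_final hg hU hL al6p_c0_head al6p_c0_ok al6p_c0_final
theorem al6p_ord : OrdLe.{u} 6 al6p_i al6p_R [1,2,3,4,5] 360 :=
  (((((OrdLe.nil 6 al6p_i al6p_R).step (Ls := [1,2]) al6p_c3).step (Ls := [1,2,3]) al6p_c2).step (Ls := [1,2,3,4]) al6p_c1).step (Ls := [1,2,3,4,5]) al6p_c0)
noncomputable def al6p_cs : List ℕ := [al6_O.one,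
  0x40000000001000000008000000200000001000000008000,
  0x8000000040000000001000000200000001000000008000,
  0x40000000200000000001000000008000001000000008000,
  0x8000000001000001000000000200000000040000008000,
  0x1000000200000000040000000008000008000000001000]
theorem al6p_s : Ops.slp al6_O al6_g
    [(0, [0]), (0, [2]), (3, [0]), (1, [3]), (0, [1]), (6, [5]), (1, [6]), (7, [7]), (2, [1]), (1, [0]), (0, [7]), (11, [8]), (0, [0, 0, 9]), (1, [2]), (0, [0]), (1, [6, 1]), (2, [3, 2]), (3, [3, 4, 3, 5]), (20, [])]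
    al6p_cs = true := by decide +kernel
theorem al6p_r : Ops.rels al6_O al6p_cs (invRels al6p_i 6 ++ al6p_R) = true := by decide +kernel
theorem al6p_b : Ops.build al6_O al6p_cs 360
    [⟨1, 0, 8589934609, 4, [5, 4, 1]⟩, ⟨8, 0, 4294967313, 4, [4, 3]⟩, ⟨64, 0, 4294967309, 3, [1, 3]⟩, ⟨512, 0, 4294967307, 2, [2]⟩] = true := by decide +kernel
theorem al6p_pres : ∃ g : ℕ → (alternatingGroup (Fin 6)), Pres g 6 al6p_i al6p_R :=
  (al6_has.pres (al6_has.slp al6_in al6p_s) al6_card al6p_ord (by decide +kernel) al6p_r al6p_b).imp fun _ h => h.2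
noncomputable def al6pa_n1 : Net := (Net.cons (nat_lit 20) (nat_lit 0x27a34)
 (Net.cons (nat_lit 10) (nat_lit 0xb40009c)
 (Net.cons (nat_lit 5) (nat_lit 0x401a07818)
 (Net.cons (nat_lit 1) (nat_lit 0x2042409080)
 (Net.cons (nat_lit 1) (nat_lit 0x4094a4290a)
 (Net.cons (nat_lit 1) (nat_lit 0x48421481)
 (Net.cons (nat_lit 1) (nat_lit 0x4a02800)
 (Net.cons (nat_lit 1) (nat_lit 0x101400)
 (Net.cons (nat_lit 5) (nat_lit 0x301401809)
 (Net.cons (nat_lit 10) (nat_lit 0x1a3003e8)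
 (Net.cons (nat_lit 20) (nat_lit 0xaa561)
 Net.nil)))))))))))
theorem al6pa_n1_ok : al6pa_n1.OK 40 := Net.OK_of_ok (by decide +kernel)
noncomputable def al6pa_n3 : Net := (Net.cons (nat_lit 20) (nat_lit 0x41662)
 (Net.cons (nat_lit 10) (nat_lit 0x2a000260)
 (Net.cons (nat_lit 5) (nat_lit 0x401401000)
 (Net.cons (nat_lit 1) (nat_lit 0x2108121020)
 (Net.cons (nat_lit 1) (nat_lit 0x1294252902)
 (Net.cons (nat_lit 1) (nat_lit 0x94a421085)
 (Net.cons (nat_lit 1) (nat_lit 0x29405080a)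
 (Net.cons (nat_lit 1) (nat_lit 0x108000000)
 (Net.cons (nat_lit 5) (nat_lit 0x2c0f05c18)
 (Net.cons (nat_lit 10) (nat_lit 0x5e000ea)
 (Net.cons (nat_lit 20) (nat_lit 0x41662)
 Net.nil)))))))))))
theorem al6pa_n3_ok : al6pa_n3.OK 40 := Net.OK_of_ok (by decide +kernel)
noncomputable def al6pa_n4 : Net := (Net.cons (nat_lit 20) (nat_lit 0x61838)
 (Net.cons (nat_lit 10) (nat_lit 0x80003c0)
 (Net.cons (nat_lit 5) (nat_lit 0x180004016)
 (Net.cons (nat_lit 1) (nat_lit 0x948520021)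
 (Net.cons (nat_lit 1) (nat_lit 0x121420290a)
 (Net.cons (nat_lit 1) (nat_lit 0x2808100484)
 (Net.cons (nat_lit 1) (nat_lit 0x4014000040)
 (Net.cons (nat_lit 1) (nat_lit 0x20)
 (Net.cons (nat_lit 5) (nat_lit 0x480005804)
 (Net.cons (nat_lit 10) (nat_lit 0xbe00237)
 (Net.cons (nat_lit 20) (nat_lit 0xac881)
 Net.nil)))))))))))
theorem al6pa_n4_ok : al6pa_n4.OK 40 := Net.OK_of_ok (by decide +kernel)
noncomputable def al6pa_n5 : Net := (Net.cons (nat_lit 20) (nat_lit 0x3a564)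
 (Net.cons (nat_lit 10) (nat_lit 0xe0)
 (Net.cons (nat_lit 5) (nat_lit 0x380804808)
 (Net.cons (nat_lit 1) (nat_lit 0x28024094a1)
 (Net.cons (nat_lit 1) (nat_lit 0x528405000a)
 (Net.cons (nat_lit 1) (nat_lit 0x90a028005)
 (Net.cons (nat_lit 1) (nat_lit 0x405000a)
 (Net.cons (nat_lit 1) (nat_lit 0x8001)
 (Net.cons (nat_lit 5) (nat_lit 0x48180580c)
 (Net.cons (nat_lit 10) (nat_lit 0xeb0036e)
 (Net.cons (nat_lit 20) (nat_lit 0x3a564)
 Net.nil)))))))))))
theorem al6pa_n5_ok : al6pa_n5.OK 40 := Net.OK_of_ok (by decide +kernel)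
noncomputable def al6pa_T : ℕ → Net := getN Net.nil [Net.nil, al6pa_n1, al6pa_n1.rev, al6pa_n3, al6pa_n4, al6pa_n5]
theorem al6pa_nets : NetsOK al6pa_T 40 := netsOK_getN (forall_mem_cons' (Net.OK_nil _) (forall_mem_cons' al6pa_n1_ok (forall_mem_cons' al6pa_n1_ok.rev (forall_mem_cons' al6pa_n3_ok (forall_mem_cons' al6pa_n4_ok (forall_mem_cons' al6pa_n5_ok forall_mem_nil'))))))
theorem al6pa_w : 40 ≤ 2 ^ 6 := by norm_num
theorem al6pa_inv_0 : eqsOn al6pa_T 40 6 (invPairs al6p_i 6) 0 6 = true := by decide +kernel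
theorem al6pa_r0_0 : eqsOn al6pa_T 40 6 (relPairs al6p_i [[1,1,1],[3,1,3,1,3,1],[4,3,2,4,3,2],[4,1,4,1,4,1],[5,1,5,2,3,2],[5,4,5,4,5,4]]) 0 6 = true := by decide +kernel
theorem al6pa_inv : ∀ l < 6, prm al6pa_T 40 (al6p_i l) = (prm al6pa_T 40 l)⁻¹ := inv_of_eqs al6pa_nets al6pa_w ((EqsBelow.zero _ _ _ _).step al6pa_inv_0)
theorem al6pa_rel0 : ∀ r ∈ ([[1,1,1],[3,1,3,1,3,1],[4,3,2,4,3,2],[4,1,4,1,4,1],[5,1,5,2,3,2],[5,4,5,4,5,4]] : List (List ℕ)), wv (prm al6pa_T 40) r = 1 := rels_of_eqs al6pa_nets al6pa_w al6pa_inv (by decide +kernel) ((EqsBelow.zero _ _ _ _).step al6pa_r0_0)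
theorem al6pa_sat : Sat (prm al6pa_T 40) 6 al6p_i al6p_R := sat_prm rfl al6pa_inv fun r hr => al6pa_rel0 r (mem_of_subL (by decide +kernel) r hr)
noncomputable def al6pal_K0 : ℕ → ℕ := getN 0 [0, (nat_lit 0x24ca63c000), (nat_lit 0xa01a58c840), (nat_lit 0xe29e273b24), (nat_lit 0x7f160dcb48), (nat_lit 0x930dfe50b4)]
noncomputable def al6pal_K1 : ℕ → ℕ := getN 0 [0, 0, 0, 0, 0, 0]
noncomputable def al6pal_a : List ℕ := [1,1,1,0,0,0,0,0,1,0,1,0]
theorem al6pal : Lifts (ZMod 2) (invRels al6p_i 6 ++ al6p_R) (al6pal_a.map Nat.cast) :=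
  lifts_of_chk add2 (K0 := al6pal_K0) (K1 := al6pal_K1) (by decide) al6pa_nets rfl rfl rfl al6pa_sat (by decide +kernel)
theorem al6p_dvd2 : MultDvd (alternatingGroup (Fin 6)) 2 :=
  al6p_pres.elim fun _ h => multDvd_cyclic h al6pal [0, 3, 0, 0, 0, 0, 2, 0, 0, -2, 0, 0] (by decide +kernel) (by decide +kernel)
noncomputable def al6pb_n1 : Net := (Net.cons (nat_lit 1) (nat_lit 0x2)
 (Net.cons (nat_lit 1) (nat_lit 0x1)
 Net.nil))
theorem al6pb_n1_ok : al6pb_n1.OK 6 := Net.OK_of_ok (by decide +kernel)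
noncomputable def al6pb_n3 : Net := (Net.cons (nat_lit 3) (nat_lit 0x2)
 (Net.cons (nat_lit 1) (nat_lit 0x9)
 (Net.cons (nat_lit 1) (nat_lit 0x2)
 (Net.cons (nat_lit 1) (nat_lit 0x1)
 (Net.cons (nat_lit 3) (nat_lit 0x2)
 Net.nil)))))
theorem al6pb_n3_ok : al6pb_n3.OK 6 := Net.OK_of_ok (by decide +kernel)
noncomputable def al6pb_n4 : Net := (Net.cons (nat_lit 3) (nat_lit 0x4)
 (Net.cons (nat_lit 1) (nat_lit 0x1)
 (Net.cons (nat_lit 1) (nat_lit 0x10)
 (Net.cons (nat_lit 3) (nat_lit 0x4)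
 Net.nil))))
theorem al6pb_n4_ok : al6pb_n4.OK 6 := Net.OK_of_ok (by decide +kernel)
noncomputable def al6pb_n5 : Net := (Net.cons (nat_lit 3) (nat_lit 0x6)
 (Net.cons (nat_lit 1) (nat_lit 0x8)
 (Net.cons (nat_lit 1) (nat_lit 0x2)
 (Net.cons (nat_lit 3) (nat_lit 0x6)
 Net.nil))))
theorem al6pb_n5_ok : al6pb_n5.OK 6 := Net.OK_of_ok (by decide +kernel)
noncomputable def al6pb_T : ℕ → Net := getN Net.nil [Net.nil, al6pb_n1, al6pb_n1.rev, al6pb_n3, al6pb_n4, al6pb_n5]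
theorem al6pb_nets : NetsOK al6pb_T 6 := netsOK_getN (forall_mem_cons' (Net.OK_nil _) (forall_mem_cons' al6pb_n1_ok (forall_mem_cons' al6pb_n1_ok.rev (forall_mem_cons' al6pb_n3_ok (forall_mem_cons' al6pb_n4_ok (forall_mem_cons' al6pb_n5_ok forall_mem_nil'))))))
theorem al6pb_w : 6 ≤ 2 ^ 3 := by norm_num
theorem al6pb_inv_0 : eqsOn al6pb_T 6 3 (invPairs al6p_i 6) 0 3 = true := by decide +kernel
theorem al6pb_r0_0 : eqsOn al6pb_T 6 3 (relPairs al6p_i [[1,1,1],[3,1,3,1,3,1],[4,3,2,4,3,2],[4,1,4,1,4,1],[5,1,5,2,3,2],[5,4,5,4,5,4]]) 0 3 = true := by decide +kernel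
theorem al6pb_inv : ∀ l < 6, prm al6pb_T 6 (al6p_i l) = (prm al6pb_T 6 l)⁻¹ := inv_of_eqs al6pb_nets al6pb_w ((EqsBelow.zero _ _ _ _).step al6pb_inv_0)
theorem al6pb_rel0 : ∀ r ∈ ([[1,1,1],[3,1,3,1,3,1],[4,3,2,4,3,2],[4,1,4,1,4,1],[5,1,5,2,3,2],[5,4,5,4,5,4]] : List (List ℕ)), wv (prm al6pb_T 6) r = 1 := rels_of_eqs al6pb_nets al6pb_w al6pb_inv (by decide +kernel) ((EqsBelow.zero _ _ _ _).step al6pb_r0_0)
theorem al6pb_sat : Sat (prm al6pb_T 6) 6 al6p_i al6p_R := sat_prm rfl al6pb_inv fun r hr => al6pb_rel0 r (mem_of_subL (by decide +kernel) r hr)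
noncomputable def al6pbl_K0 : ℕ → ℕ := getN 0 [0, (nat_lit 0x10), (nat_lit 0x20), 0, (nat_lit 0x11), 0]
noncomputable def al6pbl_K1 : ℕ → ℕ := getN 0 [0, (nat_lit 0x20), (nat_lit 0x10), 0, (nat_lit 0x28), 0]
noncomputable def al6pbl_a : List ℕ := [0,1,0,0,0,0,0,0,0,0,0,0]
theorem al6pbl : Lifts (ZMod 3) (invRels al6p_i 6 ++ al6p_R) (al6pbl_a.map Nat.cast) :=
  lifts_of_chk add3 (K0 := al6pbl_K0) (K1 := al6pbl_K1) (by decide) al6pb_nets rfl rfl rfl al6pb_sat (by decide +kernel)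
theorem al6p_dvd3 : MultDvd (alternatingGroup (Fin 6)) 3 :=
  al6p_pres.elim fun _ h => multDvd_cyclic h al6pbl [-2, 1, 0, -2, 0, 0, 0, 0, -1, 0, 2, 0] (by decide +kernel) (by decide +kernel)

theorem mult_al6 : HasCyclicSchurMultiplier (alternatingGroup (Fin 6)) 6 :=
  hasCyclic_of_multDvd (by decide) (multLe_cyclic (a := 1) (b := 1) (al6_has.pBound al6_card al6_in al6m2_ck al6m2_m)
    (al6_has.pBound al6_card al6_in al6m3_ck al6m3_m) le_rfl le_rfl
    (pBound_others al6_card 7 3 [] (by decide +kernel) (by simp)) rfl) (al6p_dvd2.mul al6p_dvd3 (by decide))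

noncomputable def al7_mm : ℕ := 0x9249249249249249249249249249249249249249249249249249249249249249249249249
theorem al7_red : KM.Red 2 (1 * 7) 3 (Nat.land 299593) (Nat.land al7_mm) := KM.red_2 (by decide +kernel)
noncomputable def al7_cm : ℕ := 0x70000000001c00000000070000000001c00000000070000000001c0000000007
noncomputable def al7_o : ℕ := 0x1000000000200000000040000000008000000001000000000200000000040000
theorem al7_c : KM.okC (1 * 7) 3 42 252 18 al7_cm 2097151 0x3fffffffff8 al7_o = true := by decide +kernel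
noncomputable def al7_O0 (N F : ℕ) : Ops := KM.ops 2 (1 * 7) 3 (Nat.land 299593) (Nat.land al7_mm)
  42 252 18 al7_cm 2097151 0x3fffffffff8 al7_o N F
/-- The basis. -/
abbrev al7_b := KM.eb (Equiv.refl (Fin 7)) fun _ => (1 : ZMod 2)
theorem al7_bas : KM.Bas 2 (1 * 7) al7_b := (KM.fBas_zmod 2).bas _
noncomputable def al7_e (D : ℕ) : ℕ := KM.enc1 2 3 7 (KM.dg 7 D)
noncomputable def al7_m (D : ℕ) := KM.mat1 (F := ZMod 2) (Equiv.refl (Fin 7)) (KM.dg 7 D)
theorem al7_rm (D : ℕ) : KM.RM 2 (1 * 7) 3 al7_b (al7_e D)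
    (KM.matEnd _ _ (al7_m D)) := KM.rm_mat1 _ (by decide) (KM.fBas_zmod 2).tor _
noncomputable def al7_O : Ops := al7_O0 2520 7
/-- The model. -/
noncomputable def al7_M := KM.matModel (G := (alternatingGroup (Fin 7))) al7_red al7_bas al7_c ((Matrix.permMatrixHom (R := ZMod 2)).comp (alternatingGroup (Fin 7)).subtype)
  (permHom_injective.comp Subtype.val_injective)
theorem al7_card : Nat.card (alternatingGroup (Fin 7)) = 2520 := by
  have := two_mul_nat_card_alternatingGroup (α := Fin 7)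
  rw [Nat.card_perm, Nat.card_fin, show Nat.factorial 7 = 5040 by decide] at this
  omega
theorem al7_has : al7_M.Has al7_O := KM.has_mat al7_red al7_bas al7_c _ _ al7_card _
noncomputable def al7_g : List ℕ := [al7_e 0x1000000010000000100000001000000001000000010000100, al7_e 0x100000001000000010000000100000001000000011000000]
theorem al7_in : ∀ c ∈ al7_g, al7_M.In ⊤ c := by
  simp only [al7_g, List.forall_mem_cons]
  exact ⟨KM.mat_in al7_red al7_bas al7_c (al7_rm _) ⟨List.formPerm [0, 1, 2], Equiv.Perm.mem_alternatingGroup.2 (by decide +kernel)⟩ trivial (by decide +kernel), KM.mat_in al7_red al7_bas al7_c (al7_rm _) ⟨List.formPerm [0, 1, 2, 3, 4, 5, 6], Equiv.Perm.mem_alternatingGroup.2 (by decide +kernel)⟩ trivial (by decide +kernel), by simp⟩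
def al7m2_cert : Cert where
  p := 2
  q := 4
  m := 2
  n := 3
  r := 1
  S := 10
  W := 23
  F := 11
  L := 3
  NL := 5
  FV := 1060
  T := 0x300c00000000000000000000000000000000000000000000000000000000000000000000000000003188000000000000000000000000000000000000000000000000000000000000000000000000000000000000000000000000000000000000000000000000000000000000000000000000000000000000000000
  cons := [0xc61, 0x842, 0x821]
  fus := [(0x4100c00, 0x310400, [(0x21, 0x0)]),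
    (0x6100c00, 0x300400, [(0x21, 0x0), (0x42, 0x0)])]
  Ss := [[], [33857, 1057, 3105], [32801, 33825, 1057, 2081, 2113], [2081]]
  zetas := [[3105]]
  rows := [(33, 0x37ce739f, 0x1),
    (65, 0x10c46384, 0x0),
    (66, 0x30bab430, 0x1),
    (97, 0x188a7218, 0x1),
    (98, 0x28324080, 0x0),
    (99, 0x2681a288, 0x1)]
  zrows := [0x17803108]
noncomputable def al7m2_cs : List ℕ := [al7_O.one,
  0x200000000040000000000040000000000040000000008000000200000000040000,
  0x200000000001000000001000000000000040000040000000000200000000000008,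
  0x1000000040000000040000000000008000000000008000000200000000000040]
noncomputable def al7m2_xs : List ℕ := [0x1000000000200000000040000000200000000040000000000008000000001000,
  0x40000000008000000001000000001000000000000001000000200000000000008]
theorem al7m2_ck : check al7m2_cert = true := by decide +kernel
theorem al7m2_m : Ops.mult al7_O 2520 al7_g
    [(0, [1]), (0, [1]), (3, [3]), (3, [3]), (5, [0]), (0, [3]), (3, [0]), (1, [3]), (0, [8]), (9, [7]), (6, [0]), (2, [4]), (2, [3]), (4, [2, 0]), (0, [2, 0]), (1, [0]), (4, [2, 4]), (1, [5, 0]), (0, [6]), (1, [3, 3, 1, 5, 8, 3, 10]), (2, [2, 4, 6, 9, 9, 11, 9]), (3, [3, 5, 7, 7, 10, 3, 17, 17]), (8, [8, 11, 6, 13]), (25, [])]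
    al7m2_cs al7m2_xs al7m2_cert
    [(1, 10, [(1, 3), (1, 2)]), (512, 3, [(1, 1)])] = true := by decide +kernel
def al7m3_cert : Cert where
  p := 3
  q := 9
  m := 3
  n := 2
  r := 1
  S := 10
  W := 22
  F := 7
  L := 3
  NL := 2
  FV := 1028
  T := 0x8000000000000000000000000000000000000000000000000000000000000000000000000000000000000000000000000000000000000000000000000000000000000000000000000000000000000000000
  cons := [0x10841]
  fus := [(0x4208400, 0x200400, [(0x421, 0x0), (0x842, 0x0)])]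
  Ss := [[], [32802, 1058], [32834, 2114]]
  zetas := [[2081]]
  rows := [(33, 0x33b, 0x0),
    (65, 0x252, 0x1),
    (66, 0x2410, 0x0)]
  zrows := [0x1129]
noncomputable def al7m3_cs : List ℕ := [al7_O.one,
  0x1000000000200000000040000000040000000008000000000008000000040000,
  0x8000001000000000000040000000008000000001000000000200000000000001]
noncomputable def al7m3_xs : List ℕ := [0x8000000000040000000040000000040000000000200000000200000000040000]
theorem al7m3_ck : check al7m3_cert = true := by decide +kernel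
theorem al7m3_m : Ops.mult al7_O 2520 al7_g
    [(1, [0]), (2, [1]), (2, [2]), (0, [1]), (2, [3]), (1, [5]), (6, [1]), (0, [2]), (7, [3]), (4, [3]), (4, [4, 4, 4, 4, 4, 1]), (5, [11]), (0, [1, 0, 1, 1, 1, 6, 6, 6, 6, 2]), (7, [2, 5]), (0, [2, 1]), (2, [3, 3, 0]), (4, [4, 4, 5, 4]), (1, [1, 4, 5, 5, 6, 11, 11, 11]), (6, [5]), (21, [])]
    al7m3_cs al7m3_xs al7m3_cert
    [(1, 5, [(2, 2)]), (8, 5, [(2, 1)])] = true := by decide +kernel
noncomputable def al7p_i : ℕ → ℕ := getN 0 [0,2,1,3,4,5,6]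
noncomputable def al7p_R : List (List ℕ) := [[1,1,1],[3,1,3,1,3,1],[4,3,1,4,3,1],[4,1,4,1,4,1],[5,1,5,4,1],[5,3,5,3,5,3],[4,6,4,6],[6,3,6,3,4,2],[6,5,6,5,6,5]]
noncomputable def al7p_c4_C : SeqCert := ⟨nat_lit 2, nat_lit 9, nat_lit 7, nat_lit 0x606050504040303010202010000, (NT.leaf (nat_lit 0) (nat_lit 0x26028014000)), (NT.leaf (nat_lit 1) (nat_lit 0x20202))⟩
noncomputable def al7p_c4_U : List (List ℕ) := []
noncomputable def al7p_c4_HL : List ℕ := []
theorem al7p_c4_head : al7p_c4_C.head 7 al7p_i al7p_R al7p_c4_U al7p_c4_HL 3 2 0 = true := by decide +kernel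
noncomputable def al7p_c4_s0 : List ℕ := [nat_lit 0x4018080001]
theorem al7p_c4_ok0 : al7p_c4_C.StepsOK 3 4 := (SeqCert.StepsOK.refl _ 3).step (L := al7p_c4_s0) (by decide +kernel)
theorem al7p_c4_ok : al7p_c4_C.StepsOK (3 + 0) 4 := al7p_c4_ok0
noncomputable def al7p_c4_r0 : List ℕ := [nat_lit 0x24024, nat_lit 0x18079, nat_lit 0x32052]
theorem al7p_c4_final : al7p_c4_C.final 7 4 (nat_lit 0x7) 3 [1,2] (al7p_c4_r0) = true := by decide +kernel
theorem al7p_c4 {G : Type*} [Group G] {g : ℕ → G} {H : Subgroup G} (hg : Sat g 7 al7p_i al7p_R)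
    (hU : ∀ u ∈ al7p_c4_U, wv g u ∈ H) (hL : ∀ l ∈ al7p_c4_HL, g l ∈ H) :
    IdxLe H (Subgroup.closure {x | ∃ l ∈ ([1,2] : List ℕ), g l = x}) 3 :=
  SeqCert.idxLe_of_final hg hU hL al7p_c4_head al7p_c4_ok al7p_c4_final
noncomputable def al7p_c3_C : SeqCert := ⟨nat_lit 2, nat_lit 9, nat_lit 7, nat_lit 0x606050504040303010202010000, (NT.leaf (nat_lit 0) (nat_lit 0x3b02b01002d019034000)), (NT.node (nat_lit 1) (NT.leaf (nat_lit 1) (nat_lit 0x20202)) (NT.leaf (nat_lit 16389) (nat_lit 0x30203020302)))⟩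
noncomputable def al7p_c3_U : List (List ℕ) := []
noncomputable def al7p_c3_HL : List ℕ := [1,2]
theorem al7p_c3_head : al7p_c3_C.head 7 al7p_i al7p_R al7p_c3_U al7p_c3_HL 4 2 1 = true := by decide +kernel
noncomputable def al7p_c3_s0 : List ℕ := [nat_lit 0x30081203028140206028080002]
theorem al7p_c3_ok0 : al7p_c3_C.StepsOK 5 7 := (SeqCert.StepsOK.refl _ 5).step (L := al7p_c3_s0) (by decide +kernel)
theorem al7p_c3_ok : al7p_c3_C.StepsOK (4 + 1) 7 := al7p_c3_ok0
noncomputable def al7p_c3_r0 : List ℕ := [nat_lit 0x9048080, nat_lit 0xc036049, nat_lit 0x3702a0be, nat_lit 0x32054077]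
theorem al7p_c3_final : al7p_c3_C.final 7 7 (nat_lit 0xf) 4 [1,2,3] (al7p_c3_r0) = true := by decide +kernel
theorem al7p_c3 {G : Type*} [Group G] {g : ℕ → G} {H : Subgroup G} (hg : Sat g 7 al7p_i al7p_R)
    (hU : ∀ u ∈ al7p_c3_U, wv g u ∈ H) (hL : ∀ l ∈ al7p_c3_HL, g l ∈ H) :
    IdxLe H (Subgroup.closure {x | ∃ l ∈ ([1,2,3] : List ℕ), g l = x}) 4 :=
  SeqCert.idxLe_of_final hg hU hL al7p_c3_head al7p_c3_ok al7p_c3_final
noncomputable def al7p_c2_C : SeqCert := ⟨nat_lit 3, nat_lit 9, nat_lit 7, nat_lit 0x606050504040303010202010000, (NT.leaf (nat_lit 0) (nat_lit 0x490064044c0cb024c0c001000e202640510420000)), (NT.node (nat_lit 2) (NT.node (nat_lit 1) (NT.leaf (nat_lit 1) (nat_lit 0x20202)) (NT.leaf (nat_lit 16393) (nat_lit 0x30402030402))) (NT.node (nat_lit 3) (NT.leaf (nat_lit 16397) (nat_lit 0x40204020402)) (NT.node (nat_lit 4) (NT.leaf (nat_lit 16388) (nat_lit 0x10301030103)) (NT.leaf (nat_lit 8) (nat_lit 0x40301040301)))))⟩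
noncomputable def al7p_c2_U : List (List ℕ) := []
noncomputable def al7p_c2_HL : List ℕ := [1,2,3]
theorem al7p_c2_head : al7p_c2_C.head 7 al7p_i al7p_R al7p_c2_U al7p_c2_HL 5 3 2 = true := by decide +kernel
noncomputable def al7p_c2_s0 : List ℕ := [nat_lit 0x14040481e090281010040803c120501818040b018140a0203008180b018140206028080005]
theorem al7p_c2_ok0 : al7p_c2_C.StepsOK 7 12 := (SeqCert.StepsOK.refl _ 7).step (L := al7p_c2_s0) (by decide +kernel)
theorem al7p_c2_ok : al7p_c2_C.StepsOK (5 + 2) 12 := al7p_c2_ok0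
noncomputable def al7p_c2_r0 : List ℕ := [nat_lit 0x883002c0280, nat_lit 0xc0458198111, nat_lit 0x4d82201483da, nat_lit 0x4904083901cb, nat_lit 0x5a0250560524]
theorem al7p_c2_final : al7p_c2_C.final 7 12 (nat_lit 0x1f) 5 [1,2,3,4] (al7p_c2_r0) = true := by decide +kernel
theorem al7p_c2 {G : Type*} [Group G] {g : ℕ → G} {H : Subgroup G} (hg : Sat g 7 al7p_i al7p_R)
    (hU : ∀ u ∈ al7p_c2_U, wv g u ∈ H) (hL : ∀ l ∈ al7p_c2_HL, g l ∈ H) :
    IdxLe H (Subgroup.closure {x | ∃ l ∈ ([1,2,3,4] : List ℕ), g l = x}) 5 :=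
  SeqCert.idxLe_of_final hg hU hL al7p_c2_head al7p_c2_ok al7p_c2_final
noncomputable def al7p_c1_C : SeqCert := ⟨nat_lit 3, nat_lit 9, nat_lit 7, nat_lit 0x606050504040303010202010000, (NT.leaf (nat_lit 0) (nat_lit 0xed049406d0370164027011305481090124100030004005ac0a201680d10520000)), (NT.node (nat_lit 4) (NT.node (nat_lit 2) (NT.node (nat_lit 1) (NT.leaf (nat_lit 16400) (nat_lit 0x105040105)) (NT.leaf (nat_lit 49168) (nat_lit 0x401050105))) (NT.node (nat_lit 3) (NT.leaf (nat_lit 20) (nat_lit 0x50305030503)) (NT.leaf (nat_lit 8) (nat_lit 0x40301040301)))) (NT.node (nat_lit 6) (NT.node (nat_lit 5) (NT.leaf (nat_lit 1) (nat_lit 0x20202)) (NT.leaf (nat_lit 65553) (nat_lit 0x502040502))) (NT.node (nat_lit 7) (NT.leaf (nat_lit 16389) (nat_lit 0x30203020302)) (NT.leaf (nat_lit 16404) (nat_lit 0x30503050305)))))⟩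
noncomputable def al7p_c1_U : List (List ℕ) := []
noncomputable def al7p_c1_HL : List ℕ := [1,2,3,4]
theorem al7p_c1_head : al7p_c1_C.head 7 al7p_i al7p_R al7p_c1_U al7p_c1_HL 6 3 3 = true := by decide +kernel
noncomputable def al7p_c1_s0 : List ℕ := [nat_lit 0x283c1c0f82c0a07050182c090200414060c02c0800040102605038140c080b0603404028200e02020180814090140a03020081c030281404020600c240400808181001810000a]
theorem al7p_c1_ok0 : al7p_c1_C.StepsOK 9 19 := (SeqCert.StepsOK.refl _ 9).step (L := al7p_c1_s0) (by decide +kernel)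
theorem al7p_c1_ok : al7p_c1_C.StepsOK (6 + 3) 19 := al7p_c1_ok0
noncomputable def al7p_c1_r0 : List ℕ := [nat_lit 0x88400380340300, nat_lit 0xc05081104c8489, nat_lit 0x59065814822019a, nat_lit 0x2a86107e01d06e3, nat_lit 0x7208e8798698254, nat_lit 0x2d88a092886882d]
theorem al7p_c1_final : al7p_c1_C.final 7 19 (nat_lit 0x3f) 6 [1,2,3,4,5] (al7p_c1_r0) = true := by decide +kernel
theorem al7p_c1 {G : Type*} [Group G] {g : ℕ → G} {H : Subgroup G} (hg : Sat g 7 al7p_i al7p_R)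
    (hU : ∀ u ∈ al7p_c1_U, wv g u ∈ H) (hL : ∀ l ∈ al7p_c1_HL, g l ∈ H) :
    IdxLe H (Subgroup.closure {x | ∃ l ∈ ([1,2,3,4,5] : List ℕ), g l = x}) 6 :=
  SeqCert.idxLe_of_final hg hU hL al7p_c1_head al7p_c1_ok al7p_c1_final
noncomputable def al7p_c0_C : SeqCert := ⟨nat_lit 3, nat_lit 9, nat_lit 7, nat_lit 0x606050504040303010202010000, (NT.leaf (nat_lit 0) (nat_lit 0x6d40f604b8076039416d02941a4047019b056c192044805202240c9042414004000c0010017402ac06303681510620000)), (NT.node (nat_lit 7) (NT.node (nat_lit 3) (NT.node (nat_lit 1) (NT.leaf (nat_lit 24) (nat_lit 0x4060406)) (NT.node (nat_lit 2) (NT.leaf (nat_lit 16412) (nat_lit 0x30603040206)) (NT.leaf (nat_lit 81948) (nat_lit 0x20603060304)))) (NT.node (nat_lit 5) (NT.node (nat_lit 4) (NT.leaf (nat_lit 16400) (nat_lit 0x105040105)) (NT.leaf (nat_lit 49168) (nat_lit 0x401050105))) (NT.node (nat_lit 6) (NT.leaf (nat_lit 32) (nat_lit 0x60506050605)) (NT.leaf (nat_lit 20) (nat_lit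 0x50305030503))))) (NT.node (nat_lit 11) (NT.node (nat_lit 9) (NT.node (nat_lit 8) (NT.leaf (nat_lit 32796) (nat_lit 0x60304020603)) (NT.leaf (nat_lit 8) (nat_lit 0x40301040301))) (NT.node (nat_lit 10) (NT.leaf (nat_lit 16408) (nat_lit 0x6040604)) (NT.leaf (nat_lit 1) (nat_lit 0x20202)))) (NT.node (nat_lit 13) (NT.node (nat_lit 12) (NT.leaf (nat_lit 65553) (nat_lit 0x502040502)) (NT.leaf (nat_lit 16389) (nat_lit 0x30203020302))) (NT.node (nat_lit 14) (NT.leaf (nat_lit 16404) (nat_lit 0x30503050305)) (NT.leaf (nat_lit 81949) (nat_lit 0x60104030603))))))⟩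
noncomputable def al7p_c0_U : List (List ℕ) := []
noncomputable def al7p_c0_HL : List ℕ := [1,2,3,4,5]
theorem al7p_c0_head : al7p_c0_C.head 7 al7p_i al7p_R al7p_c0_U al7p_c0_HL 7 3 4 = true := by decide +kernel
noncomputable def al7p_c0_s0 : List ℕ := [nat_lit 0x178a05c32180141c0c170b05e0d0283418081102c0804060204c0d0200c14060e81c120506028442615010160a048081427120980609040183c1c038141006100743c070281c0c040c0140e05030100414018140a050206c0a1c02010081b0b01408030b06004100181404020784820030280404120180c0011]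
theorem al7p_c0_ok0 : al7p_c0_C.StepsOK 11 28 := (SeqCert.StepsOK.refl _ 11).step (L := al7p_c0_s0) (by decide +kernel)
theorem al7p_c0_ok : al7p_c0_C.StepsOK (7 + 4) 28 := al7p_c0_ok0
noncomputable def al7p_c0_r0 : List ℕ := [nat_lit 0x885004804003c0380, nat_lit 0xc01105886086886c9, nat_lit 0x810148790198750712, nat_lit 0x9188989e01d02a8223, nat_lit 0xa20330998be8258aec, nat_lit 0xdb0b28cf0ba0aa02dd, nat_lit 0xde8360ca8d30c70c36]
theorem al7p_c0_final : al7p_c0_C.final 7 28 (nat_lit 0x7f) 7 [1,2,3,4,5,6] (al7p_c0_r0) = true := by decide +kernel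
theorem al7p_c0 {G : Type*} [Group G] {g : ℕ → G} {H : Subgroup G} (hg : Sat g 7 al7p_i al7p_R)
    (hU : ∀ u ∈ al7p_c0_U, wv g u ∈ H) (hL : ∀ l ∈ al7p_c0_HL, g l ∈ H) :
    IdxLe H (Subgroup.closure {x | ∃ l ∈ ([1,2,3,4,5,6] : List ℕ), g l = x}) 7 :=
  SeqCert.idxLe_of_final hg hU hL al7p_c0_head al7p_c0_ok al7p_c0_final
theorem al7p_ord : OrdLe.{u} 7 al7p_i al7p_R [1,2,3,4,5,6] 2520 :=
  ((((((OrdLe.nil 7 al7p_i al7p_R).step (Ls := [1,2]) al7p_c4).step (Ls := [1,2,3]) al7p_c3).step (Ls := [1,2,3,4]) al7p_c2).step (Ls := [1,2,3,4,5]) al7p_c1).step (Ls := [1,2,3,4,5,6]) al7p_c0)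
noncomputable def al7p_cs : List ℕ := [al7_O.one,
  0x40000000000040000000008000000008000000001000000000200000000040000,
  0x8000000001000000000001000000008000000001000000000200000000040000,
  0x40000000008000000000001000000000200000001000000000200000000040000,
  0x1000000000001000000000008000000008000000000001000000200000000040000,
  0x1000000000200000001000000000200000000000040000000008000000040000,
  0x1000000000000200000000040000000008000000000001000001000000000008000]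
theorem al7p_s : Ops.slp al7_O al7_g
    [(1, [0]), (1, [0]), (3, [1]), (3, [0]), (0, [3]), (3, [0]), (1, [5]), (0, [6]), (5, [2]), (0, [0, 1]), (0, [1, 1, 4, 9]), (0, [5, 2]), (2, [1, 3, 3, 3, 6, 6, 2, 0]), (3, [0, 3]), (4, [3, 0]), (0, [0]), (1, [1, 6, 5, 3, 10]), (2, [2, 6, 8, 7, 11, 8]), (20, [])]
    al7p_cs = true := by decide +kernel
theorem al7p_r : Ops.rels al7_O al7p_cs (invRels al7p_i 7 ++ al7p_R) = true := by decide +kernel
theorem al7p_b : Ops.build al7_O al7p_cs 2520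
    [⟨1, 0, 8589934609, 5, [1, 6, 5, 3]⟩, ⟨8, 0, 8589934609, 4, [5, 4, 3]⟩, ⟨64, 0, 4294967313, 4, [4, 3]⟩, ⟨512, 0, 4294967309, 3, [3, 1]⟩, ⟨4096, 0, 4294967307, 2, [2]⟩] = true := by decide +kernel
theorem al7p_pres : ∃ g : ℕ → (alternatingGroup (Fin 7)), Pres g 7 al7p_i al7p_R :=
  (al7_has.pres (al7_has.slp al7_in al7p_s) al7_card al7p_ord (by decide +kernel) al7p_r al7p_b).imp fun _ h => h.2
noncomputable def al7pa_n1 : Net := (Net.cons (nat_lit 64) (nat_lit 0x7338f969941ee4c8)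
 (Net.cons (nat_lit 32) (nat_lit 0x2632ae400000000064d9ec9a)
 (Net.cons (nat_lit 16) (nat_lit 0x7a280000405c0000390c000066c0)
 (Net.cons (nat_lit 8) (nat_lit 0x8600ba00e000e200940006007c0012)
 (Net.cons (nat_lit 4) (nat_lit 0x8020204040808080e0a00000c0a040e)
 (Net.cons (nat_lit 2) (nat_lit 0x20222000020020200222002200202)
 (Net.cons (nat_lit 1) (nat_lit 0x55115114051510514141444411454101)
 (Net.cons (nat_lit 2) (nat_lit 0x10122003211113000002200301110210)
 (Net.cons (nat_lit 4) (nat_lit 0x805010305030d020e0702020a04050d)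
 (Net.cons (nat_lit 8) (nat_lit 0xc500e800b3004900e0002c00f90018)
 (Net.cons (nat_lit 16) (nat_lit 0x69d50000c2d80000f97b00006a14)
 (Net.cons (nat_lit 32) (nat_lit 0x75a73aa300000000ec345a4c)
 (Net.cons (nat_lit 64) (nat_lit 0x735366f3aa6bde00)
 Net.nil)))))))))))))
theorem al7pa_n1_ok : al7pa_n1.OK 120 := Net.OK_of_ok (by decide +kernel)
noncomputable def al7pa_n3 : Net := (Net.cons (nat_lit 64) (nat_lit 0x20aa19bb491e0f00)
 (Net.cons (nat_lit 32) (nat_lit 0x9ceba6280000000081537b04)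
 (Net.cons (nat_lit 16) (nat_lit 0x5d2800007ac60000e014000088e6)
 (Net.cons (nat_lit 8) (nat_lit 0x16000a006400a0002a003c007c00ac)
 (Net.cons (nat_lit 4) (nat_lit 0x40c000200040a00000c0600080c0a06)
 (Net.cons (nat_lit 2) (nat_lit 0x22200002020000020000020000220)
 (Net.cons (nat_lit 1) (nat_lit 0x51011415041545410041510045404145)
 (Net.cons (nat_lit 2) (nat_lit 0x30122203022020330201210302321113)
 (Net.cons (nat_lit 4) (nat_lit 0x404000a03040a0f0d090900040d0103)
 (Net.cons (nat_lit 8) (nat_lit 0x7e0022004400e2000a006600010021)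
 (Net.cons (nat_lit 16) (nat_lit 0x758500007ac60000689e000058f2)
 (Net.cons (nat_lit 32) (nat_lit 0x9ceba668000000004b204850)
 (Net.cons (nat_lit 64) (nat_lit 0x208a3bbb491e0704)
 Net.nil)))))))))))))
theorem al7pa_n3_ok : al7pa_n3.OK 120 := Net.OK_of_ok (by decide +kernel)
noncomputable def al7pa_n4 : Net := (Net.cons (nat_lit 64) (nat_lit 0xd2d0ce0eb7ac0bc2)
 (Net.cons (nat_lit 32) (nat_lit 0xbdacf0d0000000003b8270ac)
 (Net.cons (nat_lit 16) (nat_lit 0xa884000014540000edd80000c306)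
 (Net.cons (nat_lit 8) (nat_lit 0x5400c000040052006600a400240020)
 (Net.cons (nat_lit 4) (nat_lit 0xa040a04080000080000040802000000)
 (Net.cons (nat_lit 2) (nat_lit 0x2000000000202222000220002000)
 (Net.cons (nat_lit 1) (nat_lit 0x14041440040001144144005440551444)
 (Net.cons (nat_lit 2) (nat_lit 0x31203302002210202130323221213100)
 (Net.cons (nat_lit 4) (nat_lit 0x50a050a080e080803050e080a0f0d0f)
 (Net.cons (nat_lit 8) (nat_lit 0xc0005400140072009900a5006600a4)
 (Net.cons (nat_lit 16) (nat_lit 0x577b000056550000edd80000c326)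
 (Net.cons (nat_lit 32) (nat_lit 0xbdacf0d0000000003b9a70ac)
 (Net.cons (nat_lit 64) (nat_lit 0xd2d0ce0eb7ac0bc2)
 Net.nil)))))))))))))
theorem al7pa_n4_ok : al7pa_n4.OK 120 := Net.OK_of_ok (by decide +kernel)
noncomputable def al7pa_n5 : Net := (Net.cons (nat_lit 64) (nat_lit 0x19924b0cd75aa004)
 (Net.cons (nat_lit 32) (nat_lit 0xd63190b800000000112e54cc)
 (Net.cons (nat_lit 16) (nat_lit 0x6bb00000584000004e7000003c04)
 (Net.cons (nat_lit 8) (nat_lit 0x58002600a400a0003c00aa00e800a0)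
 (Net.cons (nat_lit 4) (nat_lit 0x6080c02040a00020008080002040a02)
 (Net.cons (nat_lit 2) (nat_lit 0x2200020000000220202000220)
 (Net.cons (nat_lit 1) (nat_lit 0x5050451144110450515111444144415)
 (Net.cons (nat_lit 2) (nat_lit 0x32212302300022132133323330130330)
 (Net.cons (nat_lit 4) (nat_lit 0x40f010a050a0102040707060c040e07)
 (Net.cons (nat_lit 8) (nat_lit 0x79002600a40021007800af007c004f)
 (Net.cons (nat_lit 16) (nat_lit 0xb35e000058f20000292d00009894)
 (Net.cons (nat_lit 32) (nat_lit 0xc7f5053100000000512d5ccc)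
 (Net.cons (nat_lit 64) (nat_lit 0x19c2c91cd75aa004)
 Net.nil)))))))))))))
theorem al7pa_n5_ok : al7pa_n5.OK 120 := Net.OK_of_ok (by decide +kernel)
noncomputable def al7pa_n6 : Net := (Net.cons (nat_lit 64) (nat_lit 0x6c12124707460a90)
 (Net.cons (nat_lit 32) (nat_lit 0xba6e258000000000ee36e496)
 (Net.cons (nat_lit 16) (nat_lit 0xf08600007c940000317000004790)
 (Net.cons (nat_lit 8) (nat_lit 0xa4001800cc0094000000800020001c)
 (Net.cons (nat_lit 4) (nat_lit 0x80a0608040e0a0a0206060c080a0a04)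
 (Net.cons (nat_lit 2) (nat_lit 0x20020002200000202202000002020000)
 (Net.cons (nat_lit 1) (nat_lit 0x44010404400105454111500511111010)
 (Net.cons (nat_lit 2) (nat_lit 0x221232302113201021322302020301)
 (Net.cons (nat_lit 4) (nat_lit 0xa0c0608090b0a0a090d0309080a0a0c)
 (Net.cons (nat_lit 8) (nat_lit 0x9e00b1009900bc00ff007f00e7001e)
 (Net.cons (nat_lit 16) (nat_lit 0xb0ae00005cb100003170000055aa)
 (Net.cons (nat_lit 32) (nat_lit 0xba6e278000000000ee36e496)
 (Net.cons (nat_lit 64) (nat_lit 0x6c12124707460a90)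
 Net.nil)))))))))))))
theorem al7pa_n6_ok : al7pa_n6.OK 120 := Net.OK_of_ok (by decide +kernel)
noncomputable def al7pa_T : ℕ → Net := getN Net.nil [Net.nil, al7pa_n1, al7pa_n1.rev, al7pa_n3, al7pa_n4, al7pa_n5, al7pa_n6]
theorem al7pa_nets : NetsOK al7pa_T 120 := netsOK_getN (forall_mem_cons' (Net.OK_nil _) (forall_mem_cons' al7pa_n1_ok (forall_mem_cons' al7pa_n1_ok.rev (forall_mem_cons' al7pa_n3_ok (forall_mem_cons' al7pa_n4_ok (forall_mem_cons' al7pa_n5_ok (forall_mem_cons' al7pa_n6_ok forall_mem_nil')))))))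
theorem al7pa_w : 120 ≤ 2 ^ 7 := by norm_num
theorem al7pa_inv_0 : eqsOn al7pa_T 120 7 (invPairs al7p_i 7) 0 7 = true := by decide +kernel
theorem al7pa_r0_0 : eqsOn al7pa_T 120 7 (relPairs al7p_i [[1,1,1],[3,1,3,1,3,1],[4,3,1,4,3,1],[4,1,4,1,4,1],[5,1,5,4,1],[5,3,5,3,5,3],[4,6,4,6],[6,3,6,3,4,2],[6,5,6,5,6,5]]) 0 7 = true := by decide +kernel
theorem al7pa_inv : ∀ l < 7, prm al7pa_T 120 (al7p_i l) = (prm al7pa_T 120 l)⁻¹ := inv_of_eqs al7pa_nets al7pa_w ((EqsBelow.zero _ _ _ _).step al7pa_inv_0)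
theorem al7pa_rel0 : ∀ r ∈ ([[1,1,1],[3,1,3,1,3,1],[4,3,1,4,3,1],[4,1,4,1,4,1],[5,1,5,4,1],[5,3,5,3,5,3],[4,6,4,6],[6,3,6,3,4,2],[6,5,6,5,6,5]] : List (List ℕ)), wv (prm al7pa_T 120) r = 1 := rels_of_eqs al7pa_nets al7pa_w al7pa_inv (by decide +kernel) ((EqsBelow.zero _ _ _ _).step al7pa_r0_0)
theorem al7pa_sat : Sat (prm al7pa_T 120) 7 al7p_i al7p_R := sat_prm rfl al7pa_inv fun r hr => al7pa_rel0 r (mem_of_subL (by decide +kernel) r hr)
noncomputable def al7pal_K0 : ℕ → ℕ := getN 0 [0, (nat_lit 0xc09a296f3068413092a26480c02200), (nat_lit 0xd08d0f18115f521892916208820000), (nat_lit 0xefdc3dec8fbed4145a13a486688a88), (nat_lit 0xf4b725c142565bed15b76e2a1a5550), (nat_lit 0x42c467f1b9e3caf97963414fe47220), (nat_lit 0x711a9d8ef8ea2f82b68bed595cc440)]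
noncomputable def al7pal_K1 : ℕ → ℕ := getN 0 [0, 0, 0, 0, 0, 0, 0]
noncomputable def al7pal_a : List ℕ := [1,1,1,1,0,0,0,0,0,1,0,1,0,1,0,0]
theorem al7pal : Lifts (ZMod 2) (invRels al7p_i 7 ++ al7p_R) (al7pal_a.map Nat.cast) :=
  lifts_of_chk add2 (K0 := al7pal_K0) (K1 := al7pal_K1) (by decide) al7pa_nets rfl rfl rfl al7pa_sat (by decide +kernel)
theorem al7p_dvd2 : MultDvd (alternatingGroup (Fin 7)) 2 :=
  al7p_pres.elim fun _ h => multDvd_cyclic h al7pal [1, 8, 0, -2, -2, 0, 0, 0, 2, 0, 0, -2, -2, 0, 2, -2] (by decide +kernel) (by decide +kernel)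
noncomputable def al7pb_n1 : Net := (Net.cons (nat_lit 8) (nat_lit 0x96)
 (Net.cons (nat_lit 4) (nat_lit 0x6)
 (Net.cons (nat_lit 2) (nat_lit 0x2022)
 (Net.cons (nat_lit 1) (nat_lit 0x1141)
 (Net.cons (nat_lit 2) (nat_lit 0x2131)
 (Net.cons (nat_lit 4) (nat_lit 0xa01)
 (Net.cons (nat_lit 8) (nat_lit 0xd5)
 Net.nil)))))))
theorem al7pb_n1_ok : al7pb_n1.OK 15 := Net.OK_of_ok (by decide +kernel)
noncomputable def al7pb_n3 : Net := (Net.cons (nat_lit 8) (nat_lit 0x24)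
 (Net.cons (nat_lit 4) (nat_lit 0x200)
 (Net.cons (nat_lit 2) (nat_lit 0x220)
 (Net.cons (nat_lit 1) (nat_lit 0x1445)
 (Net.cons (nat_lit 2) (nat_lit 0x1323)
 (Net.cons (nat_lit 4) (nat_lit 0x506)
 (Net.cons (nat_lit 8) (nat_lit 0x24)
 Net.nil)))))))
theorem al7pb_n3_ok : al7pb_n3.OK 15 := Net.OK_of_ok (by decide +kernel)
noncomputable def al7pb_n4 : Net := (Net.cons (nat_lit 8) (nat_lit 0x4)
 (Net.cons (nat_lit 4) (nat_lit 0x4)
 (Net.cons (nat_lit 1) (nat_lit 0x40)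
 (Net.cons (nat_lit 2) (nat_lit 0x302)
 (Net.cons (nat_lit 4) (nat_lit 0x5)
 (Net.cons (nat_lit 8) (nat_lit 0x24)
 Net.nil))))))
theorem al7pb_n4_ok : al7pb_n4.OK 15 := Net.OK_of_ok (by decide +kernel)
noncomputable def al7pb_n5 : Net := (Net.cons (nat_lit 8) (nat_lit 0xc)
 (Net.cons (nat_lit 4) (nat_lit 0x2)
 (Net.cons (nat_lit 1) (nat_lit 0x505)
 (Net.cons (nat_lit 2) (nat_lit 0x1320)
 (Net.cons (nat_lit 4) (nat_lit 0x2)
 (Net.cons (nat_lit 8) (nat_lit 0xc)
 Net.nil))))))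
theorem al7pb_n5_ok : al7pb_n5.OK 15 := Net.OK_of_ok (by decide +kernel)
noncomputable def al7pb_n6 : Net := (Net.cons (nat_lit 8) (nat_lit 0x42)
 (Net.cons (nat_lit 4) (nat_lit 0xc)
 (Net.cons (nat_lit 1) (nat_lit 0x540)
 (Net.cons (nat_lit 2) (nat_lit 0x1002)
 (Net.cons (nat_lit 4) (nat_lit 0xd)
 (Net.cons (nat_lit 8) (nat_lit 0x42)
 Net.nil))))))
theorem al7pb_n6_ok : al7pb_n6.OK 15 := Net.OK_of_ok (by decide +kernel)
noncomputable def al7pb_T : ℕ → Net := getN Net.nil [Net.nil, al7pb_n1, al7pb_n1.rev, al7pb_n3, al7pb_n4, al7pb_n5, al7pb_n6]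
theorem al7pb_nets : NetsOK al7pb_T 15 := netsOK_getN (forall_mem_cons' (Net.OK_nil _) (forall_mem_cons' al7pb_n1_ok (forall_mem_cons' al7pb_n1_ok.rev (forall_mem_cons' al7pb_n3_ok (forall_mem_cons' al7pb_n4_ok (forall_mem_cons' al7pb_n5_ok (forall_mem_cons' al7pb_n6_ok forall_mem_nil')))))))
theorem al7pb_w : 15 ≤ 2 ^ 4 := by norm_num
theorem al7pb_inv_0 : eqsOn al7pb_T 15 4 (invPairs al7p_i 7) 0 4 = true := by decide +kernel
theorem al7pb_r0_0 : eqsOn al7pb_T 15 4 (relPairs al7p_i [[1,1,1],[3,1,3,1,3,1],[4,3,1,4,3,1],[4,1,4,1,4,1],[5,1,5,4,1],[5,3,5,3,5,3],[4,6,4,6],[6,3,6,3,4,2],[6,5,6,5,6,5]]) 0 4 = true := by decide +kernel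
theorem al7pb_inv : ∀ l < 7, prm al7pb_T 15 (al7p_i l) = (prm al7pb_T 15 l)⁻¹ := inv_of_eqs al7pb_nets al7pb_w ((EqsBelow.zero _ _ _ _).step al7pb_inv_0)
theorem al7pb_rel0 : ∀ r ∈ ([[1,1,1],[3,1,3,1,3,1],[4,3,1,4,3,1],[4,1,4,1,4,1],[5,1,5,4,1],[5,3,5,3,5,3],[4,6,4,6],[6,3,6,3,4,2],[6,5,6,5,6,5]] : List (List ℕ)), wv (prm al7pb_T 15) r = 1 := rels_of_eqs al7pb_nets al7pb_w al7pb_inv (by decide +kernel) ((EqsBelow.zero _ _ _ _).step al7pb_r0_0)
theorem al7pb_sat : Sat (prm al7pb_T 15) 7 al7p_i al7p_R := sat_prm rfl al7pb_inv fun r hr => al7pb_rel0 r (mem_of_subL (by decide +kernel) r hr)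
noncomputable def al7pbl_K0 : ℕ → ℕ := getN 0 [0, (nat_lit 0x1600), (nat_lit 0x3008), (nat_lit 0x1348), (nat_lit 0x40c), (nat_lit 0x1500), (nat_lit 0x8c0)]
noncomputable def al7pbl_K1 : ℕ → ℕ := getN 0 [0, (nat_lit 0x160), (nat_lit 0x4120), (nat_lit 0x2c90), (nat_lit 0x182), (nat_lit 0x4808), (nat_lit 0x1600)]
noncomputable def al7pbl_a : List ℕ := [0,0,0,1,0,0,0,0,0,0,0,0,0,0,0,0]
theorem al7pbl : Lifts (ZMod 3) (invRels al7p_i 7 ++ al7p_R) (al7pbl_a.map Nat.cast) :=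
  lifts_of_chk add3 (K0 := al7pbl_K0) (K1 := al7pbl_K1) (by decide) al7pb_nets rfl rfl rfl al7pb_sat (by decide +kernel)
theorem al7p_dvd3 : MultDvd (alternatingGroup (Fin 7)) 3 :=
  al7p_pres.elim fun _ h => multDvd_cyclic h al7pbl [1, 8, 0, -2, -2, 0, 0, 0, 2, 0, 0, -2, -2, 0, 2, -2] (by decide +kernel) (by decide +kernel)

theorem mult_al7 : HasCyclicSchurMultiplier (alternatingGroup (Fin 7)) 6 :=
  hasCyclic_of_multDvd (by decide) (multLe_cyclic (a := 1) (b := 1) (al7_has.pBound al7_card al7_in al7m2_ck al7m2_m)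
    (al7_has.pBound al7_card al7_in al7m3_ck al7m3_m) le_rfl le_rfl
    (pBound_others al7_card 7 3 [] (by decide +kernel) (by simp)) rfl) (al7p_dvd2.mul al7p_dvd3 (by decide))


end Cfsg.Lib.Known
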