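import Mathlib
import Cfsg.Agent.Known.PrimeOrdCount
import Cfsg.Agent.Known.GOrd

/-!
Invariant subspaces of an endomorphism in terms of elementary divisors; block sizes of elements
of prime order of `PSL`; Sylow subgroups and fixed points.
-/

namespace Cfsg.Lib.Known

open Module Polynomial

universe u

section Multiset

theorem exists_le_map_eq {α β : Type*} {f : α → β} {s : Multiset α} {ν : Multiset β}
    (h : ν ≤ s.map f) : ∃ t ≤ s, t.map f = ν := by
  classical
  induction ν using Multiset.induction_on generalizing s with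
  | empty => exact ⟨0, zero_le, rfl⟩
  | cons b ν ih =>
    obtain ⟨a, ha, rfl⟩ := Multiset.mem_map.mp (Multiset.mem_of_le h (Multiset.mem_cons_self _ _))
    obtain ⟨s, rfl⟩ := Multiset.exists_cons_of_mem ha
    rw [Multiset.map_cons, Multiset.cons_le_cons_iff] at h
    obtain ⟨t, ht, rfl⟩ := ih h
    exact ⟨a ::ₘ t, Multiset.cons_le_cons _ ht, Multiset.map_cons _ _ _⟩

theorem exists_add_map_eq {α β : Type*} {f : α → β} {s : Multiset α} {ν ν' : Multiset β}
    (h : s.map f = ν + ν') : ∃ t t', s = t + t' ∧ t.map f = ν ∧ t'.map f = ν' := by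
  obtain ⟨t, ht, rfl⟩ := exists_le_map_eq (f := f) (s := s) (ν := ν) (h ▸ Multiset.le_add_right _ _)
  obtain ⟨t', rfl⟩ := Multiset.le_iff_exists_add.mp ht
  rw [Multiset.map_add, add_right_inj] at h
  exact ⟨t, t', rfl, rfl, h⟩

theorem le_replicate_add_replicate {α : Type*} {a b : α} {k j : ℕ} {ν : Multiset α} :
    ν ≤ Multiset.replicate k a + Multiset.replicate j b ↔
      ∃ k' ≤ k, ∃ j' ≤ j, ν = Multiset.replicate k' a + Multiset.replicate j' b := by
  classical
  constructor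
  · intro h
    have h1 : ν.filter (· = a) ≤ Multiset.replicate (k + j) a := by
      rw [Multiset.le_replicate_iff]
      refine ⟨_, ?_, Multiset.eq_replicate_card.mpr fun x hx => (Multiset.mem_filter.mp hx).2⟩
      simpa using Multiset.card_le_card ((Multiset.filter_le _ _).trans h)
    by_cases hab : a = b
    · subst hab
      rw [← Multiset.replicate_add, Multiset.le_replicate_iff] at h
      obtain ⟨m, hm, rfl⟩ := h
      refine ⟨min m k, min_le_right _ _, m - min m k, by omega, ?_⟩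
      rw [← Multiset.replicate_add]
      congr 1
      omega
    · refine ⟨ν.count a, ?_, ν.count b, ?_, ?_⟩
      · simpa [Multiset.count_replicate, hab, Ne.symm hab] using Multiset.count_le_of_le a h
      · simpa [Multiset.count_replicate, hab, Ne.symm hab] using Multiset.count_le_of_le b h
      · ext x
        by_cases h1 : x = a
        · subst h1; simp [Multiset.count_replicate, hab, Ne.symm hab]
        by_cases h2 : x = b
        · subst h2; simp [Multiset.count_replicate, hab]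
        have := Multiset.count_le_of_le x h
        simp only [Multiset.count_add, Multiset.count_replicate, if_neg (Ne.symm h1),
          if_neg (Ne.symm h2)] at this ⊢
        omega
  · rintro ⟨k', hk, j', hj, rfl⟩
    exact add_le_add ((Multiset.replicate_le_replicate _).mpr hk)
      ((Multiset.replicate_le_replicate _).mpr hj)

theorem exists_le_sum_eq_iff {i k j m : ℕ} :
    (∃ ν ≤ Multiset.replicate k 1 + Multiset.replicate j i, ν.sum = m) ↔
      ∃ k' ≤ k, ∃ j' ≤ j, k' + i * j' = m := by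
  constructor
  · rintro ⟨ν, h, rfl⟩
    obtain ⟨k', hk, j', hj, rfl⟩ := le_replicate_add_replicate.mp h
    exact ⟨k', hk, j', hj, by simp [mul_comm]⟩
  · rintro ⟨k', hk, j', hj, rfl⟩
    exact ⟨_, le_replicate_add_replicate.mpr ⟨k', hk, j', hj, rfl⟩, by simp [mul_comm]⟩

end Multiset

variable {K : Type u} [Field K] {V : Type*} [AddCommGroup V] [Module K V]

theorem map_le_iff_forall {g : End K V} {U : Submodule K V} :
    U.map g ≤ U ↔ ∀ v ∈ U, g v ∈ U :=
  ⟨fun h v hv => h ⟨v, hv, rfl⟩, fun h => by rintro _ ⟨v, hv, rfl⟩; exact h v hv⟩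

theorem sim_prodMap_of_isCompl {g : End K V} {U W : Submodule K V} (hc : IsCompl U W)
    (hU : ∀ v ∈ U, g v ∈ U) (hW : ∀ v ∈ W, g v ∈ W) :
    Sim ((g.restrict hU).prodMap (g.restrict hW) : End K (U × W)) g :=
  ⟨Submodule.prodEquivOfIsCompl U W hc, fun v => by simp⟩

theorem sim_restrict_of_injective {W : Type*} [AddCommGroup W] [Module K W] {g : End K V}
    {g' : End K W} (e : W →ₗ[K] V) (he : Function.Injective e) (h : ∀ w, e (g' w) = g (e w))
    (hU : ∀ v ∈ LinearMap.range e, g v ∈ LinearMap.range e) : Sim g' (g.restrict hU) :=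
  ⟨LinearEquiv.ofInjective e he, fun v => Subtype.ext (by simpa using h v)⟩

theorem inv_range_of_intertwine {W : Type*} [AddCommGroup W] [Module K W] {g : End K V}
    {g' : End K W} (e : W →ₗ[K] V) (h : ∀ w, e (g' w) = g (e w)) :
    ∀ v ∈ LinearMap.range e, g v ∈ LinearMap.range e := by
  rintro _ ⟨w, rfl⟩
  exact ⟨g' w, h w⟩

variable [FiniteDimensional K V]

theorem elDiv_eq_add_of_isCompl {g : End K V} {U W : Submodule K V} (hc : IsCompl U W)
    (hU : ∀ v ∈ U, g v ∈ U) (hW : ∀ v ∈ W, g v ∈ W) :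
    elDiv g = elDiv (g.restrict hU) + elDiv (g.restrict hW) := by
  rw [← (sim_prodMap_of_isCompl hc hU hW).elDiv_eq, elDiv_prodMap]

theorem exists_isCompl_of_elDiv_eq_add {g : End K V} {s t : Multiset (K[X] × ℕ)}
    (h : elDiv g = s + t) : ∃ U W : Submodule K V, IsCompl U W ∧
      ∃ (hU : ∀ v ∈ U, g v ∈ U) (hW : ∀ v ∈ W, g v ∈ W),
        elDiv (g.restrict hU) = s ∧ elDiv (g.restrict hW) = t := by
  have hst := isElDivs_elDiv g
  rw [h] at hst
  obtain ⟨a, ha⟩ := (hst.of_le (Multiset.le_add_right s t)).exists_End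
  obtain ⟨b, hb⟩ := (hst.of_le (Multiset.le_add_left t s)).exists_End
  obtain ⟨e, he⟩ := sim_of_elDiv_eq (f := a.prodMap b) (g := g) (by rw [elDiv_prodMap, ha, hb, h])
  let i₁ := e.toLinearMap ∘ₗ LinearMap.inl K _ _
  let i₂ := e.toLinearMap ∘ₗ LinearMap.inr K _ _
  have h₁ : ∀ w, i₁ (a w) = g (i₁ w) := fun w => by simpa [i₁] using he (w, 0)
  have h₂ : ∀ w, i₂ (b w) = g (i₂ w) := fun w => by simpa [i₂] using he (0, w)
  refine ⟨LinearMap.range i₁, LinearMap.range i₂, ?_, inv_range_of_intertwine _ h₁,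
    inv_range_of_intertwine _ h₂, ?_, ?_⟩
  · simp only [i₁, i₂, LinearMap.range_comp]
    exact (Submodule.orderIsoMapComap e).isCompl LinearMap.isCompl_range_inl_inr
  · rw [← (sim_restrict_of_injective i₁ (e.injective.comp LinearMap.inl_injective) h₁ _).elDiv_eq,
      ha]
  · rw [← (sim_restrict_of_injective i₂ (e.injective.comp LinearMap.inr_injective) h₂ _).elDiv_eq,
      hb]

theorem finrank_eq_elDeg_restrict {g : End K V} {U : Submodule K V} (hU : ∀ v ∈ U, g v ∈ U) :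
    finrank K U = elDeg (elDiv (g.restrict hU)) := finrank_eq_elDeg _

omit [FiniteDimensional K V] in
theorem exists_isCompl_of_isSemisimple {g : End K V} (hs : g.IsSemisimple) {U : Submodule K V}
    (hU : ∀ v ∈ U, g v ∈ U) : ∃ W, IsCompl U W ∧ ∀ v ∈ W, g v ∈ W := by
  obtain ⟨W, hW, hc⟩ := End.isSemisimple_iff.mp hs U hU
  exact ⟨W, hc, hW⟩

theorem elDiv_restrict_le {g : End K V} (hs : g.IsSemisimple) {U : Submodule K V}
    (hU : ∀ v ∈ U, g v ∈ U) : elDiv (g.restrict hU) ≤ elDiv g := by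
  obtain ⟨W, hc, hW⟩ := exists_isCompl_of_isSemisimple hs hU
  rw [elDiv_eq_add_of_isCompl hc hU hW]
  exact Multiset.le_add_right _ _

theorem elDiv_restrict_restrict {g : End K V} {U W : Submodule K V} (h : U ≤ W)
    (hU : ∀ v ∈ U, g v ∈ U) (hW : ∀ v ∈ W, g v ∈ W)
    (hU' : ∀ v ∈ U.comap W.subtype, g.restrict hW v ∈ U.comap W.subtype) :
    elDiv ((g.restrict hW).restrict hU') = elDiv (g.restrict hU) :=
  Sim.elDiv_eq ⟨Submodule.comapSubtypeEquivOfLe h, fun _ => rfl⟩

theorem elDiv_restrict_mono {g : End K V} (hs : g.IsSemisimple) {U W : Submodule K V} (h : U ≤ W)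
    (hU : ∀ v ∈ U, g v ∈ U) (hW : ∀ v ∈ W, g v ∈ W) :
    elDiv (g.restrict hU) ≤ elDiv (g.restrict hW) := by
  have hU' : ∀ v ∈ U.comap W.subtype, g.restrict hW v ∈ U.comap W.subtype :=
    fun v hv => hU v hv
  rw [← elDiv_restrict_restrict h hU hW hU']
  exact elDiv_restrict_le (hs.restrict hW) hU'

theorem elDiv_restrict_map_subtype {g : End K V} {W : Submodule K V} (hW : ∀ v ∈ W, g v ∈ W)
    {U : Submodule K W} (hU : ∀ v ∈ U, g.restrict hW v ∈ U) :
    ∃ hU' : ∀ v ∈ U.map W.subtype, g v ∈ U.map W.subtype,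
      elDiv (g.restrict hU') = elDiv ((g.restrict hW).restrict hU) := by
  have hU' : ∀ v ∈ U.map W.subtype, g v ∈ U.map W.subtype := by
    rintro _ ⟨v, hv, rfl⟩
    exact ⟨_, hU v hv, rfl⟩
  exact ⟨hU', (Sim.elDiv_eq ⟨Submodule.equivMapOfInjective _ W.subtype_injective U,
    fun _ => rfl⟩).symm⟩

omit [FiniteDimensional K V] in
theorem isSemisimple_of_pow_eq_smul {g : End K V} {r : ℕ} (hr : (r : K) ≠ 0) {c : K} (hc : c ≠ 0)
    (h : g ^ r = c • 1) : g.IsSemisimple :=
  End.isSemisimple_of_squarefree_aeval_eq_zero (separable_X_pow_sub_C c hr hc).squarefree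
    (by simp [h, Algebra.algebraMap_eq_smul_one])

/-- The block sizes of an endomorphism. -/
noncomputable def blk (g : End K V) : Multiset ℕ := (elDiv g).map fun x => x.1.natDegree * x.2

theorem sum_blk (g : End K V) : (blk g).sum = finrank K V := (finrank_eq_elDeg g).symm

theorem exists_isCompl_iff_blk (g : End K V) (m : ℕ) :
    (∃ U W : Submodule K V, IsCompl U W ∧ finrank K U = m ∧ U.map g ≤ U ∧ W.map g ≤ W) ↔
      ∃ ν ≤ blk g, ν.sum = m := by
  simp only [map_le_iff_forall]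
  constructor
  · rintro ⟨U, W, hc, rfl, hU, hW⟩
    refine ⟨blk (g.restrict hU), ?_, sum_blk _⟩
    rw [blk, blk, elDiv_eq_add_of_isCompl hc hU hW, Multiset.map_add]
    exact Multiset.le_add_right _ _
  · rintro ⟨ν, h, rfl⟩
    obtain ⟨s, hs, rfl⟩ := exists_le_map_eq h
    obtain ⟨t, ht⟩ := Multiset.le_iff_exists_add.mp hs
    obtain ⟨U, W, hc, hU, hW, h1, -⟩ := exists_isCompl_of_elDiv_eq_add ht
    exact ⟨U, W, hc, by rw [finrank_eq_elDeg_restrict hU, h1]; rfl, hU, hW⟩

theorem exists_inv_iff_blk {g : End K V} (hs : g.IsSemisimple) (m : ℕ) :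
    (∃ U : Submodule K V, finrank K U = m ∧ U.map g ≤ U) ↔ ∃ ν ≤ blk g, ν.sum = m := by
  rw [← exists_isCompl_iff_blk]
  constructor
  · rintro ⟨U, h1, hU⟩
    obtain ⟨W, hc, hW⟩ := exists_isCompl_of_isSemisimple hs (map_le_iff_forall.mp hU)
    exact ⟨U, W, hc, h1, hU, map_le_iff_forall.mpr hW⟩
  · rintro ⟨U, W, -, h1, hU, -⟩
    exact ⟨U, h1, hU⟩

theorem exists_flag_iff_blk {g : End K V} (hs : g.IsSemisimple) (m m' : ℕ) :
    (∃ U W : Submodule K V, U ≤ W ∧ finrank K U = m ∧ finrank K W = m' ∧ U.map g ≤ U ∧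
      W.map g ≤ W) ↔ ∃ ν' ≤ blk g, ∃ ν ≤ ν', ν.sum = m ∧ ν'.sum = m' := by
  simp only [map_le_iff_forall]
  constructor
  · rintro ⟨U, W, h, rfl, rfl, hU, hW⟩
    exact ⟨blk (g.restrict hW), Multiset.map_le_map (elDiv_restrict_le hs hW),
      blk (g.restrict hU), Multiset.map_le_map (elDiv_restrict_mono hs h hU hW), sum_blk _,
      sum_blk _⟩
  · rintro ⟨ν', h', ν, h, rfl, rfl⟩
    obtain ⟨s', hs', rfl⟩ := exists_le_map_eq h'
    obtain ⟨s, hs, rfl⟩ := exists_le_map_eq h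
    obtain ⟨t', ht'⟩ := Multiset.le_iff_exists_add.mp hs'
    obtain ⟨t, rfl⟩ := Multiset.le_iff_exists_add.mp hs
    obtain ⟨W, -, -, hW, -, h1, -⟩ := exists_isCompl_of_elDiv_eq_add ht'
    obtain ⟨U, -, -, hU, -, h2, -⟩ := exists_isCompl_of_elDiv_eq_add h1
    obtain ⟨hU', h3⟩ := elDiv_restrict_map_subtype hW hU
    exact ⟨U.map W.subtype, W, Submodule.map_subtype_le _ _,
      by rw [finrank_eq_elDeg_restrict hU', h3, h2]; rfl,
      by rw [finrank_eq_elDeg_restrict hW, h1]; rfl, hU', hW⟩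

/-! ### Cyclic groups -/

section Cyclic

variable {C : Type*} [CommGroup C] [Finite C] [IsCyclic C] {r : ℕ} [Fact r.Prime]

theorem exists_pow_eq_of_pow_eq_one {c : C} {j : ℕ} (hj : j ≠ 0) (h : c ^ j = 1)
    (hv : padicValNat r j < padicValNat r (Nat.card C)) : ∃ b : C, b ^ r = c := by
  obtain ⟨g, hg⟩ := IsCyclic.exists_monoid_generator (α := C)
  obtain ⟨e, rfl⟩ := hg c
  have ho : orderOf g = Nat.card C := orderOf_eq_card_of_forall_mem_powers hg
  simp only at h
  rw [← pow_mul, ← orderOf_dvd_iff_pow_eq_one, ho] at h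
  by_cases hre : r ∣ e
  · obtain ⟨e, rfl⟩ := hre
    exact ⟨g ^ e, by rw [← pow_mul, mul_comm]⟩
  have h1 : r ^ padicValNat r (Nat.card C) ∣ j :=
    (Nat.Coprime.pow_left _ ((Nat.Prime.coprime_iff_not_dvd Fact.out).mpr hre)).dvd_of_dvd_mul_left
      (pow_padicValNat_dvd.trans h)
  have := (padicValNat_dvd_iff_le hj).mp h1
  omega

theorem exists_not_pow (hr : r ∣ Nat.card C) :
    ∃ c : C, (∀ b : C, b ^ r ≠ c) ∧ c ^ r ^ padicValNat r (Nat.card C) = 1 := by
  obtain ⟨g, hg⟩ := IsCyclic.exists_monoid_generator (α := C)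
  have ho : orderOf g = Nat.card C := orderOf_eq_card_of_forall_mem_powers hg
  have hN : Nat.card C ≠ 0 := Nat.card_pos.ne'
  obtain ⟨N, hN'⟩ := pow_padicValNat_dvd (p := r) (n := Nat.card C)
  have hrN : ¬ r ∣ N := fun h => by
    apply pow_succ_padicValNat_not_dvd (p := r) hN
    rw [pow_succ]
    conv_rhs => rw [hN']
    exact Nat.mul_dvd_mul_left _ h
  refine ⟨g ^ N, fun b hb => hrN ?_, by rw [← pow_mul, mul_comm, ← hN', pow_card_eq_one']⟩
  obtain ⟨e, rfl⟩ := hg b
  simp only at hb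
  rw [← pow_mul, pow_eq_pow_iff_modEq, ho] at hb
  exact (Nat.ModEq.dvd_iff (hb.of_dvd hr) dvd_rfl).mp (dvd_mul_left _ _)

omit [IsCyclic C] in
theorem exists_pow_eq_of_not_dvd (hr : ¬ r ∣ Nat.card C) (c : C) : ∃ b : C, b ^ r = c :=
  (powCoprime (n := r) ((Nat.Prime.coprime_iff_not_dvd Fact.out).mpr hr).symm).surjective c

end Cyclic

/-! ### Block sizes of elements with a scalar prime power -/

section Prime

variable [Fintype K] (p : ℕ) [Fact p.Prime] [CharP K p] {r : ℕ} [Fact r.Prime]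

theorem orderOf_card_eq_one_iff : orderOf (Fintype.card K : ZMod r) = 1 ↔
    r ∣ Fintype.card K - 1 := by
  have := dvd_pow_sub_one_iff (q := Fintype.card K) Fintype.card_ne_zero r 1
  rwa [pow_one, Nat.dvd_one, iff_comm] at this

theorem natDegree_minpoly_of_pow_eq {θ : Ec K} {a : K} (ha : a ≠ 0)
    (h : θ ^ r = algebraMap K (Ec K) a ^ r) : θ = algebraMap K (Ec K) a ∨
      (minpoly K θ).natDegree = orderOf (Fintype.card K : ZMod r) := by
  have ha' : algebraMap K (Ec K) a ≠ 0 := by simpa using ha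
  obtain ⟨ζ, rfl⟩ : ∃ ζ, θ = algebraMap K (Ec K) a * ζ :=
    ⟨θ / algebraMap K (Ec K) a, by field_simp⟩
  rw [mul_pow, mul_eq_left₀ (pow_ne_zero _ ha')] at h
  by_cases h1 : ζ = 1
  · exact Or.inl (by rw [h1, mul_one])
  have ho : orderOf ζ = r := orderOf_eq_prime h h1
  have hζ : ζ ≠ 0 := by
    rintro rfl
    rw [zero_pow (Fact.out : r.Prime).ne_zero] at h
    exact zero_ne_one h
  have key : ∀ d, (minpoly K (algebraMap K (Ec K) a * ζ)).natDegree ∣ d ↔
      orderOf (Fintype.card K : ZMod r) ∣ d := fun d => by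
    rw [natDegree_minpoly_dvd_iff, mul_pow, algebraMap_pow_card_pow, mul_right_inj' ha',
      ← dvd_pow_sub_one_iff Fintype.card_ne_zero]
    obtain ⟨N, hN⟩ : ∃ N, Fintype.card K ^ d = N + 1 :=
      ⟨_, (Nat.succ_pred_eq_of_pos (pow_pos Fintype.card_pos d)).symm⟩
    rw [hN, Nat.add_sub_cancel, pow_succ, mul_eq_right₀ hζ, ← orderOf_dvd_iff_pow_eq_one, ho]
  exact Or.inr (Nat.dvd_antisymm ((key _).mpr dvd_rfl) ((key _).mp dvd_rfl))

omit [Fintype K] in
theorem snd_eq_one_of_dvd (hrp : r ≠ p) {c : K} (hc : c ≠ 0) {x : K[X] × ℕ}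
    (h1 : Irreducible x.1) (h2 : 0 < x.2) (h : x.1 ^ x.2 ∣ X ^ r - C c) : x.2 = 1 := by
  have hsq := (separable_X_pow_sub_C c (natCast_prime_ne_zero p hrp) hc).squarefree
  by_contra h5
  exact h1.not_isUnit (hsq x.1 (by rw [← pow_two]; exact (pow_dvd_pow _ (by omega)).trans h))

/-- The elementary divisors of `g` with `g ^ r = a ^ r`. -/
theorem mem_cases_of_dvd_pow (hrp : r ≠ p) {a : K} (ha : a ≠ 0) {x : K[X] × ℕ} (h0 : x.1.Monic)
    (h1 : Irreducible x.1) (h2 : 0 < x.2) (h : x.1 ^ x.2 ∣ X ^ r - C (a ^ r)) :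
    x = (X - C a, 1) ∨ x.2 = 1 ∧ x.1.natDegree = orderOf (Fintype.card K : ZMod r) := by
  have h3 := snd_eq_one_of_dvd p hrp (pow_ne_zero _ ha) h1 h2 h
  obtain ⟨θ, hθ⟩ := exists_minpoly_eq_ec h0 h1
  rw [h3, pow_one, ← hθ, minpoly_dvd_iff_ec] at h
  simp only [map_sub, map_pow, aeval_X, aeval_C, sub_eq_zero] at h
  rcases natDegree_minpoly_of_pow_eq ha h with h | h
  · exact Or.inl (Prod.ext (by rw [← hθ, h, minpoly_algebraMap_ec]) h3)
  · exact Or.inr ⟨h3, hθ ▸ h⟩

omit [Fintype K] in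
theorem eq_of_dvd_of_not_pow (hrp : r ≠ p) {c : K} (hc : ∀ b : K, b ^ r ≠ c) {x : K[X] × ℕ}
    (h0 : x.1.Monic) (h1 : Irreducible x.1) (h2 : 0 < x.2) (h : x.1 ^ x.2 ∣ X ^ r - C c) :
    x = (X ^ r - C c, 1) := by
  have hr : r.Prime := Fact.out
  have hc0 : c ≠ 0 := fun h => hc 0 (by rw [h, zero_pow hr.ne_zero])
  have h3 := snd_eq_one_of_dvd p hrp hc0 h1 h2 h
  rw [h3, pow_one] at h
  exact Prod.ext (eq_of_monic_of_associated h0 (monic_X_pow_sub_C c hr.ne_zero)
    (h1.associated_of_dvd (X_pow_sub_C_irreducible_of_prime hr hc) h)) h3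

theorem eq_replicate_add_replicate {α : Type*} {a b : α} {ν : Multiset α}
    (h : ∀ x ∈ ν, x = a ∨ x = b) : ∃ k j, ν = Multiset.replicate k a + Multiset.replicate j b := by
  classical
  refine ⟨(ν.filter (· = a)).card, (ν.filter (¬ · = a)).card, ?_⟩
  conv_lhs => rw [← Multiset.filter_add_not (· = a) ν]
  congr 1
  · exact Multiset.eq_replicate_card.mpr fun x hx => (Multiset.mem_filter.mp hx).2
  · exact Multiset.eq_replicate_card.mpr fun x hx =>
      (h x (Multiset.mem_filter.mp hx).1).resolve_left (Multiset.mem_filter.mp hx).2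

omit [Fintype K] in
theorem forall_dvd_of_pow_eq_smul {g : End K V} {k : ℕ} {c : K} (h : g ^ k = c • 1) :
    ∀ x ∈ elDiv g, x.1 ^ x.2 ∣ X ^ k - C c :=
  (aeval_eq_zero_iff_elDiv g _).mp (by simp [h, Algebra.algebraMap_eq_smul_one])

omit [Fintype K] in
theorem pow_eq_smul_of_forall_dvd {g : End K V} {k : ℕ} {c : K}
    (h : ∀ x ∈ elDiv g, x.1 ^ x.2 ∣ X ^ k - C c) : g ^ k = c • 1 := by
  simpa [sub_eq_zero, Algebra.algebraMap_eq_smul_one] using (aeval_eq_zero_iff_elDiv g _).mpr h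

theorem blk_of_pow_eq_pow (hrp : r ≠ p) {g : End K V} {a : K} (ha : a ≠ 0)
    (h : g ^ r = a ^ r • 1) : ∃ k j, blk g = Multiset.replicate k 1 +
      Multiset.replicate j (orderOf (Fintype.card K : ZMod r)) := by
  refine eq_replicate_add_replicate fun d hd => ?_
  obtain ⟨x, hx, rfl⟩ := Multiset.mem_map.mp hd
  obtain ⟨h0, h1, h2⟩ := isElDivs_elDiv g x hx
  rcases mem_cases_of_dvd_pow p hrp ha h0 h1 h2 (forall_dvd_of_pow_eq_smul h x hx) with h | h
  · left; rw [h]; simp
  · right; rw [h.1, h.2, mul_one]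

omit [Fintype K] in
theorem elDiv_of_pow_eq_not_pow (hrp : r ≠ p) {g : End K V} {c : K} (hc : ∀ b : K, b ^ r ≠ c)
    (h : g ^ r = c • 1) : ∃ j, elDiv g = Multiset.replicate j (X ^ r - C c, 1) ∧
      finrank K V = r * j := by
  have h1 : elDiv g = Multiset.replicate (elDiv g).card (X ^ r - C c, 1) :=
    Multiset.eq_replicate_card.mpr fun x hx => by
      obtain ⟨h0, h1, h2⟩ := isElDivs_elDiv g x hx
      exact eq_of_dvd_of_not_pow p hrp hc h0 h1 h2 (forall_dvd_of_pow_eq_smul h x hx)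
  refine ⟨_, h1, ?_⟩
  rw [finrank_eq_elDeg g]
  conv_lhs => rw [h1]
  rw [elDeg_replicate, natDegree_X_pow_sub_C, mul_one, mul_comm]

omit [Fintype K] [Fact r.Prime] in
theorem tDet_replicate_X_pow_sub_C (hr : r ≠ 0) (c : K) (j : ℕ) :
    tDet (Multiset.replicate j ((X ^ r - C c : K[X]), 1)) = ((-1) ^ (r + 1) * c) ^ j := by
  rw [← Multiset.nsmul_singleton, tDet_nsmul, tDet_singleton, natDegree_X_pow_sub_C, pow_one]
  simp [coeff_X_pow, hr.symm, pow_succ]

omit [Fintype K] in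
theorem det_eq_tDet_End (g : End K V) : LinearMap.det g = tDet (elDiv g) := by
  classical
  let b := Module.finBasis K V
  rw [← LinearMap.det_toMatrix b, det_eq_tDet, elDivM_toMatrix]

/-- The condition under which every element of order `r` of `PSL_n(q)`, `r ∣ q - 1`, is
diagonalisable. -/
def SplitCond (r q n : ℕ) : Prop :=
  padicValNat r n ≤ padicValNat r (q - 1) ∧ (r = 2 → Even n → q % 4 = 1)

omit [Fact r.Prime] in
theorem card_units_eq : Nat.card Kˣ = Fintype.card K - 1 := by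
  rw [Nat.card_units, Nat.card_eq_fintype_card]

theorem not_splitCond_of_not_pow (hrp : r ≠ p) {c : K} (hc0 : c ≠ 0) (hc : ∀ b : K, b ^ r ≠ c)
    {j : ℕ} (hj : j ≠ 0) (h : ((-1) ^ (r + 1) * c) ^ j = 1) :
    orderOf (Fintype.card K : ZMod r) = 1 ∧ ¬ SplitCond r (Fintype.card K) (r * j) := by
  have hr : r.Prime := Fact.out
  constructor
  · rw [orderOf_card_eq_one_iff]
    by_contra h1
    obtain ⟨b, hb⟩ := exists_pow_eq_of_not_dvd (C := Kˣ) (by rwa [card_units_eq]) (Units.mk0 c hc0)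
    exact hc b (by simpa using congrArg Units.val hb)
  rintro ⟨h1, h2⟩
  rw [padicValNat.mul hr.ne_zero hj, padicValNat_self] at h1
  have h3 : ((-1) ^ (r + 1) * c) ≠ 0 := mul_ne_zero (pow_ne_zero _ (by simp)) hc0
  obtain ⟨b, hb⟩ := exists_pow_eq_of_pow_eq_one (C := Kˣ) (r := r) (c := Units.mk0 _ h3) hj
    (Units.ext (by simpa using h)) (by rw [card_units_eq]; omega)
  have hb' : (b : K) ^ r = (-1) ^ (r + 1) * c := by simpa using congrArg Units.val hb
  rcases hr.eq_two_or_odd' with rfl | ho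
  · obtain ⟨u, hu⟩ := FiniteField.isSquare_neg_one_iff.mpr
      (by rw [h2 rfl (even_two_mul j)]; norm_num : Fintype.card K % 4 ≠ 3)
    refine hc (u * b) ?_
    rw [mul_pow, hb', pow_two u, ← hu]
    ring
  · rw [ho.add_one.neg_one_pow, one_mul] at hb'
    exact hc b hb'

theorem exists_not_pow_of_not_splitCond (hi : orderOf (Fintype.card K : ZMod r) = 1) {n : ℕ}
    (hn : n ≠ 0) (h : ¬ SplitCond r (Fintype.card K) n) :
    ∃ (c : K) (j : ℕ), n = r * j ∧ c ≠ 0 ∧ (∀ b : K, b ^ r ≠ c) ∧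
      ((-1) ^ (r + 1) * c) ^ j = 1 := by
  have hr : r.Prime := Fact.out
  rw [orderOf_card_eq_one_iff] at hi
  have hq : Fintype.card K - 1 ≠ 0 := by have := Fintype.one_lt_card (α := K); omega
  by_cases h4 : r = 2 ∧ Even n ∧ Fintype.card K % 4 = 3
  · obtain ⟨rfl, ⟨j, hj⟩, h4⟩ := h4
    refine ⟨-1, j, by omega, by simp, fun b hb => ?_, by norm_num⟩
    exact FiniteField.isSquare_neg_one_iff.mp ⟨b, by rw [← hb, pow_two]⟩ h4
  have h1 : padicValNat r (Fintype.card K - 1) < padicValNat r n := by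
    by_contra h1
    refine h ⟨by omega, fun h2 h3 => ?_⟩
    subst h2
    have : Fintype.card K % 4 ≠ 3 := fun h5 => h4 ⟨rfl, h3, h5⟩
    omega
  obtain ⟨c, hc, hc1⟩ := exists_not_pow (C := Kˣ) (r := r) (by rwa [card_units_eq])
  rw [card_units_eq] at hc1
  obtain ⟨j, hj⟩ : r ^ (padicValNat r (Fintype.card K - 1) + 1) ∣ n :=
    (padicValNat_dvd_iff_le hn).mpr h1
  have hc2 : (c : K) ^ r ^ padicValNat r (Fintype.card K - 1) = 1 := by
    simpa using congrArg Units.val hc1
  refine ⟨(-1) ^ (r + 1) * c, r ^ padicValNat r (Fintype.card K - 1) * j, by rw [hj]; ring,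
    mul_ne_zero (pow_ne_zero _ (by simp)) c.ne_zero, fun b hb => ?_, ?_⟩
  · have hb0 : b ≠ 0 := by
      rintro rfl
      rw [zero_pow hr.ne_zero] at hb
      exact mul_ne_zero (pow_ne_zero _ (by simp)) c.ne_zero hb.symm
    rcases hr.eq_two_or_odd' with rfl | ho
    · obtain ⟨u, hu⟩ := FiniteField.isSquare_neg_one_iff.mpr (fun h5 => h4 ⟨rfl, by
        rw [hj, pow_succ', mul_assoc]; exact even_two_mul _, h5⟩ : Fintype.card K % 4 ≠ 3)
      have hu0 : u ≠ 0 := by rintro rfl; simp at hu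
      refine hc (Units.mk0 (u * b) (mul_ne_zero hu0 hb0)) (Units.ext ?_)
      simp only [Units.val_pow_eq_pow_val, Units.val_mk0]
      rw [mul_pow, hb, pow_two u, ← hu]
      ring
    · rw [ho.add_one.neg_one_pow, one_mul] at hb
      exact hc (Units.mk0 b hb0) (Units.ext hb)
  · rw [← mul_assoc, ← pow_add, ← two_mul, pow_mul (-1 : K), neg_one_sq, one_pow, one_mul, pow_mul,
      hc2, one_pow]

/-- Block sizes of an element of determinant one with a scalar `r`-th power. -/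
theorem blk_cases (hrp : r ≠ p) {g : End K V} (hd : LinearMap.det g = 1) {c : K}
    (h : g ^ r = c • 1) (hV : finrank K V ≠ 0) :
    (∃ k j, blk g = Multiset.replicate k 1 +
        Multiset.replicate j (orderOf (Fintype.card K : ZMod r)) ∧
        k + orderOf (Fintype.card K : ZMod r) * j = finrank K V) ∨
      (orderOf (Fintype.card K : ZMod r) = 1 ∧ ¬ SplitCond r (Fintype.card K) (finrank K V) ∧
        ∃ j, blk g = Multiset.replicate 0 1 + Multiset.replicate j r ∧ r * j = finrank K V) := by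
  have hc0 : c ≠ 0 := by
    rintro rfl
    have h1 := congrArg LinearMap.det h
    rw [map_pow, hd, one_pow, LinearMap.det_smul, zero_pow hV, zero_mul] at h1
    exact one_ne_zero h1
  by_cases hc : ∃ b : K, b ^ r = c
  · obtain ⟨a, rfl⟩ := hc
    obtain ⟨k, j, h1⟩ := blk_of_pow_eq_pow p hrp (fun h => hc0 (by
      rw [h, zero_pow (Fact.out : r.Prime).ne_zero])) h
    exact Or.inl ⟨k, j, h1, by rw [← sum_blk g, h1]; simp [mul_comm]⟩
  · push Not at hc
    obtain ⟨j, h1, h2⟩ := elDiv_of_pow_eq_not_pow p hrp hc h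
    rw [det_eq_tDet_End, h1, tDet_replicate_X_pow_sub_C (Fact.out : r.Prime).ne_zero] at hd
    obtain ⟨h3, h4⟩ := not_splitCond_of_not_pow p hrp hc0 hc (by rintro rfl; exact hV h2) hd
    refine Or.inr ⟨h3, h2 ▸ h4, j, ?_, h2.symm⟩
    rw [blk, h1]
    simp

end Prime

end Cfsg.Lib.Known
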