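import Mathlib
import Cfsg.Agent.Known.ElusLin

/-!
Sylow subgroups of linear groups and fixed points: if every `r`-subgroup of a group acting
transitively has a fixed point then `r` does not divide the degree.
-/

namespace Cfsg.Lib.Known

open Module Polynomial

universe u

theorem not_dvd_card_of_fix {G X : Type*} [Group G] [Finite G] {r : ℕ} [Fact r.Prime]
    (H : Subgroup G) (act : G → X → X) (h1 : ∀ x, act 1 x = x)
    (hmul : ∀ a b x, act (a * b) x = act a (act b x)) (S : X → Prop)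
    (hinv : ∀ g ∈ H, ∀ x, S x → S (act g x))
    (htr : ∀ x y, S x → S y → ∃ g ∈ H, act g x = y)
    (hfix : ∀ P : Subgroup G, P ≤ H → IsPGroup r P → ∃ x, S x ∧ ∀ g ∈ P, act g x = x) :
    ¬ r ∣ Nat.card {x // S x} := by
  letI : MulAction H X :=
    { smul := fun g x => act g x
      one_smul := h1
      mul_smul := fun a b x => hmul a b x }
  obtain ⟨P⟩ : Nonempty (Sylow r H) := inferInstance
  obtain ⟨x, hx, hP⟩ := hfix (P.1.map H.subtype) (Subgroup.map_subtype_le _) (P.2.map _)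
  have h2 : Nat.card {x // S x} = (MulAction.stabilizer H x).index := by
    rw [MulAction.index_stabilizer, ← Nat.card_coe_set_eq]
    refine Nat.card_congr (Equiv.subtypeEquivRight fun y => ⟨fun hy => ?_, ?_⟩)
    · obtain ⟨g, hg, h⟩ := htr x y hx hy
      exact ⟨⟨g, hg⟩, h⟩
    · rintro ⟨g, rfl⟩
      exact hinv g g.2 x hx
  rw [h2]
  exact fun h => P.not_dvd_index (h.trans (Subgroup.index_dvd_of_le
    fun g hg => hP g ⟨g, hg, rfl⟩))

theorem dvd_card_of_not_fix {G X : Type*} [Group G] {r : ℕ} [Fact r.Prime] {P : Subgroup G}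
    (hP : IsPGroup r P) (act : G → X → X) (h1 : ∀ x, act 1 x = x)
    (hmul : ∀ a b x, act (a * b) x = act a (act b x)) (S : X → Prop) [Finite {x // S x}]
    (hinv : ∀ g ∈ P, ∀ x, S x → S (act g x)) (hf : ∀ x, S x → ¬ ∀ g ∈ P, act g x = x) :
    r ∣ Nat.card {x // S x} := by
  letI : MulAction P {x // S x} :=
    { smul := fun g x => ⟨act g x, hinv g g.2 x x.2⟩
      one_smul := fun x => Subtype.ext (h1 x)
      mul_smul := fun a b x => Subtype.ext (hmul a b x) }
  have h := hP.card_modEq_card_fixedPoints {x // S x}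
  have : IsEmpty (MulAction.fixedPoints P {x // S x}) :=
    ⟨fun x => hf x.1.1 x.1.2 fun g hg => congrArg Subtype.val (x.2 ⟨g, hg⟩)⟩
  rw [Nat.card_of_isEmpty (α := MulAction.fixedPoints P {x // S x})] at h
  exact Nat.modEq_zero_iff_dvd.mp h

variable {F : Type u} [Field F] {V : Type*} [AddCommGroup V] [Module F V]

theorem finite_linearEquiv [Finite F] [FiniteDimensional F V] : Finite (V ≃ₗ[F] V) :=
  have : Finite V := Module.finite_of_finite F
  Finite.of_injective (fun e : V ≃ₗ[F] V => (e : V → V)) DFunLike.coe_injective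

theorem map_eq_of_forall_mem [FiniteDimensional F V] (g : V ≃ₗ[F] V) {W : Submodule F V}
    (h : ∀ v ∈ W, g v ∈ W) : W.map (g : V →ₗ[F] V) = W :=
  Submodule.eq_of_le_of_finrank_eq (map_le_iff_forall.mpr h) (LinearEquiv.finrank_map_eq g W)

variable [Fintype F] [FiniteDimensional F V] {r : ℕ} [Fact r.Prime]

theorem not_dvd_card_submodule (H : Subgroup (V ≃ₗ[F] V)) (S : Submodule F V → Prop)
    (hinv : ∀ g ∈ H, ∀ W, S W → S (W.map (g : V →ₗ[F] V)))
    (htr : ∀ W W', S W → S W' → ∃ g ∈ H, W.map (g : V →ₗ[F] V) = W')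
    (hfix : ∀ P : Subgroup (V ≃ₗ[F] V), P ≤ H → IsPGroup r P →
      ∃ W, S W ∧ ∀ g ∈ P, ∀ v ∈ W, g v ∈ W) : ¬ r ∣ Nat.card {W // S W} :=
  have := finite_linearEquiv (F := F) (V := V)
  not_dvd_card_of_fix H (fun g W => W.map (g : V →ₗ[F] V)) (fun W => Submodule.map_id W)
    (fun a b W => Submodule.map_comp _ _ W) S hinv htr fun P hP hr => by
      obtain ⟨W, h1, h2⟩ := hfix P hP hr
      exact ⟨W, h1, fun g hg => map_eq_of_forall_mem g (h2 g hg)⟩

theorem not_dvd_card_submodule_pair (H : Subgroup (V ≃ₗ[F] V))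
    (S : Submodule F V × Submodule F V → Prop)
    (hinv : ∀ g ∈ H, ∀ U W, S (U, W) → S (U.map (g : V →ₗ[F] V), W.map (g : V →ₗ[F] V)))
    (htr : ∀ U W U' W', S (U, W) → S (U', W') →
      ∃ g ∈ H, U.map (g : V →ₗ[F] V) = U' ∧ W.map (g : V →ₗ[F] V) = W')
    (hfix : ∀ P : Subgroup (V ≃ₗ[F] V), P ≤ H → IsPGroup r P →
      ∃ U W, S (U, W) ∧ (∀ g ∈ P, ∀ v ∈ U, g v ∈ U) ∧ ∀ g ∈ P, ∀ v ∈ W, g v ∈ W) :
    ¬ r ∣ Nat.card {W // S W} :=
  have := finite_linearEquiv (F := F) (V := V)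
  not_dvd_card_of_fix H (fun g W => (W.1.map (g : V →ₗ[F] V), W.2.map (g : V →ₗ[F] V)))
    (fun W => Prod.ext (Submodule.map_id _) (Submodule.map_id _))
    (fun a b W => Prod.ext (Submodule.map_comp _ _ _) (Submodule.map_comp _ _ _)) S
    (fun g hg W h => hinv g hg W.1 W.2 h)
    (fun W W' h h' => by
      obtain ⟨g, hg, h1, h2⟩ := htr W.1 W.2 W'.1 W'.2 h h'
      exact ⟨g, hg, Prod.ext h1 h2⟩)
    fun P hP hr => by
      obtain ⟨U, W, h1, h2, h3⟩ := hfix P hP hr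
      exact ⟨(U, W), h1, fun g hg =>
        Prod.ext (map_eq_of_forall_mem g (h2 g hg)) (map_eq_of_forall_mem g (h3 g hg))⟩

theorem not_dvd_card_submodule_fam {ι : Type*} (H : Subgroup (V ≃ₗ[F] V))
    (S : (ι → Submodule F V) → Prop)
    (hinv : ∀ g ∈ H, ∀ D, S D → S fun j => (D j).map (g : V →ₗ[F] V))
    (htr : ∀ D D', S D → S D' → ∃ g ∈ H, ∀ j, (D j).map (g : V →ₗ[F] V) = D' j)
    (hfix : ∀ P : Subgroup (V ≃ₗ[F] V), P ≤ H → IsPGroup r P →
      ∃ D, S D ∧ ∀ g ∈ P, ∀ j, ∀ v ∈ D j, g v ∈ D j) : ¬ r ∣ Nat.card {D // S D} :=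
  have := finite_linearEquiv (F := F) (V := V)
  not_dvd_card_of_fix H (fun g D j => (D j).map (g : V →ₗ[F] V))
    (fun D => funext fun j => Submodule.map_id _)
    (fun a b D => funext fun j => Submodule.map_comp _ _ _) S hinv
    (fun D D' h h' => by
      obtain ⟨g, hg, h1⟩ := htr D D' h h'
      exact ⟨g, hg, funext h1⟩)
    fun P hP hr => by
      obtain ⟨D, h1, h2⟩ := hfix P hP hr
      exact ⟨D, h1, fun g hg => funext fun j => map_eq_of_forall_mem g (h2 g hg j)⟩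

theorem dvd_card_vec {P : Subgroup (V ≃ₗ[F] V)} (hP : IsPGroup r P) (S : V → Prop)
    (hinv : ∀ g ∈ P, ∀ v, S v → S (g v)) (hf : ∀ v, S v → ¬ ∀ g ∈ P, g v = v) :
    r ∣ Nat.card {v // S v} :=
  have : Finite V := Module.finite_of_finite F
  dvd_card_of_not_fix hP (fun g v => g v) (fun _ => rfl) (fun _ _ _ => rfl) S hinv hf

/-- The decomposition `V = C_V(P) ⊕ [V, P]`. -/
structure FixDec (P : Subgroup (V ≃ₗ[F] V)) (A C : Submodule F V) : Prop where
  isCompl : IsCompl A C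
  mem_iff : ∀ v, v ∈ A ↔ ∀ g ∈ P, g v = v
  sub_mem : ∀ g ∈ P, ∀ v, g v - v ∈ C
  orth : ∀ (σ : F →+* F) (B : V →ₛₗ[σ] V →ₗ[F] F), (∀ g ∈ P, ∀ u v, B (g u) (g v) = B u v) →
    ∀ u ∈ A, ∀ v ∈ C, B u v = 0

theorem exists_fixDec (p : ℕ) [Fact p.Prime] [CharP F p] (hrp : r ≠ p)
    {P : Subgroup (V ≃ₗ[F] V)} (hP : IsPGroup r P) : ∃ A C, FixDec P A C := by
  have := finite_linearEquiv (F := F) (V := V)
  have := Fintype.ofFinite P
  have hc : (Fintype.card P : F) ≠ 0 := by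
    obtain ⟨k, hk⟩ := IsPGroup.iff_card.mp hP
    rw [← Nat.card_eq_fintype_card, hk, Nat.cast_pow]
    exact pow_ne_zero _ (natCast_prime_ne_zero p hrp)
  let e : End F V := (Fintype.card P : F)⁻¹ • ∑ g : P, (g.1 : End F V)
  have he : ∀ v, e v = (Fintype.card P : F)⁻¹ • ∑ g : P, g.1 v := fun v => by
    simp [e, LinearMap.sum_apply]
  have h1 : ∀ g ∈ P, ∀ v, g (e v) = e v := fun g hg v => by
    rw [he, map_smul, map_sum]
    congr 1
    exact Fintype.sum_equiv (Equiv.mulLeft (⟨g, hg⟩ : P)) _ _ fun _ => rfl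
  have h2 : ∀ g ∈ P, ∀ v, e (g v) = e v := fun g hg v => by
    rw [he, he]
    congr 1
    exact Fintype.sum_equiv (Equiv.mulRight (⟨g, hg⟩ : P)) _ _ fun _ => rfl
  have h3 : ∀ v, (∀ g ∈ P, g v = v) → e v = v := fun v hv => by
    rw [he, Finset.sum_congr rfl fun g _ => hv g.1 g.2, Finset.sum_const, Finset.card_univ,
      ← Nat.cast_smul_eq_nsmul F, inv_smul_smul₀ hc]
  have h4 : LinearMap.IsProj (LinearMap.range e) e :=
    ⟨fun v => ⟨v, rfl⟩, by rintro _ ⟨v, rfl⟩; exact h3 _ fun g hg => h1 g hg v⟩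
  refine ⟨LinearMap.range e, LinearMap.ker e, h4.isCompl, fun v => ⟨?_, fun h => ⟨v, h3 v h⟩⟩,
    fun g hg v => by rw [LinearMap.mem_ker, map_sub, h2 g hg, sub_self], ?_⟩
  · rintro ⟨v, rfl⟩ g hg
    exact h1 g hg v
  · rintro σ B hB _ ⟨u, rfl⟩ v hv
    have h5 : B (e u) (e v) = B (e u) v := by
      conv_lhs => rw [he v, map_smul, map_sum]
      rw [Finset.sum_congr rfl fun (g : P) _ => (by conv_lhs => rw [← h1 g.1 g.2 u, hB g.1 g.2] :
        B (e u) (g.1 v) = B (e u) v), Finset.sum_const, Finset.card_univ,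
        ← Nat.cast_smul_eq_nsmul F, inv_smul_smul₀ hc]
    rw [← h5, LinearMap.mem_ker.mp hv, map_zero]

namespace FixDec

variable {P : Subgroup (V ≃ₗ[F] V)} {A C : Submodule F V}

omit [Fintype F] [FiniteDimensional F V] in
theorem inv_of_le_left (h : FixDec P A C) {U : Submodule F V} (hU : U ≤ A) :
    ∀ g ∈ P, ∀ v ∈ U, g v ∈ U := fun g hg v hv => by
  rwa [(h.mem_iff v).mp (hU hv) g hg]

omit [Fintype F] [FiniteDimensional F V] in
theorem inv_of_right_le (h : FixDec P A C) {U : Submodule F V} (hU : C ≤ U) :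
    ∀ g ∈ P, ∀ v ∈ U, g v ∈ U := fun g hg v hv => by
  simpa using U.add_mem (hU (h.sub_mem g hg v)) hv

omit [Fintype F] [FiniteDimensional F V] in
theorem not_fix (h : FixDec P A C) {v : V} (hv : v ∈ C) (h0 : v ≠ 0) : ¬ ∀ g ∈ P, g v = v :=
  fun h1 => h0 (Submodule.disjoint_def.mp h.isCompl.disjoint v ((h.mem_iff v).mpr h1) hv)

omit [Fintype F] in
theorem finrank_add (h : FixDec P A C) : finrank F A + finrank F C = finrank F V :=
  Submodule.finrank_add_eq_of_isCompl h.isCompl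

theorem dvd_card (h : FixDec P A C) (hP : IsPGroup r P) (S : V → Prop) (h0 : ¬ S 0)
    (hinv : ∀ g ∈ P, ∀ v, S v → S (g v)) : r ∣ Nat.card {v : C // S v} := by
  rw [Nat.card_congr (Equiv.subtypeSubtypeEquivSubtypeInter (· ∈ C) S)]
  exact dvd_card_vec hP _ (fun g hg v hv => ⟨h.inv_of_right_le le_rfl g hg v hv.1, hinv g hg v hv.2⟩)
    fun v hv => h.not_fix hv.1 (by rintro rfl; exact h0 hv.2)

theorem orderOf_dvd (h : FixDec P A C) (hP : IsPGroup r P) :
    orderOf (Fintype.card F : ZMod r) ∣ finrank F C := by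
  have h1 := h.dvd_card hP (· ≠ 0) (by simp) fun g _ v hv => by simpa using hv
  have : Finite C := Module.finite_of_finite F
  have h2 : Nat.card {v : C // (v : V) ≠ 0} = Nat.card C - 1 := by
    rw [← Nat.card_congr (Equiv.subtypeEquivRight (p := fun v : C => v ≠ 0) fun v => by simp)]
    classical
    have := Fintype.ofFinite C
    simp [Nat.card_eq_fintype_card, Fintype.card_subtype_compl]
  rwa [h2, Module.natCard_eq_pow_finrank (K := F), Nat.card_eq_fintype_card,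
    dvd_pow_sub_one_iff Fintype.card_ne_zero] at h1

theorem mod_le (h : FixDec P A C) {c : ℕ} (hc : c ∣ finrank F C) :
    finrank F V % c ≤ finrank F A := by
  obtain ⟨k, hk⟩ := hc
  rw [← h.finrank_add, hk, Nat.add_mul_mod_self_left]
  exact Nat.mod_le _ _

end FixDec

/-- Extending an invariant subspace of a `p`-group by a vector with a prescribed property. -/
theorem exists_step_pGroup {P : Subgroup (V ≃ₗ[F] V)} (hP : IsPGroup r P)
    {U T M : Submodule F V} (hU : ∀ g ∈ P, ∀ v ∈ U, g v ∈ U) (hT : ∀ g ∈ P, ∀ v ∈ T, g v ∈ T)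
    (hd : Disjoint U M) (hs : U ⊔ M = T) (N : V → Prop) (h0 : N 0)
    (hN : ∀ g ∈ P, ∀ v, N v → N (g v)) (hNU : ∀ u ∈ U, ∀ v ∈ T, N v → N (u + v))
    (hc : r ∣ Nat.card {m : M // N m}) :
    ∃ v ∈ T, v ∉ U ∧ N v ∧ ∀ g ∈ P, g v - v ∈ U := by
  have : Finite V := Module.finite_of_finite F
  by_contra hcon
  let S : Set V → Prop := fun X => ∃ v ∈ T, v ∉ U ∧ N v ∧ X = {w | w - v ∈ U}
  have himg : ∀ g ∈ P, ∀ v, g '' {w | w - v ∈ U} = {w | w - g v ∈ U} := fun g hg v => by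
    ext w
    constructor
    · rintro ⟨w, hw, rfl⟩
      simpa using hU g hg _ hw
    · intro hw
      refine ⟨g.symm w, ?_, by simp⟩
      simpa using hU g⁻¹ (P.inv_mem hg) _ hw
  have h1 := dvd_card_of_not_fix hP (fun g (X : Set V) => g '' X) (fun X => Set.image_id X)
    (fun a b X => Set.image_comp a b X) S
    (by
      rintro g hg _ ⟨v, hv, hv', hN', rfl⟩
      exact ⟨g v, hT g hg v hv, fun h => hv' (by simpa using hU g⁻¹ (P.inv_mem hg) _ h),
        hN g hg v hN', himg g hg v⟩)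
    (by
      rintro _ ⟨v, hv, hv', hN', rfl⟩ h
      refine hcon ⟨v, hv, hv', hN', fun g hg => ?_⟩
      have h2 := h g hg
      simp only [himg g hg] at h2
      have h3 : g v ∈ {w | w - g v ∈ U} := by simp
      rwa [h2] at h3)
  have h2 : Nat.card {X // S X} = Nat.card {m : {m : M // N m} // m ≠ ⟨0, h0⟩} := by
    symm
    refine Nat.card_eq_of_bijective (fun m => ⟨{w | w - m.1.1.1 ∈ U}, m.1.1.1,
      hs ▸ Submodule.mem_sup_right m.1.1.2, fun h => m.2 (Subtype.ext (Subtype.ext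
        (Submodule.disjoint_def.mp hd _ h m.1.1.2))), m.1.2, rfl⟩) ⟨fun m m' h => ?_, ?_⟩
    · have h3 : m.1.1.1 ∈ {w | w - m.1.1.1 ∈ U} := by simp
      rw [show {w | w - m.1.1.1 ∈ U} = {w | w - m'.1.1.1 ∈ U} from congrArg Subtype.val h] at h3
      exact Subtype.ext (Subtype.ext (Subtype.ext (sub_eq_zero.mp
        (Submodule.disjoint_def.mp hd _ h3 (M.sub_mem m.1.1.2 m'.1.1.2)))))
    · rintro ⟨_, v, hv, hv', hN', rfl⟩
      obtain ⟨u, hu, m, hm, rfl⟩ := Submodule.mem_sup.mp (hs ▸ hv)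
      have hN'' : N m := by simpa using hNU (-u) (U.neg_mem hu) _ hv hN'
      refine ⟨⟨⟨⟨m, hm⟩, hN''⟩, fun h => hv' ?_⟩, Subtype.ext ?_⟩
      · have : m = 0 := congrArg (fun x => x.1.1) h
        simpa [this] using hu
      · ext w
        simp only [Set.mem_ofPred_eq]
        rw [show w - (u + m) = (w - m) - u by abel]
        exact (U.sub_mem_iff_left hu).symm
  have h3 : Nat.card {m : {m : M // N m} // m ≠ ⟨0, h0⟩} + 1 = Nat.card {m : M // N m} := by
    classical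
    have := Fintype.ofFinite {m : M // N m}
    have : Nonempty {m : M // N m} := ⟨⟨0, h0⟩⟩
    simp only [Nat.card_eq_fintype_card, Fintype.card_subtype_compl, Fintype.card_unique]
    have := Fintype.card_pos (α := {m : M // N m})
    omega
  rw [← h3, ← h2] at hc
  exact (Fact.out : r.Prime).one_lt.ne' (Nat.dvd_one.mp ((Nat.dvd_add_right h1).mp hc))

omit [Fintype F] [FiniteDimensional F V] in
theorem inv_sup_span {P : Subgroup (V ≃ₗ[F] V)} {U : Submodule F V}
    (hU : ∀ g ∈ P, ∀ v ∈ U, g v ∈ U) {v : V} (hv : ∀ g ∈ P, g v - v ∈ U) :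
    ∀ g ∈ P, ∀ w ∈ U ⊔ Submodule.span F {v}, g w ∈ U ⊔ Submodule.span F {v} := by
  intro g hg w hw
  obtain ⟨u, hu, _, hx, rfl⟩ := Submodule.mem_sup.mp hw
  obtain ⟨a, rfl⟩ := Submodule.mem_span_singleton.mp hx
  rw [map_add, map_smul, ← sub_add_cancel (g v) v, smul_add, ← add_assoc]
  exact Submodule.add_mem_sup (U.add_mem (hU g hg u hu) (U.smul_mem _ (hv g hg))) hx

omit [Fintype F] in
theorem finrank_sup_span {U : Submodule F V} {v : V} (hv : v ∉ U) :
    finrank F ↥(U ⊔ Submodule.span F {v}) = finrank F U + 1 := by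
  have h0 : v ≠ 0 := by rintro rfl; exact hv U.zero_mem
  have := Submodule.finrank_sup_add_finrank_inf_eq U (Submodule.span F {v})
  rw [finrank_span_singleton h0, ((Submodule.disjoint_span_singleton' h0).mpr hv).eq_bot,
    finrank_bot] at this
  exact this

/-- A `p`-group in characteristic `p` leaves invariant subspaces of all dimensions. -/
theorem exists_inv_pGroup (p : ℕ) [Fact p.Prime] [CharP F p] {P : Subgroup (V ≃ₗ[F] V)}
    (hP : IsPGroup p P) {U : Submodule F V} (hU : ∀ g ∈ P, ∀ v ∈ U, g v ∈ U) (k : ℕ)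
    (hk : finrank F U + k ≤ finrank F V) :
    ∃ W, U ≤ W ∧ finrank F W = finrank F U + k ∧ ∀ g ∈ P, ∀ v ∈ W, g v ∈ W := by
  induction k with
  | zero => exact ⟨U, le_rfl, rfl, hU⟩
  | succ k ih =>
    obtain ⟨W, h1, h2, h3⟩ := ih (by omega)
    obtain ⟨M, hM⟩ := W.exists_isCompl
    have h4 := Submodule.finrank_add_eq_of_isCompl hM
    obtain ⟨v, -, hv, -, h5⟩ := exists_step_pGroup hP h3 (T := ⊤) (fun _ _ _ _ => trivial)
      hM.disjoint hM.sup_eq_top (fun _ => True) trivial (fun _ _ _ _ => trivial)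
      (fun _ _ _ _ _ => trivial) (by
        rw [Nat.card_congr (Equiv.subtypeUnivEquiv fun _ => trivial),
          Module.natCard_eq_pow_finrank (K := F), Nat.card_eq_fintype_card]
        obtain ⟨f, -, hf⟩ := FiniteField.card F p
        exact dvd_pow (hf ▸ dvd_pow_self p f.ne_zero) (by omega))
    exact ⟨_, le_sup_of_le_left h1, by rw [finrank_sup_span hv, h2, add_assoc], inv_sup_span h3 h5⟩

omit [Fintype F] in
theorem exists_map_eq_of_isCompl {U W U' W' : Submodule F V} (h : IsCompl U W) (h' : IsCompl U' W')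
    (hd : finrank F U = finrank F U') :
    ∃ g : V ≃ₗ[F] V, U.map (g : V →ₗ[F] V) = U' ∧ W.map (g : V →ₗ[F] V) = W' := by
  have h1 := Submodule.finrank_add_eq_of_isCompl h
  have h2 := Submodule.finrank_add_eq_of_isCompl h'
  let a := LinearEquiv.ofFinrankEq U U' hd
  let b : W ≃ₗ[F] W' := LinearEquiv.ofFinrankEq W W' (by omega)
  let g := (Submodule.prodEquivOfIsCompl U W h).symm.trans
    ((a.prodCongr b).trans (Submodule.prodEquivOfIsCompl U' W' h'))
  refine ⟨g, Submodule.eq_of_le_of_finrank_eq ?_ (by rw [LinearEquiv.finrank_map_eq, hd]),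
    Submodule.eq_of_le_of_finrank_eq ?_ (by rw [LinearEquiv.finrank_map_eq]; omega)⟩
  · rintro _ ⟨v, hv, rfl⟩
    have : ∀ v : U, g v = a v := fun v => by simp [g]
    exact (show g v = _ from this ⟨v, hv⟩) ▸ (a ⟨v, hv⟩).2
  · rintro _ ⟨v, hv, rfl⟩
    have : ∀ v : W, g v = b v := fun v => by simp [g]
    exact (show g v = _ from this ⟨v, hv⟩) ▸ (b ⟨v, hv⟩).2

omit [Fintype F] in
theorem exists_map_eq_of_le {U W U' W' : Submodule F V} (h : U ≤ W) (h' : U' ≤ W')
    (hU : finrank F U = finrank F U') (hW : finrank F W = finrank F W') :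
    ∃ g : V ≃ₗ[F] V, U.map (g : V →ₗ[F] V) = U' ∧ W.map (g : V →ₗ[F] V) = W' := by
  obtain ⟨C, hC⟩ := W.exists_isCompl
  obtain ⟨C', hC'⟩ := W'.exists_isCompl
  obtain ⟨g, hg, -⟩ := exists_map_eq_of_isCompl hC hC' hW
  subst hg
  set W' := W.map (g : V →ₗ[F] V)
  obtain ⟨D, hD⟩ := ((U.map (g : V →ₗ[F] V)).comap W'.subtype).exists_isCompl
  obtain ⟨D', hD'⟩ := (U'.comap W'.subtype).exists_isCompl
  obtain ⟨a, ha, -⟩ := exists_map_eq_of_isCompl hD hD' (by
    rw [(Submodule.comapSubtypeEquivOfLe (Submodule.map_mono h)).finrank_eq,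
      (Submodule.comapSubtypeEquivOfLe h').finrank_eq, LinearEquiv.finrank_map_eq, hU])
  let b := (Submodule.prodEquivOfIsCompl W' C' hC').symm.trans
    ((a.prodCongr (LinearEquiv.refl F C')).trans (Submodule.prodEquivOfIsCompl W' C' hC'))
  have hb : ∀ v : W', b v = a v := fun v => by simp [b]
  refine ⟨g.trans b, Submodule.eq_of_le_of_finrank_eq ?_ (by rw [LinearEquiv.finrank_map_eq, hU]),
    Submodule.eq_of_le_of_finrank_eq ?_ (by rw [LinearEquiv.finrank_map_eq, hW])⟩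
  · rintro _ ⟨v, hv, rfl⟩
    have h1 : a ⟨g v, v, h hv, rfl⟩ ∈ U'.comap W'.subtype := ha ▸ ⟨_, ⟨v, hv, rfl⟩, rfl⟩
    exact (show b (g v) = _ from hb ⟨g v, v, h hv, rfl⟩) ▸ h1
  · rintro _ ⟨v, hv, rfl⟩
    exact (show b (g v) = _ from hb ⟨g v, v, hv, rfl⟩) ▸ (a _).2

end Cfsg.Lib.Known
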