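import Mathlib
import Cfsg.Agent.Known.ElusSyl

/-!
Elements of prime order of `PSL_n(q)`: reduction of universal statements to block sizes.
-/

namespace Cfsg.Lib.Known

open Module Polynomial

universe u

variable {F : Type u} [Field F]

section Mat

variable {n : Type*} [Fintype n] [DecidableEq n]

theorem toLin'_eq_smul_one_iff {A : Matrix n n F} {c : F} :
    Matrix.toLin' A = c • (1 : End F (n → F)) ↔ A = c • 1 := by
  rw [← Matrix.toLin'.injective.eq_iff, map_smul, Matrix.toLin'_one]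
  rfl

theorem toLin'_pow_eq_smul_one_iff {A : Matrix n n F} {c : F} {k : ℕ} :
    (Matrix.toLin' A : End F (n → F)) ^ k = c • 1 ↔ A ^ k = c • 1 := by
  rw [← Matrix.toLin'_pow, toLin'_eq_smul_one_iff]

theorem forall_SL_iff (r : ℕ) (Φ : End F (n → F) → Prop) :
    (∀ x : Matrix.SpecialLinearGroup n F,
      (∃ c : F, ((x ^ r : Matrix.SpecialLinearGroup n F) : Matrix n n F) = c • 1) →
      (∀ c : F, (x : Matrix n n F) ≠ c • 1) → Φ (Matrix.toLin' (x : Matrix n n F))) ↔
    ∀ g : End F (n → F), LinearMap.det g = 1 → (∃ c : F, g ^ r = c • 1) →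
      (∀ c : F, g ≠ c • 1) → Φ g := by
  constructor
  · intro h g hd h1 h2
    obtain ⟨A, rfl⟩ := Matrix.toLin'.surjective g
    rw [LinearMap.det_toLin'] at hd
    simp only [toLin'_pow_eq_smul_one_iff, Ne, toLin'_eq_smul_one_iff] at h1 h2
    let x : Matrix.SpecialLinearGroup n F := ⟨A, hd⟩
    exact h x (by rwa [Matrix.SpecialLinearGroup.coe_pow]) h2
  · intro h x h1 h2
    refine h _ (by rw [LinearMap.det_toLin', x.det_coe]) ?_ ?_
    · simpa [toLin'_pow_eq_smul_one_iff] using h1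
    · simpa [toLin'_eq_smul_one_iff] using h2

end Mat

variable {V : Type*} [AddCommGroup V] [Module F V] [FiniteDimensional F V]

theorem eq_of_mem_elDiv_smul_one {c : F} {x : F[X] × ℕ} (hx : x ∈ elDiv (c • 1 : End F V)) :
    x = (X - C c, 1) := by
  have := (aeval_pow_eq_zero_iff (f := (c • 1 : End F V)) (monic_X_sub_C c) (irreducible_X_sub_C c)
    (N := 1)).mp (by simp [Algebra.algebraMap_eq_smul_one]) x hx
  have h2 := (isElDivs_elDiv _ x hx).2.2
  exact Prod.ext this.1 (by omega)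

theorem ne_smul_of_mem_blk {g : End F V} {d : ℕ} (hd : d ∈ blk g) (h2 : d ≠ 1) (c : F) :
    g ≠ c • 1 := by
  rintro rfl
  obtain ⟨x, hx, rfl⟩ := Multiset.mem_map.mp hd
  rw [eq_of_mem_elDiv_smul_one hx] at h2
  simp at h2

theorem ne_smul_of_mem_ne {g : End F V} {x y : F[X] × ℕ} (hx : x ∈ elDiv g) (hy : y ∈ elDiv g)
    (h : x ≠ y) (c : F) : g ≠ c • 1 := by
  rintro rfl
  exact h ((eq_of_mem_elDiv_smul_one hx).trans (eq_of_mem_elDiv_smul_one hy).symm)

theorem smul_ne_zero_of_det {g : End F V} (hd : LinearMap.det g ≠ 0) {r : ℕ} {c : F}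
    (h : g ^ r = c • 1) (hV : finrank F V ≠ 0) : c ≠ 0 := by
  rintro rfl
  have h1 := congrArg LinearMap.det h
  rw [map_pow, LinearMap.det_smul, zero_pow hV, zero_mul] at h1
  exact hd (pow_eq_zero_iff (by rintro rfl; simp at h1) |>.mp h1)

variable [Fintype F] (p : ℕ) [Fact p.Prime] [CharP F p] {r : ℕ} [Fact r.Prime]

omit [Fact p.Prime] [CharP F p] in
theorem eq_one_of_pow_eq_one (hi : orderOf (Fintype.card F : ZMod r) ≠ 1) {a : F} (h : a ^ r = 1) :
    a = 1 := by
  by_contra h1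
  apply hi
  rw [orderOf_card_eq_one_iff, ← orderOf_eq_prime h h1, orderOf_dvd_iff_pow_eq_one]
  exact FiniteField.pow_card_sub_one_eq_one a (by
    rintro rfl
    rw [zero_pow (Fact.out : r.Prime).ne_zero] at h
    exact zero_ne_one h)

omit [Fintype F] in
theorem dvd_of_mem_cycFactors {x : F[X] × ℕ} (hx : x ∈ cycFactors F r) :
    x.1 ^ x.2 ∣ X ^ r - 1 := by
  obtain ⟨-, -, h3, h4⟩ := mem_cycFactors.mp hx
  rw [h4, pow_one]
  exact h3.trans (cyclotomic.dvd_X_pow_sub_one r F)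

omit [Fintype F] in
theorem isElDivs_of_mem_cycFactors {m : Multiset (F[X] × ℕ)} (h : ∀ x ∈ m, x ∈ cycFactors F r) :
    IsElDivs m := fun x hx => by
  obtain ⟨h1, h2, -, h4⟩ := mem_cycFactors.mp (h x hx)
  exact ⟨h1, h2, by omega⟩

theorem natDegree_of_mem_cycFactors (hrp : r ≠ p) {x : F[X] × ℕ} (hx : x ∈ cycFactors F r) :
    x.1.natDegree * x.2 = orderOf (Fintype.card F : ZMod r) := by
  simpa using elDeg_of_mem_cycFactors p hrp (m := {x}) (by simpa using hx)

theorem cycFactors_nonempty (hrp : r ≠ p) : (cycFactors F r).Nonempty := by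
  rw [← Finset.card_pos, Nat.pos_iff_ne_zero]
  intro h
  have := card_cycFactors (K := F) p hrp
  have := (Fact.out : r.Prime).two_le
  rw [h] at *
  omega

theorem exists_End_cyc (hrp : r ≠ p) {k : ℕ} {m : Multiset (F[X] × ℕ)}
    (hm : ∀ x ∈ m, x ∈ cycFactors F r)
    (h : k + orderOf (Fintype.card F : ZMod r) * m.card = finrank F V) :
    ∃ g : End F V, g ^ r = 1 ∧ elDiv g = Multiset.replicate k (X - 1, 1) + m := by
  obtain ⟨g, hg⟩ := exists_elDiv_eq (V := V) ((isGLType_replicate_one k).1.add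
    (isElDivs_of_mem_cycFactors hm)) (by
      rw [elDeg_add, (isGLType_replicate_one k).2.1, elDeg_of_mem_cycFactors p hrp hm, h])
  refine ⟨g, ?_, hg⟩
  rw [← one_smul F (1 : End F V)]
  refine pow_eq_smul_of_forall_dvd fun x hx => ?_
  rw [hg, Multiset.mem_add] at hx
  rcases hx with hx | hx
  · rw [Multiset.eq_of_mem_replicate hx]
    simpa using sub_dvd_pow_sub_pow (X : F[X]) 1 r
  · simpa using dvd_of_mem_cycFactors (hm x hx)

theorem blk_of_elDiv_cyc (hrp : r ≠ p) {g : End F V} {k : ℕ} {m : Multiset (F[X] × ℕ)}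
    (hm : ∀ x ∈ m, x ∈ cycFactors F r) (h : elDiv g = Multiset.replicate k (X - 1, 1) + m) :
    blk g = Multiset.replicate k 1 +
      Multiset.replicate m.card (orderOf (Fintype.card F : ZMod r)) := by
  rw [blk, h, Multiset.map_add, Multiset.map_congr rfl fun x hx =>
    natDegree_of_mem_cycFactors p hrp (hm x hx)]
  simp [natDegree_X_sub_one]

omit [Fact p.Prime] [CharP F p] in
theorem det_eq_one_of_pow_eq_one (hi : orderOf (Fintype.card F : ZMod r) ≠ 1) {g : End F V}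
    (h : g ^ r = 1) : LinearMap.det g = 1 :=
  eq_one_of_pow_eq_one hi (by rw [← map_pow, h, map_one])

theorem exists_End_blk (hrp : r ≠ p) (hi : orderOf (Fintype.card F : ZMod r) ≠ 1) {k j : ℕ}
    (hj : j ≠ 0) (h : k + orderOf (Fintype.card F : ZMod r) * j = finrank F V) :
    ∃ g : End F V, LinearMap.det g = 1 ∧ g ^ r = 1 ∧ (∀ c : F, g ≠ c • 1) ∧
      blk g = Multiset.replicate k 1 +
        Multiset.replicate j (orderOf (Fintype.card F : ZMod r)) := by
  obtain ⟨x, hx⟩ := cycFactors_nonempty (F := F) p hrp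
  have hm : ∀ y ∈ Multiset.replicate j x, y ∈ cycFactors F r := fun y hy =>
    Multiset.eq_of_mem_replicate hy ▸ hx
  obtain ⟨g, h1, h2⟩ := exists_End_cyc (V := V) p hrp hm (by simpa using h)
  have h3 := blk_of_elDiv_cyc p hrp hm h2
  rw [Multiset.card_replicate] at h3
  exact ⟨g, det_eq_one_of_pow_eq_one hi h1, h1, ne_smul_of_mem_blk (by rw [h3]; simp [Multiset.mem_replicate, hj]) hi,
    h3⟩

omit [Fact p.Prime] [CharP F p] in
theorem exists_End_not_split (hi : orderOf (Fintype.card F : ZMod r) = 1) (hV : finrank F V ≠ 0)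
    (h : ¬ SplitCond r (Fintype.card F) (finrank F V)) :
    ∃ (g : End F V) (c : F) (j : ℕ), LinearMap.det g = 1 ∧ g ^ r = c • 1 ∧ (∀ c : F, g ≠ c • 1) ∧
      r * j = finrank F V ∧ (∀ b : F, b ^ r ≠ c) ∧
      elDiv g = Multiset.replicate j (X ^ r - C c, 1) ∧
      blk g = Multiset.replicate 0 1 + Multiset.replicate j r := by
  have hr : r.Prime := Fact.out
  obtain ⟨c, j, h1, h2, h3, h4⟩ := exists_not_pow_of_not_splitCond hi hV h
  obtain ⟨g, hg⟩ := exists_elDiv_eq (V := V) (s := Multiset.replicate j (X ^ r - C c, 1))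
    (fun x hx => by
      rw [Multiset.eq_of_mem_replicate hx]
      exact ⟨monic_X_pow_sub_C c hr.ne_zero, X_pow_sub_C_irreducible_of_prime hr h3, one_pos⟩)
    (by rw [elDeg_replicate, natDegree_X_pow_sub_C, h1]; ring)
  have h5 : blk g = Multiset.replicate 0 1 + Multiset.replicate j r := by rw [blk, hg]; simp
  refine ⟨g, c, j, by rw [det_eq_tDet_End, hg, tDet_replicate_X_pow_sub_C hr.ne_zero, h4],
    pow_eq_smul_of_forall_dvd fun x hx => ?_, ne_smul_of_mem_blk (d := r) ?_ hr.one_lt.ne',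
    h1.symm, h3, hg, h5⟩
  · rw [hg] at hx
    rw [Multiset.eq_of_mem_replicate hx, pow_one]
  · rw [h5]
    simp only [Multiset.replicate_zero, zero_add, Multiset.mem_replicate, and_true]
    rintro rfl
    exact hV h1

/-- Universal statements about block sizes of elements of order `r ≠ p` of `PSL`. -/
theorem forall_blk_iff (hrp : r ≠ p) (hV : finrank F V ≠ 0) (Φ : Multiset ℕ → Prop)
    (h1 : Φ (Multiset.replicate (finrank F V) 1 +
      Multiset.replicate 0 (orderOf (Fintype.card F : ZMod r)))) :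
    (∀ g : End F V, LinearMap.det g = 1 → (∃ c : F, g ^ r = c • 1) → (∀ c : F, g ≠ c • 1) →
      Φ (blk g)) ↔
    (∀ k j, k + orderOf (Fintype.card F : ZMod r) * j = finrank F V →
      Φ (Multiset.replicate k 1 + Multiset.replicate j (orderOf (Fintype.card F : ZMod r)))) ∧
    (orderOf (Fintype.card F : ZMod r) = 1 → ¬ SplitCond r (Fintype.card F) (finrank F V) →
      ∃ j, r * j = finrank F V ∧ Φ (Multiset.replicate 0 1 + Multiset.replicate j r)) := by
  constructor
  · intro h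
    refine ⟨fun k j hkj => ?_, fun hi hs => ?_⟩
    · by_cases hi : orderOf (Fintype.card F : ZMod r) = 1
      · rw [hi] at h1 hkj ⊢
        rw [← Multiset.replicate_add] at h1 ⊢
        rwa [show k + j = finrank F V + 0 by omega]
      by_cases hj : j = 0
      · subst hj
        rwa [show k = finrank F V by omega]
      obtain ⟨g, h2, h3, h4, h5⟩ := exists_End_blk p hrp hi hj hkj
      exact h5 ▸ h g h2 ⟨1, by rw [h3, one_smul]⟩ h4
    · obtain ⟨g, c, j, h2, h3, h4, h5, -, -, h6⟩ := exists_End_not_split hi hV hs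
      exact ⟨j, h5, h6 ▸ h g h2 ⟨c, h3⟩ h4⟩
  · rintro ⟨h2, h3⟩ g hd ⟨c, hc⟩ -
    rcases blk_cases p hrp hd hc hV with ⟨k, j, h4, h5⟩ | ⟨h4, h5, j, h6, h7⟩
    · exact h4 ▸ h2 k j h5
    · obtain ⟨j', h8, h9⟩ := h3 h4 h5
      obtain rfl : j = j' := Nat.eq_of_mul_eq_mul_left (Fact.out : r.Prime).pos (h7.trans h8.symm)
      exact h6 ▸ h9

/-! ### Unipotent elements -/

theorem elDiv_of_pow_char {g : End F V} {c : F} (h : g ^ p = c • 1) :
    ∃ a : F, a ^ p = c ∧ ∀ x ∈ elDiv g, x.1 = X - C a ∧ x.2 ≤ p := by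
  obtain ⟨a, rfl⟩ := (bijective_frobenius F p).2 c
  refine ⟨a, rfl, (aeval_pow_eq_zero_iff (monic_X_sub_C a) (irreducible_X_sub_C a)).mp ?_⟩
  rw [sub_pow_char, ← C_pow]
  simp [h, frobenius_def, Algebra.algebraMap_eq_smul_one, _root_.smul_pow]

theorem blk_of_pow_char {g : End F V} {c : F} (h : g ^ p = c • 1) :
    ∀ d ∈ blk g, 0 < d ∧ d ≤ p := by
  obtain ⟨a, -, ha⟩ := elDiv_of_pow_char p h
  intro d hd
  obtain ⟨x, hx, rfl⟩ := Multiset.mem_map.mp hd
  rw [(ha x hx).1, natDegree_X_sub_C, one_mul]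
  exact ⟨(isElDivs_elDiv g x hx).2.2, (ha x hx).2⟩

omit [Fintype F] [Fact p.Prime] [CharP F p] in
theorem isElDivs_map_unip {μ : Multiset ℕ} (h : ∀ a ∈ μ, 0 < a) :
    IsElDivs (μ.map fun a => ((X - 1 : F[X]), a)) := fun x hx => by
  obtain ⟨a, ha, rfl⟩ := Multiset.mem_map.mp hx
  exact ⟨monic_X_sub_one, irreducible_X_sub_one, h a ha⟩

omit [Fintype F] [Fact p.Prime] [CharP F p] in
theorem elDeg_map_unip (μ : Multiset ℕ) : elDeg (μ.map fun a => ((X - 1 : F[X]), a)) = μ.sum := by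
  simp [elDeg, natDegree_X_sub_one]

omit [Fintype F] [Fact p.Prime] [CharP F p] in
theorem blk_of_elDiv_unip {g : End F V} {μ : Multiset ℕ}
    (h : elDiv g = μ.map fun a => ((X - 1 : F[X]), a)) : blk g = μ := by
  simp [blk, h, natDegree_X_sub_one]

omit [Fintype F] in
theorem pow_char_of_elDiv_unip {g : End F V} {μ : Multiset ℕ} (hμ : ∀ a ∈ μ, a ≤ p)
    (h : elDiv g = μ.map fun a => ((X - 1 : F[X]), a)) : g ^ p = 1 := by
  rw [← one_smul F (1 : End F V)]
  refine pow_eq_smul_of_forall_dvd fun x hx => ?_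
  rw [h] at hx
  obtain ⟨a, ha, rfl⟩ := Multiset.mem_map.mp hx
  rw [C_1, ← one_pow p, ← sub_pow_char, one_pow]
  exact pow_dvd_pow _ (hμ a ha)

omit [Fintype F] [Fact p.Prime] [CharP F p] in
theorem det_of_elDiv_unip {g : End F V} {μ : Multiset ℕ}
    (h : elDiv g = μ.map fun a => ((X - 1 : F[X]), a)) : LinearMap.det g = 1 := by
  rw [det_eq_tDet_End, h]
  clear h
  induction μ using Multiset.induction_on with
  | empty => simp [tDet]
  | cons a μ ih => rw [Multiset.map_cons, tDet_cons, ih, tDet_X_sub_one, one_mul]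

omit [Fintype F] [Fact p.Prime] [CharP F p] in
theorem ne_smul_of_elDiv_unip {g : End F V} {μ : Multiset ℕ}
    (h : elDiv g = μ.map fun a => ((X - 1 : F[X]), a)) (h1 : ¬ ∀ a ∈ μ, a = 1) (c : F) :
    g ≠ c • 1 := by
  push Not at h1
  obtain ⟨a, ha, h1⟩ := h1
  exact ne_smul_of_mem_blk (blk_of_elDiv_unip h ▸ ha) h1 c

/-- Universal statements about block sizes of elements of order `p` of `PSL`. -/
theorem forall_blk_char_iff (Φ : Multiset ℕ → Prop)
    (h1 : Φ (Multiset.replicate (finrank F V) 1)) :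
    (∀ g : End F V, LinearMap.det g = 1 → (∃ c : F, g ^ p = c • 1) → (∀ c : F, g ≠ c • 1) →
      Φ (blk g)) ↔ ∀ μ : Multiset ℕ, (∀ a ∈ μ, 0 < a ∧ a ≤ p) → μ.sum = finrank F V → Φ μ := by
  constructor
  · intro h μ hμ hs
    by_cases h2 : ∀ a ∈ μ, a = 1
    · have h3 := Multiset.eq_replicate_card.mpr h2
      rw [h3] at hs
      rw [h3, show μ.card = finrank F V by simpa using hs]
      exact h1
    obtain ⟨g, hg⟩ := exists_elDiv_eq (V := V)
      (isElDivs_map_unip (F := F) fun a ha => (hμ a ha).1)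
      (by rw [elDeg_map_unip, hs])
    exact blk_of_elDiv_unip hg ▸ h g (det_of_elDiv_unip hg)
      ⟨1, by rw [pow_char_of_elDiv_unip p (fun a ha => (hμ a ha).2) hg, one_smul]⟩
      (ne_smul_of_elDiv_unip hg h2)
  · rintro h g - ⟨c, hc⟩ -
    exact h _ (blk_of_pow_char p hc) (sum_blk g)

/-! ### Arithmetic -/

theorem forall_exists_sub_iff {i n m : ℕ} (hi : 0 < i) (hm : m ≤ n) :
    (∀ k j, k + i * j = n → ∃ k' ≤ k, ∃ j' ≤ j, k' + i * j' = m) ↔ m % i ≤ n % i := by
  constructor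
  · intro h
    obtain ⟨k', hk, j', -, rfl⟩ := h (n % i) (n / i) (Nat.mod_add_div n i)
    rw [Nat.add_mul_mod_self_left]
    exact (Nat.mod_le _ _).trans hk
  · rintro h k j rfl
    rw [Nat.add_mul_mod_self_left] at h
    by_cases hj : m / i ≤ j
    · exact ⟨m % i, h.trans (Nat.mod_le _ _), m / i, hj, Nat.mod_add_div m i⟩
    · have h1 : i * j ≤ m := (Nat.mul_le_mul_left i (by omega)).trans (Nat.mul_div_le m i)
      exact ⟨m - i * j, by omega, j, le_rfl, by omega⟩

theorem exists_sub_zero_iff {r j m : ℕ} (hm : m ≤ r * j) (hr : 0 < r) :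
    (∃ k' ≤ 0, ∃ j' ≤ j, k' + r * j' = m) ↔ r ∣ m := by
  constructor
  · rintro ⟨k', hk, j', -, rfl⟩
    obtain rfl : k' = 0 := by omega
    simp
  · rintro ⟨j', rfl⟩
    exact ⟨0, le_rfl, j', Nat.le_of_mul_le_mul_left hm hr, by simp⟩

theorem forall_parts_two_iff {n m : ℕ} (hm : m ≤ n) :
    (∀ μ : Multiset ℕ, (∀ a ∈ μ, 0 < a ∧ a ≤ 2) → μ.sum = n → ∃ ν ≤ μ, ν.sum = m) ↔
      Odd n ∨ Even m := by
  rw [Nat.odd_iff, Nat.even_iff, show n % 2 = 1 ∨ m % 2 = 0 ↔ m % 2 ≤ n % 2 by omega,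
    ← forall_exists_sub_iff two_pos hm]
  constructor
  · intro h k j hkj
    refine exists_le_sum_eq_iff.mp (h _ (fun a ha => ?_) (by simp [← hkj, mul_comm]))
    rcases Multiset.mem_add.mp ha with ha | ha <;> simp [Multiset.eq_of_mem_replicate ha]
  · intro h μ hμ hs
    obtain ⟨k, j, rfl⟩ := eq_replicate_add_replicate (a := 1) (b := 2) (ν := μ)
      fun a ha => by have := hμ a ha; omega
    exact exists_le_sum_eq_iff.mpr (h k j (by simpa [mul_comm] using hs))

/-- The elements of order `r ≠ p` of `PSL` all have a set of blocks of total size `m`. -/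
theorem forall_blk_sum_iff (hrp : r ≠ p) {m : ℕ} (hm : m ≤ finrank F V) (hV : finrank F V ≠ 0) :
    (∀ g : End F V, LinearMap.det g = 1 → (∃ c : F, g ^ r = c • 1) → (∀ c : F, g ≠ c • 1) →
      ∃ ν ≤ blk g, ν.sum = m) ↔
    m % orderOf (Fintype.card F : ZMod r) ≤ finrank F V % orderOf (Fintype.card F : ZMod r) ∧
    (orderOf (Fintype.card F : ZMod r) = 1 →
      r ∣ m ∨ SplitCond r (Fintype.card F) (finrank F V)) := by
  rw [forall_blk_iff p hrp hV (fun μ => ∃ ν ≤ μ, ν.sum = m)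
    (exists_le_sum_eq_iff.mpr ⟨m, hm, 0, le_rfl, rfl⟩)]
  simp only [exists_le_sum_eq_iff]
  rw [forall_exists_sub_iff (orderOf_card_pos p hrp) hm]
  refine and_congr_right fun _ => forall_congr' fun hi => ⟨fun h => ?_, fun h hs => ?_⟩
  · by_contra h1
    obtain ⟨j, h2, h3⟩ := h fun h => h1 (Or.inr h)
    exact h1 (Or.inl ((exists_sub_zero_iff (h2 ▸ hm) (Fact.out : r.Prime).pos).mp h3))
  · obtain ⟨c, j, h2, -⟩ := exists_not_pow_of_not_splitCond hi hV hs
    exact ⟨j, h2.symm, (exists_sub_zero_iff (h2 ▸ hm) (Fact.out : r.Prime).pos).mpr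
      (h.resolve_right hs)⟩

end Cfsg.Lib.Known
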