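import Mathlib
import Cfsg.Agent.Known.ElusSL

/-!
Linear maps permuting a direct (or orthogonal) decomposition into subspaces of equal dimension.
-/

namespace Cfsg.Lib.Known

open Module Polynomial Cfsg.Lib.Class Cfsg.Lib.Class.Form

universe u v

theorem card_dvd_of_free {G X : Type*} [Group G] (act : G → X → X) (h1 : ∀ x, act 1 x = x)
    (hmul : ∀ a b x, act (a * b) x = act a (act b x)) (S : X → Prop)
    (hinv : ∀ g x, S x → S (act g x)) (hf : ∀ g x, S x → act g x = x → g = 1) :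
    Nat.card G ∣ Nat.card {x // S x} := by
  letI : MulAction G {x // S x} :=
    { smul := fun g x => ⟨act g x, hinv g x x.2⟩
      one_smul := fun x => Subtype.ext (h1 x)
      mul_smul := fun a b x => Subtype.ext (hmul a b x) }
  rw [Nat.card_congr (MulAction.selfEquivOrbitsQuotientProd (G := G) fun b =>
    eq_bot_iff.mpr fun g hg => hf g b.1 b.2 (congrArg Subtype.val hg)), Nat.card_prod]
  exact dvd_mul_left _ _

theorem dvd_of_dvd_div {r N k : ℕ} (hk : k ∣ N) (h : r ∣ N / k) : r ∣ N :=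
  h.trans (Nat.div_dvd_of_dvd hk)

theorem factorial_dvd_card_fam {α : Type*} {t : ℕ} (S : (Fin t → α) → Prop)
    (hinv : ∀ (σ : Equiv.Perm (Fin t)) D, S D → S (D ∘ σ))
    (hinj : ∀ D, S D → Function.Injective D) : t.factorial ∣ Nat.card {D // S D} := by
  have := card_dvd_of_free (G := Equiv.Perm (Fin t)) (fun σ D => D ∘ ⇑σ⁻¹) (fun _ => rfl)
    (fun a b D => by ext j; simp) S (fun σ D h => hinv _ D h)
    fun σ D h h1 => inv_eq_one.mp (Equiv.ext fun j => hinj D h (congrFun h1 j))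
  rwa [Nat.card_eq_fintype_card, Fintype.card_perm, Fintype.card_fin] at this

theorem two_dvd_card_pair {α : Type*} (S : α × α → Prop) (hinv : ∀ a b, S (a, b) → S (b, a))
    (hne : ∀ a, ¬ S (a, a)) : 2 ∣ Nat.card {D // S D} := by
  have := factorial_dvd_card_fam (t := 2) (fun D : Fin 2 → α => S (D 0, D 1))
    (fun σ D h => by
      fin_cases σ
      · exact h
      · exact hinv _ _ h)
    fun D h a b hab => by
      fin_cases a <;> fin_cases b
      · rfl
      · exact absurd (by simpa [show D 0 = D 1 from hab] using h) (hne (D 1))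
      · exact absurd (by simpa [show D 1 = D 0 from hab] using h) (hne (D 0))
      · rfl
  exact (Nat.card_congr ((finTwoArrowEquiv α).subtypeEquiv (p := fun D => S (D 0, D 1)) (q := S)
    fun _ => Iff.rfl)) ▸ this

variable {F : Type u} [Field F] {σ : F →+* F} {V W W' : Type*} [AddCommGroup V] [Module F V]
  [AddCommGroup W] [Module F W] [AddCommGroup W'] [Module F W']

theorem injective_of_pow_eq_smul {g : End F V} {r : ℕ} (hr : r ≠ 0) {z : F} (hz : z ≠ 0)
    (h : g ^ r = z • 1) : Function.Injective g := by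
  obtain ⟨r, rfl⟩ := Nat.exists_eq_succ_of_ne_zero hr
  refine (injective_iff_map_eq_zero _).mpr fun v hv => ?_
  have := LinearMap.congr_fun h v
  rw [pow_succ, End.mul_apply, hv, map_zero] at this
  simpa [hz] using this.symm

theorem finrank_biSup_le [FiniteDimensional F V] {ι : Type*} (D : ι → Submodule F V)
    (T : Finset ι) : finrank F ↥(⨆ j ∈ T, D j) ≤ ∑ j ∈ T, finrank F (D j) := by
  classical
  induction T using Finset.induction_on with
  | empty => simp
  | insert j T hj ih =>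
    rw [Finset.iSup_insert, Finset.sum_insert hj]
    exact (Submodule.finrank_add_le_finrank_add_finrank _ _).trans (by omega)

theorem iSupIndep_of_finrank [FiniteDimensional F V] {ι : Type*} [Fintype ι]
    {D : ι → Submodule F V} (h : iSup D = ⊤) (hd : ∑ j, finrank F (D j) = finrank F V) :
    iSupIndep D := by
  classical
  have hs : Function.Surjective (DirectSum.coeLinearMap D) := by
    rw [← LinearMap.range_eq_top, DirectSum.range_coeLinearMap, h]
  exact DirectSum.IsInternal.submodule_iSupIndep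
    ⟨(LinearMap.injective_iff_surjective_of_finrank_eq_finrank (by
      rw [Module.finrank_directSum, hd])).mpr hs, hs⟩

theorem sum_finrank_of_iSupIndep [FiniteDimensional F V] {ι : Type*} [Fintype ι]
    {D : ι → Submodule F V} (hi : iSupIndep D) (h : iSup D = ⊤) :
    ∑ j, finrank F (D j) = finrank F V := by
  classical
  rw [← Module.finrank_directSum]
  exact (LinearEquiv.ofBijective (DirectSum.coeLinearMap D)
    (DirectSum.isInternal_submodule_of_iSupIndep_of_iSup_eq_top hi h)).finrank_eq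

/-- `g` permutes a `B`-orthogonal decomposition into `t` subspaces of dimension `a`. -/
def PDec (B : V →ₛₗ[σ] V →ₗ[F] F) (g : End F V) (a t : ℕ) : Prop :=
  finrank F V = a * t ∧ ∃ (ι : Type) (_ : Fintype ι) (D : ι → Submodule F V) (τ : Equiv.Perm ι),
    Fintype.card ι = t ∧ iSup D = ⊤ ∧ (∀ j, finrank F (D j) = a) ∧
    (∀ j j', j ≠ j' → ∀ u ∈ D j, ∀ v ∈ D j', B u v = 0) ∧ ∀ j, ∀ v ∈ D j, g v ∈ D (τ j)

namespace PDec

variable {B : V →ₛₗ[σ] V →ₗ[F] F} {g : End F V} {a t t' : ℕ}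

theorem one (B : V →ₛₗ[σ] V →ₗ[F] F) (g : End F V) (h : finrank F V = a) : PDec B g a 1 :=
  ⟨by rw [h, mul_one], Unit, inferInstance, fun _ => ⊤, 1, rfl, by simp, fun _ => by simpa using h,
    fun _ _ h => absurd rfl h, fun _ _ _ => trivial⟩

theorem zero [FiniteDimensional F V] (B : V →ₛₗ[σ] V →ₗ[F] F) (g : End F V)
    (h : finrank F V = 0) : PDec B g a 0 := by
  have := Module.finrank_zero_iff.mp h
  exact ⟨h, Empty, inferInstance, fun _ => ⊤, 1, rfl, Subsingleton.elim _ _, fun j => j.elim,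
    fun j => j.elim, fun j => j.elim⟩

theorem add_of_map [FiniteDimensional F V] {C : W →ₛₗ[σ] W →ₗ[F] F} {C' : W' →ₛₗ[σ] W' →ₗ[F] F}
    {f : End F W} {f' : End F W'} (h : PDec C f a t) (h' : PDec C' f' a t')
    (e : W →ₗ[F] V) (e' : W' →ₗ[F] V) (hc : IsCompl (LinearMap.range e) (LinearMap.range e'))
    (he : Function.Injective e) (he' : Function.Injective e')
    (hf : ∀ w, e (f w) = g (e w)) (hf' : ∀ w, e' (f' w) = g (e' w))
    (hB : ∀ u v, B (e u) (e v) = C u v) (hB' : ∀ u v, B (e' u) (e' v) = C' u v)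
    (ho : ∀ u v, B (e u) (e' v) = 0) (ho' : ∀ u v, B (e' v) (e u) = 0) : PDec B g a (t + t') := by
  obtain ⟨h0, ι, _, D, τ, rfl, h1, h2, h3, h4⟩ := h
  obtain ⟨h0', ι', _, D', τ', rfl, h1', h2', h3', h4'⟩ := h'
  refine ⟨?_, ι ⊕ ι', inferInstance, Sum.elim (fun j => (D j).map e) fun j => (D' j).map e',
    τ.sumCongr τ', Fintype.card_sum, ?_, ?_, ?_, ?_⟩
  · rw [← Submodule.finrank_add_eq_of_isCompl hc, LinearMap.finrank_range_of_inj he,
      LinearMap.finrank_range_of_inj he', h0, h0', mul_add]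
  · rw [iSup_sum]
    simp only [Sum.elim_inl, Sum.elim_inr]
    rw [← Submodule.map_iSup, ← Submodule.map_iSup, h1, h1', Submodule.map_top, Submodule.map_top,
      hc.sup_eq_top]
  · rintro (j | j)
    · exact (Submodule.equivMapOfInjective _ he _).finrank_eq.symm.trans (h2 j)
    · exact (Submodule.equivMapOfInjective _ he' _).finrank_eq.symm.trans (h2' j)
  · rintro (j | j) (j' | j') hj _ ⟨u, hu, rfl⟩ _ ⟨v, hv, rfl⟩
    · rw [hB]; exact h3 j j' (fun h => hj (congrArg _ h)) u hu v hv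
    · exact ho u v
    · exact ho' v u
    · rw [hB']; exact h3' j j' (fun h => hj (congrArg _ h)) u hu v hv
  · rintro (j | j) _ ⟨u, hu, rfl⟩
    · exact ⟨_, h4 j u hu, hf u⟩
    · exact ⟨_, h4' j u hu, hf' u⟩

theorem add_of_isCompl [FiniteDimensional F V] {U U' : Submodule F V} (hc : IsCompl U U')
    {hU : ∀ v ∈ U, g v ∈ U} {hU' : ∀ v ∈ U', g v ∈ U'}
    (ho : ∀ u ∈ U, ∀ v ∈ U', B u v = 0) (ho' : ∀ u ∈ U, ∀ v ∈ U', B v u = 0)
    (h : PDec (restr B U) (g.restrict hU) a t) (h' : PDec (restr B U') (g.restrict hU') a t') :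
    PDec B g a (t + t') :=
  h.add_of_map h' U.subtype U'.subtype (by simpa using hc) U.subtype_injective
    U'.subtype_injective (fun _ => rfl) (fun _ => rfl) (fun _ _ => rfl) (fun _ _ => rfl)
    (fun u v => ho u u.2 v v.2) fun u v => ho' u u.2 v v.2

theorem congr {C : W →ₛₗ[σ] W →ₗ[F] F} {f : End F W} (h : PDec C f a t) (e : W ≃ₗ[F] V)
    (hf : ∀ w, e (f w) = g (e w)) (hB : ∀ u v, B (e u) (e v) = C u v) : PDec B g a t := by
  obtain ⟨h0, ι, _, D, τ, rfl, h1, h2, h3, h4⟩ := h
  refine ⟨e.finrank_eq ▸ h0, ι, inferInstance, fun j => (D j).map (e : W →ₗ[F] V), τ, rfl, ?_,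
    fun j => (e.finrank_map_eq _).trans (h2 j), ?_, ?_⟩
  · rw [← Submodule.map_iSup, h1, Submodule.map_top, LinearEquiv.range]
  · rintro j j' hj _ ⟨u, hu, rfl⟩ _ ⟨v, hv, rfl⟩
    exact (hB u v).trans (h3 j j' hj u hu v hv)
  · rintro j _ ⟨u, hu, rfl⟩
    exact ⟨_, h4 j u hu, hf u⟩

theorem cycle {r : ℕ} (hr : r ≠ 0) {z : F} (hz : g ^ r = z • 1) (hg : Function.Injective g)
    {D : Submodule F V} (hD : finrank F D = a) (hV : finrank F V = a * r)
    (hs : ∀ v, ∃ w : Fin r → V, (∀ k, w k ∈ D) ∧ v = ∑ k : Fin r, (g ^ (k : ℕ)) (w k))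
    (ho : ∀ k k' : Fin r, k ≠ k' → ∀ u ∈ D, ∀ v ∈ D, B ((g ^ (k : ℕ)) u) ((g ^ (k' : ℕ)) v) = 0) :
    PDec B g a r := by
  obtain ⟨r, rfl⟩ := Nat.exists_eq_succ_of_ne_zero hr
  refine ⟨hV, Fin (r + 1), inferInstance, fun k => D.map (g ^ (k : ℕ)), finRotate _,
    Fintype.card_fin _, eq_top_iff.mpr fun v _ => ?_, fun k => ?_, ?_, ?_⟩
  · obtain ⟨w, hw, rfl⟩ := hs v
    exact Submodule.sum_mem _ fun k _ => Submodule.mem_iSup_of_mem k ⟨_, hw k, rfl⟩
  · exact (Submodule.equivMapOfInjective _ (End.iterate_injective hg _) _).finrank_eq.symm.trans hD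
  · rintro k k' hk _ ⟨u, hu, rfl⟩ _ ⟨v, hv, rfl⟩
    exact ho k k' hk u hu v hv
  · rintro k _ ⟨u, hu, rfl⟩
    rw [← End.mul_apply, ← pow_succ']
    by_cases hk : k = Fin.last r
    · subst hk
      refine ⟨z • u, D.smul_mem _ hu, ?_⟩
      simp [hz]
    · exact ⟨u, hu, by rw [coe_finRotate_of_ne_last hk]⟩

theorem swap {z : F} (hz : g ^ 2 = z • 1) (hg : Function.Injective g)
    {D : Submodule F V} (hD : finrank F D = a) (hV : finrank F V = a * 2)
    (hs : ∀ v, ∃ u ∈ D, ∃ w ∈ D, v = u + g w)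
    (ho : ∀ u ∈ D, ∀ v ∈ D, B u (g v) = 0) (ho' : ∀ u ∈ D, ∀ v ∈ D, B (g u) v = 0) :
    PDec B g a 2 :=
  cycle two_ne_zero hz hg hD hV
    (fun v => by
      obtain ⟨u, hu, w, hw, rfl⟩ := hs v
      exact ⟨![u, w], fun k => by fin_cases k <;> assumption, by simp⟩)
    fun k k' hk u hu v hv => by
      fin_cases k <;> fin_cases k'
      · exact absurd rfl hk
      · simpa using ho u hu v hv
      · simpa using ho' u hu v hv
      · exact absurd rfl hk

theorem exists_fin [FiniteDimensional F V] (h : PDec B g a t) (hg : Function.Injective g) :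
    ∃ D : Fin t → Submodule F V, (∀ j, finrank F (D j) = a) ∧ iSupIndep D ∧ iSup D = ⊤ ∧
      (∀ j j', j ≠ j' → ∀ u ∈ D j, ∀ v ∈ D j', B u v = 0) ∧
      ∃ τ : Equiv.Perm (Fin t), ∀ j, (D j).map g = D (τ j) := by
  obtain ⟨h0, ι, _, D, τ, rfl, h1, h2, h3, h4⟩ := h
  let e := (Fintype.equivFin ι).symm
  have h5 : iSup (D ∘ e) = ⊤ := (e.iSup_comp (g := D)).trans h1
  refine ⟨D ∘ e, fun j => h2 _, iSupIndep_of_finrank h5 (by simp [h2, h0, mul_comm]), h5,
    fun j j' hj => h3 _ _ fun h => hj (e.injective h), (e.trans τ).trans e.symm, fun j => ?_⟩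
  refine Submodule.eq_of_le_of_finrank_eq ?_ ?_
  · rintro _ ⟨v, hv, rfl⟩
    simpa using h4 _ v hv
  · exact ((Submodule.equivMapOfInjective _ hg _).finrank_eq.symm.trans (h2 _)).trans (h2 _).symm

end PDec

/-- Every linear map of type `s` permutes a decomposition into `t` subspaces of dimension `a`. -/
def PDT (s : Multiset (F[X] × ℕ)) (a t : ℕ) : Prop :=
  ∀ (V : Type u) [AddCommGroup V] [Module F V] [FiniteDimensional F V] (g : End F V),
    elDiv g = s → PDec (σ := RingHom.id F) 0 g a t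

namespace PDT

variable {s s' : Multiset (F[X] × ℕ)} {a t t' : ℕ}

theorem one (h : elDeg s = a) : PDT s a 1 := fun _ _ _ _ g hg =>
  PDec.one _ _ (by rw [finrank_eq_elDeg g, hg, h])

theorem zero : PDT (0 : Multiset (F[X] × ℕ)) a 0 := fun _ _ _ _ g hg =>
  PDec.zero _ _ ((elDiv_eq_zero_iff g).mp hg)

theorem add (h : PDT s a t) (h' : PDT s' a t') : PDT (s + s') a (t + t') := fun _ _ _ _ _ hg => by
  obtain ⟨U, U', hc, hU, hU', h1, h2⟩ := exists_isCompl_of_elDiv_eq_add hg
  exact PDec.add_of_isCompl hc (fun _ _ _ _ => rfl) (fun _ _ _ _ => rfl) (h _ _ h1) (h' _ _ h2)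

theorem nsmul (h : PDT s a t) (k : ℕ) : PDT (k • s) a (k * t) := by
  induction k with
  | zero => simpa using zero
  | succ k ih => rw [succ_nsmul, Nat.succ_mul]; exact ih.add h

theorem cyc {r : ℕ} (hr : r ≠ 0) {z : F} (hz : z ≠ 0) (a : ℕ) :
    PDT (a • elDiv (cycX (X ^ r - C z : F[X]))) a r := by
  intro V _ _ _ g hg
  have hm := monic_X_pow_sub_C z hr
  have := finite_cyc hm.ne_zero
  let f : End F (Fin a → Cyc (X ^ r - C z : F[X])) := piEnd fun _ => cycX _
  obtain ⟨e, he⟩ := sim_of_elDiv_eq (f := f) (g := g) (by rw [elDiv_piEnd, hg]; simp)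
  refine PDec.congr (C := 0) ?_ e he fun _ _ => rfl
  have h1 : f ^ r = z • 1 := by
    have : aeval f (X ^ r - C z : F[X]) = 0 := by
      rw [aeval_piEnd, piEnd_eq_zero_iff]
      intro i
      rw [aeval_cycX, cycMul_eq_zero_iff]
    simpa [sub_eq_zero, Algebra.algebraMap_eq_smul_one] using this
  have h2 : Function.Injective f := injective_of_pow_eq_smul hr hz h1
  let i : (Fin a → F) →ₗ[F] (Fin a → Cyc (X ^ r - C z : F[X])) :=
    (Algebra.linearMap F _).compLeft _
  have hnt : Nontrivial (Cyc (X ^ r - C z : F[X])) := Module.nontrivial_of_finrank_pos (R := F) (by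
    rw [finrank_cyc, natDegree_X_pow_sub_C]; omega)
  have hi : Function.Injective i := fun x y h => funext fun l =>
    (algebraMap F (Cyc (X ^ r - C z : F[X]))).injective (congrFun h l)
  refine PDec.cycle hr h1 h2 (D := LinearMap.range i) (by
    rw [LinearMap.finrank_range_of_inj hi]; simp) (by
    rw [Module.finrank_pi_fintype, Finset.sum_const, finrank_cyc, natDegree_X_pow_sub_C]; simp)
    (fun v => ?_) fun _ _ _ _ _ _ _ => rfl
  choose P hP using fun l => Ideal.Quotient.mk_surjective (v l)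
  refine ⟨fun k => i fun l => (P l %ₘ (X ^ r - C z)).coeff k, fun k => ⟨_, rfl⟩, funext fun l => ?_⟩
  have h3 : ∀ k : ℕ, f ^ k = piEnd fun _ => cycMul _ (X ^ k) := fun k => by
    rw [← aeval_X_pow (R := F) (x := f), aeval_piEnd]
    simp only [aeval_cycX]
  have h4 : (P l %ₘ (X ^ r - C z)).natDegree < r := by
    have := natDegree_modByMonic_lt (P l) hm fun h => by
      have := congrArg natDegree h
      rw [natDegree_X_pow_sub_C, natDegree_one] at this
      exact hr this
    rwa [natDegree_X_pow_sub_C] at this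
  rw [← hP, Finset.sum_apply, show Ideal.Quotient.mk _ (P l) =
    Ideal.Quotient.mk (Ideal.span {X ^ r - C z}) (P l %ₘ (X ^ r - C z)) from
      Ideal.Quotient.eq.mpr (Ideal.mem_span_singleton.mpr (by
        rw [modByMonic_eq_sub_mul_div, sub_sub_cancel]; exact dvd_mul_right _ _))]
  conv_lhs => rw [as_sum_range' _ _ h4, map_sum, Finset.sum_range]
  refine Finset.sum_congr rfl fun k _ => ?_
  rw [h3, ← C_mul_X_pow_eq_monomial, mul_comm, map_mul]
  rfl

theorem of_map_eq {i : ℕ} (t : ℕ) : ∀ {s : Multiset (F[X] × ℕ)} {k j : ℕ},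
    (s.map fun x => x.1.natDegree * x.2) = Multiset.replicate k 1 + Multiset.replicate j i →
    k + i * j = a * t → j ≤ t * (a / i) → (i ≠ 0 ∨ j = 0) → PDT s a t := by
  induction t with
  | zero =>
    intro s k j h h1 h2 _
    obtain rfl : j = 0 := by omega
    obtain rfl : k = 0 := by omega
    obtain rfl : s = 0 := by simpa using h
    exact zero
  | succ t ih =>
    intro s k j h h1 h2 h3
    have h4 := Nat.mul_div_le a i
    obtain ⟨j₁, j₂, rfl, h5, h6, h7⟩ : ∃ j₁ j₂, j = j₁ + j₂ ∧ j₁ ≤ a / i ∧ j₂ ≤ t * (a / i) ∧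
        a - i * j₁ ≤ k := by
      by_cases h5 : a / i ≤ j
      · refine ⟨a / i, j - a / i, by omega, le_rfl, by rw [Nat.succ_mul] at h2; omega, ?_⟩
        have h6 := Nat.mul_le_mul_left i h2
        have h7 := Nat.mul_le_mul_left t h4
        rw [Nat.succ_mul, mul_add, mul_left_comm] at h6
        rw [mul_add, mul_comm a t] at h1
        omega
      · refine ⟨j, 0, rfl, by omega, by omega, ?_⟩
        rw [mul_add] at h1
        omega
    have h8 := (Nat.mul_le_mul_left i h5).trans h4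
    obtain ⟨k₂, rfl⟩ := Nat.exists_eq_add_of_le h7
    rw [Multiset.replicate_add, Multiset.replicate_add, add_add_add_comm] at h
    obtain ⟨s₁, s₂, rfl, h9, h10⟩ := exists_add_map_eq h
    rw [add_comm t]
    refine (one ?_).add (ih h10 (by rw [mul_add, mul_add] at h1; omega) h6 (by omega))
    rw [elDeg, h9]
    simp only [Multiset.sum_add, Multiset.sum_replicate, smul_eq_mul, mul_one, mul_comm j₁]
    omega

end PDT

/-! ### Consequences of permuting a decomposition -/

section Nec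

variable {ι : Type*} {D : ι → Submodule F V} {τ : Equiv.Perm ι} {g : End F V}

theorem pow_mem_of_perm (hg : ∀ j, ∀ v ∈ D j, g v ∈ D (τ j)) (k : ℕ) :
    ∀ j, ∀ v ∈ D j, (g ^ k) v ∈ D ((τ ^ k) j) := by
  induction k with
  | zero => exact fun _ _ h => h
  | succ k ih => exact fun j v hv => by rw [pow_succ', pow_succ']; exact hg _ _ (ih j v hv)

theorem perm_pow_eq_one (hi : iSupIndep D) (h0 : ∀ j, D j ≠ ⊥)
    (hg : ∀ j, ∀ v ∈ D j, g v ∈ D (τ j)) {r : ℕ} {z : F} (hz : z ≠ 0) (h : g ^ r = z • 1) :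
    τ ^ r = 1 := by
  ext j
  by_contra hj
  obtain ⟨v, hv, hv0⟩ := (Submodule.ne_bot_iff _).mp (h0 j)
  have h1 := pow_mem_of_perm hg r j v hv
  rw [h] at h1
  have h2 := Submodule.disjoint_def.mp (hi.pairwiseDisjoint hj) _ h1 ((D j).smul_mem z hv)
  exact hv0 (by simpa [hz] using h2)

theorem perm_pow_injective {r : ℕ} [Fact r.Prime] (h : τ ^ r = 1) {j : ι} (hj : τ j ≠ j) :
    Function.Injective fun k : Fin r => (τ ^ (k : ℕ)) j := by
  have h1 : Function.minimalPeriod τ j = r :=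
    Function.minimalPeriod_eq_prime (by
      rw [Function.IsPeriodicPt, Function.IsFixedPt, ← Equiv.Perm.coe_pow, h]; rfl) hj
  intro k k' hk
  exact Fin.ext (Function.iterate_injOn_Iio_minimalPeriod (f := τ) (x := j)
    (by simp [h1]) (by simp [h1]) (by simpa [Equiv.Perm.coe_pow] using hk))

variable [FiniteDimensional F V]

theorem mul_le_finrank_range_aeval (hi : iSupIndep D) (hg : ∀ j, ∀ v ∈ D j, g v ∈ D (τ j))
    (hinj : Function.Injective g) {r : ℕ} {j : ι}
    (hj : Function.Injective fun k : Fin r => (τ ^ (k : ℕ)) j) {h : F[X]} (h0 : h ≠ 0) {d : ℕ}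
    (hd : h.natDegree + d ≤ r) :
    finrank F (D j) * d ≤ finrank F (LinearMap.range (aeval g h)) := by
  let b := Module.finBasis F (D j)
  have key : ∀ P : Fin (finrank F (D j)) → F[X], (∀ l, (P l).degree < r) →
      ∑ l, aeval g (P l) (b l : V) = 0 → ∀ l, P l = 0 := by
    intro P hP hs l
    have h1 : ∑ l, aeval g (P l) (b l : V) =
        ∑ k : Fin r, (g ^ (k : ℕ)) (∑ l, (P l).coeff k • b l : D j) := by
      simp only [Submodule.coe_sum, map_sum]
      rw [Finset.sum_comm]
      refine Finset.sum_congr rfl fun l _ => ?_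
      conv_lhs => rw [← (sum_fin (fun k a => monomial k a) (by simp) (hP l)).trans
        (sum_monomial_eq _)]
      simp [aeval_monomial, Algebra.algebraMap_eq_smul_one, LinearMap.sum_apply]
    have h2 := (iSupIndep_iff_finsetSum_eq_zero_imp_eq_zero _).mp (hi.comp hj) Finset.univ _
      (fun k _ => pow_mem_of_perm hg k j _ (∑ l, (P l).coeff k • b l : D j).2) (h1 ▸ hs)
    ext k
    by_cases hk : k < r
    · have h3 := End.iterate_injective hinj k ((h2 ⟨k, hk⟩ (Finset.mem_univ _)).trans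
        (map_zero _).symm)
      exact Fintype.linearIndependent_iff.mp b.linearIndependent _ (Subtype.ext h3) l
    · exact coeff_eq_zero_of_degree_lt ((hP l).trans_le (by exact_mod_cast not_lt.mp hk))
  let Ψ : (Fin (finrank F (D j)) → degreeLT F d) →ₗ[F] V :=
    ∑ l, (LinearMap.applyₗ (b l : V)) ∘ₗ (aeval g).toLinearMap ∘ₗ (degreeLT F d).subtype ∘ₗ
      LinearMap.proj l
  have hΨ : ∀ P, Ψ P = ∑ l, aeval g (P l : F[X]) (b l : V) := fun P => by
    simp [Ψ, LinearMap.sum_apply]
  have h1 : Function.Injective ((aeval g h).rangeRestrict ∘ₗ Ψ) := by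
    refine (injective_iff_map_eq_zero _).mpr fun P hP => funext fun l => Subtype.ext ?_
    have h2 : aeval g h (Ψ P) = 0 := congrArg Subtype.val hP
    rw [hΨ, map_sum] at h2
    refine (mul_eq_zero.mp (key (fun l => h * P l) (fun l => ?_) (by simpa using h2) l)).resolve_left
      h0
    by_cases h3 : (P l : F[X]) = 0
    · simp [h3]
    · have h4 := (natDegree_lt_iff_degree_lt h3).mpr (mem_degreeLT.mp (P l).2)
      rw [← natDegree_lt_iff_degree_lt (mul_ne_zero h0 h3), natDegree_mul h0 h3]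
      omega
  have h2 := LinearMap.finrank_le_finrank_of_injective h1
  rwa [Module.finrank_pi_fintype, Finset.sum_const, (degreeLTEquiv F d).finrank_eq,
    Module.finrank_fin_fun, Finset.card_univ, Fintype.card_fin, smul_eq_mul] at h2

/-- A moved summand forces many copies of every factor of `X ^ r - z`. -/
theorem mul_le_finrank_ker_aeval (hi : iSupIndep D) (h0 : ∀ j, D j ≠ ⊥)
    (hg : ∀ j, ∀ v ∈ D j, g v ∈ D (τ j)) {r : ℕ} [Fact r.Prime] {z : F} (hz : z ≠ 0)
    (h : g ^ r = z • 1) {j : ι} (hj : τ j ≠ j) {f : F[X]} (hf : f ∣ X ^ r - C z) :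
    finrank F (D j) * f.natDegree ≤ finrank F (LinearMap.ker (aeval g f)) := by
  have hr := (Fact.out : r.Prime).ne_zero
  obtain ⟨f', hf'⟩ := hf
  have h1 := (monic_X_pow_sub_C z hr).ne_zero
  have h2 := natDegree_X_pow_sub_C (n := r) (r := z)
  rw [hf'] at h1 h2
  rw [natDegree_mul (left_ne_zero_of_mul h1) (right_ne_zero_of_mul h1)] at h2
  have hinj : Function.Injective g := injective_of_pow_eq_smul hr hz h
  refine (mul_le_finrank_range_aeval hi hg hinj (perm_pow_injective
    (perm_pow_eq_one hi h0 hg hz h) hj) (right_ne_zero_of_mul h1) (d := f.natDegree)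
    (by omega)).trans (Submodule.finrank_mono ?_)
  rintro _ ⟨v, rfl⟩
  rw [LinearMap.mem_ker, ← End.mul_apply, ← map_mul, ← hf']
  simp [h, Algebra.algebraMap_eq_smul_one]

theorem elDiv_eq_sum_of_iSupIndep [Fintype ι] (hi : iSupIndep D) (h : iSup D = ⊤)
    (hg : ∀ j, ∀ v ∈ D j, g v ∈ D j) : elDiv g = ∑ j, elDiv (g.restrict (hg j)) := by
  classical
  rw [← elDiv_piEnd]
  let e := (DirectSum.linearEquivFunOnFintype F ι fun j => D j).symm.trans
    (LinearEquiv.ofBijective (DirectSum.coeLinearMap D)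
      (DirectSum.isInternal_submodule_of_iSupIndep_of_iSup_eq_top hi h))
  have he : ∀ v, e v = ∑ j, (v j : V) := fun v => by
    conv_lhs => rw [← Finset.univ_sum_single v, map_sum]
    refine Finset.sum_congr rfl fun j _ => ?_
    simp only [e, LinearEquiv.trans_apply, DirectSum.linearEquivFunOnFintype_symm_single,
      LinearEquiv.ofBijective_apply]
    exact DirectSum.coeLinearMap_lof D j (v j)
  exact (Sim.elDiv_eq ⟨e, fun v => by simp [he, piEnd]⟩).symm

theorem finrank_le_mul_finrank_ker {t a : ℕ} {D : Fin t → Submodule F V} {τ : Equiv.Perm (Fin t)}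
    (hs : iSup D = ⊤) (ha : ∀ j, finrank F (D j) = a) (hV : finrank F V = a * t)
    (hg : ∀ j, ∀ v ∈ D j, g v ∈ D (τ j)) {r : ℕ} [Fact r.Prime] (hτ : τ ^ r = 1) (h : g ^ r = 1)
    (hf : ∀ j, τ j = j → ∀ v ∈ D j, g v = v) :
    finrank F V ≤ r * finrank F (LinearMap.ker (g - 1)) := by
  classical
  have hr := (Fact.out : r.Prime).pos
  let R : Finset (Fin t) := Finset.univ.filter fun j => ∀ k : Fin r, j ≤ (τ ^ (k : ℕ)) j
  have hmod : ∀ (k : ℕ) j, (τ ^ k) j = (τ ^ (k % r)) j := fun k j => by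
    conv_lhs => rw [← Nat.mod_add_div k r, pow_add, pow_mul, hτ, one_pow, mul_one]
  have h1 : t ≤ r * R.card := by
    have : (Finset.univ : Finset (Fin t)) ⊆
        (Finset.univ ×ˢ R).image fun x : Fin r × Fin t => (τ ^ (x.1 : ℕ)) x.2 := by
      intro j _
      obtain ⟨k, -, hk⟩ := Finset.exists_min_image Finset.univ (fun k : Fin r => (τ ^ (k : ℕ)) j)
        ⟨⟨0, hr⟩, Finset.mem_univ _⟩
      refine Finset.mem_image.mpr ⟨(⟨(r - k) % r, Nat.mod_lt _ hr⟩, (τ ^ (k : ℕ)) j),
        Finset.mem_product.mpr ⟨Finset.mem_univ _, Finset.mem_filter.mpr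
          ⟨Finset.mem_univ _, fun k' => ?_⟩⟩, ?_⟩
      · rw [← Equiv.Perm.mul_apply, ← pow_add, hmod (k' + k)]
        exact hk ⟨_, Nat.mod_lt _ hr⟩ (Finset.mem_univ _)
      · simp only
        rw [← hmod, ← Equiv.Perm.mul_apply, ← pow_add, Nat.sub_add_cancel k.2.le, hτ]
        rfl
    simpa using (Finset.card_le_card this).trans Finset.card_image_le
  have h2 : LinearMap.range (g - 1) ≤ (⨆ j ∈ Rᶜ, D j).map (g - 1) := by
    rw [← Submodule.map_top, ← hs, Submodule.map_iSup]
    refine iSup_le fun j => ?_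
    rintro _ ⟨v, hv, rfl⟩
    by_cases hj : j ∈ R
    swap
    · exact ⟨v, (le_iSup₂_of_le (f := fun j (_ : j ∈ Rᶜ) => D j) j (Finset.mem_compl.mpr hj)
        le_rfl) hv, rfl⟩
    by_cases hj' : τ j = j
    · simp [hf j hj' v hv]
    refine ⟨-∑ k ∈ Finset.Ico 1 r, (g ^ k) v, Submodule.neg_mem _ (Submodule.sum_mem _
      fun k hk => (le_iSup₂_of_le (f := fun j (_ : j ∈ Rᶜ) => D j) ((τ ^ k) j)
        (Finset.mem_compl.mpr fun h3 => ?_) le_rfl) (pow_mem_of_perm hg k j v hv)), ?_⟩
    · rw [Finset.mem_Ico] at hk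
      have h4 := (Finset.mem_filter.mp hj).2 ⟨k, hk.2⟩
      have h5 := (Finset.mem_filter.mp h3).2 ⟨r - k, by omega⟩
      simp only at h4 h5
      rw [← Equiv.Perm.mul_apply, ← pow_add, Nat.sub_add_cancel hk.2.le, hτ] at h5
      have := perm_pow_injective hτ hj' (a₁ := ⟨k, hk.2⟩) (a₂ := ⟨0, hr⟩) (le_antisymm h5 h4)
      simp only [Fin.mk.injEq] at this
      omega
    · have h3 := LinearMap.congr_fun (mul_geom_sum g r) v
      rw [h, sub_self, Finset.range_eq_Ico, Finset.sum_eq_sum_Ico_succ_bot hr, End.mul_apply,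
        LinearMap.add_apply, map_add, LinearMap.sum_apply] at h3
      rw [map_neg, neg_eq_iff_add_eq_zero, add_comm]
      simpa using h3
  have h3 := (Submodule.finrank_mono h2).trans ((Submodule.finrank_map_le _ _).trans
    (finrank_biSup_le D Rᶜ))
  simp only [ha, Finset.sum_const, Finset.card_compl, Fintype.card_fin, smul_eq_mul] at h3
  have h4 := LinearMap.finrank_range_add_finrank_ker (g - 1)
  have h5 : R.card ≤ t := by simpa using Finset.card_le_univ R
  obtain ⟨c, hc⟩ := Nat.exists_eq_add_of_le h5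
  rw [show t - R.card = c by omega] at h3
  have h6 : a * R.card ≤ finrank F (LinearMap.ker (g - 1)) := by
    rw [hV, hc, mul_add, mul_comm a c] at h4
    omega
  calc finrank F V = a * t := hV
    _ ≤ a * (r * R.card) := Nat.mul_le_mul_left _ h1
    _ = r * (a * R.card) := by ring
    _ ≤ _ := Nat.mul_le_mul_left _ h6

end Nec

end Cfsg.Lib.Known
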