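import Mathlib
import Cfsg.Prelude.Def_GeometricClasses
import Cfsg.Agent.Known.ElusSL
import Cfsg.Agent.Known.ClassCount
import Cfsg.Agent.Known.ElDivDual
import Cfsg.Agent.Class.Asch.Basic

/-!
Elements of prime order of `PSL_n(q)` and their conjugates in subgroups of `GL_n(q)` containing
the scalars: the framework, diagonal types, and multisets of eigenvalues.
-/

set_option autoImplicit false
set_option linter.unusedSectionVars false

open Polynomial Module Cfsg.Lib.Class.Asch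
open scoped MatrixGroups

universe u

namespace Cfsg.Lib.Known

variable {F : Type u} [Field F] {ι : Type} [Fintype ι] [DecidableEq ι]

/-- Every element of `SL` of order `r` modulo scalars is `SL`-conjugate into `H`. -/
def AllC (r : ℕ) (H : Subgroup (GL ι F)) : Prop :=
  ∀ x : GL ι F, (x : Matrix ι ι F).det = 1 → (∃ z : F, (x : Matrix ι ι F) ^ r = z • 1) →
    (∀ z : F, (x : Matrix ι ι F) ≠ z • 1) →
    ∃ g : GL ι F, (g : Matrix ι ι F).det = 1 ∧ g⁻¹ * x * g ∈ H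

theorem mem_specialLinear_det {g : GL ι F} :
    g ∈ Geo.specialLinear ι F ↔ (g : Matrix ι ι F).det = 1 := by
  rw [Geo.specialLinear, MonoidHom.mem_ker, Units.ext_iff]
  rfl

theorem allC_iff_sub (r : ℕ) (H : Subgroup (GL ι F)) :
    (∀ x ∈ Geo.specialLinear ι F, (∃ z : F, ((x ^ r : GL ι F) : Matrix ι ι F) = z • 1) →
      (∀ z : F, (x : Matrix ι ι F) ≠ z • 1) →
      ∃ g ∈ Geo.specialLinear ι F, g⁻¹ * x * g ∈ H) ↔ AllC r H := by
  simp only [AllC, mem_specialLinear_det, Units.val_pow_eq_pow_val]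

theorem exists_toGL_eq {g : GL ι F} (h : (g : Matrix ι ι F).det = 1) :
    ∃ x : Matrix.SpecialLinearGroup ι F, Matrix.SpecialLinearGroup.toGL x = g :=
  ⟨⟨g, h⟩, Units.ext rfl⟩

theorem allC_iff_SL (r : ℕ) (H : Subgroup (GL ι F)) :
    (∀ x : Matrix.SpecialLinearGroup ι F,
      (∃ z : F, ((x ^ r : Matrix.SpecialLinearGroup ι F) : Matrix ι ι F) = z • 1) →
      (∀ z : F, (x : Matrix ι ι F) ≠ z • 1) →
      ∃ P : Matrix.SpecialLinearGroup ι F, P⁻¹ * x * P ∈ H.comap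
        (Matrix.SpecialLinearGroup.toGL : Matrix.SpecialLinearGroup ι F →* GL ι F)) ↔
    AllC r H := by
  constructor
  · intro h x hx hz hn
    obtain ⟨y, rfl⟩ := exists_toGL_eq hx
    obtain ⟨P, hP⟩ := h y (by simpa using hz) hn
    exact ⟨Matrix.SpecialLinearGroup.toGL P, P.2, by simpa using hP⟩
  · intro h x hz hn
    obtain ⟨g, hg, hP⟩ := h (Matrix.SpecialLinearGroup.toGL x) x.2 (by simpa using hz) hn
    obtain ⟨P, rfl⟩ := exists_toGL_eq hg
    exact ⟨P, by simpa using hP⟩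

theorem index_comap_toGL (H : Subgroup (GL ι F)) : (H.comap
    (Matrix.SpecialLinearGroup.toGL : Matrix.SpecialLinearGroup ι F →* GL ι F)).index =
    H.relIndex (Geo.specialLinear ι F) := by
  rw [Subgroup.index_comap, ← ker_det_eq_range_toGL]
  rfl

theorem relIndex_dvd_index_of_le {G : Type*} [Group G] [Finite G] {L H N : Subgroup G} [N.Normal]
    (h : L ≤ H) : H.relIndex N ∣ L.index := by
  refine (Subgroup.relIndex_dvd_of_le_left N h).trans ?_
  have h1 := Subgroup.relIndex_mul_index (inf_le_right : L ⊓ N ≤ N)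
  have h2 := Subgroup.relIndex_mul_index (inf_le_left : L ⊓ N ≤ L)
  rw [Subgroup.inf_relIndex_right] at h1
  rw [Subgroup.inf_relIndex_left] at h2
  obtain ⟨t, ht⟩ := Subgroup.relIndex_dvd_index_of_normal N L
  have h0 : N.relIndex L ≠ 0 := Subgroup.index_ne_zero_of_finite
  refine ⟨t, Nat.eq_of_mul_eq_mul_left (Nat.pos_of_ne_zero h0) ?_⟩
  rw [h2, ← h1, ht]
  ring

instance : (Geo.specialLinear ι F).Normal := MonoidHom.normal_ker _

theorem isConj_of_conj_eq {x y g : GL ι F} (h : g⁻¹ * x * g = y) :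
    IsConj (x : Matrix ι ι F) (y : Matrix ι ι F) :=
  GL_isConj_iff_isConj.mp (isConj_iff.mpr ⟨g⁻¹, by rw [← h, inv_inv]⟩)

theorem isConj_smul {A B : Matrix ι ι F} (h : IsConj A B) (c : F) : IsConj (c • A) (c • B) := by
  obtain ⟨g, hg⟩ := h
  exact ⟨g, by rw [SemiconjBy, mul_smul_comm, smul_mul_assoc, hg.eq]⟩

theorem coe_scalarGL_mul (c : Fˣ) (y : GL ι F) :
    ((scalarGL ι c * y : GL ι F) : Matrix ι ι F) = (c : F) • (y : Matrix ι ι F) := by
  rw [Units.val_mul, coe_scalarGL, smul_mul_assoc, one_mul]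

/-- The negative criterion. -/
theorem not_allC {r : ℕ} {H : Subgroup (GL ι F)} (hs : ∀ c, scalarGL ι c ∈ H) (y : GL ι F)
    {a : F} (hd : a ^ Fintype.card ι * (y : Matrix ι ι F).det = 1) (ha : a ≠ 0) {z : F}
    (hy : (y : Matrix ι ι F) ^ r = z • 1) (hn : ∀ z : F, (y : Matrix ι ι F) ≠ z • 1)
    (h : ∀ y' ∈ H, ¬ IsConj (y : Matrix ι ι F) (y' : Matrix ι ι F)) : ¬ AllC r H := by
  intro hA
  obtain ⟨g, -, hg⟩ := hA (scalarGL ι (Units.mk0 a ha) * y)
    (by rw [coe_scalarGL_mul, Matrix.det_smul]; exact hd)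
    ⟨a ^ r * z, by rw [coe_scalarGL_mul, _root_.smul_pow, hy, smul_smul]; rfl⟩ fun w hw => by
      rw [coe_scalarGL_mul] at hw
      refine hn (a⁻¹ * w) ?_
      rw [← smul_smul, ← hw, smul_smul]
      simp [ha]
  refine h _ (H.mul_mem (hs (Units.mk0 a ha)⁻¹) hg) ?_
  have := isConj_smul (isConj_of_conj_eq (rfl : g⁻¹ * (scalarGL ι (Units.mk0 a ha) * y) * g = _))
    a⁻¹
  rw [coe_scalarGL_mul, smul_smul] at this
  rw [coe_scalarGL_mul]
  simpa [ha] using this

variable [Fintype F]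

/-- From `GL`-conjugacy to `SL`-conjugacy. -/
theorem exists_SL_conj {H : Subgroup (GL ι F)} {x y : GL ι F} (hy : y ∈ H)
    (hc : IsConj (x : Matrix ι ι F) (y : Matrix ι ι F)) {b : F[X] × ℕ}
    (hb : b ∈ elDivM (x : Matrix ι ι F))
    (hs : ∀ c : Fˣ, ∃ d : Fˣ, ∃ h ∈ H, d ^ b.2 * Matrix.GeneralLinearGroup.det h = c) :
    ∃ g : GL ι F, (g : Matrix ι ι F).det = 1 ∧ g⁻¹ * x * g ∈ H := by
  obtain ⟨g, hg⟩ := isConj_iff.mp (GL_isConj_iff_isConj.mpr hc)
  obtain ⟨d, h, hh, hd⟩ := hs (Matrix.GeneralLinearGroup.det g)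
  obtain ⟨c, hc, hcd⟩ := exists_GL_commute_det_pow (x : Matrix ι ι F) hb d
  have hc' : c⁻¹ * x * c = x := by
    have : c * x = x * c := Units.ext hc.eq
    rw [mul_assoc, ← this, inv_mul_cancel_left]
  refine ⟨c * g⁻¹ * h, ?_, ?_⟩
  · have : Matrix.GeneralLinearGroup.det (c * g⁻¹ * h) = 1 := by
      rw [map_mul, map_mul, map_inv, hcd, ← hd]
      simp [mul_assoc, mul_comm]
    exact congrArg Units.val this
  · have : (c * g⁻¹ * h)⁻¹ * x * (c * g⁻¹ * h) = h⁻¹ * (g * (c⁻¹ * x * c) * g⁻¹) * h := by group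
    rw [this, hc', hg]
    exact H.mul_mem (H.mul_mem (H.inv_mem hh) hy) hh

theorem exists_mem_elDivM [Nonempty ι] (A : Matrix ι ι F) : ∃ b, b ∈ elDivM A := by
  refine Multiset.exists_mem_of_ne_zero fun h => ?_
  have := elDeg_elDivM A
  rw [h, elDeg_zero] at this
  exact Fintype.card_ne_zero this.symm

theorem exists_SL_conj' {H : Subgroup (GL ι F)} {x y : GL ι F} (hy : y ∈ H)
    (hc : IsConj (x : Matrix ι ι F) (y : Matrix ι ι F)) {b : F[X] × ℕ}
    (hb : b ∈ elDivM (x : Matrix ι ι F)) (hs : Function.Surjective fun c : Fˣ => c ^ b.2) :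
    ∃ g : GL ι F, (g : Matrix ι ι F).det = 1 ∧ g⁻¹ * x * g ∈ H :=
  exists_SL_conj hy hc hb fun c => by
    obtain ⟨d, hd⟩ := hs c
    exact ⟨d, 1, H.one_mem, by simpa using hd⟩

variable (p : ℕ) [Fact p.Prime] [CharP F p] {r : ℕ} [Fact r.Prime]

theorem ne_zero_of_pow_eq_smul [Nonempty ι] {x : GL ι F} {k : ℕ} {z : F}
    (h : (x : Matrix ι ι F) ^ k = z • 1) : z ≠ 0 := by
  rintro rfl
  rw [zero_smul, ← Units.val_pow_eq_pow_val] at h
  exact Units.ne_zero _ h

include p in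
theorem snd_eq_one_of_pow_eq_smul (hrp : r ≠ p) {A : Matrix ι ι F} {z : F} (hz : z ≠ 0)
    (h : A ^ r = z • 1) : ∀ b ∈ elDivM A, b.2 = 1 := fun b hb =>
  snd_eq_one_of_dvd p hrp hz (isElDivs_elDivM A b hb).2.1 (isElDivs_elDivM A b hb).2.2
    ((pow_eq_smul_one_iff A r z).mp h b hb)

include p in
theorem isConj_of_pow_eq_not_pow (hrp : r ≠ p) {A B : Matrix ι ι F} {z : F}
    (hz : ∀ b : F, b ^ r ≠ z) (hA : A ^ r = z • 1) (hB : B ^ r = z • 1) : IsConj A B := by
  obtain ⟨j, h1, h2⟩ := elDiv_of_pow_eq_not_pow p hrp hz (toLin'_pow_eq_smul_one_iff.mpr hA)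
  obtain ⟨j', h1', h2'⟩ := elDiv_of_pow_eq_not_pow p hrp hz (toLin'_pow_eq_smul_one_iff.mpr hB)
  have : j = j' := Nat.eq_of_mul_eq_mul_left (Fact.out : r.Prime).pos (h2.symm.trans h2')
  rw [isConj_iff_elDivM, elDivM, elDivM, h1, h1', this]

include p in
/-- The positive criterion for `r ≠ p`. -/
theorem allC_of_ss [Nonempty ι] (hrp : r ≠ p) {H : Subgroup (GL ι F)} (hs : ∀ c, scalarGL ι c ∈ H)
    (hA : ∀ (y : GL ι F) (a : F), a ^ Fintype.card ι * (y : Matrix ι ι F).det = 1 →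
      (y : Matrix ι ι F) ^ r = 1 → (∀ z : F, (y : Matrix ι ι F) ≠ z • 1) →
      ∃ y' ∈ H, IsConj (y : Matrix ι ι F) (y' : Matrix ι ι F))
    (hB : ∀ (z : F) (j : ℕ), z ≠ 0 → (∀ b : F, b ^ r ≠ z) → Fintype.card ι = r * j →
      ((-1) ^ (r + 1) * z) ^ j = 1 → ∃ y' ∈ H, (y' : Matrix ι ι F) ^ r = z • 1) :
    AllC r H := by
  rintro x hx ⟨z, hz⟩ hn
  have hz0 := ne_zero_of_pow_eq_smul hz
  obtain ⟨b, hb⟩ := exists_mem_elDivM (x : Matrix ι ι F)
  have hb1 := snd_eq_one_of_pow_eq_smul p hrp hz0 hz b hb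
  have key : ∃ y' ∈ H, IsConj (x : Matrix ι ι F) (y' : Matrix ι ι F) := by
    by_cases h : ∃ a : F, a ^ r = z
    · obtain ⟨a, rfl⟩ := h
      have ha : a ≠ 0 := fun h => hz0 (by rw [h, zero_pow (Fact.out : r.Prime).ne_zero])
      obtain ⟨y', hy', hc⟩ := hA (scalarGL ι (Units.mk0 a ha)⁻¹ * x) a
        (by rw [coe_scalarGL_mul, Matrix.det_smul, hx]; simp [ha])
        (by rw [coe_scalarGL_mul, _root_.smul_pow, hz, smul_smul]; simp [ha]) fun w hw => by
          rw [coe_scalarGL_mul] at hw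
          refine hn (a * w) ?_
          rw [← smul_smul, ← hw, smul_smul]
          simp [ha]
      refine ⟨_, H.mul_mem (hs (Units.mk0 a ha)) hy', ?_⟩
      have := isConj_smul hc a
      rw [coe_scalarGL_mul, smul_smul] at this
      rw [coe_scalarGL_mul]
      simpa [ha] using this
    · push Not at h
      obtain ⟨j, h1, h2⟩ := elDiv_of_pow_eq_not_pow p hrp h (toLin'_pow_eq_smul_one_iff.mpr hz)
      obtain ⟨y', hy', h3⟩ := hB z j hz0 h (by simpa using h2) (by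
        rw [← tDet_replicate_X_pow_sub_C (Fact.out : r.Prime).ne_zero, ← h1, ← hx, det_eq_tDet]
        rfl)
      exact ⟨y', hy', isConj_of_pow_eq_not_pow p hrp h hz h3⟩
  obtain ⟨y', hy', hc⟩ := key
  exact exists_SL_conj' hy' hc hb (by rw [hb1]; exact fun c => ⟨c, pow_one c⟩)

/-- The positive criterion for `r = p`. -/
theorem allC_of_unip [Nonempty ι] {H : Subgroup (GL ι F)} (hs : ∀ c, scalarGL ι c ∈ H)
    (hA : ∀ y : GL ι F, (∀ b ∈ elDivM (y : Matrix ι ι F), b.1 = X - 1 ∧ b.2 ≤ p) →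
      (y : Matrix ι ι F) ≠ 1 → ∃ g : GL ι F, (g : Matrix ι ι F).det = 1 ∧ g⁻¹ * y * g ∈ H) :
    AllC p H := by
  rintro x hx ⟨z, hz⟩ hn
  have hz0 := ne_zero_of_pow_eq_smul hz
  obtain ⟨a, rfl⟩ := surjective_frobenius F p z
  rw [frobenius_def] at hz hz0
  have ha : a ≠ 0 := fun h => hz0 (by rw [h, zero_pow (Fact.out : p.Prime).ne_zero])
  obtain ⟨g, hg, hy⟩ := hA (scalarGL ι (Units.mk0 a ha)⁻¹ * x) (by
    rw [← sub_one_pow_eq_zero_iff]
    have := (GL_pow_char_pow_eq_one_iff p (scalarGL ι (Units.mk0 a ha)⁻¹ * x) 1).mp (by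
      apply Units.ext
      rw [Units.val_pow_eq_pow_val, coe_scalarGL_mul, pow_one, _root_.smul_pow, hz, smul_smul]
      simp [ha])
    rwa [pow_one] at this) fun hw => by
      rw [coe_scalarGL_mul] at hw
      refine hn a ?_
      rw [← hw, smul_smul]
      simp [ha]
  refine ⟨g, hg, ?_⟩
  have := H.mul_mem (hs (Units.mk0 a ha)) hy
  convert this using 1
  apply Units.ext
  simp only [Units.val_mul, coe_scalarGL, smul_mul_assoc, mul_smul_comm, one_mul, smul_smul]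
  simp [ha]

theorem pow_char_surjective : Function.Surjective fun c : Fˣ => c ^ p := fun c => by
  obtain ⟨a, ha⟩ := surjective_frobenius F p c
  rw [frobenius_def] at ha
  have h0 : a ≠ 0 := fun h => c.ne_zero (by rw [← ha, h, zero_pow (Fact.out : p.Prime).ne_zero])
  exact ⟨Units.mk0 a h0, Units.ext ha⟩

/-- The positive criterion in characteristic two. -/
theorem allC_two_of_char_two [CharP F 2] [Nonempty ι] {H : Subgroup (GL ι F)}
    (hs : ∀ c, scalarGL ι c ∈ H)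
    (hA : ∀ y : GL ι F, (∀ b ∈ elDivM (y : Matrix ι ι F), b.1 = X - 1 ∧ b.2 ≤ 2) →
      (y : Matrix ι ι F) ≠ 1 → ∃ y' ∈ H, IsConj (y : Matrix ι ι F) (y' : Matrix ι ι F)) :
    AllC 2 H := by
  refine allC_of_unip 2 hs fun y hy h1 => ?_
  obtain ⟨y', hy', hc⟩ := hA y hy h1
  obtain ⟨b, hb⟩ := exists_mem_elDivM (y : Matrix ι ι F)
  refine exists_SL_conj' hy' hc hb ?_
  have h2 := (hy b hb).2
  have h0 := (isElDivs_elDivM _ b hb).2.2
  obtain h | h : b.2 = 1 ∨ b.2 = 2 := by omega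
  · rw [h]; exact fun c => ⟨c, pow_one c⟩
  · rw [h]; exact pow_char_surjective 2

/-! ### Diagonal types -/

/-- The type of a diagonal matrix. -/
noncomputable def dT (Λ : Multiset F) : Multiset (F[X] × ℕ) := Λ.map fun θ => (X - C θ, 1)

omit [Fintype F] in
theorem isElDivs_dT (Λ : Multiset F) : IsElDivs (dT Λ) := fun x hx => by
  obtain ⟨θ, -, rfl⟩ := Multiset.mem_map.mp hx
  exact ⟨monic_X_sub_C θ, irreducible_X_sub_C θ, one_pos⟩

omit [Fintype F] in
theorem elDeg_dT (Λ : Multiset F) : elDeg (dT Λ) = Λ.card := by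
  simp [elDeg, dT]

omit [Fintype F] in
theorem elProd_dT (Λ : Multiset F) : elProd (dT Λ) = (Λ.map fun θ => X - C θ).prod := by
  simp [elProd, dT]

omit [Fintype F] in
theorem tDet_dT (Λ : Multiset F) : tDet (dT Λ) = Λ.prod := by
  induction Λ using Multiset.induction_on with
  | empty => simp [dT]
  | cons a s ih => rw [dT, Multiset.map_cons, tDet_cons, tDet_X_sub_C, ← dT, ih]; simp

omit [Fintype F] in
theorem mem_dT {Λ : Multiset F} {θ : F} : (X - C θ, 1) ∈ dT Λ ↔ θ ∈ Λ := by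
  refine ⟨fun h => ?_, fun h => Multiset.mem_map_of_mem _ h⟩
  obtain ⟨θ', h1, h2⟩ := Multiset.mem_map.mp h
  have := congrArg Prod.fst h2
  simp only [sub_right_inj, C_inj] at this
  exact this ▸ h1

omit [Fintype F] in
theorem dT_fun_injective : Function.Injective fun θ : F => ((X - C θ : F[X]), 1) := fun a b h => by
  simpa using h

omit [Fintype F] in
theorem dT_injective : Function.Injective (dT : Multiset F → _) :=
  Multiset.map_injective dT_fun_injective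

open Classical in
omit [Fintype F] in
theorem count_dT (Λ : Multiset F) (θ : F) : (dT Λ).count (X - C θ, 1) = Λ.count θ :=
  Multiset.count_map_eq_count' _ _ dT_fun_injective θ

omit [Fintype F] in
theorem dT_smul (Λ : Multiset F) (a : F) :
    ((dT Λ).map fun x => (scaleHom a x.1, x.2)) = dT (Λ.map (a * ·)) := by
  simp only [dT, Multiset.map_map]
  refine Multiset.map_congr rfl fun θ _ => ?_
  simp only [Function.comp_apply, Prod.mk.injEq, and_true]
  change (X - C θ).scaleRoots a = _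
  rw [X_sub_C_scaleRoots, mul_comm]

omit [Fintype F] in
theorem dT_dual (σ : F →+* F) {Λ : Multiset F} (h : (0 : F) ∉ Λ) :
    (dT Λ).map (dualED σ) = dT (Λ.map fun θ => (σ θ)⁻¹) := by
  simp only [dT, Multiset.map_map]
  refine Multiset.map_congr rfl fun θ hθ => ?_
  simp only [Function.comp_apply, dualED]
  rw [dualPoly_X_sub_C fun e => h (e ▸ hθ)]

omit [Fintype F] in
theorem dT_ne_X {Λ : Multiset F} (h : (0 : F) ∉ Λ) : ∀ x ∈ dT Λ, x.1 ≠ X := fun x hx => by
  obtain ⟨θ, hθ, rfl⟩ := Multiset.mem_map.mp hx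
  simp only [ne_eq, sub_eq_self, map_eq_zero]
  exact fun e => h (e ▸ hθ)

omit [Fintype F] in
theorem exists_GL_dT {Λ : Multiset F} (h : (0 : F) ∉ Λ) (hc : Λ.card = Fintype.card ι) :
    ∃ y : GL ι F, elDivM (y : Matrix ι ι F) = dT Λ :=
  exists_GL_elDivM_eq (isElDivs_dT Λ) (by rw [elDeg_dT, hc]) (dT_ne_X h)

omit [Fintype F] in
theorem det_of_dT {A : Matrix ι ι F} {Λ : Multiset F} (h : elDivM A = dT Λ) : A.det = Λ.prod := by
  rw [det_eq_tDet, h, tDet_dT]

omit [Fintype F] in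
theorem card_of_dT {A : Matrix ι ι F} {Λ : Multiset F} (h : elDivM A = dT Λ) :
    Λ.card = Fintype.card ι := by
  rw [← elDeg_elDivM A, h, elDeg_dT]

omit [Fintype F] in
theorem pow_eq_iff_of_dT {A : Matrix ι ι F} {Λ : Multiset F} (h : elDivM A = dT Λ) (k : ℕ)
    (z : F) : A ^ k = z • 1 ↔ ∀ θ ∈ Λ, θ ^ k = z := by
  rw [pow_eq_smul_one_iff, h, dT]
  simp [dvd_iff_isRoot, sub_eq_zero]

omit [Fintype F] in
theorem eq_smul_iff_of_dT {A : Matrix ι ι F} {Λ : Multiset F} (h : elDivM A = dT Λ)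
    (z : F) : A = z • 1 ↔ ∀ θ ∈ Λ, θ = z := by
  simpa using pow_eq_iff_of_dT h 1 z

omit [Fintype F] in
theorem ne_smul_of_dT {A : Matrix ι ι F} {Λ : Multiset F} (h : elDivM A = dT Λ) {a b : F}
    (ha : a ∈ Λ) (hb : b ∈ Λ) (hab : a ≠ b) (z : F) : A ≠ z • 1 := fun e =>
  hab (((eq_smul_iff_of_dT h z).mp e a ha).trans ((eq_smul_iff_of_dT h z).mp e b hb).symm)

open Classical in
omit [Fintype F] in
theorem finrank_ker_sub_one (A : Matrix ι ι F) :
    finrank F (LinearMap.ker (Matrix.toLin' A - 1)) =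
      ((elDivM A).filter fun x => x.1 = X - 1).card := by
  have := finrank_ker_aeval_irreducible (Matrix.toLin' A) monic_X_sub_one irreducible_X_sub_one
  rw [natDegree_X_sub_one, mul_one] at this
  rw [elDivM, ← this, map_sub, aeval_X, map_one]

include p in
theorem exists_dT_of_pow_eq_one (hrp : r ≠ p) (hq : r ∣ Fintype.card F - 1) {A : Matrix ι ι F}
    (h : A ^ r = 1) : ∃ Λ : Multiset F, elDivM A = dT Λ ∧ ∀ θ ∈ Λ, θ ^ r = 1 := by
  have key : ∀ x ∈ elDivM A, ∃ θ : F, (X - C θ, 1) = x := fun x hx => by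
    obtain ⟨h0, h1, h2⟩ := isElDivs_elDivM A x hx
    rcases mem_cases_of_dvd_pow p hrp one_ne_zero h0 h1 h2
      ((pow_eq_smul_one_iff A r (1 ^ r)).mp (by simpa using h) x hx) with e | ⟨e, e'⟩
    · exact ⟨1, e.symm⟩
    · rw [orderOf_card_eq_one_iff.mpr hq] at e'
      exact ⟨-x.1.coeff 0, Prod.ext (by
        rw [h0.eq_X_add_C e']; simp) e.symm⟩
  obtain ⟨Λ, hΛ⟩ : ∃ Λ : Multiset F, dT Λ = elDivM A := by
    have : CanLift (F[X] × ℕ) F (fun θ : F => ((X - C θ : F[X]), 1))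
      (fun x => ∃ θ : F, (X - C θ, 1) = x) := ⟨fun _ h => h⟩
    exact (Multiset.canLift (fun θ : F => ((X - C θ : F[X]), 1))
      (fun x => ∃ θ : F, (X - C θ, 1) = x)).prf (elDivM A) key
  exact ⟨Λ, hΛ.symm, (pow_eq_iff_of_dT hΛ.symm r 1).mp (by simpa using h)⟩

end Cfsg.Lib.Known
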