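import Mathlib
import Cfsg.Agent.Known.ElusX1

/-!
Multisets of eigenvalues, and elements of prime order whose eigenvalues admit no twisted symmetry.
-/

set_option autoImplicit false
set_option linter.unusedSectionVars false

open Polynomial Module Cfsg.Lib.Class.Asch
open scoped MatrixGroups

universe u

namespace Cfsg.Lib.Known

variable {F : Type u} [Field F] {ι : Type} [Fintype ι] [DecidableEq ι]

/-- The roots in the algebraic closure. -/
noncomputable def rts (f : F[X]) : Multiset (Ec F) := (f.map (algebraMap F (Ec F))).roots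

theorem map_eq_prod_rts {f : F[X]} (hf : f.Monic) :
    f.map (algebraMap F (Ec F)) = ((rts f).map fun θ => X - C θ).prod :=
  (IsAlgClosed.splits _).eq_prod_roots_of_monic (hf.map _)

theorem eq_of_rts_eq {f g : F[X]} (hf : f.Monic) (hg : g.Monic) (h : rts f = rts g) : f = g :=
  map_injective _ (algebraMap F (Ec F)).injective (by
    rw [map_eq_prod_rts hf, map_eq_prod_rts hg, h])

theorem rts_mul {f g : F[X]} (hf : f ≠ 0) (hg : g ≠ 0) : rts (f * g) = rts f + rts g := by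
  rw [rts, Polynomial.map_mul, roots_mul (mul_ne_zero (map_ne_zero hf) (map_ne_zero hg))]
  rfl

theorem mem_rts {f : F[X]} (hf : f ≠ 0) {θ : Ec F} : θ ∈ rts f ↔ aeval θ f = 0 := by
  rw [rts, mem_roots (map_ne_zero hf), IsRoot, eval_map_algebraMap]

theorem rts_scale {f : F[X]} (hf : f ≠ 0) {a : F} (ha : a ≠ 0) :
    rts (scaleHom a f) = (rts f).map (algebraMap F (Ec F) a * ·) := by
  change ((f.scaleRoots a).map _).roots = _
  rw [map_scaleRoots _ _ _ (by simpa using hf),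
    roots_scaleRoots _ (IsUnit.mk0 _ (by simpa using ha))]
  rfl

theorem rts_map (φ : F →+* F) (Φ : Ec F →+* Ec F)
    (h : ∀ x, Φ (algebraMap F (Ec F) x) = algebraMap F (Ec F) (φ x)) (f : F[X]) :
    rts (f.map φ) = (rts f).map Φ := by
  rw [rts, rts, ← (IsAlgClosed.splits _).roots_map Φ, Polynomial.map_map, Polynomial.map_map]
  congr 2
  ext x
  simp [h]

theorem rts_prod_X_sub_C (Λ : Multiset F) :
    rts (Λ.map fun θ => X - C θ).prod = Λ.map (algebraMap F (Ec F)) := by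
  rw [rts, Polynomial.map_multiset_prod, Multiset.map_map,
    ← roots_multiset_prod_X_sub_C (Λ.map (algebraMap F (Ec F))), Multiset.map_map]
  congr 2
  exact Multiset.map_congr rfl fun x _ => by simp

theorem rts_dualPoly (σ : F →+* F) (Φ : Ec F →+* Ec F)
    (h : ∀ x, Φ (algebraMap F (Ec F) x) = algebraMap F (Ec F) (σ x)) {f : F[X]} (hf : f.Monic)
    (h0 : f.coeff 0 ≠ 0) : rts (dualPoly σ f) = (rts f).map fun θ => (Φ θ)⁻¹ := by
  have h1 : (dualPoly σ f).map (algebraMap F (Ec F)) =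
      dualPoly Φ (f.map (algebraMap F (Ec F))) := by
    ext i
    simp [coeff_dualPoly, natDegree_map, h]
  have h2 : ∀ θ ∈ rts f, θ ≠ 0 := fun θ hθ e => h0 (by
    rw [mem_rts hf.ne_zero, e, ← coeff_zero_eq_aeval_zero'] at hθ
    simpa using hθ)
  rw [rts, h1, map_eq_prod_rts hf, dualPoly_multiset_prod, Multiset.map_map,
    ← roots_multiset_prod_X_sub_C ((rts f).map fun θ => (Φ θ)⁻¹), Multiset.map_map]
  congr 2
  exact Multiset.map_congr rfl fun θ hθ => dualPoly_X_sub_C (h2 θ hθ)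

/-- The eigenvalues of a matrix. -/
noncomputable def evM (A : Matrix ι ι F) : Multiset (Ec F) := rts A.charpoly

theorem evM_eq (A : Matrix ι ι F) : evM A = rts (elProd (elDivM A)) := by
  rw [evM, charpoly_eq_elProdM]

theorem evM_of_isConj {A B : Matrix ι ι F} (h : IsConj A B) : evM A = evM B := by
  rw [evM_eq, evM_eq, isConj_iff_elDivM.mp h]

theorem elProd_map_scale (s : Multiset (F[X] × ℕ)) (a : F) :
    elProd (s.map fun x => (scaleHom a x.1, x.2)) = scaleHom a (elProd s) := by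
  rw [elProd, elProd, map_multiset_prod, Multiset.map_map, Multiset.map_map]
  exact congrArg _ (Multiset.map_congr rfl fun x _ => by simp)

theorem evM_smul (A : Matrix ι ι F) {a : F} (ha : a ≠ 0) :
    evM (a • A) = (evM A).map (algebraMap F (Ec F) a * ·) := by
  rw [evM_eq, evM_eq, elDivM_smul A ha, elProd_map_scale, rts_scale (isElDivs_elDivM A).monic_elProd.ne_zero ha]

theorem evM_of_dT {A : Matrix ι ι F} {Λ : Multiset F} (h : elDivM A = dT Λ) :
    evM A = Λ.map (algebraMap F (Ec F)) := by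
  rw [evM_eq, h, elProd_dT, rts_prod_X_sub_C]

theorem pow_of_mem_evM {A : Matrix ι ι F} {k : ℕ} {z : F} (h : A ^ k = z • 1) {θ : Ec F}
    (hθ : θ ∈ evM A) : θ ^ k = algebraMap F (Ec F) z := by
  rw [evM_eq, mem_rts (isElDivs_elDivM A).monic_elProd.ne_zero, elProd, map_multiset_prod,
    Multiset.prod_eq_zero_iff, Multiset.map_map, Multiset.mem_map] at hθ
  obtain ⟨x, hx, h1⟩ := hθ
  obtain ⟨g, hg⟩ := (pow_eq_smul_one_iff A k z).mp h x hx
  have := congrArg (aeval θ) hg
  rw [map_mul, show aeval θ (x.1 ^ x.2) = 0 from h1, zero_mul] at this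
  simpa [sub_eq_zero] using this

/-- The eigenvalues of `A` are permuted by a map `θ ↦ μ θ ^ s`. -/
def Tw (s : ℕ) (A : Matrix ι ι F) : Prop :=
  ∃ μ : F, ((evM A).map fun θ => algebraMap F (Ec F) μ * θ ^ s) = evM A

theorem Tw.of_isConj {s : ℕ} {A B : Matrix ι ι F} (h : IsConj A B) (hB : Tw s B) : Tw s A := by
  rwa [Tw, evM_of_isConj h]

/-- The `p ^ k`-th power map on the algebraic closure. -/
theorem exists_frob_ec (p : ℕ) [Fact p.Prime] [CharP F p] (k : ℕ) :
    ∃ Φ : Ec F →+* Ec F, ∀ θ, Φ θ = θ ^ p ^ k :=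
  ⟨iterateFrobenius (Ec F) p k, fun _ => iterateFrobenius_def ..⟩

theorem evM_map (p : ℕ) [Fact p.Prime] [CharP F p] {k : ℕ} (φ : F →+* F)
    (hφ : ∀ x, φ x = x ^ p ^ k) (A : Matrix ι ι F) :
    rts (A.charpoly.map φ) = (evM A).map (· ^ p ^ k) := by
  obtain ⟨Φ, hΦ⟩ := exists_frob_ec (F := F) p k
  rw [rts_map φ Φ (fun x => by rw [hΦ, hφ, map_pow]), evM]
  exact Multiset.map_congr rfl fun θ _ => hΦ θ

theorem evM_frob [Fintype F] (p : ℕ) [Fact p.Prime] [CharP F p] (A : Matrix ι ι F) :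
    (evM A).map (· ^ Fintype.card F) = evM A := by
  obtain ⟨k, -, hk⟩ := FiniteField.card F p
  rw [hk, ← evM_map p (RingHom.id F) (fun x => by rw [← hk, FiniteField.pow_card]; rfl),
    Polynomial.map_id, evM]

theorem HForm.elDivM_sim {σ : F →+* F} {B : (ι → F) →ₛₗ[σ] (ι → F) →ₗ[F] F} {ε : F}
    (h : HForm B ε) {A : Matrix ι ι F} {c : F} (hc : c ≠ 0)
    (hA : ∀ u v, B (A.mulVec u) (A.mulVec v) = c * B u v) :
    elDivM (c⁻¹ • A) = (elDivM A).map (dualED σ) := by
  have h2 : h.adj (Matrix.toLin' A) * Matrix.toLin' A = c • 1 := by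
    refine LinearMap.ext fun v => h.ext_right fun u => ?_
    rw [End.mul_apply, h.adj_right]
    simp [hA]
  have h3 : (c⁻¹ • Matrix.toLin' A) * h.adj (Matrix.toLin' A) = 1 := by
    rw [smul_mul_assoc, ← mul_smul_comm, mul_eq_one_comm, smul_mul_assoc, h2, smul_smul,
      inv_mul_cancel₀ hc, one_smul]
  rw [elDivM, map_smul, h.elDiv_inv_adj h3, elDivM]

/-- A similarity of a form has eigenvalues with a twisted symmetry. -/
theorem HForm.tw (p : ℕ) [Fact p.Prime] [CharP F p] {k : ℕ} {σ : F →+* F}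
    (hσ : ∀ x, σ x = x ^ p ^ k) {B : (ι → F) →ₛₗ[σ] (ι → F) →ₗ[F] F} {ε : F} (h : HForm B ε)
    {A : Matrix ι ι F} {c : F} (hc : c ≠ 0) (hA : ∀ u v, B (A.mulVec u) (A.mulVec v) = c * B u v)
    {r : ℕ} (hr : r ≠ 0) (h1 : A ^ r = 1) : Tw (p ^ k * (r - 1)) A := by
  have h4 := h.elDivM_sim hc hA
  obtain ⟨Φ, hΦ⟩ := exists_frob_ec (F := F) p k
  have hU : IsUnit A := IsUnit.of_pow_eq_one h1 hr
  have h5 := evM_smul A (inv_ne_zero hc)
  rw [evM_eq, h4, elProd_map_dualED, rts_dualPoly σ Φ (fun x => by rw [hΦ, hσ, map_pow])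
    (isElDivs_elDivM A).monic_elProd
    ((isElDivs_elDivM A).forall_ne_X_iff.mp ((isUnit_iff_elDivM A).mp hU)), ← evM_eq] at h5
  refine ⟨c, ?_⟩
  have h6 := congrArg (Multiset.map (algebraMap F (Ec F) c * ·)) h5
  rw [Multiset.map_map, Multiset.map_map] at h6
  conv_rhs => rw [← Multiset.map_id (evM A)]
  refine (Multiset.map_congr rfl fun θ hθ => ?_).trans
    (h6.trans (Multiset.map_congr rfl fun θ _ => ?_))
  · have h7 : θ ^ r = 1 := by simpa using pow_of_mem_evM (z := 1) (by simpa using h1) hθ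
    simp only [Function.comp_apply, hΦ]
    congr 1
    refine eq_inv_of_mul_eq_one_left ?_
    rw [← pow_add, ← Nat.mul_succ, Nat.succ_eq_add_one, Nat.sub_add_cancel (Nat.pos_of_ne_zero hr),
      mul_comm, pow_mul, h7, one_pow]
  · simp only [Function.comp_apply, id, ← mul_assoc, ← map_mul, mul_inv_cancel₀ hc, map_one,
      one_mul]

/-! ### Asymmetric multisets of residues -/

section ZMod

variable {r : ℕ} [Fact r.Prime]

theorem zmod_affine_injective {c s : ZMod r} (hs : s ≠ 0) :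
    Function.Injective fun t : ZMod r => c + s * t := fun a b h => by
  simpa [hs] using h

theorem zmod_ofNat_ne {k : ℕ} (h : ¬ r ∣ k) : (k : ZMod r) ≠ 0 := by
  rwa [Ne, ZMod.natCast_eq_zero_iff]

theorem asym_one {m : ℕ} (hm : 2 ≤ m) {c s : ZMod r} (hs0 : s ≠ 0) (hs : s ≠ 1) :
    ((1 ::ₘ Multiset.replicate m 0).map fun t : ZMod r => c + s * t) ≠
      1 ::ₘ Multiset.replicate m 0 := by
  intro h
  have key : ∀ t, Multiset.count (c + s * t) (1 ::ₘ Multiset.replicate m (0 : ZMod r)) =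
      Multiset.count t (1 ::ₘ Multiset.replicate m 0) := fun t => by
    conv_lhs => rw [← h]
    exact Multiset.count_map_eq_count' _ _ (zmod_affine_injective hs0) t
  have k0 := key 0
  have k1 := key 1
  simp only [Multiset.count_cons, Multiset.count_replicate, mul_zero, add_zero, mul_one,
    zero_ne_one, one_ne_zero, if_true, if_false] at k0 k1
  have hc : c = 0 := by
    by_contra h0
    rw [if_neg (Ne.symm h0)] at k0
    split_ifs at k0 <;> omega
  subst hc
  rw [zero_add, if_neg (Ne.symm hs0), if_neg hs] at k1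
  omega

theorem asym_two {c s : ZMod r} (hr : r ≠ 2) (hs : s ^ 2 ≠ 1) :
    (({1, -1} : Multiset (ZMod r)).map fun t : ZMod r => c + s * t) ≠ {1, -1} := by
  intro h
  have h2 : (2 : ZMod r) ≠ 0 := zmod_ofNat_ne (k := 2) fun h =>
    hr ((Nat.prime_dvd_prime_iff_eq Fact.out Nat.prime_two).mp h)
  have k1 : c + s * 1 ∈ ({1, -1} : Multiset (ZMod r)) := h ▸ Multiset.mem_map_of_mem _ (by simp)
  have k2 : c + s * (-1) ∈ ({1, -1} : Multiset (ZMod r)) := h ▸ Multiset.mem_map_of_mem _ (by simp)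
  have k3 := congrArg Multiset.sum h
  simp only [Multiset.insert_eq_cons, Multiset.map_cons, Multiset.map_singleton,
    Multiset.sum_cons, Multiset.sum_singleton] at k3
  have hc : c = 0 := mul_left_cancel₀ h2 (by linear_combination k3)
  subst hc
  simp only [Multiset.insert_eq_cons, Multiset.mem_cons, Multiset.mem_singleton] at k1
  rcases k1 with k | k
  · exact hs (by linear_combination (s + 1) * k)
  · exact hs (by linear_combination (s - 1) * k)

theorem asym_three {m : ℕ} {c s : ZMod r} (hr : r ≠ 2) (hs0 : s ≠ 0) (hs : s ≠ 1)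
    (h3 : r = 3 → m ≠ 0 ∧ m ≠ 3) (h5 : r = 5 → m ≠ 2) :
    ((1 ::ₘ 1 ::ₘ (-2) ::ₘ Multiset.replicate m 0).map fun t : ZMod r => c + s * t) ≠
      1 ::ₘ 1 ::ₘ (-2) ::ₘ Multiset.replicate m 0 := by
  intro h
  have hp : r.Prime := Fact.out
  have hinj := zmod_affine_injective (c := c) hs0
  have key : ∀ t, Multiset.count (c + s * t)
      (1 ::ₘ 1 ::ₘ (-2) ::ₘ Multiset.replicate m (0 : ZMod r)) =
      Multiset.count t (1 ::ₘ 1 ::ₘ (-2) ::ₘ Multiset.replicate m 0) := fun t => by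
    conv_lhs => rw [← h]
    exact Multiset.count_map_eq_count' _ _ hinj t
  have h2 : (2 : ZMod r) ≠ 0 := zmod_ofNat_ne (k := 2) fun h =>
    hr ((Nat.prime_dvd_prime_iff_eq hp Nat.prime_two).mp h)
  have h2' : (0 : ZMod r) ≠ -2 := fun e => h2 (by linear_combination e)
  have k0 := key 0
  have k1 := key 1
  have k2 := key (-2)
  by_cases hr3 : r = 3
  · have e : (-2 : ZMod r) = 1 := by subst hr3; rfl
    obtain ⟨h30, h33⟩ := h3 hr3
    simp only [e, Multiset.count_cons, Multiset.count_replicate, mul_zero, add_zero, mul_one,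
      zero_ne_one, one_ne_zero, if_true, if_false] at k0 k1
    have hc : c = 0 := by
      by_contra h0
      rw [if_neg (Ne.symm h0)] at k0
      split_ifs at k0 <;> omega
    subst hc
    rw [zero_add, if_neg (Ne.symm hs0), if_neg hs] at k1
    omega
  have h3' : (3 : ZMod r) ≠ 0 := zmod_ofNat_ne (k := 3) fun h =>
    hr3 ((Nat.prime_dvd_prime_iff_eq hp Nat.prime_three).mp h)
  have e1 : (1 : ZMod r) ≠ -2 := fun e => h3' (by linear_combination e)
  simp only [Multiset.count_cons, Multiset.count_replicate, mul_zero, add_zero, mul_one,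
    zero_ne_one, one_ne_zero, if_true, if_false, h2', h2'.symm, e1, e1.symm] at k0 k1 k2
  have a1 : c + s = 1 ∨ (c + s = 0 ∧ m = 2) := by
    by_cases a : c + s = 1
    · exact Or.inl a
    · rw [if_neg a] at k1
      by_cases b : 0 = c + s
      · rw [if_pos b, ← b, if_neg h2'] at k1
        exact Or.inr ⟨b.symm, by omega⟩
      · rw [if_neg b] at k1
        split_ifs at k1 <;> omega
  have a2 : c + s * -2 = -2 ∨ (c + s * -2 = 0 ∧ m = 1) := by
    by_cases a : c + s * -2 = -2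
    · exact Or.inl a
    · rw [if_neg a] at k2
      by_cases b : 0 = c + s * -2
      · rw [if_pos b, ← b, if_neg zero_ne_one] at k2
        exact Or.inr ⟨b.symm, by omega⟩
      · rw [if_neg b] at k2
        split_ifs at k2 <;> omega
  rcases a1 with a1 | ⟨a1, rfl⟩
  · rcases a2 with a2 | ⟨a2, rfl⟩
    · exact hs (mul_left_cancel₀ h3' (by linear_combination a1 - a2))
    · have hc0 : 0 ≠ c := fun e => hs (by rw [← a1, ← e, zero_add])
      have hc1 : c ≠ 1 := fun e => hs0 (by linear_combination a1 - e)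
      rw [if_neg hc0, if_neg hc1] at k0
      have hc : c = -2 := by
        by_contra e
        rw [if_neg e] at k0
        omega
      exact pow_ne_zero 3 h2 (by linear_combination -2 * a1 - a2 + 3 * hc)
  · rcases a2 with a2 | ⟨-, a2⟩
    · have hc0 : 0 ≠ c := fun e => hs0 (by rw [← a1, ← e, zero_add])
      rw [if_neg hc0] at k0
      have hc : c = 1 := by
        by_contra e
        rw [if_neg e] at k0
        split_ifs at k0 <;> omega
      refine h5 ?_ rfl
      refine (Nat.prime_dvd_prime_iff_eq hp Nat.prime_five).mp ?_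
      rw [← ZMod.natCast_eq_zero_iff]
      push_cast
      linear_combination 2 * a1 + a2 - 3 * hc
    · omega

theorem sym_three (T : Multiset (ZMod 3)) (h : T.card = 3) (hs : T.sum = 0) :
    ∃ c : ZMod 3, (T.map (c + ·)).map (-·) = T.map (c + ·) := by
  obtain ⟨a, b, c, rfl⟩ := Multiset.card_eq_three.mp h
  revert a b c
  decide +kernel

theorem sym_five (T : Multiset (ZMod 5)) (h : T.card = 5) (hs : T.sum = 0) :
    ∃ c : ZMod 5, (T.map (c + ·)).map (-·) = T.map (c + ·) := by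
  obtain ⟨a, T', rfl, h'⟩ := Multiset.card_eq_succ_iff.mp h
  obtain ⟨b, c, d, e, rfl⟩ := Multiset.card_eq_four.mp h'
  clear h h'
  revert a b c d e
  decide +kernel

end ZMod

variable [Fintype F] (p : ℕ) [Fact p.Prime] [CharP F p] {r : ℕ} [Fact r.Prime]

omit [Fact r.Prime] in
theorem exists_primitiveRoot (h : r ∣ Fintype.card F - 1) : ∃ ζ : F, IsPrimitiveRoot ζ r := by
  classical
  have h0 : 0 < Fintype.card F - 1 := by have := Fintype.one_lt_card (α := F); omega
  obtain ⟨g, hg⟩ := IsCyclic.exists_ofOrder_eq_natCard (α := Fˣ)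
  rw [card_units_eq] at hg
  refine ⟨((g ^ ((Fintype.card F - 1) / r) : Fˣ) : F), IsPrimitiveRoot.coe_units_iff.mpr ?_⟩
  have := IsPrimitiveRoot.orderOf g
  rw [hg] at this
  exact this.pow h0 (Nat.div_mul_cancel h).symm

/-- Powers of a root of unity indexed by residues. -/
def zp (ζ : F) (t : ZMod r) : F := ζ ^ t.val

omit [Fintype F] in
theorem zp_natCast {ζ : F} (hζ : ζ ^ r = 1) (k : ℕ) : zp ζ (k : ZMod r) = ζ ^ k := by
  rw [zp, ZMod.val_natCast]
  conv_rhs => rw [← Nat.mod_add_div k r, pow_add, pow_mul, hζ, one_pow, mul_one]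

omit [Fintype F] in
theorem zp_add {ζ : F} (hζ : ζ ^ r = 1) (a b : ZMod r) : zp ζ (a + b) = zp ζ a * zp ζ b := by
  conv_lhs => rw [← ZMod.natCast_zmod_val a, ← ZMod.natCast_zmod_val b, ← Nat.cast_add,
    zp_natCast hζ, pow_add]
  rfl

omit [Fintype F] in
theorem zp_pow {ζ : F} (hζ : ζ ^ r = 1) (a : ZMod r) (s : ℕ) : zp ζ a ^ s = zp ζ ((s : ZMod r) * a) := by
  conv_rhs => rw [← ZMod.natCast_zmod_val a, ← Nat.cast_mul, zp_natCast hζ, mul_comm, pow_mul]
  rfl

omit [Fintype F] in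
theorem zp_zero (ζ : F) : zp ζ (0 : ZMod r) = 1 := by simp [zp]

omit [Fintype F] in
theorem zp_pow_self {ζ : F} (hζ : ζ ^ r = 1) (a : ZMod r) : zp ζ a ^ r = 1 := by
  rw [zp_pow hζ, ZMod.natCast_self, zero_mul, zp_zero]

omit [Fintype F] in
theorem zp_ne_zero {ζ : F} (hζ : ζ ^ r = 1) (a : ZMod r) : zp ζ a ≠ 0 := fun h => by
  have := zp_pow_self hζ a
  rw [h, zero_pow (Fact.out : r.Prime).ne_zero] at this
  exact zero_ne_one this

omit [Fintype F] in
theorem zp_neg {ζ : F} (hζ : ζ ^ r = 1) (a : ZMod r) : zp ζ (-a) = (zp ζ a)⁻¹ :=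
  eq_inv_of_mul_eq_one_left (by rw [← zp_add hζ, neg_add_cancel, zp_zero])

omit [Fintype F] in
theorem zp_injective {ζ : F} (hζ : IsPrimitiveRoot ζ r) :
    Function.Injective (zp ζ : ZMod r → F) := fun a b h =>
  ZMod.val_injective r (hζ.pow_inj (ZMod.val_lt a) (ZMod.val_lt b) h)

omit [Fintype F] in
theorem exists_zp_eq {ζ : F} (hζ : IsPrimitiveRoot ζ r) {θ : F} (h : θ ^ r = 1) :
    ∃ t : ZMod r, zp ζ t = θ := by
  obtain ⟨k, -, hk⟩ := hζ.eq_pow_of_pow_eq_one h
  exact ⟨k, by rw [zp_natCast hζ.pow_eq_one, hk]⟩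

omit [Fintype F] in
theorem prod_map_zp {ζ : F} (hζ : ζ ^ r = 1) (T : Multiset (ZMod r)) :
    (T.map (zp ζ)).prod = zp ζ T.sum := by
  induction T using Multiset.induction_on with
  | empty => simp [zp_zero]
  | cons a s ih => simp [zp_add hζ, ih]

omit [Fintype F] in
theorem exists_map_zp_eq {ζ : F} (hζ : IsPrimitiveRoot ζ r) {Λ : Multiset F}
    (h : ∀ θ ∈ Λ, θ ^ r = 1) : ∃ T : Multiset (ZMod r), T.map (zp ζ) = Λ := by
  have : CanLift F (ZMod r) (zp ζ) (fun θ => θ ^ r = 1) := ⟨fun _ h => exists_zp_eq hζ h⟩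
  exact (Multiset.canLift (zp ζ) (fun θ => θ ^ r = 1)).prf Λ h

omit [Fintype F] in
/-- A diagonal element with prescribed exponents. -/
theorem exists_GL_zp {ζ : F} (hζ : IsPrimitiveRoot ζ r) (T : Multiset (ZMod r))
    (hT : T.card = Fintype.card ι) {a b : ZMod r} (ha : a ∈ T) (hb : b ∈ T) (hab : a ≠ b) :
    ∃ y : GL ι F, elDivM (y : Matrix ι ι F) = dT (T.map (zp ζ)) ∧
      (y : Matrix ι ι F).det = zp ζ T.sum ∧ (y : Matrix ι ι F) ^ r = 1 ∧
      (∀ z : F, (y : Matrix ι ι F) ≠ z • 1) ∧ ∀ s : ℕ, Tw s (y : Matrix ι ι F) →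
        ∃ c : ZMod r, (T.map fun t => c + s * t) = T := by
  have h1 := hζ.pow_eq_one
  obtain ⟨y, hy⟩ := exists_GL_dT (ι := ι) (Λ := T.map (zp ζ)) (fun h => by
    obtain ⟨t, -, ht⟩ := Multiset.mem_map.mp h
    exact zp_ne_zero h1 t ht) (by simpa using hT)
  refine ⟨y, hy, by rw [det_of_dT hy, prod_map_zp h1], ?_, ne_smul_of_dT hy
    (Multiset.mem_map_of_mem _ ha) (Multiset.mem_map_of_mem _ hb) ((zp_injective hζ).ne hab), ?_⟩
  · rw [← one_smul F (1 : Matrix ι ι F), pow_eq_iff_of_dT hy]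
    intro θ hθ
    obtain ⟨t, -, rfl⟩ := Multiset.mem_map.mp hθ
    exact zp_pow_self h1 t
  · rintro s ⟨μ, hμ⟩
    rw [evM_of_dT hy] at hμ
    have h2 : (T.map (zp ζ)).map (fun θ => μ * θ ^ s) = T.map (zp ζ) := by
      refine Multiset.map_injective (algebraMap F (Ec F)).injective ?_
      rw [← hμ]
      simp [Multiset.map_map]
    have h3 : μ * zp ζ a ^ s ∈ T.map (zp ζ) :=
      h2 ▸ Multiset.mem_map_of_mem _ (Multiset.mem_map_of_mem _ ha)
    obtain ⟨t, -, ht⟩ := Multiset.mem_map.mp h3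
    obtain ⟨c, rfl⟩ := exists_zp_eq hζ (θ := μ) (by
      have := zp_pow_self h1 t
      rwa [ht, mul_pow, zp_pow h1, zp_pow_self h1, mul_one] at this)
    refine ⟨c, Multiset.map_injective (zp_injective hζ) ?_⟩
    rw [← h2, Multiset.map_map, Multiset.map_map]
    exact Multiset.map_congr rfl fun t _ => by simp [zp_add h1, zp_pow h1]

include p in
/-- An element of order `r` with one orbit of non-trivial eigenvalues. -/
theorem exists_GL_orbit (hrp : r ≠ p) (hi1 : orderOf (Fintype.card F : ZMod r) ≠ 1) {j : ℕ}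
    (hj : j ≠ 0) (hi : orderOf (Fintype.card F : ZMod r) * j ≤ Fintype.card ι) :
    ∃ (y : GL ι F) (x : F[X] × ℕ), x ∈ cycFactors F r ∧ elDivM (y : Matrix ι ι F) =
      Multiset.replicate (Fintype.card ι - orderOf (Fintype.card F : ZMod r) * j) (X - 1, 1) +
        Multiset.replicate j x ∧
      (y : Matrix ι ι F).det = 1 ∧ (y : Matrix ι ι F) ^ r = 1 ∧
      (∀ z : F, (y : Matrix ι ι F) ≠ z • 1) ∧ ∀ s : ℕ, ¬ r ∣ s → Tw s (y : Matrix ι ι F) →
        ∃ k, (Fintype.card F : ZMod r) ^ k = s := by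
  have hp : r.Prime := Fact.out
  obtain ⟨x, hx⟩ := cycFactors_nonempty (F := F) p hrp
  obtain ⟨g, hg1, hg⟩ := exists_End_cyc (V := ι → F) p hrp
    (k := Fintype.card ι - orderOf (Fintype.card F : ZMod r) * j) (m := Multiset.replicate j x)
    (fun y hy => Multiset.eq_of_mem_replicate hy ▸ hx) (by simp; omega)
  obtain ⟨A, rfl⟩ := Matrix.toLin'.surjective g
  have hA : A ^ r = 1 := by
    rw [← one_smul F (1 : Matrix ι ι F), ← toLin'_pow_eq_smul_one_iff, hg1, one_smul]
  obtain ⟨y, rfl⟩ := IsUnit.of_pow_eq_one hA hp.ne_zero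
  have hxm : x ∈ elDivM (y : Matrix ι ι F) := by
    rw [elDivM, hg]
    exact Multiset.mem_add.mpr (Or.inr (Multiset.mem_replicate.mpr ⟨hj, rfl⟩))
  obtain ⟨hx1, hx2, hx3, hx4⟩ := mem_cycFactors.mp hx
  have hd := natDegree_of_mem_cycFactors p hrp hx
  refine ⟨y, x, hx, hg, ?_, hA, fun z hz => ?_, ?_⟩
  · rw [← LinearMap.det_toLin']
    exact det_eq_one_of_pow_eq_one hi1 hg1
  · rw [hz, elDivM, map_smul, Matrix.toLin'_one] at hxm
    rw [eq_of_mem_elDiv_smul_one hxm] at hd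
    exact hi1 (by simpa using hd.symm)
  · rintro s hs ⟨μ, hμ⟩
    obtain ⟨θ, hθ⟩ := exists_minpoly_eq_ec hx1 hx2
    have hev : ∀ θ', θ' ∈ evM (y : Matrix ι ι F) ↔
        (θ' = 1 ∧ Fintype.card ι - orderOf (Fintype.card F : ZMod r) * j ≠ 0) ∨
          ∃ k : ℕ, θ' = θ ^ Fintype.card F ^ k := fun θ' => by
      rw [evM_eq, mem_rts (isElDivs_elDivM _).monic_elProd.ne_zero, elDivM, hg, elProd_add,
        elProd_replicate, elProd_replicate, hx4, ← hθ, ← aeval_minpoly_eq_zero_iff]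
      simp [sub_eq_zero, hj]
    have h1 : ∀ θ' ∈ evM (y : Matrix ι ι F), θ' ^ r = 1 := fun θ' h => by
      simpa using pow_of_mem_evM (z := 1) (by simpa using hA) h
    have hθm : θ ∈ evM (y : Matrix ι ι F) := (hev θ).mpr (Or.inr ⟨0, by simp⟩)
    have h2 : algebraMap F (Ec F) μ * θ ^ s ∈ evM (y : Matrix ι ι F) :=
      hμ ▸ Multiset.mem_map_of_mem _ hθm
    have h3 : μ = 1 := eq_one_of_pow_eq_one hi1 ((algebraMap F (Ec F)).injective (by
      have := h1 _ h2
      rwa [mul_pow, ← pow_mul, mul_comm s, pow_mul, h1 θ hθm, one_pow, mul_one, ← map_pow,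
        ← map_one (algebraMap F (Ec F))] at this))
    have hθ1 : θ ≠ 1 := fun e => cycFactors_ne p hrp hx (Prod.ext (by
      rw [← hθ, e, minpoly_one_ec]) hx4)
    have ho : orderOf θ = r := orderOf_eq_prime (h1 θ hθm) hθ1
    rw [h3, map_one, one_mul, hev] at h2
    rcases h2 with ⟨h2, -⟩ | ⟨k, h2⟩
    · exact absurd (ho ▸ orderOf_dvd_of_pow_eq_one h2) hs
    · refine ⟨k, ?_⟩
      have hu : IsOfFinOrder θ := isOfFinOrder_iff_pow_eq_one.mpr ⟨r, hp.pos, h1 θ hθm⟩
      rw [hu.pow_eq_pow_iff_modEq, ho] at h2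
      rw [← Nat.cast_pow, eq_comm, ZMod.natCast_eq_natCast_iff]
      exact h2

include p in
/-- Elements of odd prime order whose eigenvalues have no twisted symmetry. -/
theorem exists_not_tw (hrp : r ≠ p) (hr2 : r ≠ 2) {s : ℕ} (hs0 : ¬ r ∣ s)
    (hs : ∀ k, (Fintype.card F : ZMod r) ^ k ≠ s)
    (hi : orderOf (Fintype.card F : ZMod r) ≤ Fintype.card ι) (hn : 2 ≤ Fintype.card ι)
    (h2 : Fintype.card ι = 2 → r ∣ Fintype.card F - 1 → (s : ZMod r) ^ 2 ≠ 1)
    (h63 : ¬ (Fintype.card ι = 6 ∧ r = 3))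
    (hex : ¬ ((r = 3 ∨ r = 5) ∧ Fintype.card ι = r ∧ padicValNat r (Fintype.card F - 1) = 1)) :
    ∃ (y : GL ι F) (a : F), a ≠ 0 ∧ a ^ Fintype.card ι * (y : Matrix ι ι F).det = 1 ∧
      (y : Matrix ι ι F) ^ r = 1 ∧ (∀ z : F, (y : Matrix ι ι F) ≠ z • 1) ∧
      ¬ Tw s (y : Matrix ι ι F) := by
  have hp : r.Prime := Fact.out
  by_cases hi1 : orderOf (Fintype.card F : ZMod r) = 1
  swap
  · obtain ⟨y, x, -, -, h1, h2, h3, h4⟩ := exists_GL_orbit (ι := ι) p hrp hi1 one_ne_zero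
      (by simpa using hi)
    exact ⟨y, 1, one_ne_zero, by simpa using h1, h2, h3, fun h => by
      obtain ⟨k, hk⟩ := h4 s hs0 h
      exact hs k hk⟩
  have hq := orderOf_card_eq_one_iff.mp hi1
  obtain ⟨ζ, hζ⟩ := exists_primitiveRoot hq
  have hs0' : (s : ZMod r) ≠ 0 := zmod_ofNat_ne hs0
  have hs1 : (s : ZMod r) ≠ 1 := fun e => hs 0 (by simp [e])
  have h20 : (2 : ZMod r) ≠ 0 := zmod_ofNat_ne (k := 2) fun h =>
    hr2 ((Nat.prime_dvd_prime_iff_eq hp Nat.prime_two).mp h)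
  by_cases hn2 : Fintype.card ι = 2
  · obtain ⟨y, -, h1, h3, h4, h5⟩ := exists_GL_zp (ι := ι) hζ {1, -1} (by simp [hn2])
      (a := 1) (b := -1) (by simp) (by simp) fun e => h20 (by linear_combination e)
    refine ⟨y, 1, one_ne_zero, by simp [h1, zp_zero], h3, h4, fun h => ?_⟩
    obtain ⟨c, hc⟩ := h5 s h
    exact asym_two hr2 (h2 hn2 hq) hc
  by_cases hx : (r = 3 ∨ r = 5) ∧ Fintype.card ι = r
  · obtain ⟨y, -, h1, h3, h4, h5⟩ := exists_GL_zp (ι := ι) hζ
      (1 ::ₘ Multiset.replicate (Fintype.card ι - 1) 0) (by simp; omega)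
      (a := 1) (b := 0) (by simp)
      (Multiset.mem_cons_of_mem (Multiset.mem_replicate.mpr ⟨by omega, rfl⟩)) one_ne_zero
    have hζ0 : ζ ≠ 0 := hζ.ne_zero hp.ne_zero
    obtain ⟨b, hb⟩ := exists_pow_eq_of_pow_eq_one (r := r) (c := (Units.mk0 ζ hζ0)⁻¹) hp.ne_zero
      (by ext; simp [hζ.pow_eq_one]) (by
        rw [card_units_eq, padicValNat_self]
        have h1 : 1 ≤ padicValNat r (Fintype.card F - 1) := one_le_padicValNat_of_dvd
          (by have := Fintype.one_lt_card (α := F); omega) hq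
        have h2 : padicValNat r (Fintype.card F - 1) ≠ 1 := fun e => hex ⟨hx.1, hx.2, e⟩
        omega)
    refine ⟨y, b, b.ne_zero, ?_, h3, h4, fun h => ?_⟩
    · have := congrArg Units.val hb
      rw [h1, hx.2]
      simp only [Units.val_pow_eq_pow_val, Units.val_inv_eq_inv_val, Units.val_mk0] at this
      rw [this]
      simp [zp, ZMod.val_one, hζ0]
    · obtain ⟨c, hc⟩ := h5 s h
      exact asym_one (by omega) hs0' hs1 hc
  · have hab : ∃ b ∈ (1 ::ₘ 1 ::ₘ (-2) ::ₘ Multiset.replicate (Fintype.card ι - 3) (0 : ZMod r)),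
        (1 : ZMod r) ≠ b := by
      by_cases h3 : Fintype.card ι = 3
      · refine ⟨-2, by simp, fun e => hx ?_⟩
        have : r = 3 := (Nat.prime_dvd_prime_iff_eq hp Nat.prime_three).mp (by
          rw [← ZMod.natCast_eq_zero_iff]
          push_cast
          linear_combination e)
        exact ⟨Or.inl this, h3.trans this.symm⟩
      · exact ⟨0, Multiset.mem_cons_of_mem (Multiset.mem_cons_of_mem (Multiset.mem_cons_of_mem
          (Multiset.mem_replicate.mpr ⟨by omega, rfl⟩))), one_ne_zero⟩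
    obtain ⟨b, hb, hab⟩ := hab
    obtain ⟨y, -, h1, h3, h4, h5⟩ := exists_GL_zp (ι := ι) hζ
      (1 ::ₘ 1 ::ₘ (-2) ::ₘ Multiset.replicate (Fintype.card ι - 3) 0) (by simp; omega)
      (a := 1) (by simp) hb hab
    refine ⟨y, 1, one_ne_zero, ?_, h3, h4, fun h => ?_⟩
    · rw [h1, one_pow, one_mul, ← zp_zero (r := r) ζ]
      congr 1
      simp
      ring
    · obtain ⟨c, hc⟩ := h5 s h
      exact asym_three hr2 hs0' hs1 (fun e => by omega) (fun e => by omega) hc

omit [Fact r.Prime] in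
theorem pow_eq_one_of_padicValNat [Fact r.Prime] {a : F} {j : ℕ} (h : a ^ r ^ j = 1)
    {v : ℕ} (hv : padicValNat r (Fintype.card F - 1) ≤ v) : a ^ r ^ v = 1 := by
  have hp : r.Prime := Fact.out
  have ha : a ≠ 0 := fun e => by
    rw [e, zero_pow (pow_ne_zero _ hp.ne_zero)] at h
    exact zero_ne_one h
  obtain ⟨k, -, hk⟩ := (Nat.dvd_prime_pow hp).mp (orderOf_dvd_of_pow_eq_one h)
  have h1 := orderOf_dvd_of_pow_eq_one (FiniteField.pow_card_sub_one_eq_one a ha)
  rw [hk, padicValNat_dvd_iff_le (by have := Fintype.one_lt_card (α := F); omega)] at h1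
  exact orderOf_dvd_iff_pow_eq_one.mp (hk ▸ pow_dvd_pow r (h1.trans hv))

include p in
/-- The exceptional cases `n = r ∈ {3, 5}`. -/
theorem allC_of_exc [Nonempty ι] (hrp : r ≠ p) (hr : r = 3 ∨ r = 5) (hn : Fintype.card ι = r)
    (hv : padicValNat r (Fintype.card F - 1) = 1) {H : Subgroup (GL ι F)}
    (hs : ∀ c, scalarGL ι c ∈ H)
    (hA : ∀ (y : GL ι F) (Λ : Multiset F), elDivM (y : Matrix ι ι F) = dT Λ →
      (∀ θ ∈ Λ, θ ^ r = 1) → Λ.map (·⁻¹) = Λ →
      ∃ y' ∈ H, IsConj (y : Matrix ι ι F) (y' : Matrix ι ι F)) : AllC r H := by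
  have hp : r.Prime := Fact.out
  have hq : r ∣ Fintype.card F - 1 := dvd_of_one_le_padicValNat hv.ge
  refine allC_of_ss p hrp hs (fun y a ha hy _ => ?_) fun z j _ hz hj h => ?_
  · obtain ⟨ζ, hζ⟩ := exists_primitiveRoot hq
    have h1 := hζ.pow_eq_one
    obtain ⟨Λ, hΛ, h2⟩ := exists_dT_of_pow_eq_one p hrp hq hy
    obtain ⟨T, rfl⟩ := exists_map_zp_eq hζ h2
    have hc : T.card = r := by simpa [hn] using card_of_dT hΛ
    rw [det_of_dT hΛ, prod_map_zp h1, hn] at ha
    have h3 : a ^ r ^ 1 = 1 := pow_eq_one_of_padicValNat (j := 2) (by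
      have := congrArg (· ^ r) ha
      simp only [mul_pow, zp_pow_self h1, mul_one, one_pow] at this
      rwa [sq, pow_mul]) hv.le
    rw [pow_one] at h3
    rw [h3, one_mul, ← zp_zero (r := r) ζ] at ha
    have h4 := zp_injective hζ ha
    obtain ⟨c, hc⟩ : ∃ c : ZMod r, (T.map (c + ·)).map (-·) = T.map (c + ·) := by
      rcases hr with rfl | rfl
      · exact sym_three T hc h4
      · exact sym_five T hc h4
    have hb := zp_ne_zero h1 c
    obtain ⟨y', hy', h5⟩ := hA (scalarGL ι (Units.mk0 _ hb) * y) ((T.map (c + ·)).map (zp ζ))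
      (by
        rw [coe_scalarGL_mul, Units.val_mk0, elDivM_smul _ hb, hΛ, dT_smul, Multiset.map_map,
          Multiset.map_map]
        exact congrArg _ (Multiset.map_congr rfl fun t _ => (zp_add h1 c t).symm))
      (fun θ hθ => by
        obtain ⟨t, -, rfl⟩ := Multiset.mem_map.mp hθ
        exact zp_pow_self h1 t)
      (by
        conv_rhs => rw [← hc]
        rw [Multiset.map_map, Multiset.map_map (zp ζ)]
        exact Multiset.map_congr rfl fun t _ => (zp_neg h1 t).symm)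
    refine ⟨_, H.mul_mem (hs (Units.mk0 _ hb)⁻¹) hy', ?_⟩
    have := isConj_smul h5 (zp ζ c)⁻¹
    rw [coe_scalarGL_mul, smul_smul] at this
    rw [coe_scalarGL_mul]
    simpa [hb] using this
  · have hj1 : j = 1 := Nat.eq_of_mul_eq_mul_left hp.pos (by omega)
    have : Even (r + 1) := by rcases hr with rfl | rfl <;> decide
    rw [hj1, this.neg_one_pow, one_mul, pow_one] at h
    exact absurd (by rw [h, one_pow]) (hz 1)

end Cfsg.Lib.Known
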