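import Mathlib
import Cfsg.Agent.Known.ElusX2
import Cfsg.Agent.Known.OReal
import Cfsg.Agent.Known.SpLayer
import Cfsg.Agent.Known.QuadNormal
import Cfsg.Agent.Class.StabCard
import Cfsg.Agent.Class.GeoForms
import Cfsg.Agent.Class.OrthOrder
import Cfsg.Agent.Class.SpOrder
import Cfsg.Agent.Class.HermCount
import Cfsg.Agent.S0263

/-!
Elements of prime order of `PSL_n(q)` and similarity groups of forms.
-/

set_option autoImplicit false
set_option linter.unusedSectionVars false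

open Polynomial Module Matrix Cfsg.Lib.Class Cfsg.Lib.Class.Asch Cfsg.Lib.Class.Form
open scoped MatrixGroups

universe u

namespace Cfsg.Lib.Known

variable {F : Type u} [Field F] {ι : Type} [Fintype ι] [DecidableEq ι]

/-! ### Orders -/

theorem card_GL_eq_range [Fintype F] : Nat.card (GL ι F) =
    Fintype.card F ^ (Fintype.card ι * (Fintype.card ι - 1) / 2) *
      ∏ j ∈ Finset.range (Fintype.card ι), (Fintype.card F ^ (j + 1) - 1) := by
  rw [card_GL_eq_prod, Agent.S0263.prod_pow_sub_pow, Nat.card_eq_fintype_card,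
    Fin.prod_univ_eq_prod_range (fun i => Fintype.card F ^ (Fintype.card ι - i) - 1),
    ← Finset.prod_range_reflect]
  congr 1
  refine Finset.prod_congr rfl fun j hj => ?_
  rw [Finset.mem_range] at hj
  congr 2
  omega

theorem prod_range_two_mul (f : ℕ → ℕ) (m : ℕ) : ∏ j ∈ Finset.range (2 * m), f j =
    (∏ j ∈ Finset.range m, f (2 * j)) * ∏ j ∈ Finset.range m, f (2 * j + 1) := by
  induction m with
  | zero => simp
  | succ m ih =>
    rw [show 2 * (m + 1) = 2 * m + 1 + 1 by ring, Finset.prod_range_succ, Finset.prod_range_succ,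
      ih, Finset.prod_range_succ, Finset.prod_range_succ]
    ring

theorem prod_pow_sub_one_ne_zero {q : ℕ} (hq : 2 ≤ q) (s : Finset ℕ) (f : ℕ → ℕ)
    (hf : ∀ j, f j ≠ 0) : ∏ j ∈ s, (q ^ f j - 1) ≠ 0 :=
  Finset.prod_ne_zero_iff.mpr fun j _ => by
    have := Nat.one_lt_pow (hf j) hq
    omega

theorem dvd_of_index {G : Type*} [Group G] [Finite G] {L H N : Subgroup G} [N.Normal] (h : L ≤ H)
    {r : ℕ} (hr : r ∣ H.relIndex N) {a b P : ℕ} (hP : P ≠ 0) (hL : Nat.card L = a * P)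
    (hG : Nat.card G = b * P) : r ∣ b := by
  have h1 := L.index_mul_card
  rw [hL, hG, ← mul_assoc] at h1
  rw [← Nat.eq_of_mul_eq_mul_right (Nat.pos_of_ne_zero hP) h1]
  exact (hr.trans (relIndex_dvd_index_of_le h)).mul_right a

theorem card_comap_glLin (G : Subgroup ((ι → F) ≃ₗ[F] (ι → F))) :
    Nat.card (G.comap (glLin ι F).toMonoidHom) = Nat.card G :=
  Nat.card_congr ((glLin ι F).toEquiv.subtypeEquiv fun _ => Iff.rfl)

theorem not_dvd_card [Fintype F] (p : ℕ) [Fact p.Prime] [CharP F p] {r : ℕ} [Fact r.Prime]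
    (hrp : r ≠ p) (k : ℕ) : ¬ r ∣ Fintype.card F ^ k := fun h => by
  obtain ⟨n, hp, hn⟩ := FiniteField.card F p
  rw [hn, ← pow_mul] at h
  exact hrp ((Nat.prime_dvd_prime_iff_eq Fact.out hp).mp
    ((Fact.out : r.Prime).dvd_of_dvd_pow h))

theorem zmod_pow_eq_one_of_dvd {r q k : ℕ} (hq : 1 ≤ q) (h : r ∣ q ^ k - 1) :
    (q : ZMod r) ^ k = 1 := by
  rw [← ZMod.natCast_eq_zero_iff, Nat.cast_sub (Nat.one_le_pow _ _ hq)] at h
  push_cast at h
  exact sub_eq_zero.mp h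

theorem zmod_pow_eq_neg_one_of_dvd {r q k : ℕ} (h : r ∣ q ^ k + 1) : (q : ZMod r) ^ k = -1 := by
  rw [← ZMod.natCast_eq_zero_iff] at h
  push_cast at h
  exact eq_neg_of_add_eq_zero_left h

theorem zmod_one_ne_neg_one {r : ℕ} [Fact r.Prime] (hr : r ≠ 2) : (1 : ZMod r) ≠ -1 := fun e =>
  zmod_ofNat_ne (k := 2) (fun h => hr ((Nat.prime_dvd_prime_iff_eq Fact.out Nat.prime_two).mp h))
    (by push_cast; linear_combination e)

theorem zmod_cast_pred {r : ℕ} [Fact r.Prime] : ((r - 1 : ℕ) : ZMod r) = -1 := by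
  rw [Nat.cast_sub (Fact.out : r.Prime).one_le]; simp

theorem not_dvd_pred {r : ℕ} [Fact r.Prime] : ¬ r ∣ r - 1 := fun h => by
  have := (Fact.out : r.Prime).two_le
  have := Nat.le_of_dvd (by omega) h
  omega

/-! ### Similarity groups -/

variable {σ : F →+* F} {B : (ι → F) →ₛₗ[σ] (ι → F) →ₗ[F] F} {ε : F}

/-- The similarity group of a sesquilinear form. -/
abbrev simGL (B : (ι → F) →ₛₗ[σ] (ι → F) →ₗ[F] F) : Subgroup (GL ι F) :=
  Geo.similarityGroup fun u v => B u v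

theorem mem_simGL {g : GL ι F} : g ∈ simGL B ↔ ∃ c : Fˣ, ∀ u v,
    B ((g : Matrix ι ι F) *ᵥ u) ((g : Matrix ι ι F) *ᵥ v) = c * B u v := Iff.rfl

theorem scalarGL_mem_simGL (c : Fˣ) : scalarGL ι c ∈ simGL B :=
  ⟨Units.map σ.toMonoidHom c * c, fun u v => by
    simp [coe_scalarGL, Matrix.smul_mulVec, map_smulₛₗ, mul_assoc, mul_left_comm]⟩

theorem comap_isomGroup_le : (isomGroup B).comap (glLin ι F).toMonoidHom ≤ simGL B :=
  fun _ hg => ⟨1, fun u v => by simpa using hg u v⟩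

theorem HForm.mult_pow [Nonempty ι] (h : HForm B ε) {A : Matrix ι ι F} {c z : F}
    (hA : ∀ u v, B (A *ᵥ u) (A *ᵥ v) = c * B u v) {k : ℕ} (hk : A ^ k = z • 1) :
    c ^ k = σ z * z := by
  have h1 : ∀ k u v, B (A ^ k *ᵥ u) (A ^ k *ᵥ v) = c ^ k * B u v := fun k => by
    induction k with
    | zero => simp
    | succ k ih =>
      intro u v
      rw [pow_succ', ← Matrix.mulVec_mulVec, ← Matrix.mulVec_mulVec, hA, ih]
      ring
  obtain ⟨u, hu⟩ := exists_ne (0 : ι → F)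
  obtain ⟨v, hv⟩ := not_forall.mp fun e => hu (h.sep u e)
  have := h1 k u v
  rw [hk] at this
  refine mul_right_cancel₀ hv (this.symm.trans ?_)
  simp [Matrix.smul_mulVec, map_smulₛₗ, mul_assoc, mul_left_comm]

theorem exists_GL_of_sim {W : Type*} [AddCommGroup W] [Module F W] [FiniteDimensional F W]
    {B' : W →ₛₗ[σ] W →ₗ[F] F} (e : W ≃ₗ[F] (ι → F)) {c : F}
    (he : ∀ u v, B (e u) (e v) = c * B' u v) {g : End F W} (hg : Function.Injective g) {l : F}
    (hl : l ≠ 0) (hB : ∀ u v, B' (g u) (g v) = l * B' u v) :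
    ∃ y ∈ simGL B, Sim g (Matrix.toLin' (y : Matrix ι ι F)) := by
  obtain ⟨g, rfl⟩ : ∃ g' : W ≃ₗ[F] W, (g' : End F W) = g :=
    ⟨LinearEquiv.ofInjectiveEndo g hg, rfl⟩
  refine ⟨(glLin ι F).symm (e.symm.trans (g.trans e)), ⟨Units.mk0 l hl, fun u v => ?_⟩,
    e, fun v => ?_⟩
  · obtain ⟨u, rfl⟩ := e.surjective u
    obtain ⟨v, rfl⟩ := e.surjective v
    rw [← glLin_apply, ← glLin_apply, MulEquiv.apply_symm_apply]
    have := hB u v
    simp only [LinearEquiv.coe_coe] at this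
    simp [he, this, mul_left_comm]
  · rw [Matrix.toLin'_apply, ← glLin_apply, MulEquiv.apply_symm_apply]
    simp

theorem isConj_of_sim {W : Type*} [AddCommGroup W] [Module F W] [FiniteDimensional F W]
    {g : End F W} {A A' : Matrix ι ι F} (h : elDiv g = elDivM A)
    (h' : Sim g (Matrix.toLin' A')) : IsConj A A' :=
  isConj_iff_elDivM.mpr (h.symm.trans h'.elDiv_eq)

theorem pow_eq_of_sim {W : Type*} [AddCommGroup W] [Module F W] {g : End F W} {A : Matrix ι ι F}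
    (h : Sim g (Matrix.toLin' A)) {k : ℕ} {z : F} (hg : g ^ k = z • 1) : A ^ k = z • 1 := by
  rw [← toLin'_pow_eq_smul_one_iff]
  obtain ⟨e, he⟩ := h.pow k
  refine LinearMap.ext fun v => ?_
  obtain ⟨v, rfl⟩ := e.surjective v
  rw [← he, hg]
  simp

theorem pow_of_isConj {A A' : Matrix ι ι F} (h : IsConj A A') {k : ℕ} {z : F}
    (hA : A ^ k = z • 1) : A' ^ k = z • 1 := by
  rwa [pow_eq_smul_one_iff, ← isConj_iff_elDivM.mp h, ← pow_eq_smul_one_iff]

theorem pow_of_isConj' {A A' : Matrix ι ι F} (h : IsConj A A') {k : ℕ} (hA : A ^ k = 1) :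
    A' ^ k = 1 := by
  simpa using pow_of_isConj h (z := 1) (by simpa using hA)

theorem det_of_isConj {A A' : Matrix ι ι F} (h : IsConj A A') : A.det = A'.det := by
  rw [det_eq_tDet, det_eq_tDet, isConj_iff_elDivM.mp h]

theorem SpReal.exists_simGL {B : LinearMap.BilinForm F (ι → F)} (hB : B.Nondegenerate)
    (hA : B.IsAlt) {A : Matrix ι ι F} (h : SpReal (elDivM A)) :
    ∃ y ∈ simGL B, IsConj A (y : Matrix ι ι F) := by
  obtain ⟨V, _, _, _, B', g, h1, h2, h3, h4⟩ := h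
  obtain ⟨e, he⟩ := exists_equiv_of_isAlt h1 h2 hB hA (by
    rw [finrank_eq_elDeg g, h4, elDeg_elDivM, finrank_fintype_fun_eq_card])
  obtain ⟨y, hy, h5⟩ := exists_GL_of_sim (B := B) (B' := B') e (c := 1) (by simpa using he)
    (injective_of_isometry (hform_of_isAlt h1 h2) h3) one_ne_zero (by simpa using h3)
  exact ⟨y, hy, isConj_of_sim h4 h5⟩

theorem Herm.exists_simGL [Finite F] (h : Herm B) {A : GL ι F}
    (hA : (elDivM (A : Matrix ι ι F)).map (dualED σ) = elDivM (A : Matrix ι ι F)) :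
    ∃ y ∈ simGL B, IsConj (A : Matrix ι ι F) (y : Matrix ι ι F) := by
  obtain ⟨B', g, h1, h3, h4⟩ := (isElDivs_elDivM (A : Matrix ι ι F)).exists_herm h.invol h.ne_id
    (GL_elDivM_ne_X A) hA
  obtain ⟨e, he⟩ := h1.exists_isometry h (by simp [elDeg_elDivM])
  obtain ⟨y, hy, h5⟩ := exists_GL_of_sim (B := B) (B' := B') e (c := 1) (by simpa using he)
    (injective_of_isometry (herm_hform h1) h3) one_ne_zero (by simpa using h3)
  exact ⟨y, hy, isConj_of_sim h4 h5⟩

theorem HForm.polar_toQuadraticMap {V : Type*} [AddCommGroup V] [Module F V]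
    {B : LinearMap.BilinForm F V} (h : HForm (σ := RingHom.id F) B 1) (u v : V) :
    QuadraticMap.polar (LinearMap.BilinMap.toQuadraticMap B) u v = 2 * B u v := by
  rw [LinearMap.BilinMap.polar_toQuadraticMap, h.sym v u]
  simp [two_mul]

theorem HForm.nondegenerate_toQuadraticMap (h2 : (2 : F) ≠ 0) {V : Type*} [AddCommGroup V]
    [Module F V] {B : LinearMap.BilinForm F V} (h : HForm (σ := RingHom.id F) B 1) :
    (QuadraticMap.polarBilin (LinearMap.BilinMap.toQuadraticMap B)).Nondegenerate :=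
  polarBilin_nondegenerate_of _ fun u hu => h.sep u fun v => by
    have := hu v
    rw [h.polar_toQuadraticMap] at this
    simpa [h2] using this

theorem exists_sim_of_odd [Finite F] (h2 : (2 : F) ≠ 0) {V W : Type*} [AddCommGroup V]
    [Module F V] [FiniteDimensional F V] [AddCommGroup W] [Module F W] [FiniteDimensional F W]
    {B : LinearMap.BilinForm F V} {B' : LinearMap.BilinForm F W}
    (h : HForm (σ := RingHom.id F) B 1) (h' : HForm (σ := RingHom.id F) B' 1) {m : ℕ}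
    (hV : finrank F V = 2 * m + 1) (hW : finrank F W = 2 * m + 1) :
    ∃ (e : W ≃ₗ[F] V) (c : F), ∀ u v, B (e u) (e v) = c * B' u v := by
  obtain ⟨c, g, hc, hg⟩ := exists_equiv_odd_sim (h.nondegenerate_toQuadraticMap h2) hV
  obtain ⟨c', g', hc', hg'⟩ := exists_equiv_odd_sim (h'.nondegenerate_toQuadraticMap h2) hW
  refine ⟨g'.symm.trans g, c / c', fun u v => ?_⟩
  obtain ⟨u, rfl⟩ := g'.surjective u
  obtain ⟨v, rfl⟩ := g'.surjective v
  have e1 := h.polar_toQuadraticMap (g u) (g v)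
  have e2 := h'.polar_toQuadraticMap (g' u) (g' v)
  simp only [QuadraticMap.polar, ← map_add, hg, hg'] at e1 e2
  simp only [LinearEquiv.trans_apply, LinearEquiv.symm_apply_apply]
  field_simp
  refine mul_left_cancel₀ h2 ?_
  linear_combination c * e2 - c' * e1

theorem OReal.exists_simGL [Finite F] (h2 : (2 : F) ≠ 0) {B : LinearMap.BilinForm F (ι → F)}
    (hB : HForm (σ := RingHom.id F) B 1) (hn : Odd (Fintype.card ι)) {A : Matrix ι ι F}
    (h : OReal (elDivM A)) : ∃ y ∈ simGL B, IsConj A (y : Matrix ι ι F) := by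
  obtain ⟨V, _, _, _, B', g, h1, h3, h4⟩ := h
  obtain ⟨m, hm⟩ := hn
  obtain ⟨e, c, he⟩ := exists_sim_of_odd h2 hB h1 (m := m) (by simpa using hm) (by
    rw [finrank_eq_elDeg g, h4, elDeg_elDivM, hm])
  obtain ⟨y, hy, h5⟩ := exists_GL_of_sim (B := B) (B' := B') e he
    (injective_of_isometry h1 h3) one_ne_zero (by simpa using h3)
  exact ⟨y, hy, isConj_of_sim h4 h5⟩

variable [Fintype F] (p : ℕ) [Fact p.Prime] [CharP F p] {r : ℕ} [Fact r.Prime]

include p in
theorem HForm.not_allC (h : HForm B ε) {k : ℕ} (hσ : ∀ x, σ x = x ^ p ^ k) (hrp : r ≠ p)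
    (hr2 : r ≠ 2) (hs : ∀ j, (Fintype.card F : ZMod r) ^ j ≠ -(p ^ k : ℕ))
    (hi : orderOf (Fintype.card F : ZMod r) ≤ Fintype.card ι) (hn : 3 ≤ Fintype.card ι)
    (h63 : ¬ (Fintype.card ι = 6 ∧ r = 3))
    (hex : ¬ ((r = 3 ∨ r = 5) ∧ Fintype.card ι = r ∧ padicValNat r (Fintype.card F - 1) = 1)) :
    ¬ AllC r (simGL B) := by
  have hp : r.Prime := Fact.out
  obtain ⟨y, a, ha, h1, h2, h3, h4⟩ := exists_not_tw (ι := ι) p hrp hr2 (s := p ^ k * (r - 1))
    (fun e => (hp.dvd_mul.mp e).elim (fun e => hrp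
      ((Nat.prime_dvd_prime_iff_eq hp Fact.out).mp (hp.dvd_of_dvd_pow e))) not_dvd_pred)
    (fun j => by rw [Nat.cast_mul, zmod_cast_pred, mul_neg_one]; exact hs j) hi (by omega)
    (by omega) h63 hex
  refine Known.not_allC scalarGL_mem_simGL y h1 ha (z := 1) (by simpa using h2) h3 ?_
  rintro y' ⟨c, hc⟩ hy
  exact h4 (Tw.of_isConj hy (h.tw p hσ c.ne_zero hc hp.ne_zero (pow_of_isConj' hy h2)))

include p in
theorem exists_GL_unip {μ : Multiset ℕ} (h : ∀ a ∈ μ, 0 < a ∧ a ≤ p)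
    (hs : μ.sum = Fintype.card ι) (h1 : ¬ ∀ a ∈ μ, a = 1) :
    ∃ y : GL ι F, elDivM (y : Matrix ι ι F) = μ.map (fun a => ((X - 1 : F[X]), a)) ∧
      (y : Matrix ι ι F).det = 1 ∧ (y : Matrix ι ι F) ^ p = 1 ∧
      ∀ z : F, (y : Matrix ι ι F) ≠ z • 1 := by
  obtain ⟨y, hy⟩ := exists_GL_elDivM_eq (n := ι) (isElDivs_map_unip (F := F) fun a ha => (h a ha).1)
    (by rw [elDeg_map_unip, hs]) fun x hx => by
      obtain ⟨a, -, rfl⟩ := Multiset.mem_map.mp hx
      exact X_sub_one_ne_X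
  refine ⟨y, hy, ?_, ?_, fun z hz => ne_smul_of_elDiv_unip hy h1 z ?_⟩
  · rw [← LinearMap.det_toLin']
    exact det_of_elDiv_unip hy
  · rw [← one_smul F (1 : Matrix ι ι F), ← toLin'_pow_eq_smul_one_iff, one_smul]
    exact pow_char_of_elDiv_unip p (fun a ha => (h a ha).2) hy
  · rw [hz, map_smul, Matrix.toLin'_one]
    rfl

theorem eq_one_of_pow_char {c : F} (h : c ^ p = 1) : c = 1 :=
  frobenius_inj F p (by rw [frobenius_def, h, map_one])

theorem HForm.isom_of_pow_char [Nonempty ι] (h : HForm B ε) {y : GL ι F} (hy : y ∈ simGL B)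
    (h1 : (y : Matrix ι ι F) ^ p = 1) (u v : ι → F) :
    B (Matrix.toLin' (y : Matrix ι ι F) u) (Matrix.toLin' (y : Matrix ι ι F) v) = B u v := by
  obtain ⟨c, hc⟩ := mem_simGL.mp hy
  have := h.mult_pow hc (z := 1) (by simpa using h1)
  rw [Matrix.toLin'_apply, Matrix.toLin'_apply, hc,
    eq_one_of_pow_char p (c := (c : F)) (by simpa using this), one_mul]

/-! ### Involutions -/

theorem det_eq_one_of_two {y : Matrix ι ι F} {a : F} (ha : a ^ Fintype.card ι * y.det = 1)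
    (hy : y ^ 2 = 1) (hn : Fintype.card ι ≠ 0)
    (hv : padicValNat 2 (Fintype.card F - 1) ≤ padicValNat 2 (Fintype.card ι)) : y.det = 1 := by
  have h1 : y.det ^ 2 = 1 := by rw [← Matrix.det_pow, hy, Matrix.det_one]
  obtain ⟨m, hm⟩ : 2 ^ padicValNat 2 (Fintype.card ι) ∣ Fintype.card ι := pow_padicValNat_dvd
  have h2 : (a ^ m) ^ 2 ^ (padicValNat 2 (Fintype.card ι) + 1) = 1 := by
    have := congrArg (· ^ 2) ha
    simp only [mul_pow, h1, mul_one, one_pow] at this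
    rw [← this, ← pow_mul, ← pow_mul]
    congr 1
    conv_rhs => rw [hm]
    ring
  have h3 := pow_eq_one_of_padicValNat h2 hv
  rw [← pow_mul, mul_comm, ← hm] at h3
  rwa [h3, one_mul] at ha

omit [Fact r.Prime] in
theorem exists_pow_eq_neg_one {n : ℕ} (hn : n ≠ 0)
    (hv : padicValNat 2 n < padicValNat 2 (Fintype.card F - 1)) : ∃ a : F, a ^ n = -1 := by
  obtain ⟨ζ, hζ⟩ := exists_primitiveRoot (F := F) (r := 2 ^ (padicValNat 2 n + 1))
    ((padicValNat_dvd_iff_le (by have := Fintype.one_lt_card (α := F); omega)).mpr hv)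
  obtain ⟨m, hm⟩ : 2 ^ padicValNat 2 n ∣ n := pow_padicValNat_dvd
  have h1 : Odd m := by
    rw [← Nat.not_even_iff_odd, even_iff_two_dvd]
    intro ⟨t, ht⟩
    exact pow_succ_padicValNat_not_dvd (p := 2) hn ⟨t, by rw [pow_succ, mul_assoc, ← ht, ← hm]⟩
  have h2 : ζ ^ 2 ^ padicValNat 2 n = -1 :=
    (hζ.pow (by positivity) (pow_succ 2 _)).eq_neg_one_of_two_right
  exact ⟨ζ, by rw [hm, pow_mul, h2, h1.neg_one_pow]⟩

omit [Fintype F] in
/-- A reflection. -/
theorem exists_GL_refl (h2 : (2 : F) ≠ 0) {k : ℕ} (hk : k ≠ 0) (hn : k < Fintype.card ι) :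
    ∃ y : GL ι F, elDivM (y : Matrix ι ι F) =
      dT (Multiset.replicate k (-1) + Multiset.replicate (Fintype.card ι - k) 1) ∧
      (y : Matrix ι ι F).det = (-1) ^ k ∧ (y : Matrix ι ι F) ^ 2 = 1 ∧
      ∀ z : F, (y : Matrix ι ι F) ≠ z • 1 := by
  obtain ⟨y, hy⟩ := exists_GL_dT (ι := ι)
    (Λ := Multiset.replicate k (-1 : F) + Multiset.replicate (Fintype.card ι - k) 1)
    (by simp [Multiset.mem_replicate]) (by simp; omega)
  refine ⟨y, hy, by simp [det_of_dT hy], ?_, ne_smul_of_dT hy (a := -1) (b := 1)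
    (by simp [Multiset.mem_replicate, hk]) (by simp [Multiset.mem_replicate]; omega)
    fun e => h2 (by linear_combination -e)⟩
  rw [← one_smul F (1 : Matrix ι ι F), pow_eq_iff_of_dT hy]
  intro θ hθ
  rcases Multiset.mem_add.mp hθ with h | h <;> simp [Multiset.eq_of_mem_replicate h]

theorem two_dvd_card_sub_one (h2 : (2 : F) ≠ 0) : 2 ∣ Fintype.card F - 1 := by
  obtain ⟨k, hk⟩ := odd_card_of_two_ne_zero h2
  exact ⟨k, by omega⟩

omit [Fintype F] in
theorem two_ne_char (h2 : (2 : F) ≠ 0) : 2 ≠ p := fun e => h2 (by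
  subst e; exact CharP.cast_eq_zero F 2)

omit [Fintype F] in
theorem two_ne_zero_of_ne_char (h2 : 2 ≠ p) : (2 : F) ≠ 0 := fun e =>
  h2 ((Nat.prime_dvd_prime_iff_eq Fact.out Nat.prime_two).mp
    ((CharP.cast_eq_zero_iff F p 2).mp (by simpa using e))).symm

omit [Fintype F] in
theorem map_inv_of_sq (σ : F →+* F) {Λ : Multiset F} (h : ∀ θ ∈ Λ, θ ^ 2 = 1) :
    (Λ.map fun θ => (σ θ)⁻¹) = Λ := by
  conv_rhs => rw [← Multiset.map_id Λ]
  refine Multiset.map_congr rfl fun θ hθ => ?_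
  rcases sq_eq_one_iff.mp (h θ hθ) with rfl | rfl <;> simp

omit [Fintype F] in
theorem zero_notMem_of_pow {Λ : Multiset F} {k : ℕ} (hk : k ≠ 0) (h : ∀ θ ∈ Λ, θ ^ k = 1) :
    (0 : F) ∉ Λ := fun e => by simpa [hk] using h 0 e

omit [Fintype F] in
theorem map_dualED_unip {s : Multiset (F[X] × ℕ)} (h : ∀ b ∈ s, b.1 = X - 1) :
    s.map (dualED σ) = s := by
  conv_rhs => rw [← Multiset.map_id s]
  refine Multiset.map_congr rfl fun b hb => Prod.ext ?_ rfl
  rw [dualED_fst, h b hb, dualPoly_X_sub_one, id, h b hb]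

omit [Fintype F] in
theorem snd_eq_one_of_dT {Λ : Multiset F} : ∀ x ∈ dT Λ, x.2 = 1 := fun x hx => by
  obtain ⟨θ, -, rfl⟩ := Multiset.mem_map.mp hx
  rfl

end Cfsg.Lib.Known
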