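import Mathlib
import Cfsg.Agent.Known.ElusX3
import Cfsg.Agent.Known.ElusDec

/-!
Elements of prime order of `PSL_n(q)` and the subgroups of symplectic, orthogonal and unitary type.
-/

set_option autoImplicit false
set_option linter.unusedSectionVars false

open Polynomial Module Matrix Cfsg.Lib.Class Cfsg.Lib.Class.Asch Cfsg.Lib.Class.Form
open scoped MatrixGroups

universe u

namespace Cfsg.Lib.Known

variable {F : Type u} [Field F] {ι : Type} [Fintype ι] [DecidableEq ι] [Fintype F]
  (p : ℕ) [Fact p.Prime] [CharP F p] {r : ℕ} [Fact r.Prime]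

theorem padicValNat_two_of_char_two [CharP F 2] : padicValNat 2 (Fintype.card F - 1) = 0 := by
  refine padicValNat.eq_zero_of_not_dvd fun h => ?_
  obtain ⟨n, -, hn⟩ := FiniteField.card F 2
  have h1 : 2 ∣ Fintype.card F := hn ▸ dvd_pow_self 2 n.ne_zero
  have := Fintype.one_lt_card (α := F)
  omega

theorem odd_of_pow_eq_one {q k : ℕ} (hr : r ≠ 2) (hk : Odd k) (h : (q : ZMod r) ^ k = 1) (j : ℕ) :
    (q : ZMod r) ^ j ≠ -1 := fun e => zmod_one_ne_neg_one hr (by
  rw [← hk.neg_one_pow, ← e, ← pow_mul, mul_comm, pow_mul, h, one_pow])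

section Sp

variable {B : LinearMap.BilinForm F (ι → F)}

include p in
theorem allC_two_sp (hB : B.Nondegenerate) (hA : B.IsAlt) (hn : 3 ≤ Fintype.card ι) :
    AllC 2 (simGL B) ↔ padicValNat 2 (Fintype.card F - 1) ≤ padicValNat 2 (Fintype.card ι) := by
  classical
  have : Nonempty ι := Fintype.card_pos_iff.mp (by omega)
  have he : Even (Fintype.card ι) := by simpa using even_finrank_of_isAlt hB hA
  have h := hform_of_isAlt hB hA
  by_cases hp : 2 = p
  · subst hp
    refine iff_of_true (allC_two_of_char_two scalarGL_mem_simGL fun y hy _ => ?_)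
      (by rw [padicValNat_two_of_char_two]; exact Nat.zero_le _)
    refine SpReal.exists_simGL hB hA (spReal_of_parity (isElDivs_elDivM _) (GL_elDivM_ne_X y)
      (map_dualED_unip fun b hb => (hy b hb).1) fun l hl e ho => ?_)
    obtain ⟨k, j, hk⟩ := eq_replicate_add_replicate (a := ((X - 1 : F[X]), 1)) (b := (X - 1, 2))
      (ν := elDivM (y : Matrix ι ι F)) fun x hx => by
        have h1 := hy x hx
        have h2 := (isElDivs_elDivM _ x hx).2.2
        obtain h3 | h3 : x.2 = 1 ∨ x.2 = 2 := by omega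
        · exact Or.inl (Prod.ext h1.1 h3)
        · exact Or.inr (Prod.ext h1.1 h3)
    have h1 := elDeg_elDivM (y : Matrix ι ι F)
    rw [hk, elDeg_add, elDeg_replicate, elDeg_replicate, natDegree_X_sub_one] at h1
    have h2 : Even k := by
      obtain ⟨m, hm⟩ := he
      exact ⟨m - j, by simp only at h1; omega⟩
    rw [hk, Multiset.count_add, Multiset.count_replicate, Multiset.count_replicate,
      if_neg (c := ((X - 1 : F[X]), 2) = _) fun e' => by
        rw [show e = 2 from (Prod.ext_iff.mp e').2.symm] at ho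
        exact absurd ho (by decide)]
    split_ifs
    · simpa using h2
    · simp
  have h2 := two_ne_zero_of_ne_char (F := F) p hp
  refine ⟨fun hC => le_of_not_gt fun hv => ?_, fun hv => ?_⟩
  · obtain ⟨a, ha⟩ := exists_pow_eq_neg_one (F := F) (by omega) hv
    obtain ⟨y, hy, h3, h4, h5⟩ := exists_GL_refl (ι := ι) h2 one_ne_zero (by omega)
    refine not_allC scalarGL_mem_simGL y (a := a) (by simp [ha, h3])
      (fun e => by simp [e, zero_pow (show Fintype.card ι ≠ 0 by omega)] at ha) (z := 1)
      (by simpa using h4) h5 ?_ hC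
    intro y' hy' hc
    obtain ⟨c, hy'⟩ := mem_simGL.mp hy'
    have h6 := h.mult_pow hy' (pow_of_isConj hc (z := 1) (by simpa using h4))
    rcases sq_eq_one_iff.mp (show (c : F) ^ 2 = 1 by simpa using h6) with e | e
    · have := det_eq_one_of_isAlt hB hA (g := Matrix.toLin' (y' : Matrix ι ι F))
        (by simpa [e] using hy')
      rw [LinearMap.det_toLin', ← det_of_isConj hc, h3] at this
      exact h2 (by linear_combination -this)
    · have h7 := h.elDivM_sim c.ne_zero hy'
      rw [elDivM_smul _ (inv_ne_zero c.ne_zero), ← isConj_iff_elDivM.mp hc, hy, dT_smul,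
        dT_dual _ (by simp [Multiset.mem_replicate])] at h7
      have h8 := congrArg (Multiset.count 1) (dT_injective h7)
      have h9 : (-1 : F) ≠ 1 := fun e => h2 (by linear_combination -e)
      simp [e, Multiset.count_replicate, h9] at h8
      omega
  · refine allC_of_ss p hp scalarGL_mem_simGL (fun y a ha hy _ => ?_) fun z j hz _ hj _ => ?_
    · have h3 := det_eq_one_of_two ha hy (by omega) hv
      obtain ⟨Λ, hΛ, h4⟩ := exists_dT_of_pow_eq_one p hp (two_dvd_card_sub_one h2) hy
      have h5 : (elDivM (y : Matrix ι ι F)).map (dualED (RingHom.id F)) =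
          elDivM (y : Matrix ι ι F) := by
        rw [hΛ, dT_dual _ (zero_notMem_of_pow two_ne_zero h4), map_inv_of_sq _ h4]
      refine SpReal.exists_simGL hB hA (spReal_of_parity (isElDivs_elDivM _) (GL_elDivM_ne_X y)
        h5 (spParity_of_semisimple (isElDivs_elDivM _) (GL_elDivM_ne_X y) h5
          (hΛ ▸ snd_eq_one_of_dT) (by rwa [elDeg_elDivM]) ?_))
      rwa [det_eq_tDet, tDet, elDeg_elDivM, he.neg_one_pow, one_mul] at h3
    · obtain ⟨T, hT⟩ := exists_hform_one (V := Fin j → F) (σ := RingHom.id F) fun _ => rfl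
      obtain ⟨e, he⟩ := exists_equiv_of_isAlt (hT.hyp (ε := -1) (by simp)).nondegenerate
        (isAlt_hypForm hT) hB hA (by simp; omega)
      let g : End F ((Fin j → F) × (Fin j → F)) :=
        (z • LinearMap.snd F _ _).prod (LinearMap.fst F _ _)
      have hg : g ^ 2 = z • 1 := LinearMap.ext fun v => by simp [g, sq, Prod.ext_iff]
      obtain ⟨y, hy, h3⟩ := exists_GL_of_sim (B := B) (B' := hypForm T (-1)) e (c := 1)
        (by simpa using he) (injective_of_pow_eq_smul two_ne_zero hz hg) (neg_ne_zero.mpr hz)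
        fun u v => by simp [g]; ring
      exact ⟨y, hy, pow_eq_of_sim h3 hg⟩

include p in
theorem not_allC_sp (hB : B.Nondegenerate) (hA : B.IsAlt) (hn : 3 ≤ Fintype.card ι) (hr2 : r ≠ 2)
    (h63 : ¬ (Fintype.card ι = 6 ∧ r = 3))
    (hΩ : r ∣ (simGL B).relIndex (Geo.specialLinear ι F)) : ¬ AllC r (simGL B) := by
  classical
  have : Nonempty ι := Fintype.card_pos_iff.mp (by omega)
  obtain ⟨m, hm⟩ : Even (Fintype.card ι) := by simpa using even_finrank_of_isAlt hB hA
  have h := hform_of_isAlt hB hA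
  have hp : r.Prime := Fact.out
  by_cases hrp : r = p
  · subst hrp
    have h3 : 3 ≤ r := by have := hp.two_le; omega
    obtain ⟨y, hy, h4, h5, h6⟩ := exists_GL_unip (F := F) (ι := ι) r
      (μ := 3 ::ₘ Multiset.replicate (Fintype.card ι - 3) 1) (fun a ha => by
        rcases Multiset.mem_cons.mp ha with rfl | ha
        · omega
        · rw [Multiset.eq_of_mem_replicate ha]; omega) (by simp; omega)
      fun e => absurd (e 3 (by simp)) (by decide)
    refine not_allC scalarGL_mem_simGL y (a := 1) (by simp [h4]) one_ne_zero (z := 1)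
      (by simpa using h5) h6 fun y' hy' hc => ?_
    have h7 := spParity_elDiv hB hA (h.isom_of_pow_char r hy' (pow_of_isConj' hc h5)) 1
      (one_mul 1) 3 (by decide)
    rw [← elDivM, ← isConj_iff_elDivM.mp hc, hy] at h7
    simp [Multiset.count_replicate] at h7
  have hq := Fintype.one_lt_card (α := F)
  have h1 := dvd_of_index (comap_isomGroup_le (B := B)) hΩ
    (prod_pow_sub_one_ne_zero hq (Finset.range m) (fun j => 2 * (j + 1)) (by omega))
    (by rw [card_comap_glLin, card_SpB hB hA (m := m) (by simp; omega), spOrd])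
    (by rw [card_GL_eq_range, hm, ← two_mul, prod_range_two_mul, ← mul_assoc]; rfl)
  obtain ⟨j, hj, h2⟩ := (Prime.dvd_finsetProd_iff hp.prime _).mp
    ((hp.dvd_mul.mp h1).resolve_left (not_dvd_card p hrp _))
  have h3 := zmod_pow_eq_one_of_dvd hq.le h2
  refine h.not_allC p (k := 0) (by simp) hrp hr2
    (by simpa using odd_of_pow_eq_one hr2 ⟨j, rfl⟩ h3) ?_ hn h63 (by omega)
  have := orderOf_le_of_pow_eq_one (by omega) h3
  rw [Finset.mem_range] at hj
  omega

end Sp

section O

variable {B : LinearMap.BilinForm F (ι → F)}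

omit [Fintype F] in
theorem HForm.exists_orth_basis (h2 : (2 : F) ≠ 0) (h : HForm (σ := RingHom.id F) B 1)
    {κ : Type} [Fintype κ] (hκ : Fintype.card κ = Fintype.card ι) :
    ∃ b : Basis κ F (ι → F), (∀ i j, i ≠ j → B (b i) (b j) = 0) ∧ ∀ i, B (b i) (b i) ≠ 0 := by
  have := invertibleOfNonzero h2
  obtain ⟨b, hb⟩ := LinearMap.BilinForm.exists_orthogonal_basis (B := B)
    ⟨fun u v => by rw [h.sym u v]; simp⟩
  let e : Fin (finrank F (ι → F)) ≃ κ := Fintype.equivOfCardEq (by simp [hκ])
  refine ⟨b.reindex e, fun i j hij => ?_, fun i => ?_⟩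
  · simpa using hb (e.symm.injective.ne hij)
  · simpa using hb.not_isOrtho_basis_self_of_separatingLeft h.sep (e.symm i)

include p in
theorem allC_two_O [Nonempty ι] (h2 : (2 : F) ≠ 0) (h : HForm (σ := RingHom.id F) B 1) :
    AllC 2 (simGL B) := by
  classical
  have hp := two_ne_char p h2
  refine allC_of_ss p hp scalarGL_mem_simGL (fun y a _ hy _ => ?_) fun z j hz _ hj _ => ?_
  · obtain ⟨Λ, hΛ, h4⟩ := exists_dT_of_pow_eq_one p hp (two_dvd_card_sub_one h2) hy
    obtain ⟨m, d, rfl⟩ := exists_enum Λ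
    obtain ⟨b, hb, -⟩ := h.exists_orth_basis h2 (κ := Fin m) (by simpa using card_of_dT hΛ)
    have hd : ∀ i, d i ^ 2 = 1 := fun i => h4 _ (by simp)
    have hD : Matrix.diagonal d ^ 2 = 1 := by
      rw [Matrix.diagonal_pow, ← Matrix.diagonal_one]
      exact congrArg _ (funext hd)
    let g : End F (ι → F) := Matrix.toLin b b (Matrix.diagonal d)
    have hg : ∀ i, g (b i) = d i • b i := fun i => by
      simp [g, Matrix.toLin_self, Matrix.diagonal_apply]
    have hg2 : g ^ 2 = (1 : F) • 1 := b.ext fun i => by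
      simp [sq, hg, smul_smul, ← hd i]
    obtain ⟨y', hy', h3⟩ := exists_GL_of_sim (B := B) (B' := B) (LinearEquiv.refl F _) (c := 1)
      (by simp) (injective_of_pow_eq_smul two_ne_zero one_ne_zero hg2) one_ne_zero fun u v => by
        have : B.compl₁₂ g g = B := LinearMap.ext_basis b b fun i j => by
          by_cases hij : i = j
          · subst hij
            simp [hg, ← mul_assoc, ← sq, hd]
          · simp [hg, hb i j hij]
        simpa using LinearMap.congr_fun₂ this u v
    refine ⟨y', hy', isConj_of_sim ?_ h3⟩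
    rw [← elDivM_toMatrix b g, LinearMap.toMatrix_toLin]
    refine elDivM_eq_of_charpoly_eq (elDivM_snd_eq_one_of_pow_eq_one (by simpa using h2) hD)
      (hΛ ▸ snd_eq_one_of_dT) ?_
    rw [Matrix.charpoly_diagonal, charpoly_eq_elProdM, hΛ, elProd_dT, Multiset.map_map]
    rfl
  · obtain ⟨b, hb, hb0⟩ := h.exists_orth_basis h2 (κ := Fin j ⊕ Fin j) (by simp; omega)
    choose s t hst using fun i : Fin j => exists_binary_quad_eq (t := 0)
      (n := B (b (.inl i)) (b (.inl i)) * B (b (.inr i)) (b (.inr i))) (by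
        have : (4 : F) ≠ 0 := by rw [show (4 : F) = 2 * 2 by norm_num]; exact mul_ne_zero h2 h2
        simp [hb0, this]) z
    let g : End F (ι → F) := b.constr F (Sum.elim
      (fun i => s i • b (.inl i) + (t i * B (b (.inl i)) (b (.inl i))) • b (.inr i))
      fun i => (t i * B (b (.inr i)) (b (.inr i))) • b (.inl i) - s i • b (.inr i))
    have hg1 : ∀ i, g (b (.inl i)) =
      s i • b (.inl i) + (t i * B (b (.inl i)) (b (.inl i))) • b (.inr i) := fun i => by simp [g]
    have hg2 : ∀ i, g (b (.inr i)) =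
      (t i * B (b (.inr i)) (b (.inr i))) • b (.inl i) - s i • b (.inr i) := fun i => by simp [g]
    have hg : g ^ 2 = z • 1 := b.ext fun i => by
      rcases i with i | i
      · simp only [sq, End.mul_apply, hg1, hg2, map_add, map_smul, LinearMap.smul_apply,
          End.one_apply, ← hst i]
        module
      · simp only [sq, End.mul_apply, hg1, hg2, map_sub, map_smul, LinearMap.smul_apply,
          End.one_apply, ← hst i]
        module
    obtain ⟨y', hy', h3⟩ := exists_GL_of_sim (B := B) (B' := B) (LinearEquiv.refl F _) (c := 1)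
      (by simp) (injective_of_pow_eq_smul two_ne_zero hz hg) hz fun u v => by
        have : B.compl₁₂ g g = z • B := LinearMap.ext_basis b b fun i i' => by
          rcases i with i | i <;> rcases i' with i' | i' <;> by_cases hij : i = i' <;>
            simp [hg1, hg2, hb, hij, ← hst i'] <;> ring
        simpa using LinearMap.congr_fun₂ this u v
    exact ⟨y', hy', pow_eq_of_sim h3 hg⟩

include p in
theorem allC_O_iff (h2 : (2 : F) ≠ 0) (h : HForm (σ := RingHom.id F) B 1)
    (hn : 3 ≤ Fintype.card ι) (h63 : ¬ (Fintype.card ι = 6 ∧ r = 3))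
    (hΩ : r ∣ (simGL B).relIndex (Geo.specialLinear ι F)) : AllC r (simGL B) ↔
      r = 2 ∨ ((r = 3 ∨ r = 5) ∧ Fintype.card ι = r ∧ padicValNat r (Fintype.card F - 1) = 1) := by
  classical
  have : Nonempty ι := Fintype.card_pos_iff.mp (by omega)
  have hp : r.Prime := Fact.out
  have hq := Fintype.one_lt_card (α := F)
  refine ⟨fun hC => by_contra fun hex => ?_, ?_⟩
  swap
  · rintro (rfl | ⟨h1, h3, h4⟩)
    · exact allC_two_O p h2 h
    have hrp : r ≠ p := fun e => by
      subst e
      have h5 := dvd_of_one_le_padicValNat h4.ge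
      obtain ⟨n, -, hn⟩ := FiniteField.card F r
      have h6 : r ∣ Fintype.card F := hn ▸ dvd_pow_self r n.ne_zero
      have := (Nat.dvd_sub_iff_right (by omega) h6).mp h5
      exact hp.one_lt.ne' (Nat.dvd_one.mp this)
    refine allC_of_exc p hrp h1 h3 h4 scalarGL_mem_simGL fun y Λ hΛ h5 h6 => ?_
    refine OReal.exists_simGL h2 h (by rcases h1 with rfl | rfl <;> rw [h3] <;> decide)
      (oReal_of_parity h2 (isElDivs_elDivM _) (GL_elDivM_ne_X y) ?_ fun l _ e he => ?_)
    · rw [hΛ, dT_dual _ (zero_notMem_of_pow hp.ne_zero h5)]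
      exact congrArg _ h6
    · rw [Multiset.count_eq_zero_of_notMem fun hx => ?_]
      · simp
      · rw [hΛ] at hx
        rw [show e = 1 from snd_eq_one_of_dT _ hx] at he
        exact absurd he (by decide)
  rw [not_or] at hex
  obtain ⟨hr2, hex⟩ := hex
  revert hC
  by_cases hrp : r = p
  · subst hrp
    obtain ⟨y, hy, h4, h5, h6⟩ := exists_GL_unip (F := F) (ι := ι) r
      (μ := 2 ::ₘ Multiset.replicate (Fintype.card ι - 2) 1) (fun a ha => by
        have := hp.two_le
        rcases Multiset.mem_cons.mp ha with rfl | ha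
        · omega
        · rw [Multiset.eq_of_mem_replicate ha]; omega) (by simp; omega)
      fun e => absurd (e 2 (by simp)) (by decide)
    refine not_allC scalarGL_mem_simGL y (a := 1) (by simp [h4]) one_ne_zero (z := 1)
      (by simpa using h5) h6 fun y' hy' hc => ?_
    have h7 := oParity_elDiv h2 h (h.isom_of_pow_char r hy' (pow_of_isConj' hc h5)) 1
      (one_mul 1) 2 (by decide)
    rw [← elDivM, ← isConj_iff_elDivM.mp hc, hy] at h7
    simp [Multiset.count_replicate] at h7
  have key : ∀ j, 2 * j + 1 ≤ Fintype.card ι → (Fintype.card F : ZMod r) ^ (2 * j + 1) = 1 →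
      ¬ AllC r (simGL B) := fun j hj h3 =>
    h.not_allC p (k := 0) (by simp) hrp hr2 (by simpa using odd_of_pow_eq_one hr2 ⟨j, rfl⟩ h3)
      ((orderOf_le_of_pow_eq_one (by omega) h3).trans hj) hn h63 hex
  set Q := LinearMap.BilinMap.toQuadraticMap B with hQ
  have hQn := h.nondegenerate_toQuadraticMap h2
  have hle : (Orth.O Q).comap (glLin ι F).toMonoidHom ≤ simGL B := fun g hg => ⟨1, fun u v => by
    have h3 : ∀ v, Q ((g : Matrix ι ι F) *ᵥ v) = Q v := Orth.mem_O.mp hg
    have e1 := h.polar_toQuadraticMap ((g : Matrix ι ι F) *ᵥ u) ((g : Matrix ι ι F) *ᵥ v)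
    have e2 := h.polar_toQuadraticMap u v
    simp only [QuadraticMap.polar, ← Matrix.mulVec_add, ← hQ, h3] at e1 e2
    simpa using mul_left_cancel₀ h2 (e1.symm.trans e2)⟩
  have key2 : ∀ m, 2 * m ≤ Fintype.card ι + 1 →
      r ∣ ∏ j ∈ Finset.range m, (Fintype.card F ^ (2 * j + 1) - 1) → ¬ AllC r (simGL B) :=
    fun m hm h1 => by
      obtain ⟨j, hj, h2⟩ := (Prime.dvd_finsetProd_iff hp.prime _).mp h1
      rw [Finset.mem_range] at hj
      exact key j (by omega) (zmod_pow_eq_one_of_dvd hq.le h2)
  have hP := fun m => prod_pow_sub_one_ne_zero hq (Finset.range m) (fun j => 2 * (j + 1))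
    (by omega)
  obtain ⟨m, hm | hm⟩ : ∃ m, Fintype.card ι = 2 * m + 1 ∨ Fintype.card ι = 2 * m + 2 :=
    ⟨(Fintype.card ι - 1) / 2, by omega⟩
  · have h1 := dvd_of_index hle hΩ (hP m)
      (by rw [card_comap_glLin, Orth.card_O_odd hQn (m := m) (by simpa using hm),
        Nat.card_eq_fintype_card])
      (b := Fintype.card F ^ (Fintype.card ι * (Fintype.card ι - 1) / 2) *
        ∏ j ∈ Finset.range (m + 1), (Fintype.card F ^ (2 * j + 1) - 1)) (by
        rw [card_GL_eq_range, mul_assoc]
        congr 1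
        rw [hm, Finset.prod_range_succ, Finset.prod_range_succ, prod_range_two_mul]
        exact mul_right_comm _ _ _)
    exact key2 (m + 1) (by omega) ((hp.dvd_mul.mp h1).resolve_left (not_dvd_card p hrp _))
  have hG : Nat.card (GL ι F) = Fintype.card F ^ (Fintype.card ι * (Fintype.card ι - 1) / 2) *
      (∏ j ∈ Finset.range (m + 1), (Fintype.card F ^ (2 * j + 1) - 1)) *
      ((Fintype.card F ^ (m + 1) + 1) * (Fintype.card F ^ (m + 1) - 1) *
        ∏ j ∈ Finset.range m, (Fintype.card F ^ (2 * (j + 1)) - 1)) := by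
    rw [card_GL_eq_range, mul_assoc]
    congr 1
    rw [hm, show 2 * m + 2 = 2 * (m + 1) by ring, prod_range_two_mul,
      Finset.prod_range_succ fun j => Fintype.card F ^ (2 * j + 1 + 1) - 1, ← Nat.sq_sub_sq,
      ← pow_mul, mul_comm (m + 1) 2, one_pow, mul_comm (_ - 1)]
    rfl
  have hq1 : Fintype.card F ^ (m + 1) - 1 ≠ 0 := by
    have := Nat.one_lt_pow (n := m + 1) (by omega) hq
    omega
  have main : (Fintype.card F : ZMod r) ^ (2 * m + 2) = 1 → (Fintype.card F : ZMod r) ≠ 1 →
      ((Orth.sing Q : ℤ) : ZMod r) ≠ 1 → ¬ AllC r (simGL B) := fun h3 h4 h5 => by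
    have hi1 : orderOf (Fintype.card F : ZMod r) ≠ 1 := by simpa using h4
    obtain ⟨j, hj⟩ := orderOf_dvd_of_pow_eq_one h3
    obtain ⟨y, x, hx, hy, h6, h7, h8, -⟩ := exists_GL_orbit (ι := ι) p hrp hi1 (j := j)
      (by rintro rfl; omega) (by omega)
    refine not_allC scalarGL_mem_simGL y (a := 1) (by simp [h6]) one_ne_zero (z := 1)
      (by simpa using h7) h8 fun y' hy' hc => h5 ?_
    obtain ⟨c, hy'⟩ := mem_simGL.mp hy'
    have h9 := pow_of_isConj' hc h7
    have h10 : (c : F) = 1 := eq_one_of_pow_eq_one hi1 (by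
      simpa using h.mult_pow hy' (z := 1) (by simpa using h9))
    have h11 : finrank F (LinearMap.ker (Matrix.toLin' (y' : Matrix ι ι F) - 1)) = 0 := by
      rw [finrank_ker_sub_one, ← isConj_iff_elDivM.mp hc, hy, hm, ← hj, Nat.sub_self,
        Multiset.card_eq_zero, Multiset.filter_eq_nil]
      intro a ha e
      simp only [Multiset.replicate_zero, zero_add] at ha
      rw [Multiset.eq_of_mem_replicate ha] at e
      exact cycFactors_ne p hrp hx (Prod.ext e (mem_cycFactors.mp hx).2.2.2)
    have h12 := dvd_card_vec (r := r) (P := Subgroup.zpowers (glLin ι F y'))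
      (IsPGroup.of_card (n := 1) (by
        rw [Nat.card_zpowers, pow_one, MulEquiv.orderOf_eq]
        refine orderOf_eq_prime (Units.ext (by simpa using h9)) fun e => h8 1 ?_
        rw [e, Units.val_one, isConj_one_left] at hc
        simp [hc]))
      (fun v => v ≠ 0 ∧ Q v = 0) (fun g hg v hv => ⟨by simpa using hv.1, by
        have : Subgroup.zpowers (glLin ι F y') ≤ Orth.O Q := Subgroup.zpowers_le.mpr
          (Orth.mem_O.mpr fun v => by simp [hQ, hy', h10])
        rw [Orth.mem_O.mp (this hg), hv.2]⟩) fun v hv e => hv.1 (by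
        have : v ∈ LinearMap.ker (Matrix.toLin' (y' : Matrix ι ι F) - 1) := by
          simpa [sub_eq_zero] using e _ (Subgroup.mem_zpowers _)
        rwa [Submodule.finrank_eq_zero.mp h11] at this)
    rw [Orth.card_ne_zero_sing, ← ZMod.natCast_eq_zero_iff, Nat.cast_sub Orth.one_le_sing] at h12
    simpa [sub_eq_zero] using h12
  by_cases hq2 : (Fintype.card F : ZMod r) = 1
  · exact key 0 (by omega) (by simpa using hq2)
  have h20 : (2 : ZMod r) ≠ 0 := fun e => zmod_one_ne_neg_one hr2 (by linear_combination e)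
  by_cases hpl : IsPlus Q
  · have h1 := dvd_of_index hle hΩ (mul_ne_zero hq1 (hP m))
      (by rw [card_comap_glLin, Orth.card_O_plus hQn (m := m) (by simpa using hm) hpl,
        Nat.card_eq_fintype_card, mul_assoc]) (by rw [hG, mul_assoc (_ + 1), ← mul_assoc])
    rcases hp.dvd_mul.mp h1 with h1 | h1
    · exact key2 (m + 1) (by omega) ((hp.dvd_mul.mp h1).resolve_left (not_dvd_card p hrp _))
    have h3 := zmod_pow_eq_neg_one_of_dvd h1
    refine main (by rw [show 2 * m + 2 = (m + 1) * 2 by ring, pow_mul, h3]; simp) hq2 fun e => ?_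
    rw [Orth.sing_of_isPlus hQn (m := m) (by simpa using hm) hpl, Nat.card_eq_fintype_card] at e
    push_cast at e
    have h4 : (Fintype.card F : ZMod r) ^ m = -1 := mul_left_cancel₀ h20 (by
      linear_combination -e + ((Fintype.card F : ZMod r) ^ m + 1) * h3)
    exact hq2 (by linear_combination -h3 + (Fintype.card F : ZMod r) * h4)
  · have h1 := dvd_of_index hle hΩ (mul_ne_zero (Nat.succ_ne_zero _) (hP m))
      (by rw [card_comap_glLin, Orth.card_O_minus hQn (m := m) (by simpa using hm) hpl,
        Nat.card_eq_fintype_card, mul_assoc])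
      (by rw [hG, mul_comm (_ + 1), mul_assoc (_ - 1), ← mul_assoc])
    rcases hp.dvd_mul.mp h1 with h1 | h1
    · exact key2 (m + 1) (by omega) ((hp.dvd_mul.mp h1).resolve_left (not_dvd_card p hrp _))
    have h3 := zmod_pow_eq_one_of_dvd hq.le h1
    refine main (by rw [show 2 * m + 2 = (m + 1) * 2 by ring, pow_mul, h3]; simp) hq2 fun e => ?_
    rw [Orth.sing_of_not_isPlus hQn (m := m) (by simpa using hm) hpl,
      Nat.card_eq_fintype_card] at e
    push_cast at e
    have h4 : (Fintype.card F : ZMod r) ^ m = 1 := mul_left_cancel₀ h20 (by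
      linear_combination e - ((Fintype.card F : ZMod r) ^ m - 1) * h3)
    exact hq2 (by linear_combination h3 - (Fintype.card F : ZMod r) * h4)

end O

end Cfsg.Lib.Known
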