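import Mathlib
import Cfsg.Agent.Known.ElusX4

/-!
Elements of prime order of `PSL_n(q)` and the subgroups of unitary type.
-/

set_option autoImplicit false
set_option linter.unusedSectionVars false

open Polynomial Module Matrix Cfsg.Lib.Class Cfsg.Lib.Class.Asch Cfsg.Lib.Class.Form
open scoped MatrixGroups

universe u

namespace Cfsg.Lib.Known

variable {F : Type u} [Field F] {ι : Type} [Fintype ι] [DecidableEq ι] [Fintype F]
  (p : ℕ) [Fact p.Prime] [CharP F p] {r : ℕ} [Fact r.Prime]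

/-- A unitary form as a sesquilinear form, semilinear in the first argument. -/
def geoSesq {q : ℕ} (hF : Fintype.card F = q ^ 2) {f : (ι → F) → (ι → F) → F}
    (hf : Geo.IsUnitaryFormPow q f) : (ι → F) →ₛₗ[frobq hF] (ι → F) →ₗ[F] F :=
  LinearMap.mk₂'ₛₗ (frobq hF) (RingHom.id F) (fun u v => f v u)
    (fun x y v => by
      rw [hf.herm, hf.add_left, hf.herm v x, hf.herm v y]
      exact map_add (frobq hF) _ _)
    (fun c x v => by rw [hf.herm, hf.smul_left, hf.herm v x, mul_pow]; rfl)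
    (fun v x y => hf.add_left x y v) fun c v x => hf.smul_left c x v

theorem herm_geoSesq {q : ℕ} (hF : Fintype.card F = q ^ 2) {f : (ι → F) → (ι → F) → F}
    (hf : Geo.IsUnitaryFormPow q f) : Herm (geoSesq hF hf) :=
  herm_of_isSymm (frobq_ne_id hF) (frobq_frobq hF) ⟨fun u v => (hf.herm u v).symm⟩
    fun u h => by_contra fun hu => (hf.nondegenerate u hu).1.elim fun x hx => hx (h x)

theorem simGL_geoSesq {q : ℕ} (hF : Fintype.card F = q ^ 2) {f : (ι → F) → (ι → F) → F}
    (hf : Geo.IsUnitaryFormPow q f) : Geo.similarityGroup f = simGL (geoSesq hF hf) :=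
  Subgroup.ext fun _ => exists_congr fun _ => forall_comm

theorem isSquare_of_pow_eq_one (h2 : (2 : F) ≠ 0) {c : F} {m : ℕ}
    (hm : Fintype.card F - 1 = 2 * m) (h : c ^ m = 1) : ∃ b : F, b ^ 2 = c := by
  have hq := Fintype.one_lt_card (α := F)
  have hc : c ≠ 0 := fun e => by simp [e, zero_pow (show m ≠ 0 by omega)] at h
  obtain ⟨b, hb⟩ := (FiniteField.isSquare_iff (fun e => h2 (by simpa using (ringChar.spec F 2).mpr (by rw [e]))) hc).mpr
    (by rwa [show Fintype.card F / 2 = m by omega])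
  exact ⟨b, by rw [hb, sq]⟩

theorem exists_GL_not_split (hi : orderOf (Fintype.card F : ZMod r) = 1) [Nonempty ι]
    (h : ¬ SplitCond r (Fintype.card F) (Fintype.card ι)) :
    ∃ (y : GL ι F) (c : F), (y : Matrix ι ι F).det = 1 ∧ (y : Matrix ι ι F) ^ r = c • 1 ∧
      (∀ c : F, (y : Matrix ι ι F) ≠ c • 1) ∧ (∀ b : F, b ^ r ≠ c) := by
  obtain ⟨g, c, j, h1, h2, h3, -, h4, -⟩ := exists_End_not_split (V := ι → F) hi
    (by simp) (by simpa using h)
  have h5 : (LinearMap.toMatrix' g).det = 1 := by rw [LinearMap.det_toMatrix', h1]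
  refine ⟨Matrix.GeneralLinearGroup.mkOfDetNeZero _ (h5.trans_ne one_ne_zero), c, h5, ?_,
    fun z e => h3 z ?_, h4⟩
  · exact (map_pow LinearMap.toMatrixAlgEquiv' g r).symm.trans (by rw [h2]; simp)
  · exact LinearMap.toMatrix'.injective (by simpa using e)

variable {σ : F →+* F} {B : (ι → F) →ₛₗ[σ] (ι → F) →ₗ[F] F} {q : ℕ}

include p in
theorem allC_U_iff (hF : Fintype.card F = q ^ 2) (hσ : ∀ x, σ x = x ^ q) (h : Herm B)
    (hn : 3 ≤ Fintype.card ι) (hr : r = 2 ∨ r ≠ p) (h63 : ¬ (Fintype.card ι = 6 ∧ r = 3))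
    (hΩ : r ∣ (simGL B).relIndex (Geo.specialLinear ι F)) : AllC r (simGL B) ↔
      (r = 2 ∧ (p = 2 ∨ padicValNat 2 (Fintype.card ι) ≤ padicValNat 2 (Fintype.card F - 1))) ∨
        ((r = 3 ∨ r = 5) ∧ Fintype.card ι = r ∧ padicValNat r (q - 1) = 1) := by
  classical
  have : Nonempty ι := Fintype.card_pos_iff.mp (by omega)
  have hp : r.Prime := Fact.out
  have hq := two_le_of_card_sq hF
  have h' := hform_of_good h.toGood
  have hq1 : Fintype.card F - 1 = (q + 1) * (q - 1) := by rw [hF]; exact Nat.sq_sub_sq q 1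
  by_cases hr2 : r = 2
  · subst hr2
    rw [or_iff_left (by omega), and_iff_right rfl]
    by_cases hp2 : p = 2
    · subst hp2
      exact iff_of_true (allC_two_of_char_two scalarGL_mem_simGL fun y hy _ =>
        Herm.exists_simGL h (map_dualED_unip fun b hb => (hy b hb).1)) (Or.inl rfl)
    have h2 := two_ne_zero_of_ne_char (F := F) p (Ne.symm hp2)
    have h3 := two_dvd_card_sub_one h2
    obtain ⟨m, hm⟩ : Odd q := by
      rw [← Nat.odd_pow_iff two_ne_zero, ← hF, Nat.odd_iff]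
      have := Fintype.one_lt_card (α := F)
      omega
    have h4 : Fintype.card F % 4 = 1 := by
      rw [hF, hm, show (2 * m + 1) ^ 2 = 1 + 4 * (m ^ 2 + m) by ring, Nat.add_mul_mod_self_left]
    rw [or_iff_right hp2]
    refine ⟨fun hC => by_contra fun hv => ?_, fun hv => ?_⟩
    · obtain ⟨y, c, h5, h6, h7, h8⟩ := exists_GL_not_split (F := F) (ι := ι) (r := 2)
        (orderOf_card_eq_one_iff.mpr h3) fun e => hv e.1
      refine not_allC scalarGL_mem_simGL y (a := 1) (by simp [h5]) one_ne_zero h6 h7 ?_ hC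
      intro y' hy' hc
      obtain ⟨l, hy'⟩ := mem_simGL.mp hy'
      have h9 := h'.mult_pow hy' (pow_of_isConj hc h6)
      obtain ⟨u, hu⟩ := exists_ne (0 : ι → F)
      obtain ⟨v, hv⟩ := not_forall.mp (mt (h'.sep u) hu)
      have h10 : σ l = l := mul_right_cancel₀ hv (by
        rw [← hy', h'.sym (_ *ᵥ _), hy', map_mul, h'.sym u v]
        ring)
      have h11 : (l : F) ^ (2 * m) = 1 := mul_right_cancel₀ l.ne_zero (by
        rw [← pow_succ, ← hm, ← hσ, h10, one_mul])
      obtain ⟨b, hb⟩ := isSquare_of_pow_eq_one h2 (c := c) (m := (q + 1) * m)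
        (by rw [hq1, hm, Nat.add_sub_cancel]; ring)
        (by rw [pow_mul, pow_succ, ← hσ, ← h9, ← pow_mul, h11])
      exact h8 b hb
    · refine allC_of_ss p (Ne.symm hp2) scalarGL_mem_simGL (fun y a _ hy _ => ?_)
        fun z j hz hb hj h5 => ?_
      · obtain ⟨Λ, hΛ, h4⟩ := exists_dT_of_pow_eq_one p (Ne.symm hp2) h3 hy
        refine Herm.exists_simGL h ?_
        rw [hΛ, dT_dual _ (zero_notMem_of_pow two_ne_zero h4), map_inv_of_sq _ h4]
      · exact absurd ⟨hj ▸ hv, fun _ _ => h4⟩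
          (not_splitCond_of_not_pow p (Ne.symm hp2) hz hb (by omega) h5).2
  have hrp := hr.resolve_left hr2
  rw [or_iff_right fun e => hr2 e.1]
  have hv : ¬ r ∣ q + 1 → padicValNat r (Fintype.card F - 1) = padicValNat r (q - 1) := fun e => by
    rw [hq1, padicValNat.mul (by omega) (by omega), padicValNat.eq_zero_of_not_dvd e, zero_add]
  refine ⟨fun hC => by_contra fun hex => ?_, fun ⟨h1, h3, h4⟩ => ?_⟩
  swap
  · have h5 := dvd_of_one_le_padicValNat h4.ge
    refine allC_of_exc p hrp h1 h3 ((hv fun e => hr2 ?_).trans h4) scalarGL_mem_simGL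
      fun y Λ hΛ h6 h7 => Herm.exists_simGL h ?_
    · have := Nat.dvd_sub e h5
      rw [show q + 1 - (q - 1) = 2 by omega] at this
      exact (Nat.prime_dvd_prime_iff_eq hp Nat.prime_two).mp this
    · rw [hΛ, dT_dual _ (zero_notMem_of_pow hp.ne_zero h6)]
      refine congrArg _ ((Multiset.map_congr rfl fun θ hθ => ?_).trans h7)
      obtain ⟨t, ht⟩ := h5
      rw [hσ, show q = r * t + 1 by omega, pow_succ, pow_mul, h6 θ hθ, one_pow, one_mul]
  obtain ⟨p', k, hp', hc, -, hk⟩ := exists_prime_pow_of_card_sq hF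
  obtain rfl : p = p' := CharP.eq F ‹CharP F p› hc
  have h1 := dvd_of_index (comap_isomGroup_le (B := B)) hΩ
    (P := q ^ (Fintype.card ι * (Fintype.card ι - 1) / 2) * ∏ i ∈ Finset.range (Fintype.card ι),
      (if Even i then q ^ (i + 1) + 1 else q ^ (i + 1) - 1)) (a := 1)
    (b := q ^ (Fintype.card ι * (Fintype.card ι - 1) / 2) * ∏ i ∈ Finset.range (Fintype.card ι),
      (if Even i then q ^ (i + 1) - 1 else q ^ (i + 1) + 1))
    (mul_ne_zero (by positivity) (Finset.prod_ne_zero_iff.mpr fun i _ => by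
      have := Nat.one_lt_pow (n := i + 1) (by omega) hq
      split_ifs <;> omega))
    (by rw [card_comap_glLin, h.card_isomGroup hF (n := Fintype.card ι) (by simp), guOrder, one_mul])
    (by
      rw [card_GL_eq_range, hF, mul_mul_mul_comm, ← Finset.prod_mul_distrib, ← pow_mul,
        two_mul, pow_add]
      refine congrArg _ (Finset.prod_congr rfl fun i _ => ?_)
      rw [← pow_mul, mul_comm 2, pow_mul]
      have := Nat.sq_sub_sq (q ^ (i + 1)) 1
      rw [one_pow] at this
      split_ifs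
      · rw [this, mul_comm]
      · rw [this])
  obtain ⟨j, hj, h2⟩ := (Prime.dvd_finsetProd_iff hp.prime _).mp
    ((hp.dvd_mul.mp h1).resolve_left fun e => not_dvd_card (F := F) p hrp 1
      (by rw [pow_one, hF]; exact (hp.dvd_of_dvd_pow e).trans (dvd_pow_self q two_ne_zero)))
  rw [Finset.mem_range] at hj
  have h3 : (-q : ZMod r) ^ (j + 1) = -1 := by
    split_ifs at h2 with he
    · rw [he.add_one.neg_pow, zmod_pow_eq_one_of_dvd (by omega) h2]
    · rw [(Nat.not_even_iff_odd.mp he).add_one.neg_pow, zmod_pow_eq_neg_one_of_dvd h2]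
  have h4 : ∀ i, (-q : ZMod r) ^ (2 * i + 1) ≠ 1 := fun i e => zmod_one_ne_neg_one hr2 (by
    rw [← (Odd.neg_one_pow ⟨i, rfl⟩ : (-1 : ZMod r) ^ (2 * i + 1) = -1), ← h3, ← pow_mul, mul_comm,
      pow_mul, e, one_pow])
  have h5 : (Fintype.card F : ZMod r) = (-q) ^ 2 := by rw [hF]; push_cast; ring
  have h0 : (-q : ZMod r) ≠ 0 := fun e => by
    rw [e, zero_pow (by omega)] at h3
    simp at h3
  refine h'.not_allC p (k := k) (hk ▸ hσ) hrp hr2 (fun i e => ?_) ?_ hn h63
    (fun e => hex ⟨e.1, e.2.1, (hv fun e' => h4 0 ?_).symm.trans e.2.2⟩) hC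
  · rw [← hk, h5, ← pow_mul] at e
    rcases i with _ | i
    · exact h4 0 (by simpa using e.symm)
    · exact h4 i (mul_right_cancel₀ h0 (by rw [← pow_succ, one_mul]; exact e))
  · refine (orderOf_le_of_pow_eq_one (n := j + 1) (by omega) ?_).trans hj
    rw [h5, ← pow_mul, mul_comm, pow_mul, h3, neg_one_sq]
  · simpa [neg_eq_iff_eq_neg] using zmod_pow_eq_neg_one_of_dvd (q := q) (k := 1) (by simpa using e')

end Cfsg.Lib.Known
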