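import Mathlib
import Cfsg.Agent.Known.WallCount

/-!
Unipotent classes of symplectic groups in odd characteristic.
-/

set_option autoImplicit false

namespace Cfsg.Lib.Known

open Module Polynomial Cfsg.Lib.Class Cfsg.Lib.Class.Form

theorem card_classes_of_complete_inv {G T : Type*} [Group G] (Q : G → Prop) (I : G → T) (R : T → Prop)
    (h1 : ∀ g, Q g → R (I g)) (h2 : ∀ g g', Q g → Q g' → (IsConj g g' ↔ I g = I g'))
    (h3 : ∀ t, R t → ∃ g, Q g ∧ I g = t) :
    Nat.card {C : ConjClasses G // ∃ g, ConjClasses.mk g = C ∧ Q g} = Nat.card {t // R t} := by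
  refine Nat.card_congr (Equiv.ofBijective (fun C => ⟨I C.2.choose, h1 _ C.2.choose_spec.2⟩)
    ⟨fun C D h => ?_, ?_⟩)
  · have h4 := (h2 _ _ C.2.choose_spec.2 D.2.choose_spec.2).mpr (Subtype.mk.inj h)
    rw [← ConjClasses.mk_eq_mk_iff_isConj, C.2.choose_spec.1, D.2.choose_spec.1] at h4
    exact Subtype.ext h4
  · rintro ⟨t, ht⟩
    obtain ⟨g, hg, rfl⟩ := h3 t ht
    have hC : ∃ g', ConjClasses.mk g' = ConjClasses.mk g ∧ Q g' := ⟨g, rfl, hg⟩
    exact ⟨⟨ConjClasses.mk g, hC⟩, Subtype.ext ((h2 _ _ hC.choose_spec.2 hg).mp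
      (ConjClasses.mk_eq_mk_iff_isConj.mp hC.choose_spec.1))⟩

variable {F : Type*} [Field F]

theorem eq_map_of_unipotent {s : Multiset (F[X] × ℕ)} (h : ∀ x ∈ s, x.1 = X - 1) :
    s = (s.map Prod.snd).map fun i => (X - C 1, i) := by
  rw [Multiset.map_map]
  conv_lhs => rw [← Multiset.map_id s]
  exact Multiset.map_congr rfl fun x hx => Prod.ext (h x hx) rfl

open Classical in
theorem count_map_unipotent (t : Multiset ℕ) (l : F) (e : ℕ) :
    (t.map fun i => ((X - C 1 : F[X]), i)).count (X - C l, e) = if l = 1 then t.count e else 0 := by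
  split_ifs with h
  · subst h
    exact Multiset.count_map_eq_count' _ _ (fun _ _ h => (Prod.ext_iff.mp h).2) e
  · refine Multiset.count_eq_zero.mpr fun h1 => h ?_
    obtain ⟨i, -, hi⟩ := Multiset.mem_map.mp h1
    exact (C_inj.mp (sub_right_injective (Prod.ext_iff.mp hi).1)).symm

open Classical in
theorem card_Sp_unipotent_classes [Finite F] (h2 : (2 : F) ≠ 0) {m : ℕ}
    (Q : Matrix.symplecticGroup (Fin m) F → Prop) (P : Multiset ℕ → Prop)
    (hQ : ∀ g, Q g ↔ (∀ x ∈ elDivM (g : Matrix (Fin m ⊕ Fin m) (Fin m ⊕ Fin m) F), x.1 = X - 1) ∧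
      P ((elDivM (g : Matrix (Fin m ⊕ Fin m) (Fin m ⊕ Fin m) F)).map Prod.snd)) :
    Nat.card {C : ConjClasses (Matrix.symplecticGroup (Fin m) F) //
      ∃ g, ConjClasses.mk g = C ∧ Q g} =
      ∑ μ ∈ Finset.univ.filter (fun μ : Nat.Partition (2 * m) =>
        P μ.parts ∧ ∀ j, Odd j → Even (μ.parts.count j)),
        2 ^ (μ.parts.toFinset.filter fun j => Even j).card := by
  have hB := hform_of_isAlt (sympBilin_nondegenerate (F := F) m) (sympBilin_isAlt m)
  have hs : ∀ j, (-1 : F) * (-1) ^ j = 1 ↔ Even (j + 1) := fun j => by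
    rw [← pow_succ']
    exact ⟨even_of_neg_one_pow h2, Even.neg_one_pow⟩
  let ρ : Matrix.symplecticGroup (Fin m) F → End F (Fin m ⊕ Fin m → F) := fun g =>
    Matrix.toLin' (g : Matrix (Fin m ⊕ Fin m) (Fin m ⊕ Fin m) F)
  have hρ : ∀ g u v, sympBilin m F (ρ g u) (ρ g v) = sympBilin m F u v := sympBilin_mulVec
  rw [card_classes_of_complete_inv Q (fun g => ((elDiv (ρ g)).map Prod.snd,
    ((elDiv (ρ g)).map Prod.snd).toFinset.filter fun e =>
      Even e ∧ ¬ LaySq (sympBilin m F) (ρ g - (1 : F) • 1) (e - 1)))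
    (fun t => (∃ μ : Nat.Partition (2 * m), μ.parts = t.1 ∧ P μ.parts ∧
      ∀ j, Odd j → Even (μ.parts.count j)) ∧ t.2 ⊆ t.1.toFinset.filter fun j => Even j)]
  · rw [Nat.card_congr (β := Σ μ : Finset.univ.filter (fun μ : Nat.Partition (2 * m) =>
        P μ.parts ∧ ∀ j, Odd j → Even (μ.parts.count j)),
        (μ.1.parts.toFinset.filter fun j => Even j).powerset) (Equiv.ofBijective
        (fun x => ⟨(x.1.1.parts, x.2.1), ⟨x.1.1, rfl, (Finset.mem_filter.mp x.1.2).2⟩,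
          Finset.mem_powerset.mp x.2.2⟩) ⟨?_, ?_⟩).symm, Nat.card_sigma, ← Finset.sum_coe_sort (Finset.univ.filter _)]
    · exact Finset.sum_congr rfl fun μ _ => by
        rw [Nat.card_eq_fintype_card, Fintype.card_coe, Finset.card_powerset]
    · rintro ⟨⟨μ, hμ⟩, S, hS⟩ ⟨⟨μ', hμ'⟩, S', hS'⟩ h
      obtain ⟨h3, h4⟩ := Prod.mk.inj (Subtype.mk.inj h)
      obtain rfl := Nat.Partition.ext h3
      obtain rfl : S = S' := h4
      rfl
    · rintro ⟨⟨t, S⟩, ⟨μ, h, hμ⟩, hS⟩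
      obtain rfl : μ.parts = t := h
      exact ⟨⟨⟨μ, by simpa using hμ⟩, S, Finset.mem_powerset.mpr hS⟩, rfl⟩
  · intro g hg
    obtain ⟨h3, h4⟩ := (hQ g).mp hg
    obtain ⟨h5, -, h6⟩ := exists_Sp_elDivM_iff.mp ⟨g, rfl⟩
    refine ⟨⟨(unipotentTypeEquiv _ P ⟨_, h5, h3, h4⟩).1, rfl, h4, fun j hj => ?_⟩,
      Finset.monotone_filter_right _ fun _ _ h => h.1⟩
    have := h6 1 (one_mul 1) j hj
    rwa [eq_map_of_unipotent h3, count_map_unipotent, if_pos rfl] at this
  · intro g g' hg hg'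
    obtain ⟨h3, -⟩ := (hQ g).mp hg
    obtain ⟨h4, -⟩ := (hQ g').mp hg'
    refine ⟨fun h => ?_, fun h => ?_⟩
    · obtain ⟨y, hy, hy'⟩ := Sp_isConj_iff_exists.mp h
      have h5 : elDiv (ρ g) = elDiv (ρ g') := Sim.elDiv_eq ⟨y, hy'⟩
      simp only [h5, laySq_iff_of_isometry (g := ρ g) hB (hρ g') (one_mul 1) y hy hy']
    · obtain ⟨h5, h6⟩ := Prod.mk.inj h
      have h7 : elDiv (ρ g) = elDiv (ρ g') :=
        (eq_map_of_unipotent h3).trans ((congrArg _ h5).trans (eq_map_of_unipotent h4).symm)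
      refine Sp_isConj_iff_exists.mpr (exists_isometry_of_laySq h2 (by simp) hB (hρ g) hB (hρ g') h7
        none (by simp) fun l j _ hj _ => ?_)
      by_cases h8 : (elDiv (ρ g)).count (X - C l, j + 1) = 0
      · exact iff_of_true (laySq_of_count_eq_zero _ h8) (laySq_of_count_eq_zero _ (h7 ▸ h8))
      rw [show elDiv (ρ g) = _ from eq_map_of_unipotent h3, count_map_unipotent] at h8
      obtain ⟨rfl, h9⟩ : l = 1 ∧ j + 1 ∈ (elDiv (ρ g)).map Prod.snd := by
        split_ifs at h8 with h9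
        exacts [⟨h9, Multiset.count_ne_zero.mp h8⟩, absurd rfl h8]
      have := Finset.ext_iff.mp h6 (j + 1)
      simpa only [Finset.mem_filter, Multiset.mem_toFinset, ← h7, h9, (hs j).mp hj, true_and,
        Nat.add_sub_cancel, not_iff_not] using this
  · rintro ⟨_, S⟩ ⟨⟨μ, rfl, h3, h4⟩, hS⟩
    obtain ⟨g, hg⟩ := exists_Sp_elDivM_iff.mpr ⟨((unipotentTypeEquiv (K := F) _ P).symm ⟨μ, h3⟩).2.1,
      by
        change (μ.parts.map fun i => ((X - 1 : F[X]), i)).map _ = μ.parts.map _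
        rw [Multiset.map_map]
        exact Multiset.map_congr rfl fun _ _ => Prod.ext dualPoly_X_sub_one rfl, fun l _ e he => by
        change Even ((μ.parts.map fun i => ((X - C 1 : F[X]), i)).count _)
        rw [count_map_unipotent]
        split_ifs
        exacts [h4 e he, Even.zero]⟩
    have hg : elDiv (ρ g) = μ.parts.map fun i => ((X - C 1 : F[X]), i) := hg
    obtain ⟨n, hn⟩ : IsNilpotent (ρ g - (1 : F) • 1) := by
      refine ⟨2 * m, ?_⟩
      rw [← aeval_X_sub_C_End, ← map_pow, aeval_pow_eq_zero_iff (monic_X_sub_C _)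
        (irreducible_X_sub_C _), hg]
      intro x hx
      obtain ⟨i, hi, rfl⟩ := Multiset.mem_map.mp hx
      exact ⟨rfl, μ.parts_sum ▸ Multiset.single_le_sum (by simp) _ hi⟩
    obtain ⟨C, h5, h6⟩ := WallData.exists_laySq h2 ⟨hB, hρ g, one_mul 1, rfl⟩ hn (· + 1 ∈ S)
      fun j hj => by
        obtain ⟨h5, h6⟩ := Finset.mem_filter.mp (hS hj)
        refine ⟨(hs j).mpr h6, ?_⟩
        rw [finrank_lay_eq_count, hg, count_map_unipotent, if_pos rfl]
        simpa using h5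
    obtain ⟨e, he⟩ := exists_equiv_of_isAlt h5.hf.nondegenerate (h5.hf.isAlt_of_neg h2)
      (sympBilin_nondegenerate m) (sympBilin_isAlt m) rfl
    obtain ⟨g', hg'⟩ := exists_Sp_of_isometry (z := e.conj (ρ g)) fun u v => by
      simp only [LinearEquiv.conj_apply_apply, he, h5.hg]
      rw [← he, e.apply_symm_apply, e.apply_symm_apply]
    have h7 : ∀ v, e (ρ g v) = ρ g' (e v) := fun v => by simp [ρ, hg']
    have h8 : elDiv (ρ g') = _ := (Sim.elDiv_eq ⟨e, h7⟩).symm.trans hg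
    have h9 : (elDiv (ρ g')).map Prod.snd = μ.parts := by simp [h8]
    refine ⟨g', (hQ g').mpr ⟨fun x hx => ?_, h9.symm ▸ h3⟩, Prod.ext h9 (Finset.ext fun i => ?_)⟩
    · obtain ⟨i, -, rfl⟩ := Multiset.mem_map.mp (Multiset.mem_of_le h8.le hx)
      rfl
    simp only [h9, Finset.mem_filter, Multiset.mem_toFinset,
      ← laySq_iff_of_isometry hB (hρ g') (one_mul 1) e he h7]
    refine ⟨fun ⟨h10, h11, h12⟩ => ?_, fun h10 => ?_⟩
    · obtain ⟨j, rfl⟩ := Nat.exists_eq_succ_of_ne_zero (μ.parts_pos h10).ne'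
      exact not_not.mp (mt (h6 j ((hs j).mpr h11)).mpr h12)
    · obtain ⟨h11, h12⟩ := Finset.mem_filter.mp (hS h10)
      rw [Multiset.mem_toFinset] at h11
      obtain ⟨j, rfl⟩ := Nat.exists_eq_succ_of_ne_zero (μ.parts_pos h11).ne'
      exact ⟨h11, h12, fun h13 => (h6 j ((hs j).mpr h12)).mp h13 h10⟩

end Cfsg.Lib.Known
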