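import Mathlib
import Cfsg.Agent.Known.ElusX5
import Cfsg.Agent.Known.SpUnip
import Cfsg.Agent.Class.PGL2Borel
import Cfsg.Agent.Class.Asch.Subfield

/-!
Elements of prime order of `PSL_n(q)` and the subfield subgroups.
-/

set_option autoImplicit false
set_option linter.unusedSectionVars false

open Polynomial Module Matrix Cfsg.Lib.Class Cfsg.Lib.Class.Asch Cfsg.Lib.Class.Form
open scoped MatrixGroups

universe u

namespace Cfsg.Lib.Known

section Map

variable {K : Type u} [Field K] {L : Type*} [Field L] {ι : Type} [Fintype ι] [DecidableEq ι]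

theorem IsConj.matrix_map (f : K →+* L) {A B : Matrix ι ι K} (h : IsConj A B) :
    IsConj (A.map f) (B.map f) := f.mapMatrix.toMonoidHom.map_isConj h

theorem jordanTypeMatrix_map (f : K →+* L) {t : ℕ} (d : Fin t → ℕ) :
    (jordanTypeMatrix d K).map f = jordanTypeMatrix d L := by
  rw [jordanTypeMatrix, jordanTypeMatrix, Matrix.blockDiagonal'_map _ _ (map_zero f)]
  refine congrArg _ (funext fun k => Matrix.ext fun i j => ?_)
  simp [jordanBlock, apply_ite f]

theorem elDivM_map_unip (f : K →+* L) {A : Matrix ι ι K} (h : ∀ b ∈ elDivM A, b.1 = X - 1) :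
    elDivM (A.map f) = (elDivM A).map fun b => ((X - 1 : L[X]), b.2) := by
  obtain ⟨t, d, hd, h1, h2⟩ := exists_jordanType ((isNilpotent_sub_one_iff A).mpr h)
  let e : ι ≃ (k : Fin t) × Fin (d k) := Fintype.equivOfCardEq (by simp [h1])
  have h3 : IsConj A ((jordanTypeMatrix d K).submatrix e e) := by
    rw [isConj_iff_elDivM, elDivM_submatrix, h2]
  rw [isConj_iff_elDivM.mp (IsConj.matrix_map f h3), ← Matrix.submatrix_map, elDivM_submatrix,
    jordanTypeMatrix_map, h2, elDivM_jordanTypeMatrix hd, elDivM_jordanTypeMatrix hd,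
    Multiset.map_map]
  rfl

theorem isConj_of_map_unip (f : K →+* L) {A B : Matrix ι ι K} (hA : IsNilpotent (A - 1))
    (hB : IsNilpotent (B - 1)) (h : IsConj (A.map f) (B.map f)) : IsConj A B := by
  rw [isNilpotent_sub_one_iff] at hA hB
  rw [isConj_iff_elDivM, elDivM_map_unip f hA, elDivM_map_unip f hB] at h
  have h1 := congrArg (Multiset.map Prod.snd) h
  rw [Multiset.map_map, Multiset.map_map] at h1
  rw [isConj_iff_elDivM, eq_map_of_unipotent hA, eq_map_of_unipotent hB]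
  exact congrArg _ h1

theorem exists_map_unip (f : K →+* L) {A : Matrix ι ι L} (h : ∀ b ∈ elDivM A, b.1 = X - 1) :
    ∃ a : GL ι K, IsConj A ((a : Matrix ι ι K).map f) := by
  obtain ⟨a, ha⟩ := exists_GL_elDivM_eq (n := ι)
    (s := (elDivM A).map fun b => ((X - 1 : K[X]), b.2)) (fun x hx => by
      obtain ⟨b, hb, rfl⟩ := Multiset.mem_map.mp hx
      exact ⟨monic_X_sub_one, irreducible_X_sub_one, (isElDivs_elDivM A b hb).2.2⟩)
    (by
      rw [← elDeg_elDivM A, elDeg, elDeg, Multiset.map_map]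
      refine congrArg _ (Multiset.map_congr rfl fun b hb => ?_)
      simp [h b hb, natDegree_X_sub_one])
    fun x hx => by
      obtain ⟨b, -, rfl⟩ := Multiset.mem_map.mp hx
      exact X_sub_one_ne_X
  refine ⟨a, ?_⟩
  rw [isConj_iff_elDivM, elDivM_map_unip f fun x hx => by
    rw [ha] at hx
    obtain ⟨b, -, rfl⟩ := Multiset.mem_map.mp hx
    rfl, ha, Multiset.map_map]
  conv_lhs => rw [← Multiset.map_id (elDivM A)]
  exact Multiset.map_congr rfl fun b hb => Prod.ext (h b hb) rfl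

theorem exists_map_of_charpoly (f : K →+* L) {A : Matrix ι ι L} {r : ℕ} (hr : (r : L) ≠ 0)
    (h : A ^ r = 1) {g : K[X]} (hg : g.Monic) (hA : g.map f = A.charpoly) :
    ∃ a : GL ι K, IsConj A ((a : Matrix ι ι K).map f) := by
  have hr0 : r ≠ 0 := fun e => hr (by simp [e])
  have h1 : g ∣ (X ^ r - 1) ^ (elDivM A).card := by
    rw [← map_dvd_map' f, hA, charpoly_eq_elProdM, elProd, Polynomial.map_pow,
      ← Multiset.prod_replicate, ← Multiset.map_const']
    refine Multiset.prod_dvd_prod_of_dvd _ _ fun x hx => ?_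
    simpa using (aeval_eq_zero_iff_elDivM A (X ^ r - 1)).mp (by simp [h]) x hx
  have h2 : ∀ x ∈ ssType g, x.1 ^ x.2 ∣ X ^ r - 1 := fun x hx => by
    have h3 : x.1 ^ x.2 ∣ g := by
      rw [← elProd_ssType hg]
      exact Multiset.dvd_prod (Multiset.mem_map_of_mem _ hx)
    rw [ssType_snd g x hx, pow_one] at h3 ⊢
    exact (isElDivs_ssType g x hx).2.1.prime.dvd_of_dvd_pow (h3.trans h1)
  obtain ⟨a, ha⟩ := exists_elDivM_eq (n := ι) (isElDivs_ssType g) (by
    rw [← (isElDivs_ssType g).natDegree_elProd, elProd_ssType hg, ← hg.natDegree_map f, hA,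
      Matrix.charpoly_natDegree_eq_dim])
  have h3 : a ^ r = 1 := by
    have := (aeval_eq_zero_iff_elDivM a (X ^ r - 1)).mpr (ha ▸ h2)
    rwa [map_sub, map_pow, aeval_X, map_one, sub_eq_zero] at this
  obtain ⟨a, rfl⟩ := IsUnit.of_pow_eq_one h3 hr0
  refine ⟨a, isConj_of_charpoly_eq (elDivM_snd_eq_one_of_pow_eq_one hr h)
    (elDivM_snd_eq_one_of_pow_eq_one hr ?_) ?_⟩
  · rw [← f.mapMatrix_apply, ← map_pow, h3, map_one]
  · rw [Matrix.charpoly_map, charpoly_eq_elProdM (a : Matrix ι ι K), ha, elProd_ssType hg, hA]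

theorem exists_sq_eq_det_of_comm {κ : Type} [Fintype κ] [DecidableEq κ] (e : ι ≃ κ ⊕ κ)
    {T : Matrix ι ι K}
    (h : Commute T ((Matrix.fromBlocks 1 1 0 1 : Matrix (κ ⊕ κ) (κ ⊕ κ) K).submatrix e e)) :
    ∃ b : K, b ^ 2 = T.det := by
  have h1 := congrArg (Matrix.submatrix · e.symm e.symm) h.eq
  simp only [Matrix.submatrix_mul _ _ _ e.symm _ e.symm.bijective, Matrix.submatrix_submatrix,
    Equiv.self_comp_symm, Matrix.submatrix_id_id] at h1
  rw [← Matrix.det_submatrix_equiv_self e.symm, ← Matrix.fromBlocks_toBlocks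
    (T.submatrix e.symm e.symm)] at *
  simp only [Matrix.fromBlocks_multiply, Matrix.fromBlocks_inj, mul_one, one_mul, mul_zero,
    zero_mul, add_zero, zero_add] at h1
  obtain ⟨h2, h3, -⟩ := h1
  rw [show (T.submatrix e.symm e.symm).toBlocks₂₁ = 0 by simpa using h2,
    show (T.submatrix e.symm e.symm).toBlocks₁₁ = (T.submatrix e.symm e.symm).toBlocks₂₂ from
      add_left_cancel ((add_comm _ _).trans h3), Matrix.det_fromBlocks_zero₂₁]
  exact ⟨_, sq _⟩

end Map

variable {F : Type u} [Field F] {ι : Type} [Fintype ι] [DecidableEq ι] [Fintype F]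
  (p : ℕ) [Fact p.Prime] [CharP F p] {r : ℕ} [Fact r.Prime]

theorem card_SL_eq_range [Nonempty ι] : Nat.card (Matrix.SpecialLinearGroup ι F) =
    Fintype.card F ^ (Fintype.card ι * (Fintype.card ι - 1) / 2) *
      ∏ j ∈ Finset.range (Fintype.card ι - 1), (Fintype.card F ^ (j + 2) - 1) := by
  have h1 := (Matrix.GeneralLinearGroup.det : GL ι F →* Fˣ).ker.index_mul_card
  have hq := Fintype.one_lt_card (α := F)
  rw [Subgroup.index_ker, MonoidHom.range_eq_top.mpr Matrix.GeneralLinearGroup.det_surjective,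
    Subgroup.card_top, card_units_eq, ker_det_eq_range_toGL, ← Nat.card_congr
      (MonoidHom.ofInjective Matrix.SpecialLinearGroup.toGL_injective).toEquiv, card_GL_eq_range,
    ← Nat.sub_add_cancel (Fintype.card_pos (α := ι)), Finset.prod_range_succ',
    Nat.sub_add_cancel Fintype.card_pos, zero_add, pow_one, ← mul_assoc, mul_comm] at h1
  exact Nat.eq_of_mul_eq_mul_right (by omega) h1

variable {F₀ : Subfield F} {k : ℕ}

/-- The subfield subgroup in the standard basis. -/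
abbrev subGL (ι : Type) [Fintype ι] [DecidableEq ι] (F₀ : Subfield F) : Subgroup (GL ι F) :=
  Geo.subfieldSubgroup F₀ 1

theorem mem_subGL {g : GL ι F} : g ∈ subGL ι F₀ ↔ ∃ (a : GL ι F₀) (c : Fˣ),
    (g : Matrix ι ι F) = (c : F) • (a : Matrix ι ι F₀).map F₀.subtype := by
  simp only [mem_subfieldSubgroup_iff, cj_one]
  rfl

theorem scalarGL_mem_subGL (c : Fˣ) : scalarGL ι c ∈ subGL ι F₀ :=
  mem_subGL.mpr ⟨1, c, by simp [coe_scalarGL]⟩

theorem map_mem_subGL (a : GL ι F₀) : Matrix.GeneralLinearGroup.map F₀.subtype a ∈ subGL ι F₀ :=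
  mem_subGL.mpr ⟨a, 1, by simp⟩

theorem exists_subGL_unip {A : Matrix ι ι F} (h : ∀ b ∈ elDivM A, b.1 = X - 1) :
    ∃ y ∈ subGL ι F₀, IsConj A (y : Matrix ι ι F) :=
  (exists_map_unip F₀.subtype h).elim fun a ha => ⟨_, map_mem_subGL a, ha⟩

include p in
theorem exists_card_subfield (F₀ : Subfield F) : ∃ (m : ℕ) (φ : F →+* F),
    Nat.card F₀ = p ^ m ∧ ∀ x, φ x = x ^ p ^ m := by
  have := Fintype.ofFinite F₀
  obtain ⟨m, -, hm⟩ := FiniteField.card F₀ p
  exact ⟨m, iterateFrobenius F p m, by rw [Nat.card_eq_fintype_card, hm], fun _ => rfl⟩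

include p in
theorem exists_subGL_ss (hrp : r ≠ p) {A : Matrix ι ι F} (h : A ^ r = 1)
    (hA : (evM A).map (· ^ Nat.card F₀) = evM A) :
    ∃ y ∈ subGL ι F₀, IsConj A (y : Matrix ι ι F) := by
  obtain ⟨m, φ, hm, hφ⟩ := exists_card_subfield p F₀
  have h1 : A.charpoly.map φ = A.charpoly := eq_of_rts_eq (A.charpoly_monic.map φ) A.charpoly_monic
    (by rw [evM_map p φ hφ, ← hm, hA, evM])
  obtain ⟨g, hg, -, hg'⟩ := lifts_and_natDegree_eq_and_monic (f := F₀.subtype)
    ((lifts_iff_coeff_lifts _).mpr fun i => ⟨⟨A.charpoly.coeff i,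
      (mem_subfield_iff_pow F₀ _).mpr (by rw [hm, ← hφ, ← coeff_map, h1])⟩, rfl⟩) A.charpoly_monic
  obtain ⟨a, ha⟩ := exists_map_of_charpoly F₀.subtype (fun e => hrp
    ((Nat.prime_dvd_prime_iff_eq Fact.out Fact.out).mp ((CharP.cast_eq_zero_iff F p r).mp e)).symm)
    h hg' hg
  exact ⟨_, map_mem_subGL a, ha⟩

include p in
theorem exists_subGL_of_modEq (hrp : r ≠ p) {A : Matrix ι ι F} (h : A ^ r = 1)
    (hq : (Fintype.card F : ZMod r) = Nat.card F₀) :
    ∃ y ∈ subGL ι F₀, IsConj A (y : Matrix ι ι F) := by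
  refine exists_subGL_ss p hrp h ((Multiset.map_congr rfl fun θ hθ => ?_).trans (evM_frob p A))
  have h1 : θ ^ r = 1 := by simpa using pow_of_mem_evM (z := 1) (by simpa using h) hθ
  exact pow_eq_pow_of_modEq ((ZMod.natCast_eq_natCast_iff _ _ _).mp hq).symm h1

include p in
theorem tw_of_mem_subGL {y : GL ι F} (hy : y ∈ subGL ι F₀) :
    Tw (Nat.card F₀) (y : Matrix ι ι F) := by
  obtain ⟨a, c, h⟩ := mem_subGL.mp hy
  obtain ⟨m, φ, hm, hφ⟩ := exists_card_subfield p F₀
  have h1 := evM_map p φ hφ ((a : Matrix ι ι F₀).map F₀.subtype)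
  rw [Matrix.charpoly_map, Polynomial.map_map, show φ.comp F₀.subtype = F₀.subtype from
    RingHom.ext fun x => by simpa [hφ, ← hm] using (mem_subfield_iff_pow F₀ x).mp x.2,
    ← Matrix.charpoly_map, ← evM, ← hm] at h1
  refine ⟨c / c ^ Nat.card F₀, ?_⟩
  rw [h, evM_smul _ c.ne_zero, Multiset.map_map]
  conv_rhs => rw [h1, Multiset.map_map]
  refine Multiset.map_congr rfl fun θ _ => ?_
  have : algebraMap F (Ec F) c ≠ 0 := by simp
  simp only [Function.comp_apply, map_div₀, map_pow, mul_pow]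
  field_simp

include p in
theorem exists_of_dvd_index_subGL [Nonempty ι] (hq : Fintype.card F = Nat.card F₀ ^ k)
    (hk : k.Prime) (hrp : r ≠ p) (hrk : r ≠ k)
    (hΩ : r ∣ (subGL ι F₀).relIndex (Geo.specialLinear ι F)) :
    ∃ j, j + 2 ≤ Fintype.card ι ∧ (Fintype.card F : ZMod r) ^ (j + 2) = 1 ∧
      (Nat.card F₀ : ZMod r) ^ (j + 2) ≠ 1 := by
  have := Fintype.ofFinite F₀
  have hp : r.Prime := Fact.out
  have hq0 := two_le_card_field F₀
  let f : Matrix.SpecialLinearGroup ι F₀ →* Matrix.SpecialLinearGroup ι F :=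
    Matrix.SpecialLinearGroup.map F₀.subtype
  have hf : Function.Injective f := fun a b h => Subtype.ext
    (Matrix.map_injective F₀.subtype.injective (congrArg Subtype.val h))
  have h1 := f.range.index_mul_card
  rw [← Nat.card_congr (MonoidHom.ofInjective hf).toEquiv, card_SL_eq_range, card_SL_eq_range,
    ← Nat.card_eq_fintype_card (α := F₀), hq] at h1
  have h2 : f.range.index = (Nat.card F₀ ^ (k - 1)) ^ (Fintype.card ι * (Fintype.card ι - 1) / 2) *
      ∏ j ∈ Finset.range (Fintype.card ι - 1), ∑ i ∈ Finset.range k, (Nat.card F₀ ^ (j + 2)) ^ i := by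
    refine Nat.eq_of_mul_eq_mul_right (Nat.pos_of_ne_zero (mul_ne_zero (by positivity)
      (prod_pow_sub_one_ne_zero hq0 _ (· + 2) (by omega)))) (h1.trans ?_)
    rw [mul_mul_mul_comm, ← mul_pow, ← pow_succ, Nat.sub_add_cancel hk.one_le,
      ← Finset.prod_mul_distrib]
    refine congrArg _ (Finset.prod_congr rfl fun j _ => ?_)
    rw [Nat.geomSum_eq (Nat.one_lt_pow (by omega) hq0), Nat.div_mul_cancel
      (Nat.sub_one_dvd_pow_sub_one _ _), ← pow_mul, ← pow_mul, mul_comm]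
  rw [← index_comap_toGL] at hΩ
  have h3 := hΩ.trans (Subgroup.index_dvd_of_le (H := f.range) (by
    rintro _ ⟨a, rfl⟩
    exact mem_subGL.mpr ⟨Matrix.SpecialLinearGroup.toGL a, 1, by simp; rfl⟩))
  rw [h2] at h3
  obtain ⟨j, hj, h4⟩ := (Prime.dvd_finsetProd_iff hp.prime _).mp
    ((hp.dvd_mul.mp h3).resolve_left fun e => not_dvd_card (F := F) p hrp 1 (by
      rw [pow_one, hq]
      exact (hp.dvd_of_dvd_pow (hp.dvd_of_dvd_pow e)).trans (dvd_pow_self _ hk.ne_zero)))
  rw [← ZMod.natCast_eq_zero_iff] at h4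
  push_cast at h4
  rw [Finset.mem_range] at hj
  refine ⟨j, by omega, ?_, fun e => hrk ?_⟩
  · have h5 := mul_geom_sum ((Nat.card F₀ : ZMod r) ^ (j + 2)) k
    rw [h4, mul_zero, eq_comm, sub_eq_zero] at h5
    rw [hq, Nat.cast_pow, ← pow_mul, mul_comm, pow_mul, h5]
  · simp only [e, one_pow, Finset.sum_const, Finset.card_range, nsmul_eq_mul, mul_one,
      ZMod.natCast_eq_zero_iff] at h4
    exact (Nat.prime_dvd_prime_iff_eq hp hk).mp h4

theorem exists_sq_eq_of_mem (h2 : (2 : F) ≠ 0) (hq : Fintype.card F = Nat.card F₀ ^ 2) {w : F}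
    (hw : w ∈ F₀) : ∃ b : F, b ^ 2 = w := by
  by_cases h0 : w = 0
  · exact ⟨0, by simp [h0]⟩
  have h3 := two_dvd_card_sub_one h2
  have hq0 := two_le_card_field F₀
  obtain ⟨m, hm⟩ : Odd (Nat.card F₀) := by
    rw [← Nat.odd_pow_iff two_ne_zero, ← hq, Nat.odd_iff]
    have := Fintype.one_lt_card (α := F)
    omega
  have h4 : w ^ (2 * m) = 1 := mul_right_cancel₀ h0 (by
    rw [← pow_succ, ← hm, one_mul, (mem_subfield_iff_pow F₀ w).mp hw])
  exact isSquare_of_pow_eq_one h2 (m := 2 * m * (m + 1))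
    (by rw [hq, hm]; exact Nat.sub_eq_of_eq_add (by ring)) (by rw [pow_mul, h4, one_pow])

include p in
theorem allC_two_subGL [Nonempty ι] (hq : Fintype.card F = Nat.card F₀ ^ k) (hk : k.Prime)
    (hΩ : 2 ∣ (subGL ι F₀).relIndex (Geo.specialLinear ι F)) : AllC 2 (subGL ι F₀) ↔
      (Odd (Fintype.card F) → k = 2 ∧
        padicValNat 2 (Fintype.card ι) ≤ padicValNat 2 (Fintype.card F - 1)) := by
  by_cases hp2 : 2 = p
  · subst hp2
    refine iff_of_true (allC_two_of_char_two scalarGL_mem_subGL fun y hy _ =>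
      exists_subGL_unip fun b hb => (hy b hb).1) fun h => ?_
    obtain ⟨n, -, hn⟩ := FiniteField.card F 2
    rw [hn, Nat.odd_pow_iff n.ne_zero] at h
    exact absurd h (by decide)
  have h2 := two_ne_zero_of_ne_char (F := F) p hp2
  have h3 := two_dvd_card_sub_one h2
  have h1 := Fintype.one_lt_card (α := F)
  have ho : Odd (Fintype.card F) := by rw [Nat.odd_iff]; omega
  have ho' : Odd (Nat.card F₀) := by rwa [hq, Nat.odd_pow_iff hk.ne_zero] at ho
  obtain rfl : 2 = k := by_contra fun e => by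
    obtain ⟨j, -, -, h⟩ := exists_of_dvd_index_subGL p hq hk hp2 e hΩ
    exact h (by rw [ZMod.natCast_eq_one_iff_odd.mpr ho', one_pow])
  rw [imp_iff_right ho, and_iff_right rfl]
  refine ⟨fun hC => by_contra fun hv => ?_, fun hv => ?_⟩
  · obtain ⟨y, c, h5, h6, h7, h8⟩ := exists_GL_not_split (F := F) (ι := ι) (r := 2)
      (orderOf_card_eq_one_iff.mpr h3) fun e => hv e.1
    refine not_allC scalarGL_mem_subGL y (a := 1) (by simp [h5]) one_ne_zero h6 h7 ?_ hC
    intro y' hy' hc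
    obtain ⟨a, l, hy'⟩ := mem_subGL.mp hy'
    have h9 := pow_of_isConj hc h6
    obtain ⟨i⟩ := ‹Nonempty ι›
    rw [hy', _root_.smul_pow, ← F₀.subtype.mapMatrix_apply, ← map_pow] at h9
    obtain ⟨b, hb⟩ := exists_sq_eq_of_mem h2 hq (((a : Matrix ι ι F₀) ^ 2) i i).2
    exact h8 (l * b) (by simpa [mul_pow, hb] using congrFun (congrFun h9 i) i)
  · refine allC_of_ss p hp2 scalarGL_mem_subGL (fun y a _ hy _ => exists_subGL_of_modEq p hp2 hy
      (by rw [ZMod.natCast_eq_one_iff_odd.mpr ho', ZMod.natCast_eq_one_iff_odd.mpr ho]))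
      fun z j hz hb hj h5 => ?_
    obtain ⟨m, hm⟩ := ho'
    exact absurd ⟨hj ▸ hv, fun _ _ => by
      rw [hq, hm, show (2 * m + 1) ^ 2 = 1 + 4 * (m ^ 2 + m) by ring, Nat.add_mul_mod_self_left]⟩
      (not_splitCond_of_not_pow p hp2 hz hb (by rintro rfl; simp at hj) h5).2

include p in
theorem allC_odd_subGL (hq : Fintype.card F = Nat.card F₀ ^ k) (hk : k.Prime)
    (hn : 2 ≤ Fintype.card ι) (hr2 : r ≠ 2) (hrp : r ≠ p) (h63 : ¬ (Fintype.card ι = 6 ∧ r = 3))
    (hgap : r = k → r ∣ Nat.card F₀ - 1 →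
      padicValNat r (Fintype.card ι) ≤ padicValNat r (Fintype.card F - 1))
    (hΩ : r ∣ (subGL ι F₀).relIndex (Geo.specialLinear ι F)) : AllC r (subGL ι F₀) ↔
      (r = k ∨ (k = 2 ∧ r = Fintype.card ι ∧ (Fintype.card ι = 3 ∨ Fintype.card ι = 5) ∧
        padicValNat r (Nat.card F₀ + 1) = 1)) := by
  have : Nonempty ι := Fintype.card_pos_iff.mp (by omega)
  have hp : r.Prime := Fact.out
  have hq0 := two_le_card_field F₀
  have hv : k = 2 → r ∣ Nat.card F₀ + 1 →
      padicValNat r (Fintype.card F - 1) = padicValNat r (Nat.card F₀ + 1) := fun e h => by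
    rw [hq, e, show Nat.card F₀ ^ 2 - 1 = _ from Nat.sq_sub_sq _ 1,
      padicValNat.mul (by omega) (by omega), padicValNat.eq_zero_of_not_dvd (n := _ - 1), add_zero]
    intro h'
    have := Nat.dvd_sub h h'
    rw [show Nat.card F₀ + 1 - (Nat.card F₀ - 1) = 2 by omega] at this
    exact hr2 ((Nat.prime_dvd_prime_iff_eq hp Nat.prime_two).mp this)
  refine ⟨fun hC => by_contra fun hex => ?_, ?_⟩
  · rw [not_or] at hex
    obtain ⟨j, hj, h1, h2⟩ := exists_of_dvd_index_subGL p hq hk hrp hex.1 hΩ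
    obtain ⟨y, a, ha, h3, h4, h5, h6⟩ := exists_not_tw (F := F) (ι := ι) p hrp hr2
      (s := Nat.card F₀) (fun e => not_dvd_card (F := F) p hrp 1 (by
        rw [pow_one, hq]; exact e.trans (dvd_pow_self _ hk.ne_zero)))
      (fun i e => h2 (by rw [← e, ← pow_mul, mul_comm, pow_mul, h1, one_pow]))
      ((orderOf_le_of_pow_eq_one (by omega) h1).trans hj) hn
      (fun e _ => by rwa [show j = 0 by omega] at h2) h63 fun ⟨e1, e2, e3⟩ => hex.2 (by
        have h7 : (Nat.card F₀ : ZMod r) ^ k = 1 := by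
          rw [← Nat.cast_pow, ← hq, ← pow_one (Fintype.card F : ZMod r)]
          exact zmod_pow_eq_one_of_dvd Fintype.card_pos
            (by simpa using dvd_of_one_le_padicValNat e3.ge)
        have h8 : (Nat.card F₀ : ZMod r) ≠ 1 := fun e => h2 (by rw [e, one_pow])
        have := Fact.mk hk
        have h9 := orderOf_eq_prime h7 h8 ▸ orderOf_dvd_of_pow_eq_one (ZMod.pow_card_sub_one_eq_one
          (a := (Nat.card F₀ : ZMod r)) fun e => by simp [e, hk.ne_zero] at h7)
        have h10 : k = 2 := (Nat.prime_dvd_prime_iff_eq hk Nat.prime_two).mp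
          (hk.dvd_of_dvd_pow (n := 2) (h9.trans (by rcases e1 with rfl | rfl <;> decide)))
        refine ⟨h10, e2.symm, by omega, (hv h10 ?_).symm.trans e3⟩
        rw [h10, sq_eq_one_iff] at h7
        rw [← ZMod.natCast_eq_zero_iff, Nat.cast_succ, h7.resolve_left h8, neg_add_cancel])
    exact not_allC scalarGL_mem_subGL y h3 ha (z := 1) (by simpa using h4) h5
      (fun y' hy' hc => h6 (Tw.of_isConj hc (tw_of_mem_subGL p hy'))) hC
  rintro (rfl | ⟨rfl, h1, h2, h3⟩)
  · have h1 : (Fintype.card F : ZMod r) = Nat.card F₀ := by rw [hq, Nat.cast_pow, ZMod.pow_card]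
    refine allC_of_ss p hrp scalarGL_mem_subGL
      (fun y a _ hy _ => exists_subGL_of_modEq p hrp hy h1) fun z j hz hb hj h5 => ?_
    obtain ⟨h6, h7⟩ := not_splitCond_of_not_pow p hrp hz hb (by rintro rfl; omega) h5
    refine absurd ⟨hj ▸ hgap rfl ?_, fun e => absurd e hr2⟩ h7
    rw [← ZMod.natCast_eq_zero_iff, Nat.cast_sub (by omega), ← h1, orderOf_eq_one_iff.mp h6]
    simp
  · have h4 := dvd_of_one_le_padicValNat h3.ge
    refine allC_of_exc p hrp (by omega) h1.symm ((hv rfl h4).trans h3) scalarGL_mem_subGL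
      fun y Λ hΛ h5 h6 => exists_subGL_ss p hrp
        (by simpa using (pow_eq_iff_of_dT hΛ r 1).mpr h5) ?_
    rw [evM_of_dT hΛ, Multiset.map_map]
    conv_rhs => rw [← h6, Multiset.map_map]
    refine Multiset.map_congr rfl fun θ hθ => ?_
    obtain ⟨t, ht⟩ := h4
    simp only [Function.comp_apply, ← map_pow]
    refine congrArg _ (eq_inv_of_mul_eq_one_left ?_)
    rw [← pow_succ, ht, pow_mul, h5 θ hθ, one_pow]

theorem allC_three_subGL [CharP F 3] (hq : Fintype.card F = Nat.card F₀ ^ k) (hk : k.Prime)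
    (hn : 2 ≤ Fintype.card ι) : AllC 3 (subGL ι F₀) ↔
      (Odd (Fintype.card ι) ∨ (Even (Fintype.card ι) ∧ 2 < k)) := by
  classical
  have : Nonempty ι := Fintype.card_pos_iff.mp (by omega)
  have h2 := two_ne_zero_of_ne_char (F := F) 3 (by decide)
  have h3 := two_dvd_card_sub_one h2
  have h1 := Fintype.one_lt_card (α := F)
  refine ⟨fun hC => by_contra fun hex => ?_, fun h => ?_⟩
  · obtain ⟨m, hm⟩ : Even (Fintype.card ι) := Nat.not_odd_iff_even.mp fun e => hex (Or.inl e)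
    obtain rfl : k = 2 := le_antisymm (le_of_not_gt fun e => hex (Or.inr ⟨⟨m, hm⟩, e⟩)) hk.two_le
    let e : ι ≃ Fin m ⊕ Fin m := Fintype.equivOfCardEq (by simp [hm])
    have hJ : ∀ (K : Type u) [Field K], ((Matrix.fromBlocks 1 1 0 1 :
        Matrix (Fin m ⊕ Fin m) (Fin m ⊕ Fin m) K).submatrix e e - 1) ^ 2 = 0 := fun K _ => by
      rw [show (Matrix.fromBlocks 1 1 0 1 : Matrix (Fin m ⊕ Fin m) (Fin m ⊕ Fin m) K).submatrix e e
        - 1 = (Matrix.fromBlocks 0 1 0 0 : Matrix (Fin m ⊕ Fin m) (Fin m ⊕ Fin m) K).submatrix e e by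
          rw [← Matrix.submatrix_one_equiv e, ← Matrix.fromBlocks_one]
          ext i j
          simp only [Matrix.sub_apply, Matrix.submatrix_apply]
          rcases e i with a | a <;> rcases e j with b | b <;> simp,
        sq, Matrix.submatrix_mul_equiv, Matrix.fromBlocks_multiply]
      simp
    obtain ⟨c, hc⟩ := FiniteField.exists_nonsquare (F := F) (by rw [ringChar.eq F 3]; decide)
    obtain ⟨g, hg⟩ := Matrix.GeneralLinearGroup.det_surjective (n := ι)
      (Units.mk0 c fun e => hc (by simp [e]))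
    let J : GL ι F := Matrix.GeneralLinearGroup.mkOfDetNeZero ((Matrix.fromBlocks 1 1 0 1 :
        Matrix (Fin m ⊕ Fin m) (Fin m ⊕ Fin m) F).submatrix e e) (by simp)
    have hJ3 : J ^ 3 = 1 := (GL_pow_char_pow_eq_one_iff 3 J 1).mpr (by
      rw [pow_one, pow_succ, show ((J : Matrix ι ι F) - 1) ^ 2 = 0 from hJ F, zero_mul])
    obtain ⟨P, hP, h4⟩ := hC (g * J * g⁻¹) (by simp [J, Matrix.GeneralLinearGroup.det_ne_zero])
      ⟨1, by rw [← Units.val_pow_eq_pow_val, conj_pow, hJ3]; simp⟩ fun z hz => by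
        have h5 : (J : Matrix ι ι F) = z • 1 := by
          have := congrArg (fun A => ((g⁻¹ : GL ι F) : Matrix ι ι F) * A * g) hz
          simpa [← mul_assoc, mul_assoc _ _ (g : Matrix ι ι F)] using this
        simpa [J] using congrFun (congrFun h5 (e.symm (.inl ⟨0, by omega⟩)))
          (e.symm (.inr ⟨0, by omega⟩))
    obtain ⟨a, l, h4⟩ := mem_subGL.mp h4
    have h5 : IsConj (J : Matrix ι ι F) ((l : F) • (a : Matrix ι ι F₀).map F₀.subtype) :=
      h4 ▸ isConj_of_conj_eq (g := g⁻¹ * P) (by group)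
    have h6 := pow_of_isConj' h5 (k := 3) (by rw [← Units.val_pow_eq_pow_val, hJ3]; rfl)
    have h7 : (l : F) ∈ F₀ := by
      obtain ⟨i⟩ := ‹Nonempty ι›
      rw [_root_.smul_pow, ← F₀.subtype.mapMatrix_apply, ← map_pow] at h6
      have h8 : (l : F) ^ 3 ∈ F₀ := by
        rw [eq_inv_of_mul_eq_one_left (show (l : F) ^ 3 * ((((a : Matrix ι ι F₀) ^ 3) i i : F₀) : F)
          = 1 by simpa using congrFun (congrFun h6 i) i)]
        exact inv_mem (Subtype.mem _)
      rw [mem_subfield_iff_pow] at h8 ⊢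
      exact frobenius_inj F 3 (by rwa [frobenius_def, frobenius_def, ← pow_mul, mul_comm, pow_mul])
    have h8 : (l : F) • (a : Matrix ι ι F₀).map F₀.subtype =
        ((⟨l, h7⟩ : F₀) • (a : Matrix ι ι F₀)).map F₀.subtype := Matrix.ext fun _ _ => rfl
    obtain ⟨h, hh⟩ := isConj_of_map_unip F₀.subtype (A := (Matrix.fromBlocks 1 1 0 1 :
        Matrix (Fin m ⊕ Fin m) (Fin m ⊕ Fin m) F₀).submatrix e e)
      (B := (⟨l, h7⟩ : F₀) • (a : Matrix ι ι F₀)) ⟨2, hJ _⟩ ⟨3, by
        rw [sub_pow_char_of_commute 3 (Commute.one_right _), one_pow, sub_eq_zero]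
        refine Matrix.map_injective F₀.subtype.injective ?_
        rw [h8, ← F₀.subtype.mapMatrix_apply, ← map_pow] at h6
        simpa using h6⟩ (by
      rw [← h8, ← Matrix.submatrix_map, Matrix.fromBlocks_map]
      simpa [J] using h5)
    have h9 : Matrix.GeneralLinearGroup.map F₀.subtype h * J =
        P⁻¹ * (g * J * g⁻¹) * P * Matrix.GeneralLinearGroup.map F₀.subtype h := by
      apply Units.ext
      rw [Units.val_mul, Units.val_mul, h4, h8]
      have := congrArg F₀.subtype.mapMatrix hh.eq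
      rw [map_mul, map_mul] at this
      refine Eq.trans (congrArg _ ?_) this
      simp [J, ← Matrix.submatrix_map, Matrix.fromBlocks_map]
    obtain ⟨b, hb⟩ := exists_sq_eq_det_of_comm e
      (T := ((g⁻¹ * P * Matrix.GeneralLinearGroup.map F₀.subtype h : GL ι F) : Matrix ι ι F))
      (Commute.units_val (u₂ := J) (by
        rw [Commute, SemiconjBy, mul_assoc, h9]
        group))
    obtain ⟨d, hd⟩ := exists_sq_eq_of_mem h2 hq (h : Matrix ι ι F₀).det.2
    refine hc ⟨d / b, ?_⟩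
    have h10 : (g : Matrix ι ι F).det = c := congrArg Units.val hg
    have h11 : ((Matrix.GeneralLinearGroup.map F₀.subtype h : GL ι F) : Matrix ι ι F).det =
        d ^ 2 := hd ▸ (F₀.subtype.map_det _).symm
    have h12 : b ^ 2 * c = d ^ 2 := by
      rw [hb, ← h10, ← h11, mul_comm, ← Matrix.det_mul, ← Units.val_mul, ← mul_assoc,
        mul_inv_cancel_left, Units.val_mul, Matrix.det_mul, hP, one_mul]
    have h13 : b ≠ 0 := fun e => Matrix.GeneralLinearGroup.det_ne_zero _
      (hb.symm.trans (by simp [e]))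
    field_simp
    exact (mul_comm _ _).trans h12
  refine allC_of_unip 3 scalarGL_mem_subGL fun y hy _ => ?_
  obtain ⟨y', hy', hc⟩ := exists_subGL_unip (F₀ := F₀) fun b hb => (hy b hb).1
  by_cases h4 : ∃ b ∈ elDivM (y : Matrix ι ι F), b.2 ≠ 2
  · obtain ⟨b, hb, h4⟩ := h4
    refine exists_SL_conj' hy' hc hb ?_
    have h5 := (hy b hb).2
    have h0 := (isElDivs_elDivM _ b hb).2.2
    obtain h | h : b.2 = 1 ∨ b.2 = 3 := by omega
    · rw [h]; exact fun c => ⟨c, pow_one c⟩
    · rw [h]; exact pow_char_surjective 3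
  push Not at h4
  have h5 : Even (Fintype.card ι) := by
    rw [← elDeg_elDivM (y : Matrix ι ι F), even_iff_two_dvd]
    refine Multiset.dvd_sum fun x hx => ?_
    obtain ⟨b, hb, rfl⟩ := Multiset.mem_map.mp hx
    simp [h4 b hb]
  have hk2 := hk.odd_of_ne_two (h.resolve_left (Nat.not_odd_iff_even.mpr h5)).2.ne'
  obtain ⟨b, hb⟩ := exists_mem_elDivM (y : Matrix ι ι F)
  refine exists_SL_conj hy' hc hb fun c => ?_
  have hq0 := two_le_card_field F₀
  have ho : Odd (Nat.card F₀) := by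
    rw [← Nat.odd_pow_iff hk.ne_zero, ← hq, Nat.odd_iff]
    omega
  obtain ⟨t, ht⟩ : Odd (∑ i ∈ Finset.range k, Nat.card F₀ ^ i) := by
    rw [← ZMod.natCast_eq_one_iff_odd] at ho hk2 ⊢
    simp only [Nat.cast_sum, Nat.cast_pow, ho, one_pow, Finset.sum_const, Finset.card_range,
      nsmul_eq_mul, mul_one, hk2]
  have h6 : (c : F) ^ (2 * t + 1) ∈ F₀ := by
    rw [mem_subfield_iff_pow, ← Nat.sub_add_cancel (show 1 ≤ Nat.card F₀ by omega), pow_succ,
      ← pow_mul, ← ht, Nat.geomSum_eq hq0, Nat.div_mul_cancel (Nat.sub_one_dvd_pow_sub_one _ _),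
      ← hq, FiniteField.pow_card_sub_one_eq_one _ c.ne_zero, one_mul]
  obtain ⟨a, ha⟩ := Matrix.GeneralLinearGroup.det_surjective (n := ι)
    (Units.mk0 (⟨_, h6⟩ : F₀) fun e => pow_ne_zero _ c.ne_zero (congrArg Subtype.val e))
  refine ⟨c⁻¹ ^ t, _, map_mem_subGL a, ?_⟩
  have h7 : Matrix.GeneralLinearGroup.det (Matrix.GeneralLinearGroup.map F₀.subtype a) =
      c ^ (2 * t + 1) := Units.ext ((F₀.subtype.map_det _).symm.trans
    (congrArg (fun u : F₀ˣ => ((u : F₀) : F)) ha))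
  rw [h4 b hb, h7]
  group

end Cfsg.Lib.Known
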