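import Cfsg.Agent.Known.Simple504
import Cfsg.Agent.Known.TIChar
import Cfsg.Agent.Char.InvPairs
import Cfsg.Agent.Char.Burnside

/-!
Simple groups of order 4080.
-/

set_option autoImplicit false

namespace Cfsg.Lib.Known

open MulAction MatrixGroups Cfsg Cfsg.Lib.Char

variable {G : Type*} [Group G] [Finite G] [IsSimpleGroup G]

/-- If a non-abelian simple group has a subgroup `A ≠ 1` which is the centraliser of each of its
non-identity elements and has index two in its normaliser, then for every `z ≠ 1` not conjugate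
into `A` some product of two conjugates of `z` is a non-identity element of a conjugate of `A`. -/
theorem exists_mul_conj_mem_of_index_two (hG : ¬ ∀ a b : G, a * b = b * a) {A : Subgroup G}
    (hA : A ≠ ⊥) (hC : ∀ u ∈ A, u ≠ 1 → Subgroup.centralizer {u} = A)
    (hN : Nat.card (Subgroup.normalizer (A : Set G)) = 2 * Nat.card A) {z : G} (hz1 : z ≠ 1)
    (hz : ∀ x, x * z * x⁻¹ ∉ A) :
    ∃ a b x : G, IsConj z a ∧ IsConj z b ∧ a * b ≠ 1 ∧ x * (a * b) * x⁻¹ ∈ A := by
  classical
  have := Fintype.ofFinite G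
  by_contra hcon
  push Not at hcon
  have hti := TI.tiData_of_centralizer A hC
  have : Nontrivial A := (Subgroup.nontrivial_iff_ne_bot A).2 hA
  obtain ⟨u, hu⟩ := exists_ne (1 : A)
  obtain ⟨lam, hlam⟩ := exists_monoidHom_apply_ne_one_of_comm hti.comm hu
  have hl : lam ≠ 1 := fun e => hlam (by rw [e]; rfl)
  obtain ⟨h1, h2, h3⟩ := peel_irr (TI.alpha_gen (MonoidHom.id A) lam) isIrrCharacter_one
    (Or.inl rfl) (TI.inner_alpha_one hti.surj hl)
  rw [hti.inner_alpha_self hN hl] at h2
  obtain ⟨χ, ψ, ε, δ, hχ, hψ, hne, hε, hδ, hθ⟩ := exists_eq_of_norm_two h1 (by rw [h2]; norm_num)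
  have hε2 : ε * ε = 1 := by rcases hε with rfl | rfl <;> norm_num
  have hδ2 : δ * δ = 1 := by rcases hδ with rfl | rfl <;> norm_num
  have hχ1 : χ ≠ fun _ => 1 := by
    rintro rfl
    rw [hθ, classInner_add_left, classInner_smul_left, classInner_smul_left, hχ.classInner_self,
      hψ.classInner_of_ne hχ hne.symm, mul_zero, add_zero, mul_one] at h3
    rw [h3] at hε2
    simp at hε2
  have e1 := congrFun hθ 1
  have e2 := congrFun hθ z
  have e3 := congrArg (pairSum z z) hθ
  have e4 : pairSum z z (TI.alpha (MonoidHom.id A) lam) = 0 := by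
    refine pairSum_eq_zero z z fun a b ha hb => ?_
    by_cases hab : a * b = 1
    · rw [hab, TI.alpha_one]
    · exact TI.alpha_eq_zero' _ _ fun x => hcon a b x ha hb hab
  rw [pairSum_sub, pairSum_add, pairSum_smul, pairSum_smul, pairSum_smul, e4, pairSum_irr z z hχ,
    pairSum_irr z z hψ, pairSum_irr z z isIrrCharacter_one] at e3
  simp only [Pi.sub_apply, Pi.add_apply, Pi.smul_apply, smul_eq_mul, TI.alpha_one,
    TI.alpha_eq_zero' _ _ hz] at e1 e2
  have hI : ((Subgroup.centralizer ({z} : Set G)).index : ℂ) ≠ 0 := by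
    exact_mod_cast Subgroup.index_ne_zero_of_finite
  have ha := hχ.apply_one_ne_zero
  have hb := hψ.apply_one_ne_zero
  have e5 : -(χ 1 * ψ 1) = ε * (χ z * χ z) * ψ 1 + δ * (ψ z * ψ z) * χ 1 := by
    field_simp at e3
    apply mul_left_cancel₀ (pow_ne_zero 2 hI)
    linear_combination e3
  have e6 : (χ z - χ 1) ^ 2 = 0 := by
    have f1 : ψ 1 = δ * (-1 - ε * χ 1) := by linear_combination -δ * e1 - ψ 1 * hδ2
    have f2 : ψ z = δ * (-1 - ε * χ z) := by linear_combination -δ * e2 - ψ z * hδ2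
    rw [f1, f2] at e5
    rcases hε with rfl | rfl <;> rcases hδ with rfl | rfl
    · linear_combination e5
    · linear_combination -e5
    · linear_combination -e5
    · linear_combination e5
  have e7 : χ z = χ 1 := sub_eq_zero.1 (pow_eq_zero_iff two_ne_zero |>.1 e6)
  exact hG (comm_of_simple_of_norm_eq hχ hχ1 hz1 (by rw [e7]))

theorem psl2_of_card_4080 (h : Nat.card G = 4080) {F : Type*} [Field F] [Fintype F]
    (hF : Fintype.card F = 16) : Nonempty (G ≃* PSL(2, F)) := by
  have : Fact (Nat.Prime 2) := ⟨Nat.prime_two⟩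
  have : Fact (Nat.Prime 5) := ⟨Nat.prime_five⟩
  have : Fact (Nat.Prime 17) := ⟨by norm_num⟩
  have hG17 : Nat.card G = 17 ^ 1 * 240 := by rw [h]; norm_num
  have hc : ∀ P : Sylow 17 G, Nat.card (P : Subgroup G) = 17 := fun P =>
    SC.sylow_card_eq_pow P hG17 (by norm_num)
  obtain ⟨P⟩ : Nonempty (Sylow 17 G) := inferInstance
  have hbot : (P : Subgroup G) ≠ ⊥ := fun e => by
    have := hc P; rw [e, Subgroup.card_bot] at this; omega
  have htop : (P : Subgroup G) ≠ ⊤ := fun e => by
    have := hc P; rw [e, Subgroup.card_top] at this; omega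
  have hn : Nat.card (Sylow 17 G) = 120 := by
    have h1 := SC.card_sylow_dvd hG17 (by norm_num)
    have h2 := card_sylow_modEq_one 17 G
    have h3 := SC.card_sylow_ne_one P hbot htop
    have h4 : ∀ d ∈ Nat.divisors 240, d % 17 = 1 % 17 → d = 1 ∨ d = 120 := by decide
    exact (h4 _ (Nat.mem_divisors.2 ⟨h1, by norm_num⟩) h2).resolve_left h3
  have hN : Nat.card (Subgroup.normalizer ((P : Subgroup G) : Set G)) = 34 := by
    have h4 := SC.card_normalizer_mul_card_sylow P
    rw [hn, h] at h4; omega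
  have hcyc : IsCyclic (P : Subgroup G) := isCyclic_of_prime_card (hc P)
  have hC : ∀ x ∈ (P : Subgroup G), x ≠ 1 → ∀ y : G, y * x = x * y → y ∈ (P : Subgroup G) := by
    refine centralizer_le_of_card_prime (hc P) ?_
    have h5 := SC.card_normalizer_eq_mul (P : Subgroup G)
    have h7 := SC.relIndex_centralizer_ne_one P hbot htop
    obtain ⟨m, hm⟩ := Subgroup.card_dvd_of_le (P : Subgroup G).le_centralizer
    rw [hN, hm, hc, mul_assoc] at h5
    have h6 : m * (Subgroup.centralizer ((P : Subgroup G) : Set G)).relIndex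
      (Subgroup.normalizer ((P : Subgroup G) : Set G)) = 2 := by omega
    rcases (Nat.prime_two.eq_one_or_self_of_dvd m (Dvd.intro _ h6)) with e | e
    · rw [hm, e, hc]
    · rw [e] at h6; omega
  have hC' : ∀ u ∈ (P : Subgroup G), u ≠ 1 → Subgroup.centralizer {u} = P := fun u hu hu1 =>
    le_antisymm (fun y hy => hC u hu hu1 y (Subgroup.mem_centralizer_singleton_iff.1 hy))
      fun y hy => Subgroup.mem_centralizer_singleton_iff.2
        ((P : Subgroup G).le_centralizer hy u hu).symm
  have hnc : ¬ ∀ a b : G, a * b = b * a := fun e => by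
    obtain ⟨x, hx, hx1⟩ : ∃ x ∈ (P : Subgroup G), x ≠ 1 := by
      by_contra h; push Not at h; exact hbot (eq_bot_iff.2 h)
    exact htop (eq_top_iff.2 fun y _ => hC x hx hx1 y (e y x))
  have ho17 : ∀ {x y : G}, orderOf x = 17 → y * x = x * y → orderOf y ∣ 17 := fun hx hy => by
    obtain ⟨-, -, e⟩ := orderOf_dvd_of_commute hC hx hy
    rwa [hc] at e
  -- every involution has a conjugate inverting any given element of order 17
  have hinv : ∀ z : G, orderOf z = 2 → ∀ y : G, orderOf y = 17 →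
      ∃ s : G, IsConj z s ∧ s * y * s⁻¹ = y⁻¹ := by
    intro z hz y hy
    obtain ⟨a, b, x, ha, hb, hab, hx⟩ := exists_mul_conj_mem_of_index_two hnc hbot hC'
      (by rw [hN, hc]) (z := z) (fun e => by rw [e, orderOf_one] at hz; omega) (fun x hx => by
        have := Subgroup.orderOf_dvd_natCard _ hx
        rw [hc, Cfsg.Lib.Local.orderOf_of_isConj (isConj_iff.2 ⟨x, rfl⟩), hz] at this
        omega)
    obtain ⟨Q, hQ⟩ := SC.exists_sylow_mem_of_orderOf (p := 17) (k := 1) (by rw [hy, pow_one])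
    obtain ⟨g, rfl⟩ := exists_smul_eq G P Q
    rw [mem_smul_sylow_iff, ← SC.zpowers_eq_of_card_prime (by norm_num) (hc P) hx
      (by rwa [Ne, Cfsg.Lib.Perm.conj_eq_one_iff'])] at hQ
    obtain ⟨k, hk⟩ := hQ
    have e1 := Cfsg.Lib.Local.invol_conj_mul ((Cfsg.Lib.Local.orderOf_of_isConj ha).trans hz)
      ((Cfsg.Lib.Local.orderOf_of_isConj hb).trans hz)
    have e2 : y = (g * x) * (a * b) ^ k * (g * x)⁻¹ := by
      simp only [conj_zpow] at hk
      rw [mul_assoc g, mul_inv_rev, ← mul_assoc, mul_assoc g, hk]; group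
    have e3 : a * (a * b) ^ k * a⁻¹ = ((a * b) ^ k)⁻¹ := by rw [← conj_zpow, e1, inv_zpow]
    refine ⟨(g * x) * a * (g * x)⁻¹, ha.trans (isConj_iff.2 ⟨_, rfl⟩), ?_⟩
    rw [e2]
    calc _ = (g * x) * (a * (a * b) ^ k * a⁻¹) * (g * x)⁻¹ := by group
      _ = _ := by rw [e3]; group
  have hcard17 : Nat.card {g : G // orderOf g = 17} = 1920 := by
    rw [SC.card_orderOf_eq_prime P (hc P), hn]
  have hconj : ∀ z w : G, orderOf z = 2 → orderOf w = 2 → IsConj z w := by
    intro z w hz hw
    obtain ⟨y, hy⟩ := exists_prime_orderOf_dvd_card' (G := G) 17 (by rw [h]; norm_num)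
    obtain ⟨s, hs, hs'⟩ := hinv z hz y hy
    obtain ⟨t, ht, ht'⟩ := hinv w hw y hy
    refine (hs.trans (Cfsg.Lib.Local.isConj_of_odd_orderOf_mul
      ((Cfsg.Lib.Local.orderOf_of_isConj hs).trans hz)
      ((Cfsg.Lib.Local.orderOf_of_isConj ht).trans hw) ?_)).trans ht.symm
    refine Odd.of_dvd_nat (by decide : Odd 17) (ho17 hy ?_)
    calc s * t * y = s * (t * y * t⁻¹) * t := by group
      _ = (s * y * s⁻¹)⁻¹ * (s * t) := by rw [ht']; group
      _ = y * (s * t) := by rw [hs', inv_inv]
  have hC2 : ∀ z : G, orderOf z = 2 → Nat.card (Subgroup.centralizer ({z} : Set G)) = 16 := by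
    obtain ⟨S⟩ : Nonempty (Sylow 2 G) := inferInstance
    have hS : Nat.card (S : Subgroup G) = 2 ^ 4 :=
      SC.sylow_card_eq_pow S (m := 255) (by rw [h]; norm_num) (by norm_num)
    obtain ⟨w, hw, hw1, hw2⟩ := exists_center_ne_one_of_isPGroup S.isPGroup' (fun e => by
      rw [e, Subgroup.card_bot] at hS; omega)
    have e1 : 2 ∣ orderOf w := by
      obtain ⟨m, hm⟩ := (IsPGroup.iff_orderOf.1 S.isPGroup') ⟨w, hw⟩
      rw [Subgroup.orderOf_mk] at hm
      rw [hm]
      refine dvd_pow_self 2 fun e => hw1 ?_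
      rwa [e, pow_zero, orderOf_eq_one_iff] at hm
    have e2 := orderOf_pow_orderOf_div (orderOf_pos w).ne' e1
    set z₀ := w ^ (orderOf w / 2)
    have e3 : (S : Subgroup G) ≤ Subgroup.centralizer {z₀} := fun y hy =>
      Subgroup.mem_centralizer_singleton_iff.2 (Commute.pow_right (hw2 y hy) _)
    intro z hz
    rw [SC.card_centralizer_eq_of_isConj (hconj z z₀ hz e2)]
    have e4 := Subgroup.card_dvd_of_le e3
    have e5 := SC.card_isConj_mul_card_centralizer z₀
    choose s hs hs' using fun y : {g : G // orderOf g = 17} => hinv z₀ e2 y.1 y.2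
    have hs2 : ∀ y (k : ℕ), IsConj z₀ (s y * y.1 ^ k) := by
      intro y k
      have f1 := (Cfsg.Lib.Local.orderOf_of_isConj (hs y)).trans e2
      have f2 := Cfsg.Lib.Local.invol_mul_self f1
      refine hconj _ _ e2 (Cfsg.Lib.Local.invol_of_mul_self ?_ fun e => ?_)
      · have f3 : s y * y.1 ^ k * (s y)⁻¹ = (y.1 ^ k)⁻¹ := by rw [← conj_pow, hs', inv_pow]
        rw [inv_eq_of_mul_eq_one_right f2] at f3
        rw [← mul_assoc, f3, inv_mul_cancel]
      · have f3 := ho17 (y := s y) y.2 (by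
          rw [eq_inv_of_mul_eq_one_left e]
          exact ((Commute.refl y.1).pow_left k).inv_left.eq)
        rw [f1] at f3
        omega
    let f : {g : G // orderOf g = 17} × Fin 17 → {g : G // IsConj z₀ g} × {g : G // IsConj z₀ g} :=
      fun x => (⟨_, hs2 x.1 x.2⟩, ⟨_, hs2 x.1 (x.2 + 1)⟩)
    have hf : Function.Injective f := by
      rintro ⟨y, k⟩ ⟨y', k'⟩ e
      have f1 : s y * y.1 ^ (k : ℕ) = s y' * y'.1 ^ (k' : ℕ) := congrArg (fun x => x.1.1) e
      have f2 : s y * y.1 ^ ((k : ℕ) + 1) = s y' * y'.1 ^ ((k' : ℕ) + 1) :=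
        congrArg (fun x => x.2.1) e
      rw [pow_succ, pow_succ, ← mul_assoc, ← mul_assoc, f1, mul_right_inj] at f2
      obtain rfl : y = y' := Subtype.ext f2
      rw [mul_right_inj] at f1
      have f3 := pow_injOn_Iio_orderOf (x := y.1) (by rw [y.2]; exact k.2) (by rw [y.2]; exact k'.2)
        f1
      rw [Fin.ext f3]
    have e6 := Nat.card_le_card_of_injective f hf
    rw [Nat.card_prod, Nat.card_prod, hcard17, Nat.card_eq_fintype_card (α := Fin 17),
      Fintype.card_fin] at e6
    rw [hS] at e4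
    obtain ⟨m, hm⟩ := e4
    rw [h, hm] at e5
    have e7 : 180 < Nat.card {g : G // IsConj z₀ g} := by
      by_contra e
      have := Nat.mul_le_mul (not_lt.1 e) (not_lt.1 e)
      omega
    have e8 : m < 2 := by
      by_contra e
      have := Nat.mul_le_mul e7.le (Nat.mul_le_mul_left (2 ^ 4) (not_lt.1 e))
      omega
    have e9 : m ≠ 0 := by rintro rfl; omega
    rw [hm, show m = 1 by omega]
    norm_num
  have ho2 : ∀ {x y : G}, orderOf x = 2 → y * x = x * y → orderOf y ∣ 16 := fun hx hy =>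
    hC2 _ hx ▸ Subgroup.orderOf_dvd_natCard _ (Subgroup.mem_centralizer_singleton_iff.2 hy)
  -- centralisers of elements whose order is prime to 34
  have hodd : ∀ g : G, g ≠ 1 → orderOf g ∣ 15 →
      Nat.card (Subgroup.centralizer ({g} : Set G)) ∣ 15 := by
    intro g hg1 hg
    have e1 : Nat.card (Subgroup.centralizer ({g} : Set G)) ∣ 15 * (2 ^ 4 * 17) :=
      (Subgroup.card_subgroup_dvd_card _).trans h.dvd
    refine Nat.Coprime.dvd_of_dvd_mul_right ?_ e1
    refine Nat.Coprime.mul_right (Nat.Coprime.pow_right _ ?_) ?_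
    · rw [Nat.coprime_comm, Nat.Prime.coprime_iff_not_dvd Nat.prime_two]
      intro e
      obtain ⟨y, hy, hy'⟩ := exists_commute_of_dvd Nat.prime_two e
      exact hg1 (orderOf_eq_one_iff.1 (Nat.eq_one_of_dvd_coprimes (by norm_num) hg
        (ho2 hy hy'.symm)))
    · rw [Nat.coprime_comm, Nat.Prime.coprime_iff_not_dvd (by norm_num)]
      intro e
      obtain ⟨y, hy, hy'⟩ := exists_commute_of_dvd (by norm_num) e
      exact hg1 (orderOf_eq_one_iff.1 (Nat.eq_one_of_dvd_coprimes (by norm_num) hg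
        (ho17 hy hy'.symm)))
  have hG5 : Nat.card G = 5 ^ 1 * 816 := by rw [h]; norm_num
  have hc5 : ∀ Q : Sylow 5 G, Nat.card (Q : Subgroup G) = 5 := fun Q =>
    SC.sylow_card_eq_pow Q hG5 (by norm_num)
  have h5 : ∀ Q : Sylow 5 G, Nat.card (Sylow 5 G) = 136 ∧
      Nat.card (Subgroup.centralizer ((Q : Subgroup G) : Set G)) = 15 := by
    intro Q
    have hbot : (Q : Subgroup G) ≠ ⊥ := fun e => by
      have := hc5 Q; rw [e, Subgroup.card_bot] at this; omega
    have htop : (Q : Subgroup G) ≠ ⊤ := fun e => by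
      have := hc5 Q; rw [e, Subgroup.card_top] at this; omega
    obtain ⟨x, hx, hx1⟩ : ∃ x ∈ (Q : Subgroup G), x ≠ 1 := by
      by_contra h; push Not at h; exact hbot (eq_bot_iff.2 h)
    have e1 := hodd x hx1 (by
      rw [SC.orderOf_eq_of_card_prime Nat.prime_five (hc5 Q) hx hx1]; norm_num)
    rw [← SC.centralizer_zpowers, SC.zpowers_eq_of_card_prime Nat.prime_five (hc5 Q) hx hx1] at e1
    have h2 := card_sylow_modEq_one 5 G
    have h4 := SC.card_normalizer_mul_card_sylow Q
    have h5 := SC.card_normalizer_eq_mul (Q : Subgroup G)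
    have h6 := SC.relIndex_centralizer_dvd_sub_one Nat.prime_five _ (hc5 Q)
    have h7 := SC.relIndex_centralizer_ne_one Q hbot htop
    have : IsCyclic (Q : Subgroup G) := isCyclic_of_prime_card (hc5 Q)
    have h8 := Subgroup.card_dvd_of_le (Q : Subgroup G).le_centralizer
    rw [hc5] at h8
    rw [h5, h] at h4
    have e2 := Nat.le_of_dvd (by norm_num) h6
    have e3 := Nat.le_of_dvd (by norm_num) e1
    unfold Nat.ModEq at h2
    generalize (Subgroup.centralizer ((Q : Subgroup G) : Set G)).relIndex _ = r at *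
    generalize Nat.card (Subgroup.centralizer ((Q : Subgroup G) : Set G)) = c at *
    interval_cases r <;> interval_cases c <;> omega
  obtain ⟨Q⟩ : Nonempty (Sylow 5 G) := inferInstance
  have u5 := SC.card_biUnion_of_ti
    (fun Q : Sylow 5 G => Subgroup.centralizer ((Q : Subgroup G) : Set G)) 15 (fun Q => (h5 Q).2)
    (fun Q R hQR => by
      rw [eq_bot_iff]
      intro g hg
      by_contra hg1
      have e1 := hodd g hg1 ((h5 Q).2 ▸ Subgroup.orderOf_dvd_natCard _ hg.1)
      have e2 : (Q : Subgroup G) ≤ Subgroup.centralizer {g} := fun y hy =>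
        Subgroup.mem_centralizer_singleton_iff.2 (hg.1 y hy)
      have e3 : (R : Subgroup G) ≤ Subgroup.centralizer {g} := fun y hy =>
        Subgroup.mem_centralizer_singleton_iff.2 (hg.2 y hy)
      have e4 := relIndex_normalizer_modEq Q e2
      have e5 := Nat.le_of_dvd (by norm_num) e1
      have e6 := card_inf_mul_relIndex (Subgroup.normalizer ((Q : Subgroup G) : Set G))
        (Subgroup.centralizer {g})
      have e7 := Subgroup.card_le_of_le (le_inf Subgroup.le_normalizer e2)
      rw [hc5] at e7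
      have e8 : (Subgroup.normalizer ((Q : Subgroup G) : Set G)).relIndex
          (Subgroup.centralizer {g}) = 1 := by
        by_contra e
        unfold Nat.ModEq at e4
        have := Nat.mul_le_mul e7 (show 6 ≤ (Subgroup.normalizer ((Q : Subgroup G) : Set G)).relIndex
          (Subgroup.centralizer {g}) by omega)
        omega
      rw [Subgroup.relIndex_eq_one] at e8
      exact hQR (Sylow.ext (R.is_maximal' Q.isPGroup' fun y hy =>
        mem_sylow_of_smul_eq hy (Sylow.smul_eq_iff_mem_normalizer.2 (e8 (e3 hy))))))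
  rw [(h5 Q).1] at u5
  set A5 := {g : G | g ≠ 1 ∧ ∃ Q : Sylow 5 G, g ∈ Subgroup.centralizer ((Q : Subgroup G) : Set G)}
  set A17 := {g : G | orderOf g = 17}
  have o5 : ∀ g ∈ A5, orderOf g ≠ 1 ∧ orderOf g ∣ 15 := fun g ⟨h1, Q, hQ⟩ =>
    ⟨fun e => h1 (orderOf_eq_one_iff.1 e), (Subgroup.orderOf_dvd_natCard _ hQ).trans (h5 Q).2.dvd⟩
  have hd : Disjoint A5 A17 := Set.disjoint_left.2 fun g h3 h7 => by
    have := (o5 g h3).2
    rw [show orderOf g = 17 from h7] at this
    omega
  have hu : (insert 1 (A5 ∪ A17)).ncard = 3825 := by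
    rw [Set.ncard_insert_of_notMem, Set.ncard_union_eq hd, show A5.ncard = _ from u5,
      show A17.ncard = _ from hcard17]
    rintro (h | h)
    · exact h.1 rfl
    · have : orderOf (1 : G) = 17 := h
      rw [orderOf_one] at this
      omega
  refine psl2_of_count (k := 8) (n := 4) (by norm_num) (by norm_num) h (insert 1 (A5 ∪ A17))ᶜ
    (by rw [Set.ncard_compl, hu, h]) ?_ (fun g hg => (hC2 g hg).le) hF
  rintro g m hg1 hg (e | e | e)
  · exact hg1 e
  · exact (o5 g e).1 (Nat.eq_one_of_dvd_coprimes (Nat.Coprime.pow_left m (by norm_num))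
      hg.dvd (o5 g e).2)
  · exact hg1 (orderOf_eq_one_iff.1 (Nat.eq_one_of_dvd_coprimes
      (Nat.Coprime.pow_left m (by norm_num : Nat.Coprime 2 17)) hg.dvd
      (show orderOf g = 17 from e).dvd))

end Cfsg.Lib.Known
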