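import Cfsg.Agent.Known.OrthSplit
import Cfsg.Agent.Known.OrthDescCount
import Cfsg.Agent.Known.OrthLevi
import Cfsg.Agent.Known.SpSemi

/-!
Splitting of the classes of involutory graph automorphisms of even-dimensional orthogonal groups.
-/

set_option autoImplicit false
set_option linter.unusedSectionVars false

namespace Cfsg.Lib.Known

open QuadraticMap Cfsg.Lib.Class Cfsg.Lib.Class.Orth Module GamO Polynomial

universe u

variable {F : Type u} {V : Type*} [Field F] [Finite F] [AddCommGroup V] [Module F V]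
  [FiniteDimensional F V] {Q : QuadraticForm F V}

theorem GamO.polar_of_σ {T : GamO Q} (hT : T.σ = 1) (u v : V) :
    polar Q (T u) (T v) = T.c * polar Q u v := by
  rw [T.map_polar, hT]; rfl

theorem GamO.smul_of_σ {T : GamO Q} (hT : T.σ = 1) (a : F) (v : V) : T (a • v) = a • T v := by
  rw [T.map_smul, hT]; rfl

/-- An improper similarity whose square is scalar is self-adjoint. -/
theorem sq_eq_c_of_notMem (h2 : (2 : F) ≠ 0) (hQ : (polarBilin Q).Nondegenerate) {M : ℕ}
    (hV : finrank F V = 2 * M) {T : GamO Q} (hT : T.σ = 1) (hn : T ∉ GOo Q)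
    (h : T * T ∈ (scal Q).range) (v : V) : T (T v) = (T.c : F) • v := by
  obtain ⟨a, ha⟩ := h
  have h1 : ∀ v, T (T v) = (a : F) • v := fun v => by
    have := congrArg (fun S : GamO Q => S v) ha
    exact this.symm
  have h3 : (a : F) ^ 2 = (T.c : F) ^ 2 := by
    have := congrArg (fun S : GamO Q => (S.c : F)) ha
    simpa [hT, pow_two] using this
  rcases sq_eq_sq_iff_eq_or_eq_neg.mp h3 with h4 | h4
  · rw [h1, h4]
  exfalso
  apply hn
  let ω : LinearMap.BilinForm F V := (polarBilin Q).compl₂ (T.toLin hT : V →ₗ[F] V)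
  have hω : ∀ u v, ω u v = polar Q u (T v) := fun u v => rfl
  have hωA : ω.IsAlt := fun v => by
    have := polar_of_σ hT v (T v)
    rw [h1, h4, polar_smul_right, polar_comm, smul_eq_mul] at this
    rw [hω]
    apply mul_left_cancel₀ (mul_ne_zero h2 T.c.ne_zero)
    linear_combination -this
  have hωN : ω.Nondegenerate := by
    refine hωA.isRefl.nondegenerate_iff_separatingLeft.mpr fun u hu => hQ.1 u fun v => ?_
    obtain ⟨w, rfl⟩ := T.surjective v
    exact hu w
  refine mem_GOo.mpr ⟨hT, ?_, fun h => (h2 h).elim⟩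
  rw [detG_eq hT (L := (T.toLin hT : V →ₗ[F] V)) fun _ => rfl, hV, Nat.mul_div_cancel_left _ two_pos]
  exact det_of_isAlt_sim hωN hωA hV (T.toLin hT) T.c fun u v => polar_of_σ hT u (T v)

theorem detG_of_sq (h2 : (2 : F) ≠ 0) {M : ℕ} (hV : finrank F V = 2 * M) {T : GamO Q}
    (hT : T.σ = 1) {c : F} (hc : ¬ IsSquare c) (h : ∀ v, T (T v) = c • v) :
    detG T = (-c) ^ M := by
  have := Fintype.ofFinite F
  have : Fact (ringChar F).Prime := ⟨CharP.char_is_prime F _⟩
  obtain ⟨j, h1, h3⟩ := elDiv_of_pow_eq_not_pow (ringChar F) (r := 2) (fun h => h2 (by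
    have := (ringChar.spec F 2).mpr (h ▸ dvd_refl _)
    exact_mod_cast this)) (g := (T.toLin hT : V →ₗ[F] V)) (c := c)
    (fun b hb => hc ⟨b, by rw [← hb, pow_two]⟩) (by ext v; simpa [pow_two] using h v)
  obtain rfl : j = M := by omega
  rw [detG_eq hT (L := (T.toLin hT : V →ₗ[F] V)) fun _ => rfl,
    LinearMap.det_eq_sign_charpoly_coeff, charpoly_eq_elProd, h1, elProd_replicate, hV,
    coeff_zero_eq_eval_zero]
  simp

theorem exists_orth_image (h2 : (2 : F) ≠ 0) (hQ : (polarBilin Q).Nondegenerate)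
    (hn : 3 ≤ finrank F V) {T : GamO Q} (hT : T.σ = 1) (hc : ¬ IsSquare (T.c : F))
    (h : ∀ v, T (T v) = (T.c : F) • v) : ∃ v, Q v ≠ 0 ∧ polar Q v (T v) = 0 := by
  have hc0 := T.c.ne_zero
  have hs : ∀ u v, polar Q (T u) v = polar Q u (T v) := fun u v => by
    have := polar_of_σ hT u (T v)
    rw [h, polar_smul_right, smul_eq_mul] at this
    exact mul_left_cancel₀ hc0 this
  let ω : LinearMap.BilinForm F V := (polarBilin Q).compl₂ (T.toLin hT : V →ₗ[F] V)
  obtain ⟨v, hv0, hv⟩ := exists_isotropic_of_three_le ω.toQuadraticMap hn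
  change polar Q v (T v) = 0 at hv
  by_cases hQv : Q v = 0
  swap
  · exact ⟨v, hQv, hv⟩
  have hi : LinearIndependent F ![v, T v] := by
    rw [LinearIndependent.pair_iff' hv0]
    intro a ha
    apply hc
    refine ⟨a, smul_left_injective F hv0 ?_⟩
    change (T.c : F) • v = (a * a) • v
    rw [← h, ← ha, smul_of_σ hT, ← ha, smul_smul]
  obtain ⟨w, w1, w2⟩ := exists_polar_pair hQ hi 1 0
  have hvv : polar Q v v = 0 := by rw [polar_self, hQv, smul_zero]
  set t := -polar Q w (T w) / (2 * T.c) with ht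
  set y := w + t • T v with hy
  have y1 : polar Q y (T y) = 0 := by
    have e1 : polar Q (T v) (T w) = T.c := by rw [polar_of_σ hT, w1, mul_one]
    have e2 : polar Q (T v) v = 0 := by rw [polar_comm, hv]
    simp only [hy, T.map_add, smul_of_σ hT, h, polar_add_left, polar_add_right, polar_smul_left,
      polar_smul_right, smul_eq_mul, e1, e2, polar_comm Q w v, w1, ht]
    field_simp
    ring
  have y2 : polar Q y v = 1 := by
    simp only [hy, polar_add_left, polar_smul_left, polar_comm Q w v, w1, polar_comm Q (T v) v, hv,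
      smul_zero, add_zero]
  have y3 : polar Q y (T v) = 0 := by
    simp only [hy, polar_add_left, polar_smul_left, polar_comm Q w (T v), w2, polar_of_σ hT, hvv,
      mul_zero, smul_zero, add_zero]
  refine ⟨y + (1 - Q y) • v, ?_, ?_⟩
  · rw [QuadraticMap.map_add Q, QuadraticMap.map_smul, hQv, polar_smul_right, y2]
    simp
  · have e3 : polar Q v (T y) = 0 := by rw [← hs, polar_comm, y3]
    simp only [T.map_add, smul_of_σ hT, polar_add_left, polar_add_right, polar_smul_left,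
      polar_smul_right, y1, y3, e3, hv, smul_zero, add_zero]

theorem commute_refl_orth {u v : V} (h : polar Q u v = 0) : Commute (refl Q u) (refl Q v) := by
  have := conj_refl (refl Q u) v
  rw [refl_apply_of_orth (by rwa [polar_comm])] at this
  exact mul_inv_eq_iff_eq_mul.mp this

theorem isCompl_fixs (h2 : (2 : F) ≠ 0) {g : O Q} (hg : g * g = 1) :
    IsCompl (fixs g) (fixs (g * Orth.negO Q)) := by
  have hgg : ∀ v, g.1 (g.1 v) = v := fun v => congrArg (fun x : O Q => x.1 v) hg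
  have hm : ∀ v, v ∈ fixs (g * Orth.negO Q) ↔ g.1 v = -v := fun v => by
    rw [mem_fixs]
    change g.1 (-v) = v ↔ _
    rw [map_neg, neg_eq_iff_eq_neg]
  refine ⟨Submodule.disjoint_def.mpr fun v h1 h3 => ?_, codisjoint_iff.mpr (eq_top_iff.mpr fun v _ => ?_)⟩
  · rw [hm, mem_fixs.mp h1] at h3
    have : (2 : F) • v = 0 := by rw [two_smul]; nth_rw 1 [h3]; exact neg_add_cancel v
    exact (smul_eq_zero.mp this).resolve_left h2
  · refine Submodule.mem_sup.mpr ⟨(2 : F)⁻¹ • (v + g.1 v), Submodule.smul_mem _ _ ?_,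
      (2 : F)⁻¹ • (v - g.1 v), Submodule.smul_mem _ _ ?_, ?_⟩
    · rw [mem_fixs, map_add, hgg, add_comm]
    · rw [hm, map_sub, hgg, neg_sub]
    · rw [← smul_add, add_add_sub_cancel, ← two_smul F v, inv_smul_smul₀ h2]

theorem exists_commute_of_invol (h2 : (2 : F) ≠ 0) (hQ : (polarBilin Q).Nondegenerate)
    {g : O Q} (hg : g * g = 1) (h : 2 ≤ finrank F (fixs g)) :
    ∃ z : O Q, Commute z g ∧ dick z = 1 ∧ spinA hQ z = -1 := by
  have hc := isCompl_fixs h2 hg
  have hd : Disjoint (fixs g) (orth Q (fixs g)) := Submodule.disjoint_def.mpr fun v h1 h3 =>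
    hQ.1 v fun w => by
      obtain ⟨a, ha, b, hb, rfl⟩ := Submodule.mem_sup.mp
        (show w ∈ fixs g ⊔ fixs (g * Orth.negO Q) from hc.sup_eq_top ▸ Submodule.mem_top)
      have e1 : polar Q v a = 0 := by rw [polar_comm]; exact mem_orth.mp h3 a ha
      have e2 : g.1 (-b) = b := hb
      have e3 := polar_isometry (Q := Q) (g := (g.1 : End F V)) (O_map g) v (-b)
      simp only [LinearEquiv.coe_coe, polarBilin_apply_apply, e2, mem_fixs.mp h1,
        polar_neg_right] at e3
      rw [polarBilin_apply_apply, polar_add_right, e1, zero_add]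
      apply mul_left_cancel₀ h2
      linear_combination e3
  obtain ⟨u, hu, v, hv, hu', hv', hs⟩ := exists_refl_mul_refl_spinA hQ h2 hd h
  have k : ∀ u ∈ fixs g, Commute (refl Q u) g := fun u hu => by
    have := conj_refl g u
    rw [mem_fixs.mp hu] at this
    exact (mul_inv_eq_iff_eq_mul.mp this).symm
  exact ⟨_, (k u hu).mul_left (k v hv), by rw [dick_mul_refl hQ _ hv', dick_refl hQ hu', neg_neg],
    hs⟩

theorem mul_self_eq_one_of_sq {b : Fˣ} {g : O Q}
    (h : ∀ v, (scal Q b * ofO Q g) ((scal Q b * ofO Q g) v) = ((scal Q b * ofO Q g).c : F) • v) :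
    g * g = 1 := by
  ext v
  have := h v
  simp only [GamO.mul_apply, scal_apply, ofO_apply, map_smul, smul_smul] at this
  have e : ((scal Q b * ofO Q g).c : F) = b * b := by simp [pow_two]
  rw [e] at this
  exact smul_right_injective V (mul_ne_zero b.ne_zero b.ne_zero) this

theorem exists_commute_of_sq (h2 : (2 : F) ≠ 0) (hQ : (polarBilin Q).Nondegenerate)
    (hn : 3 ≤ finrank F V) {T : GamO Q} (hT : T.σ = 1) (h : ∀ v, T (T v) = (T.c : F) • v) :
    ∃ z : O Q, Commute (ofO Q z) T ∧ dick z = 1 ∧ spinA hQ z = -1 := by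
  by_cases hc : IsSquare (T.c : F)
  · obtain ⟨b, g, rfl⟩ := exists_eq_scal_mul hT hc
    have hg := mul_self_eq_one_of_sq h
    have key : ∃ z : O Q, Commute z g ∧ dick z = 1 ∧ spinA hQ z = -1 := by
      have h3 := Submodule.finrank_add_eq_of_isCompl (isCompl_fixs h2 hg)
      by_cases h4 : 2 ≤ finrank F (fixs g)
      · exact exists_commute_of_invol h2 hQ hg h4
      obtain ⟨z, z1, z2⟩ := exists_commute_of_invol h2 hQ (g := g * Orth.negO Q) (by
        rw [mul_assoc, ← mul_assoc (Orth.negO Q), ← negO_comm, mul_assoc, negO_mul_self, mul_one,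
          hg]) (by omega)
      refine ⟨z, ?_, z2⟩
      have := z1.mul_right (negO_comm z)
      rwa [mul_assoc, negO_mul_self, mul_one] at this
    obtain ⟨z, z1, z2⟩ := key
    exact ⟨z, Commute.mul_right (scal_comm (ofO_σ z) b) (z1.map _), z2⟩
  obtain ⟨v, hv, hv'⟩ := exists_orth_image h2 hQ hn hT hc h
  have hTv : Q (T v) = T.c * Q v := Q_of_σ_eq_one hT v
  have hTv' : Q (T v) ≠ 0 := by rw [hTv]; exact mul_ne_zero T.c.ne_zero hv
  refine ⟨refl Q v * refl Q (T v), ?_, by rw [dick_mul_refl hQ _ hTv', dick_refl hQ hv, neg_neg],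
    ?_⟩
  · have := ofO_conjO T (refl Q v * refl Q (T v))
    rw [map_mul (conjO Q T), conjO_refl, conjO_refl, h, refl_smul T.c.ne_zero,
      ← (commute_refl_orth hv').eq] at this
    exact eq_mul_inv_iff_mul_eq.mp this
  · rw [spinA_refl_mul_refl hQ hv hTv', hTv]
    refine sqs_of_not_isSquare fun ⟨s, hs⟩ => hc ⟨s / Q v, ?_⟩
    field_simp
    linear_combination hs

theorem muG_eq_one_of_mem (h2 : (2 : F) ≠ 0) (hQ : (polarBilin Q).Nondegenerate) {M : ℕ}
    (hM : 0 < M) (hV : finrank F V = 2 * M) (hneg : Orth.negO Q ∈ Om Q) {T S : GamO Q}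
    (hT : T.σ = 1) (hn : T ∉ GOo Q) (hS : S ∈ GOo Q) (h : Commute (piG Q S) (piG Q T)) :
    muG Q S = 1 := by
  have hn2 : 2 ≤ finrank F V := by omega
  by_contra hμ
  replace hμ := (Int.units_eq_one_or _).resolve_left hμ
  wlog hT' : muG Q T = 1 generalizing T
  · refine this (T := S⁻¹ * T) (by simp [hT, (mem_GOo.mp hS).1])
      (fun h => hn (by simpa using mul_mem hS h)) ?_ ?_
    · rw [map_mul, map_inv]
      exact (Commute.refl _).inv_right.mul_right h
    · rw [map_mul, map_inv, hμ, (Int.units_eq_one_or _).resolve_left hT']; rfl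
  obtain ⟨d, t, h1, h3⟩ := exists_kap hQ h2 hn2 hT hT'
  obtain rfl : d = -1 := (Int.units_eq_one_or _).resolve_left fun h => hn ((h3 ⟨M, by omega⟩).mpr h)
  have h4 := mul_kap_neg hQ h2 hn2 (x := piG Q S) hμ t
  rw [← h1, h.eq, h1, mul_left_inj] at h4
  have h5 := kap_mul hQ h2 hn2 (-1) t (-1) (-t)
  rw [← h4, kap_mul_self, eq_comm, kap_eq_one_iff_of_mem hQ h2 hn2 hneg] at h5
  rcases Int.units_eq_one_or t with rfl | rfl <;> exact absurd h5.2 (by decide)

theorem muG_eq_one_of_even (h2 : (2 : F) ≠ 0) (hQ : (polarBilin Q).Nondegenerate) {M : ℕ}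
    (hM : Even M) (hV : finrank F V = 2 * M) {T S : GamO Q} (hT : T.σ = 1) (hn : T ∉ GOo Q)
    (hTT : ∀ v, T (T v) = (T.c : F) • v) (hS : S.σ = 1)
    (h : S * T * S⁻¹ * T⁻¹ ∈ (scal Q).range) : muG Q S = 1 := by
  have hE : ¬ Exc Q := not_exc_of_two_ne_zero h2
  by_cases hc : IsSquare (T.c : F)
  swap
  · refine (hn (mem_GOo.mpr ⟨hT, ?_, fun h => (h2 h).elim⟩)).elim
    rw [detG_of_sq h2 hV hT hc hTT, hM.neg_pow, hV, Nat.mul_div_cancel_left _ two_pos]
  obtain ⟨b, g, rfl⟩ := exists_eq_scal_mul hT hc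
  have hg := mul_self_eq_one_of_sq hTT
  have hd : dick g ≠ 1 := fun h => hn ((scal_mul_ofO_mem_GOo_iff hQ hE hV).mpr h)
  obtain ⟨a, ha⟩ := h
  have h1 : ofO Q (conjO Q S g * g⁻¹) = scal Q a := by
    rw [ha, map_mul, ofO_conjO, map_inv, ← mul_assoc S, scal_comm hS, mul_inv_rev,
      mul_assoc (scal Q b), mul_assoc (scal Q b), mul_assoc (scal Q b), ← mul_assoc (S * _ * _),
      ← scal_comm (by simp [hS]), inv_mul_cancel_right]
  have h3 : (a : F) * a = 1 := by
    have := congrArg (fun S : GamO Q => (S.c : F)) h1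
    simp only [ofO_c, scal_c, pow_two, Units.val_mul, Units.val_one] at this
    exact this.symm
  rcases mul_self_eq_one_iff.mp h3 with h4 | h4
  · rw [Units.val_eq_one.mp h4, map_one, ← map_one (ofO Q)] at h1
    have h5 := spinA_conjO hQ hE S g
    rw [mul_inv_eq_one.mp (ofO_injective h1), if_neg hd] at h5
    exact left_eq_mul.mp h5 |>.symm ▸ rfl
  · exfalso
    rw [show a = -1 from Units.ext (by simpa using h4), scal_neg_one] at h1
    have h5 : conjO Q S g = g * Orth.negO Q := by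
      rw [negO_comm, ← mul_inv_eq_iff_eq_mul]; exact ofO_injective h1
    have h6 : (fixs g).map (S.toLin hS : V →ₗ[F] V) = fixs (g * Orth.negO Q) := by
      ext v
      obtain ⟨w, rfl⟩ := S.surjective v
      rw [← h5, mem_fixs, conjO_apply', S.injective.eq_iff, ← mem_fixs]
      exact (Submodule.mem_map_equiv _).trans (by
        rw [show S w = S.toLin hS w from rfl, LinearEquiv.symm_apply_apply])
    have h7 := Submodule.finrank_add_eq_of_isCompl (isCompl_fixs h2 hg)
    rw [← h6, LinearEquiv.finrank_map_eq] at h7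
    apply hd
    rw [dick, show finrank F (fixs g) = M by omega, hV]
    exact (Even.add ⟨M, two_mul M⟩ hM).neg_one_pow

theorem count_graph (h2 : (2 : F) ≠ 0) (hQ : (polarBilin Q).Nondegenerate) {M : ℕ} (hM : 2 ≤ M)
    (hV : finrank F V = 2 * M) {X : Type*} [Group X] {ρ : GamO Q →* X}
    (hρ : ρ.ker = (scal Q).range) {T : GamO Q} (hT : T.σ = 1) (hn : T ∉ GOo Q)
    (h : ρ T ^ 2 = 1) :
    (splitClassCount ((GOo Q).map ρ) ((NG Q).map ρ) (ρ T) = 1 ∨
      splitClassCount ((GOo Q).map ρ) ((NG Q).map ρ) (ρ T) = 2) ∧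
    (¬ (Odd M ∧ Orth.negO Q ∉ Om Q) →
      splitClassCount ((GOo Q).map ρ) ((NG Q).map ρ) (ρ T) = 2) := by
  have hE : ¬ Exc Q := not_exc_of_two_ne_zero h2
  have hn2 : 2 ≤ finrank F V := by omega
  have hk : ρ.ker ≤ NG Q := by rw [hρ]; rintro _ ⟨a, rfl⟩; exact scal_mem_NG a
  have hTT := sq_eq_c_of_notMem h2 hQ hV hT hn (by
    rw [← hρ, MonoidHom.mem_ker, map_mul, ← pow_two, h])
  have hC : ∀ S, S ∈ (Subgroup.centralizer {ρ T}).comap ρ ↔ S * T * S⁻¹ * T⁻¹ ∈ ρ.ker := fun S => by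
    rw [Subgroup.mem_comap, Subgroup.mem_centralizer_singleton_iff, MonoidHom.mem_ker, map_mul,
      map_mul, map_mul, map_inv, map_inv, mul_inv_eq_one, mul_inv_eq_iff_eq_mul]
  have hcard := Subgroup.relIndex_mul_relIndex ⊥
    ((GOo Q ⊓ (Subgroup.centralizer {ρ T}).comap ρ).map (piG Q))
    ((GOo Q).map (piG Q)) bot_le (Subgroup.map_mono inf_le_left)
  rw [Subgroup.relIndex_bot_left, Subgroup.relIndex_bot_left,
    ← splitClassCount_map ρ hk (NG_le_GOo hQ hE hV)] at hcard
  have hkap : ∀ S ∈ GOo Q, muG Q S = 1 → ∃ t, piG Q S = kap hQ h2 hn2 (1, t) := fun S hS hμ => by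
    obtain ⟨d, t, h1, h3⟩ := exists_kap hQ h2 hn2 (mem_GOo.mp hS).1 hμ
    exact ⟨t, by rw [h1, (h3 ⟨M, by omega⟩).mp hS]⟩
  by_cases hneg : Orth.negO Q ∈ Om Q
  · obtain ⟨z, z1, z2, z3⟩ := exists_commute_of_sq h2 hQ (by omega) hT hTT
    have hB : (GOo Q ⊓ (Subgroup.centralizer {ρ T}).comap ρ).map (piG Q) =
        (zmodPowHom 2 _ (kap_sq hQ h2 hn2 (1, -1))).range := by
      ext x
      rw [mem_range_zmodPowHom_two]
      refine ⟨?_, ?_⟩
      · rintro ⟨S, ⟨hS, hS'⟩, rfl⟩
        obtain ⟨t, ht⟩ := hkap S hS (muG_eq_one_of_mem h2 hQ (by omega) hV hneg hT hn hS (by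
          have := piG_eq_one_iff.mpr (hk ((hC S).mp hS'))
          rwa [map_mul, map_mul, map_mul, map_inv, map_inv, mul_inv_eq_one,
            mul_inv_eq_iff_eq_mul] at this))
        rcases Int.units_eq_one_or t with rfl | rfl
        · exact Or.inl (ht.trans (map_one _))
        · exact Or.inr ht
      · rintro (rfl | rfl)
        · exact one_mem _
        · exact ⟨ofO Q z, ⟨(ofO_mem_GOo_iff hQ hE).mpr z2,
            Subgroup.mem_centralizer_singleton_iff.mpr (z1.map ρ).eq⟩, by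
              rw [← kap_ofO hQ h2 hn2, z2, z3]⟩
    rw [hB, card_map_GOo hQ h2 (by omega) hV hneg,
      ← Nat.card_congr (MonoidHom.ofInjective (zmodPowHom_two_injective _ (by
        rw [Ne, kap_eq_one_iff_of_mem hQ h2 _ hneg]; decide))).toEquiv] at hcard
    simp only [Nat.card_eq_fintype_card, Fintype.card_multiplicative, ZMod.card] at hcard
    exact ⟨Or.inr (by omega), fun _ => by omega⟩
  obtain ⟨θ, θ1, θ2⟩ := exists_two_GOo hQ h2 hn2 hV hneg
  rw [← θ2, ← Nat.card_congr (MonoidHom.ofInjective θ1).toEquiv] at hcard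
  simp only [Nat.card_eq_fintype_card, Fintype.card_multiplicative, ZMod.card] at hcard
  refine ⟨(Nat.dvd_prime Nat.prime_two).mp (Dvd.intro_left _ hcard), fun hh => ?_⟩
  have he : Even M := Nat.not_odd_iff_even.mp fun h => hh ⟨h, hneg⟩
  rw [eq_bot_iff.mpr (show (GOo Q ⊓ (Subgroup.centralizer {ρ T}).comap ρ).map (piG Q) ≤ ⊥ from ?_)]
    at hcard
  · simpa using hcard
  rintro _ ⟨S, ⟨hS, hS'⟩, rfl⟩
  obtain ⟨t, ht⟩ := hkap S hS (muG_eq_one_of_even h2 hQ he hV hT hn hTT (mem_GOo.mp hS).1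
    (hρ ▸ (hC S).mp hS'))
  rw [Subgroup.mem_bot, ht, kap_eq_one_iff_of_notMem hQ h2 hn2 ⟨M, by omega⟩ hneg]

/-- In the minus type, an involution modulo scalars is linear. -/
theorem σ_eq_one_of_not_isPlus (hQ : (polarBilin Q).Nondegenerate) (hE : ¬ Exc Q) {M : ℕ}
    (hM : 0 < M) (hV : finrank F V = 2 * M) (hp : ¬ IsPlus Q) {X : Type*} [Group X]
    {ρ : GamO Q →* X} (hρ : ρ.ker = (scal Q).range) {T : GamO Q} (h : ρ T ^ 2 = 1) : T.σ = 1 := by
  by_contra hT
  have : Nontrivial V := Module.nontrivial_of_finrank_pos (R := F) (by omega)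
  obtain ⟨b, T', -, -, h1, h3⟩ := exists_normalised hρ hT Nat.prime_two h
  obtain ⟨f, hf⟩ := Tw.exists_isFix (F₀ := fixedSubfield T'.σ) T'.σ rfl
  obtain ⟨Q₀, j, l, hj⟩ := exists_isForm h3 hf
  exact hp (hj.isPlus_of_even h3 (by simp [h1]) hQ hE hM hV)

end Cfsg.Lib.Known
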