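import Cfsg.Agent.Known.SymNilp
import Cfsg.Agent.Known.SmallSimple
import Mathlib.GroupTheory.SpecificGroups.Alternating.Centralizer

/-!
Conjugacy of the nilpotent subgroups of order `3 * 2 ^ a`.
-/

set_option autoImplicit false

namespace Cfsg.Lib.Known

open Equiv MulAction Cfsg.Lib.Char

theorem exists_decomp_of_nilpotent {Γ : Type*} [Group Γ] [Finite Γ] {N : Subgroup Γ}
    (hN : Group.IsNilpotent N) {a : ℕ} (h : Nat.card N = 3 * 2 ^ a) :
    ∃ (x : Γ) (P : Subgroup Γ), orderOf x = 3 ∧ P ≤ Subgroup.centralizer {x} ∧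
      Nat.card P = 2 ^ a ∧ N = P ⊔ Subgroup.zpowers x := by
  have : Fact (Nat.Prime 3) := ⟨Nat.prime_three⟩
  obtain ⟨x, hx⟩ := exists_prime_orderOf_dvd_card' (G := N) 3 (h ▸ Dvd.intro _ rfl)
  obtain ⟨S⟩ : Nonempty (Sylow 2 N) := inferInstance
  have hS : Nat.card (S : Subgroup N) = 2 ^ a :=
    SC.sylow_card_eq_pow S (m := 3) (by rw [h, mul_comm]) (by norm_num)
  have hP : Nat.card ((S : Subgroup N).map N.subtype) = 2 ^ a := by
    rw [Subgroup.card_map_of_injective N.subtype_injective, hS]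
  refine ⟨x, (S : Subgroup N).map N.subtype, (Subgroup.orderOf_coe x).trans hx, ?_, hP, ?_⟩
  · rintro _ ⟨y, hy, rfl⟩
    have h1 : y ^ 2 ^ a = 1 := by
      rw [← orderOf_dvd_iff_pow_eq_one, ← hS]; exact Subgroup.orderOf_dvd_natCard _ hy
    have h2 := Brauer.commute_of_pow_eq_one_of_isNilpotent
      (Nat.Coprime.pow_left a (by norm_num : Nat.Coprime 2 3)) h1 (hx ▸ pow_orderOf_eq_one x)
    exact Subgroup.mem_centralizer_singleton_iff.2 (congrArg Subtype.val h2.eq)
  · refine (Subgroup.eq_of_le_of_card_ge (sup_le (Subgroup.map_subtype_le _)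
      (Subgroup.zpowers_le.2 x.2)) ?_).symm
    rw [h]
    refine Nat.le_of_dvd Nat.card_pos ((Nat.Coprime.pow_right a (by norm_num)).mul_dvd_of_dvd_of_dvd
      ?_ ?_)
    · rw [← hx, ← Subgroup.orderOf_coe]
      exact Subgroup.orderOf_dvd_natCard _ (Subgroup.mem_sup_right (Subgroup.mem_zpowers _))
    · rw [← hP]
      exact Subgroup.card_dvd_of_le le_sup_left

theorem exists_conj_of_card_eq_pow {Γ : Type*} [Group Γ] [Finite Γ] {p a : ℕ} [hp : Fact p.Prime]
    {C P Q : Subgroup Γ} (hP : P ≤ C) (hQ : Q ≤ C) (h1 : Nat.card P = p ^ a)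
    (h2 : Nat.card Q = p ^ a) (h3 : ¬ p ^ (a + 1) ∣ Nat.card C) :
    ∃ c ∈ C, Q = P.map (MulAut.conj c).toMonoidHom := by
  have h4 : (Nat.card C).factorization p = a := by
    have := (hp.out.pow_dvd_iff_le_factorization Nat.card_pos.ne').1
      (h1 ▸ Subgroup.card_dvd_of_le hP)
    rw [hp.out.pow_dvd_iff_le_factorization Nat.card_pos.ne'] at h3
    omega
  let P' : Sylow p C := Sylow.ofCard (P.subgroupOf C) (by
    rw [h4, ← h1]; exact Nat.card_congr (Subgroup.subgroupOfEquivOfLe hP).toEquiv)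
  let Q' : Sylow p C := Sylow.ofCard (Q.subgroupOf C) (by
    rw [h4, ← h2]; exact Nat.card_congr (Subgroup.subgroupOfEquivOfLe hQ).toEquiv)
  obtain ⟨c, hc⟩ := exists_smul_eq C P' Q'
  refine ⟨c, c.2, (Subgroup.eq_of_le_of_card_ge ?_ ?_).symm⟩
  · rintro _ ⟨y, hy, rfl⟩
    have : c * ⟨y, hP hy⟩ * c⁻¹ ∈ (Q' : Subgroup C) := by
      rw [← hc, mem_smul_sylow_iff]
      simpa [mul_assoc] using (show (⟨y, hP hy⟩ : C) ∈ (P' : Subgroup C) from hy)
    exact this
  · rw [Subgroup.card_map_of_injective (MulAut.conj (c : Γ)).injective, h1, h2]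

theorem conj_of_nilpotent {Γ : Type*} [Group Γ] [Finite Γ] {a : ℕ} (T : Γ → Prop)
    (h1 : ∀ x, orderOf x = 3 → 2 ^ a ∣ Nat.card (Subgroup.centralizer ({x} : Set Γ)) → T x)
    (h2 : ∀ x y, T x → T y → IsConj x y)
    (h3 : ∀ x, T x → ¬ 2 ^ (a + 1) ∣ Nat.card (Subgroup.centralizer ({x} : Set Γ)))
    {N M : Subgroup Γ} (hN : Group.IsNilpotent N) (hM : Group.IsNilpotent M)
    (hN' : Nat.card N = 3 * 2 ^ a) (hM' : Nat.card M = 3 * 2 ^ a) :
    ∃ g : Γ, M = N.map (MulAut.conj g).toMonoidHom := by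
  obtain ⟨x, P, x1, x2, x3, rfl⟩ := exists_decomp_of_nilpotent hN hN'
  obtain ⟨y, Q, y1, y2, y3, rfl⟩ := exists_decomp_of_nilpotent hM hM'
  have tx := h1 x x1 (x3 ▸ Subgroup.card_dvd_of_le x2)
  have ty := h1 y y1 (y3 ▸ Subgroup.card_dvd_of_le y2)
  obtain ⟨g, rfl⟩ := isConj_iff.1 (h2 x y tx ty)
  obtain ⟨c, hc, rfl⟩ := exists_conj_of_card_eq_pow (P := P.map (MulAut.conj g).toMonoidHom)
    (by
      rintro _ ⟨z, hz, rfl⟩
      have := Subgroup.mem_centralizer_singleton_iff.1 (x2 hz)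
      refine Subgroup.mem_centralizer_singleton_iff.2 ?_
      change g * z * g⁻¹ * _ = _ * (g * z * g⁻¹)
      rw [conj_mul, conj_mul, this]) y2
    (by rw [Subgroup.card_map_of_injective (MulAut.conj g).injective, x3]) y3 (h3 _ ty)
  refine ⟨c * g, ?_⟩
  rw [Subgroup.map_sup, Subgroup.map_map, MonoidHom.map_zpowers]
  congr 2
  · ext z; simp [mul_assoc]
  · have := Subgroup.mem_centralizer_singleton_iff.1 hc
    change _ = c * g * x * (c * g)⁻¹
    calc g * x * g⁻¹ = c * (g * x * g⁻¹) * c⁻¹ := by rw [this, mul_inv_cancel_right]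
      _ = _ := by group

variable {α : Type*} [Fintype α] [DecidableEq α]

theorem card_centralizer_of_isThreeCycle {x : Perm α} (h : x.IsThreeCycle) :
    Nat.card (Subgroup.centralizer ({x} : Set (Perm α))) = (Fintype.card α - 3).factorial * 3 := by
  rw [Perm.nat_card_centralizer, h.cycleType]
  simp

theorem isThreeCycle_of_pow_dvd {x : Perm α} (hx : orderOf x = 3) {a : ℕ}
    (h : 2 ^ a ∣ Nat.card (Subgroup.centralizer ({x} : Set (Perm α))))
    (ha : 6 ≤ Fintype.card α → vf 2 (Fintype.card α - 4) < a) : x.IsThreeCycle := by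
  obtain ⟨k, hk⟩ := Perm.cycleType_prime_order (σ := x) (hx ▸ Nat.prime_three)
  rw [hx] at hk
  rcases Nat.eq_zero_or_pos k with rfl | h0
  · exact hk
  exfalso
  have h1 := x.sum_cycleType_le
  rw [Perm.nat_card_centralizer, hk, Multiset.toFinset_replicate, if_neg (by omega),
    Finset.prod_singleton, Multiset.count_replicate_self, Multiset.prod_replicate,
    mul_right_comm] at h
  rw [hk] at h1
  simp only [Multiset.sum_replicate, smul_eq_mul] at h h1
  have h2 := ((Nat.Coprime.pow a (k + 1) (by norm_num : Nat.Coprime 2 3)).dvd_of_dvd_mul_right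
    h).trans ((Nat.factorial_mul_factorial_dvd_factorial_add _ _).trans
      (Nat.factorial_dvd_factorial (show _ ≤ Fintype.card α - 4 by omega)))
  rw [pow_dvd_factorial_iff Nat.prime_two] at h2
  exact absurd (ha (by omega)) (not_lt.2 h2)

theorem card_centralizer_alt (x : alternatingGroup α) :
    Nat.card (Subgroup.centralizer ({x} : Set (alternatingGroup α))) =
      Nat.card (alternatingGroup α ⊓ Subgroup.centralizer ({x.1} : Set (Perm α)) : Subgroup _) := by
  refine Nat.card_congr ⟨fun g => ⟨g.1.1, g.1.2, Subgroup.mem_centralizer_singleton_iff.2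
    (congrArg Subtype.val (Subgroup.mem_centralizer_singleton_iff.1 g.2))⟩,
    fun g => ⟨⟨g.1, g.2.1⟩, Subgroup.mem_centralizer_singleton_iff.2
      (Subtype.ext (Subgroup.mem_centralizer_singleton_iff.1 g.2.2))⟩, fun _ => rfl, fun _ => rfl⟩

theorem two_mul_card_centralizer_alt (x : alternatingGroup α)
    (h : ¬ Subgroup.centralizer ({x.1} : Set (Perm α)) ≤ alternatingGroup α) :
    2 * Nat.card (Subgroup.centralizer ({x} : Set (alternatingGroup α))) =
      Nat.card (Subgroup.centralizer ({x.1} : Set (Perm α))) := by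
  have : Nontrivial α := by
    by_contra h1
    have := not_nontrivial_iff_subsingleton.1 h1
    exact h fun g _ => by rw [Subsingleton.elim g 1]; exact one_mem _
  rw [card_centralizer_alt, ← card_inf_mul_relIndex (alternatingGroup α)
    (Subgroup.centralizer ({x.1} : Set (Perm α))), mul_comm]
  congr 1
  have h1 := Subgroup.relIndex_dvd_index_of_normal (alternatingGroup α)
    (Subgroup.centralizer ({x.1} : Set (Perm α)))
  rw [alternatingGroup.index_eq_two] at h1
  exact ((Nat.prime_two.eq_one_or_self_of_dvd _ h1).resolve_left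
    fun e => h (Subgroup.relIndex_eq_one.1 e)).symm

end Cfsg.Lib.Known
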