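import Cfsg.Agent.Known.PronMono

/-! The local pronormality condition for symplectic groups of 2-power degree. -/

set_option autoImplicit false

namespace Cfsg.Lib.Known.Pron

open Matrix Cfsg Cfsg.Lib.Solv
open scoped Quaternion Pointwise

variable {F : Type*} [Field F] {κ : Type*} [Fintype κ] [DecidableEq κ]

/-- Matrices which differ from the identity in a `2 × 2` block. -/
def blk2 (k k' : κ) (A B C D : ℍ[F]) : Matrix κ κ ℍ[F] :=
  1 + (single k k A + single k k' B + single k' k C + single k' k' D)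

theorem blk2_eq_1' : type_of% @blk2.eq_1 := @blk2.eq_1

theorem blk2_mul {k k' : κ} (h : k' ≠ k) (A B C D A' B' C' D' : ℍ[F]) :
    blk2 k k' A B C D * blk2 k k' A' B' C' D' =
      blk2 k k' (A + A' + (A * A' + B * C')) (B + B' + (A * B' + B * D'))
        (C + C' + (C * A' + D * C')) (D + D' + (C * B' + D * D')) := by
  simp only [blk2, Matrix.add_mul, Matrix.mul_add, Matrix.one_mul, Matrix.mul_one,
    single_mul_single_same, single_mul_single_of_ne _ _ _ _ h,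
    single_mul_single_of_ne _ _ _ _ h.symm, single_add]
  abel

omit [Fintype κ] in
theorem blk2_congr {k k' : κ} {A B C D A' B' C' D' : ℍ[F]} (h1 : A = A') (h2 : B = B')
    (h3 : C = C') (h4 : D = D') : blk2 k k' A B C D = blk2 k k' A' B' C' D' := by
  rw [h1, h2, h3, h4]

theorem coe_fo_left (k k' : κ) (u : unitary ℍ[F]) :
    (fo k u).1 = blk2 k k' ((u : ℍ[F]) - 1) 0 0 0 := by simp [coe_fo, blk2]

theorem coe_fo_right (k k' : κ) (u : unitary ℍ[F]) :
    (fo k' u).1 = blk2 k k' 0 0 0 ((u : ℍ[F]) - 1) := by simp [coe_fo, blk2]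

theorem coe_conj_fo_two {l : unitary (Matrix κ κ ℍ[F])} {o k k' : κ} (h : k' ≠ k)
    (h1 : ∀ a, a ≠ k → a ≠ k' → l.1 a o = 0) (h2 : l.1 k' o = l.1 k o) (u : unitary ℍ[F]) {c : ℍ[F]}
    (hc : c = l.1 k o * ((u : ℍ[F]) - 1) * star (l.1 k o)) :
    (l * fo o u * l⁻¹).1 = blk2 k k' c c c c := by
  have e : l.1 * single o o (1 : ℍ[F]) = single k o (l.1 k o) + single k' o (l.1 k o) := by
    ext1 a b
    by_cases hb : b = o
    · by_cases a1 : a = k
      · simp [hb, a1, h]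
      · by_cases a2 : a = k'
        · simp [hb, a2, h.symm, h2]
        · simp [hb, h1 a a1 a2, Ne.symm a1, Ne.symm a2]
    · simp [hb, Ne.symm hb]
  have e' := congrArg star e
  rw [star_mul, star_single_one, star_add, star_eq_conjTranspose (single k o _),
    star_eq_conjTranspose (single k' o _), conjTranspose_single, conjTranspose_single] at e'
  rw [coe_conj_fo, show single o o ((u : ℍ[F]) - 1) =
    single o o 1 * single o o ((u : ℍ[F]) - 1) * single o o 1 by simp, ← mul_assoc, ← mul_assoc, e,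
    mul_assoc _ _ (star l.1), e', blk2, hc]
  simp only [Matrix.add_mul, Matrix.mul_add, single_mul_single_same]
  abel

/-- Conjugation by a quaternion of norm one half. -/
def conjHalf {t : ℍ[F]} (ht : 2 * Quaternion.normSq t = 1) : unitary ℍ[F] →* unitary ℍ[F] where
  toFun u := ⟨(2 : F) • (t * u * star t), mem_unitary_quat.2 (by
    rw [Quaternion.normSq_smul, map_mul, map_mul, Quaternion.normSq_star, mem_unitary_quat.1 u.2]
    linear_combination (2 * Quaternion.normSq t + 1) * ht)⟩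
  map_one' := Subtype.ext (by
    simp only [OneMemClass.coe_one, mul_one]
    rw [Quaternion.self_mul_star, Quaternion.smul_coe, ht, Quaternion.coe_one])
  map_mul' u v := Subtype.ext (by
    simp only [Submonoid.coe_mul, smul_mul_assoc, mul_smul_comm, mul_assoc]
    rw [← mul_assoc (star t) t, Quaternion.star_mul_self, Quaternion.coe_mul_eq_smul]
    simp only [mul_smul_comm]
    rw [smul_smul _ (Quaternion.normSq t), ht, one_smul])

theorem conjHalf_eq_1' : type_of% @conjHalf.eq_1 := @conjHalf.eq_1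

theorem coe_conjHalf {t : ℍ[F]} (ht : 2 * Quaternion.normSq t = 1) (u : unitary ℍ[F]) :
    (conjHalf ht u : ℍ[F]) = (2 : F) • (t * u * star t) := rfl

theorem conjHalf_injective {t : ℍ[F]} (ht : 2 * Quaternion.normSq t = 1) :
    Function.Injective (conjHalf ht) := by
  rw [injective_iff_map_eq_one]
  intro u hu
  have hn : Quaternion.normSq t ≠ 0 := fun e => by simp [e] at ht
  have h1 : t * ((u : ℍ[F]) - 1) * star t = 0 := by
    have := congrArg Subtype.val (hu.trans (map_one (conjHalf ht)).symm)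
    rw [coe_conjHalf, coe_conjHalf] at this
    rw [mul_sub, sub_mul, smul_right_injective _ (left_ne_zero_of_mul_eq_one ht) this,
      OneMemClass.coe_one, sub_self]
  have h2 := congrArg star (eq_zero_of_mul_star hn h1)
  rw [star_mul, star_zero] at h2
  exact Subtype.ext (sub_eq_zero.1 (star_eq_zero.1 (eq_zero_of_mul_star hn h2)))

theorem half_conjHalf {t : ℍ[F]} (ht : 2 * Quaternion.normSq t = 1) (u : unitary ℍ[F]) :
    (2 : F)⁻¹ • ((conjHalf ht u : ℍ[F]) - 1) = t * ((u : ℍ[F]) - 1) * star t := by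
  have h2 := left_ne_zero_of_mul_eq_one ht
  rw [coe_conjHalf, smul_sub, inv_smul_smul₀ h2, mul_sub, sub_mul, mul_one,
    Quaternion.self_mul_star, ← Quaternion.coe_one, Quaternion.smul_coe, mul_one,
    inv_eq_of_mul_eq_one_right ht]

/-- An element of order six normalising the quaternion group. -/
def qθ (h2 : (2 : F) ≠ 0) : unitary ℍ[F] := ⟨qm 2⁻¹ 2⁻¹ 2⁻¹ 2⁻¹, mem_unitary_quat.2 (by
  simp [Quaternion.normSq_def']; field_simp; ring)⟩

theorem qθ_eq_1' : type_of% @qθ.eq_1 := @qθ.eq_1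

theorem coe_qθ (h2 : (2 : F) ≠ 0) : (qθ h2 : ℍ[F]) = qm 2⁻¹ 2⁻¹ 2⁻¹ 2⁻¹ := rfl

theorem qθ_cube (h2 : (2 : F) ≠ 0) : qθ h2 ^ 3 = -1 := Subtype.ext (by
  rw [pow_three, Submonoid.coe_mul, Submonoid.coe_mul, Unitary.coe_neg]
  ext <;> simp [coe_qθ] <;> field_simp <;> ring)

theorem qθ_sq_ne (h2 : (2 : F) ≠ 0) : qθ h2 ^ 2 ≠ 1 := fun h => by
  have t5 := congrArg (fun u : unitary ℍ[F] => u.1.imI) h
  simp [coe_qθ, sq] at t5
  field_simp at t5
  exact h2 (by linear_combination t5)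

theorem mul_flip (h2 : (2 : F) ≠ 0) {k k' : κ} (hk : k' ≠ k) {r : unitary (Matrix κ κ ℍ[F])}
    {w : unitary ℍ[F]} {c : ℍ[F]} (hc : c = (2 : F)⁻¹ • ((w : ℍ[F]) - 1))
    (hr : r.1 = blk2 k k' c c c c) : r * fo k (-1) * r * fo k (-1) = fo k w * fo k' w := by
  have e : (w : ℍ[F]) - 1 = c + c := by rw [← two_smul F c, hc, smul_inv_smul₀ h2]
  refine Subtype.ext ?_
  rw [Submonoid.coe_mul, Submonoid.coe_mul, Submonoid.coe_mul, Submonoid.coe_mul, hr,
    coe_fo_left k k', coe_fo_left k k', coe_fo_right k k', blk2_mul hk, blk2_mul hk, blk2_mul hk,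
    blk2_mul hk, Unitary.coe_neg, e, OneMemClass.coe_one]
  refine blk2_congr ?_ ?_ ?_ ?_ <;> noncomm_ring

theorem mul_theta (h2 : (2 : F) ≠ 0) {k k' : κ} (hk : k' ≠ k) {r r' : unitary (Matrix κ κ ℍ[F])}
    {c c' : ℍ[F]} (hc : c = (2 : F)⁻¹ • ((qI F : ℍ[F]) - 1))
    (hc' : c' = (2 : F)⁻¹ • ((qJ F : ℍ[F]) - 1)) (hr : r.1 = blk2 k k' c c c c)
    (hr' : r'.1 = blk2 k k' c' c' c' c') :
    r * fo k' (qI F * qJ F) * r' * fo k' (qI F) = fo k (qθ h2) * fo k' (qθ h2) := by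
  have e1 : c = qm (-2⁻¹) 2⁻¹ 0 0 := by rw [hc]; ext <;> simp [coe_qI]
  have e2 : c' = qm (-2⁻¹) 0 2⁻¹ 0 := by rw [hc']; ext <;> simp [coe_qJ]
  have e3 : ((qI F * qJ F : unitary ℍ[F]) : ℍ[F]) - 1 = qm (-1) 0 0 1 := by
    ext <;> simp [coe_qI, coe_qJ]
  refine Subtype.ext ?_
  rw [Submonoid.coe_mul, Submonoid.coe_mul, Submonoid.coe_mul, Submonoid.coe_mul, hr, hr',
    coe_fo_left k k', coe_fo_right k k', coe_fo_right k k', coe_fo_right k k', blk2_mul hk,
    blk2_mul hk, blk2_mul hk, blk2_mul hk, e1, e2, e3]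
  refine blk2_congr ?_ ?_ ?_ ?_ <;> ext <;> simp [coe_qθ, coe_qI] <;> field_simp <;> ring

variable (h2 : (2 : F) ≠ 0) (Q : QSyl κ F) {L M : Subgroup (unitary (Matrix κ κ ℍ[F]))}
  (hS : (Q.S : Subgroup (unitary (Matrix κ κ ℍ[F]))) ≤ M)

include hS in
theorem QSyl.exists_const {θ : unitary ℍ[F]} {k k' : κ} (h : fo k θ * fo k' θ ∈ M) :
    ∃ s : ℤ, ¬ 3 ∣ s ∧ dg (fun _ : κ => θ ^ s) ∈ M := by
  classical
  let A : AddSubgroup (κ → ℤ) :=
    { carrier := {x | dg (fun a => θ ^ x a) ∈ M}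
      zero_mem' := by simpa [← Pi.one_def] using one_mem M
      add_mem' := fun {x y} hx hy => by
        have := M.mul_mem hx hy
        rw [← map_mul] at this
        simpa only [Set.mem_setOf_eq, Pi.add_apply, _root_.zpow_add, Pi.mul_def] using this
      neg_mem' := fun {x} hx => by
        have := M.inv_mem hx
        rw [← map_inv] at this
        simpa only [Set.mem_setOf_eq, Pi.neg_apply, _root_.zpow_neg, Pi.inv_def] using this }
  let x : κ → ℤ := Pi.single k 1 + Pi.single k' 1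
  have h0 : ∀ k : κ, dg (fun a => θ ^ (Pi.single k 1 : κ → ℤ) a) = fo k θ := fun k =>
    congrArg dg (funext fun a => by
      by_cases e : a = k <;> simp [e])
  have h1 : x ∈ A := by
    rw [← h0, ← h0, ← map_mul] at h
    simpa only [A, x, AddSubgroup.mem_mk, AddSubmonoid.mem_mk, AddSubsemigroup.mem_mk,
      Set.mem_setOf_eq, Pi.add_apply, _root_.zpow_add, Pi.mul_def] using h
  let y : κ → ℤ := ∑ π : (Q.T : Subgroup (Equiv.Perm κ)), fun a => x (π.1.symm a)
  have h3 : y ∈ A := sum_mem fun π _ => by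
    have := mul_mem (mul_mem (hS (Q.pm_mem π.2)) h1) (inv_mem (hS (Q.pm_mem π.2)))
    rwa [pm_conj] at this
  have h4 : ∀ a, y a = y k := fun a => by
    obtain ⟨τ, hτ, rfl⟩ := Q.trans k a
    simp only [y, Finset.sum_apply]
    refine (Fintype.sum_equiv (Equiv.mulLeft ⟨τ, hτ⟩) _ _ fun π => ?_).symm
    simp [Equiv.Perm.mul_def]
  have h5 : (Fintype.card κ : ℤ) * y k = Nat.card (Q.T : Subgroup (Equiv.Perm κ)) * 2 := by
    have e1 : ∑ a, y a = Nat.card (Q.T : Subgroup (Equiv.Perm κ)) * 2 := by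
      simp only [y, Finset.sum_apply]
      rw [Finset.sum_comm]
      simp only [Equiv.sum_comp _ x]
      simp [x, Finset.sum_add_distrib]
    rw [← e1, Finset.sum_congr rfl fun a _ => h4 a]
    simp
  refine ⟨y k, fun h6 => ?_, by
    have h8 : dg (fun a => θ ^ y a) ∈ M := h3
    simpa only [h4] using h8⟩
  obtain ⟨n, hn⟩ := Q.T.isPGroup'.exists_card_eq
  have h7 := h6.mul_left (Fintype.card κ : ℤ)
  rw [h5, hn, Nat.cast_pow, Nat.cast_ofNat, ← pow_succ] at h7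
  exact absurd (Int.prime_three.dvd_of_dvd_pow h7) (by decide)

include h2 hS

theorem QSyl.exists_theta [Finite F] (hL : M ≤ L) (hn : ∀ l ∈ L, ∀ x ∈ M, l * x * l⁻¹ ∈ M)
    (hJ : ∀ o u, fo o u ∈ M → u ∈ (Q.P : Subgroup (unitary ℍ[F])))
    {l : unitary (Matrix κ κ ℍ[F])} (hl : l ∈ L) {o k k' : κ} (hk : k' ≠ k)
    (h1 : ∀ a, a ≠ k → a ≠ k' → l.1 a o = 0) (h3 : 2 * Quaternion.normSq (l.1 k o) = 1)
    (h4 : l.1 k' o = l.1 k o) :
    ∃ θ ∈ Subgroup.normalizer ((Q.P : Subgroup (unitary ℍ[F])) : Set (unitary ℍ[F])),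
      θ ∉ (Q.P : Subgroup (unitary ℍ[F])) ∧ dg (fun _ : κ => θ) ∈ M := by
  have := finite_quat (F := F)
  have hN : ∀ θ, fo k θ * fo k' θ ∈ M →
      θ ∈ Subgroup.normalizer ((Q.P : Subgroup (unitary ℍ[F])) : Set (unitary ℍ[F])) :=
    fun θ hθ => Subgroup.mem_normalizer_fintype fun u hu => hJ k _ (by
      have := hn _ (hL hθ) _ (hS (Q.fo_mem k hu))
      rw [fo_apply k θ, fo_apply k' θ, ← map_mul, dg_conj_fo] at this
      simpa [hk.symm] using this)
  have hR : ∀ u ∈ (Q.P : Subgroup (unitary ℍ[F])), l * fo o u * l⁻¹ ∈ M :=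
    fun u hu => hn l hl _ (hS (Q.fo_mem o hu))
  have hc := fun u => coe_conj_fo_two hk h1 h4 u (half_conjHalf h3 u)
  have hτ : ∀ u ∈ (Q.P : Subgroup (unitary ℍ[F])),
      conjHalf h3 u ∈ (Q.P : Subgroup (unitary ℍ[F])) := fun u hu => by
    obtain ⟨n, e⟩ := Q.P.isPGroup' ⟨u, hu⟩
    refine mem_sylow_of_normalizer Q.P (k := n) (by
      rw [← map_pow, show u ^ 2 ^ n = 1 from congrArg Subtype.val e, map_one]) (hN _ ?_)
    have hz := hS (Q.fo_mem k Q.neg_one_mem)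
    rw [← mul_flip h2 hk rfl (hc u)]
    exact mul_mem (mul_mem (mul_mem (hR u hu) hz) (hR u hu)) hz
  have hsurj : ∀ w ∈ (Q.P : Subgroup (unitary ℍ[F])), ∃ r ∈ M, r.1 = blk2 k k'
      ((2 : F)⁻¹ • ((w : ℍ[F]) - 1)) ((2 : F)⁻¹ • ((w : ℍ[F]) - 1))
      ((2 : F)⁻¹ • ((w : ℍ[F]) - 1)) ((2 : F)⁻¹ • ((w : ℍ[F]) - 1)) := fun w hw => by
    obtain ⟨u, e⟩ := Finite.injective_iff_surjective.1 (show Function.Injective
      fun u : (Q.P : Subgroup (unitary ℍ[F])) => (⟨_, hτ u u.2⟩ : (Q.P : Subgroup (unitary ℍ[F])))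
      from fun u v e => Subtype.ext (conjHalf_injective h3 (congrArg Subtype.val e))) ⟨w, hw⟩
    exact ⟨_, hR u u.2, by rw [hc, show conjHalf h3 u = w from congrArg Subtype.val e]⟩
  obtain ⟨r1, m1, e1⟩ := hsurj _ Q.hI
  obtain ⟨r2, m2, e2⟩ := hsurj _ Q.hJ
  let θ := qθ h2
  have hθ : fo k θ * fo k' θ ∈ M := by
    rw [← mul_theta h2 hk rfl rfl e1 e2]
    exact mul_mem (mul_mem (mul_mem m1 (hS (Q.fo_mem k' (mul_mem Q.hI Q.hJ)))) m2)
      (hS (Q.fo_mem k' Q.hI))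
  obtain ⟨s, hs, hm⟩ := Q.exists_const hS hθ
  refine ⟨θ ^ s, zpow_mem (hN θ hθ) s, fun hP => ?_, hm⟩
  have t3 : θ ^ 3 = -1 := qθ_cube h2
  have t2 : θ ^ 2 ∈ (Q.P : Subgroup (unitary ℍ[F])) := by
    have a1 : θ ^ (s % 3) ∈ (Q.P : Subgroup (unitary ℍ[F])) := by
      rw [Int.emod_def, _root_.zpow_sub, _root_.zpow_mul, zpow_ofNat, t3]
      exact mul_mem hP (inv_mem (zpow_mem Q.neg_one_mem _))
    rcases (by omega : s % 3 = 1 ∨ s % 3 = 2) with e | e <;> rw [e] at a1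
    · exact pow_mem (by simpa using a1) 2
    · simpa [zpow_ofNat] using a1
  obtain ⟨n, e⟩ := Q.P.isPGroup' ⟨_, t2⟩
  exact qθ_sq_ne h2 (eq_one_of_odd_of_two (Odd.of_dvd_nat (by decide : Odd 3)
    (orderOf_dvd_of_pow_eq_one (by rw [← pow_mul, mul_comm, pow_mul, t3, neg_one_sq])))
    (congrArg Subtype.val e))

omit hS

theorem QSyl.loc [Fintype F] (o₀ : κ) : Loc (Q.S : Subgroup (unitary (Matrix κ κ ℍ[F]))) := by
  have := finite_quat (F := F)
  intro L M hS hL hn g hg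
  obtain ⟨t, ht, hs⟩ := Q.normalizer_spec h2 o₀ hg
  have hg' : ∀ K : Subgroup (unitary (Matrix κ κ ℍ[F])), M ≤ K → dg (fun _ => t) ∈ K → g ∈ K :=
    fun K hK h => by simpa using mul_mem h (hK (hS hs))
  rcases unit_facts h2 Q.P with hN | ⟨hN, hloc⟩
  · exact Or.inl (hg' _ le_sup_left (Subgroup.mem_sup_left (hS (Q.dg_mem fun _ => hN ht))))
  by_cases hJ : ∀ o u, fo o u ∈ M → u ∈ (Q.P : Subgroup (unitary ℍ[F]))
  swap
  · push Not at hJ
    obtain ⟨o, u, hu, hu'⟩ := hJ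
    have h1 := (hloc (M.comap (fo o)) (fun w hw => hS (Q.fo_mem o hw)) t ht).resolve_right
      fun h => hu' (h hu)
    have h3 : fo o t ∈ M ⊔ MulAut.conj g • M := by
      refine (show _ ≤ (M ⊔ MulAut.conj g • M).comap (fo o) from
        sup_le (Subgroup.comap_mono le_sup_left) fun y hy => ?_) h1
      refine Subgroup.mem_sup_right (mem_conj_smul.2 ?_)
      have e := dg_conj_fo (fun _ => t)⁻¹ o y
      have h5 : fo o (t⁻¹ * y * t) ∈ M := mem_conj_smul (H := M.comap (fo o)).1 hy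
      rw [Pi.inv_apply, inv_inv, map_inv, inv_inv] at e
      have := mul_mem (mul_mem (inv_mem (hS hs)) (e ▸ h5)) (hS hs)
      simpa [mul_assoc] using this
    refine Or.inl (hg' _ le_sup_left (Subgroup.pi_mem_of_mulSingle_mem
      (H := (M ⊔ MulAut.conj g • M).comap dg) _ fun a => ?_))
    obtain ⟨π, hπ, rfl⟩ := Q.trans o a
    have h4 := (le_sup_left : M ≤ M ⊔ MulAut.conj g • M) (hS (Q.pm_mem hπ))
    have := mul_mem (mul_mem h4 h3) (inv_mem h4)
    rwa [pm_conj_fo] at this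
  by_cases H0 : ∀ o, ∀ l ∈ L, l * fo o (-1) * l⁻¹ ∈ (Q.S : Subgroup (unitary (Matrix κ κ ℍ[F]))) →
      ∃ k, l * fo o (-1) * l⁻¹ = fo k (-1)
  swap
  · push Not at H0
    obtain ⟨o, l, hl, h1, h3⟩ := H0
    obtain ⟨k, k', hk, h4, h5, u, hu, h6⟩ := (Q.dichot h2 h1).resolve_left fun ⟨k, hk⟩ => h3 k hk
    obtain ⟨θ, t1, t2, t3⟩ := Q.exists_theta h2 hS hL hn hJ
      (mul_mem (hL (hS (Q.fo_mem k' (inv_mem hu)))) hl) (o := o) hk
      (fun a a1 a2 => by rw [Submonoid.coe_mul, fo_mul_apply, h4 a a1 a2, mul_zero])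
      (by rwa [Submonoid.coe_mul, fo_mul_apply, if_neg hk.symm, one_mul])
      (by rw [Submonoid.coe_mul, fo_mul_apply, fo_mul_apply, if_neg hk.symm, if_pos rfl, h6,
        ← mul_assoc, coe_inv_unitary, u.2.1])
    rw [← PG.sup_zpowers_eq_of_card_eq_prime_mul Nat.prime_three Subgroup.le_normalizer hN t1 t2]
      at ht
    exact Or.inl (hg' _ le_sup_left (Subgroup.mem_sup_left ((show _ ≤ M.comap
      (dg.comp (Pi.constMonoidHom κ _)) from sup_le (fun w hw => hS (Q.dg_mem fun _ => hw))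
        (Subgroup.zpowers_le.2 t3)) ht)))
  have key : ∀ l ∈ L, dg (fun _ => t) * l * (dg fun _ => t)⁻¹ * l⁻¹ ∈ M := fun l hl => by
    obtain ⟨d, π, rfl⟩ := Q.monomial h2 (hS.trans hL) H0 (fun o l hl e u hu => by
      have hc := fun a (ha : a ≠ o) => apply_eq_zero_of_conj_eq h2 e ha
      have h1 := hn l hl _ (hS (Q.fo_mem o hu))
      rw [conj_fo_of_col hc (t := ⟨_, mem_unitary_quat.2 (normSq_eq_one_of_col hc)⟩) rfl] at h1 ⊢
      exact ⟨_, hJ o _ h1, rfl⟩) hl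
    have h1 : ∀ a, d a ∈ Subgroup.normalizer ((Q.P : Subgroup (unitary ℍ[F])) :
        Set (unitary ℍ[F])) := fun a => Subgroup.mem_normalizer_fintype fun u hu => by
      have := hn _ hl _ (hS (Q.fo_mem (π.symm a) hu))
      rw [dg_pm_conj_fo, π.apply_symm_apply] at this
      exact hJ a _ this
    have h3 := hS (Q.dg_mem (d := (fun _ => t) * d * (fun _ => t)⁻¹ * d⁻¹)
      fun a => comm_mem_of_card Nat.prime_three hN ht (h1 a))
    have h4 := pm_conj π (fun _ => t)⁻¹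
    rw [map_mul, map_mul, ← show _ = dg (fun _ => t)⁻¹ from h4] at h3
    simpa [mul_assoc] using h3
  refine Or.inr fun l hl => ?_
  set s := (dg fun _ => t)⁻¹ * g
  have h1 : s * l * s⁻¹ * l⁻¹ ∈ M := by
    simpa [mul_assoc] using mul_mem (hS hs) (hn l hl _ (inv_mem (hS hs)))
  have h3 := mul_mem (mul_mem (key _ (hL h1)) h1) (key l hl)
  simpa [s, mul_assoc] using h3

omit h2 in
theorem oddPron_pi_sp {η : Type*} [Finite η] (m : η → ℕ) (K : η → Type*) [∀ i, Field (K i)]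
    [∀ i, Fintype (K i)] (hm : ∀ i, ∃ k : ℕ, m i = 2 ^ k) (hodd : ∀ i, Odd (Fintype.card (K i))) :
    OddPron (∀ i, PSp (m i) (K i)) := by
  have h2 := fun i => Class.two_ne_zero_of_odd_card (hodd i)
  have := fun i => finite_quat (F := K i)
  choose k hk using hm
  choose α β h using fun i => exists_sq_add_sq (h2 i) (-1 : K i)
  let Q := fun i => (nonempty_qSyl (hodd i) (hk i)).some
  refine (oddPron_pi (fun i => (Q i).S) fun i => (Q i).loc (h2 i)
    ⟨0, hk i ▸ Nat.two_pow_pos _⟩).of_surjective (Pi.monoidHom fun i =>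
      ((QuotientGroup.mk' _).comp (spEquiv (h i) (h2 i)).toMonoidHom).comp (Pi.evalMonoidHom _ i))
    fun y => ?_
  choose x hx using fun i => ((QuotientGroup.mk'_surjective _).comp
    (spEquiv (κ := Fin (m i)) (h i) (h2 i)).surjective) (y i)
  exact ⟨x, funext hx⟩

end Cfsg.Lib.Known.Pron
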