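import Cfsg.Agent.Known.Kit3
import Cfsg.Agent.S0242

/-!
# The multiplier of `PSL₃(2)`
-/

set_option autoImplicit false
set_option maxRecDepth 100000

namespace Cfsg.Lib.Known

open PC Cfsg.Lib.Spor Cfsg.Lib.Spor.Bulk

universe u

noncomputable def l32_mm : ℕ := 22906492245
theorem l32_red : KM.Red 2 (1 * 3) 2 (Nat.land 21) (Nat.land l32_mm) := KM.red_2 (by decide +kernel)
noncomputable def l32_cm : ℕ := 50343939
noncomputable def l32_o : ℕ := 16793616
theorem l32_c : KM.okC (1 * 3) 2 12 24 4 l32_cm 63 4092 l32_o = true := by decide +kernel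
noncomputable def l32_O0 (N F : ℕ) : Ops := KM.ops 2 (1 * 3) 2 (Nat.land 21) (Nat.land l32_mm)
  12 24 4 l32_cm 63 4092 l32_o N F
/-- The basis. -/
abbrev l32_b := KM.eb (Equiv.refl (Fin 3)) fun _ => (1 : ZMod 2)
theorem l32_bas : KM.Bas 2 (1 * 3) l32_b := (KM.fBas_zmod 2).bas _
noncomputable def l32_e (D : ℕ) : ℕ := KM.enc1 2 2 3 (KM.dg 3 D)
noncomputable def l32_m (D : ℕ) := KM.mat1 (F := ZMod 2) (Equiv.refl (Fin 3)) (KM.dg 3 D)
theorem l32_rm (D : ℕ) : KM.RM 2 (1 * 3) 2 l32_b (l32_e D)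
    (KM.matEnd _ _ (l32_m D)) := KM.rm_mat1 _ (by decide) (KM.fBas_zmod 2).tor _
noncomputable def l32_O : Ops := l32_O0 168 7
/-- The model. -/
noncomputable def l32_M := KM.matModel (G := (Matrix.SpecialLinearGroup (Fin 3) (ZMod 2))) l32_red l32_bas l32_c (slToMat 3 _)
  KM.slToMat_injective
theorem l32_card : Nat.card (Matrix.SpecialLinearGroup (Fin 3) (ZMod 2)) = 168 := by
  have := Agent.S0242.result (ZMod.card 2) 3 (by decide)
  simpa [Fin.prod_univ_succ] using this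
theorem l32_has : l32_M.Has l32_O := KM.has_mat l32_red l32_bas l32_c _ _ l32_card _
theorem l32_p0 : KM.Pr 2 (1 * 3) 2 l32_b ⊤ (l32_e 0x1010110) (l32_e 0x11010100) :=
  KM.pr_of l32_red l32_bas l32_c (l32_rm _) (l32_rm _) (by decide +kernel) fun _ _ => trivial
theorem l32_p1 : KM.Pr 2 (1 * 3) 2 l32_b ⊤ (l32_e 0x100001010) (l32_e 0x100001010) :=
  KM.pr_of l32_red l32_bas l32_c (l32_rm _) (l32_rm _) (by decide +kernel) fun _ _ => trivial
theorem l32_p2 : KM.Pr 2 (1 * 3) 2 l32_b ⊤ (l32_e 0x11001100) (l32_e 0x1110010) :=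
  KM.pr_of l32_red l32_bas l32_c (l32_rm _) (l32_rm _) (by decide +kernel) fun _ _ => trivial
theorem l32_p3 : KM.Pr 2 (1 * 3) 2 l32_b ⊤ (l32_e 0x10100001) (l32_e 0x10100001) :=
  KM.pr_of l32_red l32_bas l32_c (l32_rm _) (l32_rm _) (by decide +kernel) fun _ _ => trivial
noncomputable def l32_g : List ℕ := [268439573, 285216773]
theorem l32_in : ∀ c ∈ l32_g, l32_M.In ⊤ c := by
  simp only [l32_g, List.forall_mem_cons]
  exact ⟨KM.sl_in l32_red l32_bas l32_c (l32_p0.comm l32_red l32_bas l32_c l32_p1 (by decide +kernel)), KM.sl_in l32_red l32_bas l32_c (l32_p2.comm l32_red l32_bas l32_c l32_p3 (by decide +kernel)), by simp⟩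
def l32m2_cert : Cert where
  p := 2
  q := 4
  m := 2
  n := 3
  r := 1
  S := 10
  W := 22
  F := 9
  L := 3
  NL := 6
  FV := 1060
  T := 0x300c000000000000000000000000000000000000000000000000000000000000000000000000000001880000000000000000000000000000000000000000000000000000000000000000000000000000000c0000000000000000000000000000000000000000000000000000000000000000000000000000000000
  cons := [0x421, 0xc62, 0x841]
  fus := [(0x4100c00, 0x310400, [(0x21, 0x0)]),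
    (0x200c00, 0x300800, [(0x21, 0x0)])]
  Ss := [[], [32801, 33825, 1057, 2081, 2113, 3169], [33825, 2081], [2081]]
  zetas := [[3137]]
  rows := [(33, 0x8056a9, 0x0),
    (65, 0x8c2388, 0x0),
    (66, 0x449587, 0x1),
    (97, 0xfe1314, 0x0),
    (98, 0x1820084, 0x1),
    (99, 0xcef70c, 0x1)]
  zrows := [0x4fe208]
noncomputable def l32m2_cs : List ℕ := [l32_O.one,
  335564804,
  16797713,
  16846853]
noncomputable def l32m2_xs : List ℕ := [67190789,
  352391173]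
theorem l32m2_ck : check l32m2_cert = true := by decide +kernel
theorem l32m2_m : Ops.mult l32_O 168 l32_g
    [(1, [1]), (2, [1]), (2, [1]), (0, [2]), (0, [3]), (4, [5]), (1, [0]), (0, [5]), (6, [8]), (0, [9]), (2, [4]), (0, [0, 3, 11]), (1, [0, 1, 2]), (0, [2, 2, 5, 5]), (2, [1, 3, 3]), (3, [4, 4, 7, 4]), (5, [4, 5, 8, 8, 5]), (4, [6, 5, 6, 9]), (20, [])]
    l32m2_cs l32m2_xs l32m2_cert
    [(1, 7, [(1, 3), (1, 1)]), (17, 2, [(1, 2)])] = true := by decide +kernel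
noncomputable def l32p_i : ℕ → ℕ := getN 0 [0,1,2,3,4]
noncomputable def l32p_R : List (List ℕ) := [[2,1,2,1],[3,1,3,1,3,1],[3,1,2,3,2,1,3,2,1],[4,1,4,2],[4,3,4,3,4,3]]
noncomputable def l32p_c2_C : SeqCert := ⟨nat_lit 2, nat_lit 9, nat_lit 5, nat_lit 0x4040303020201010000, (NT.leaf (nat_lit 0) (nat_lit 0x1b02d028014000)), (NT.leaf (nat_lit 16384) (nat_lit 0x1020102))⟩
noncomputable def l32p_c2_U : List (List ℕ) := []
noncomputable def l32p_c2_HL : List ℕ := []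
theorem l32p_c2_head : l32p_c2_C.head 5 l32p_i l32p_R l32p_c2_U l32p_c2_HL 4 2 0 = true := by decide +kernel
noncomputable def l32p_c2_s0 : List ℕ := [nat_lit 0xc020280c0001]
theorem l32p_c2_ok0 : l32p_c2_C.StepsOK 4 5 := (SeqCert.StepsOK.refl _ 4).step (L := l32p_c2_s0) (by decide +kernel)
theorem l32p_c2_ok : l32p_c2_C.StepsOK (4 + 0) 5 := l32p_c2_ok0
noncomputable def l32p_c2_r0 : List ℕ := [nat_lit 0x24024, nat_lit 0x36031, nat_lit 0x2809e, nat_lit 0x3a08b]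
theorem l32p_c2_final : l32p_c2_C.final 5 5 (nat_lit 0xf) 4 [1,2] (l32p_c2_r0) = true := by decide +kernel
theorem l32p_c2 {G : Type*} [Group G] {g : ℕ → G} {H : Subgroup G} (hg : Sat g 5 l32p_i l32p_R)
    (hU : ∀ u ∈ l32p_c2_U, wv g u ∈ H) (hL : ∀ l ∈ l32p_c2_HL, g l ∈ H) :
    IdxLe H (Subgroup.closure {x | ∃ l ∈ ([1,2] : List ℕ), g l = x}) 4 :=
  SeqCert.idxLe_of_final hg hU hL l32p_c2_head l32p_c2_ok l32p_c2_final
noncomputable def l32p_c1_C : SeqCert := ⟨nat_lit 3, nat_lit 9, nat_lit 5, nat_lit 0x4040303020201010000, (NT.leaf (nat_lit 0) (nat_lit 0xad01b40e401700d2020004003ac0a202640510320000)), (NT.node (nat_lit 2) (NT.node (nat_lit 1) (NT.leaf (nat_lit 4) (nat_lit 0x30103010301)) (NT.leaf (nat_lit 16384) (nat_lit 0x1020102))) (NT.node (nat_lit 3) (NT.leaf (nat_lit 49160) (nat_lit 0x30201030201030102)) (NT.node (nat_lit 4) (NT.leaf (nat_lit 16388) (nat_lit 0x10301030103)) (NT.leaf (nat_lit 32776) (nat_lit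 0x20302010302010301)))))⟩
noncomputable def l32p_c1_U : List (List ℕ) := []
noncomputable def l32p_c1_HL : List ℕ := [1,2]
theorem l32p_c1_head : l32p_c1_C.head 5 l32p_i l32p_R l32p_c1_U l32p_c1_HL 6 3 2 = true := by decide +kernel
noncomputable def l32p_c1_s0 : List ℕ := [nat_lit 0xb0282408080100e0b0401014120a04c16050182008020603806050482004080201c0601020081803028140005]
theorem l32p_c1_ok0 : l32p_c1_C.StepsOK 8 13 := (SeqCert.StepsOK.refl _ 8).step (L := l32p_c1_s0) (by decide +kernel)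
theorem l32p_c1_ok : l32p_c1_C.StepsOK (6 + 2) 13 := l32p_c1_ok0
noncomputable def l32p_c1_r0 : List ℕ := [nat_lit 0x88380300, nat_lit 0xc0198111, nat_lit 0x41022014a, nat_lit 0x2a81c84e3, nat_lit 0x52025049c, nat_lit 0x2d86285ad]
theorem l32p_c1_final : l32p_c1_C.final 5 13 (nat_lit 0x3f) 6 [1,2,3] (l32p_c1_r0) = true := by decide +kernel
theorem l32p_c1 {G : Type*} [Group G] {g : ℕ → G} {H : Subgroup G} (hg : Sat g 5 l32p_i l32p_R)
    (hU : ∀ u ∈ l32p_c1_U, wv g u ∈ H) (hL : ∀ l ∈ l32p_c1_HL, g l ∈ H) :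
    IdxLe H (Subgroup.closure {x | ∃ l ∈ ([1,2,3] : List ℕ), g l = x}) 6 :=
  SeqCert.idxLe_of_final hg hU hL l32p_c1_head l32p_c1_ok l32p_c1_final
noncomputable def l32p_c0_C : SeqCert := ⟨nat_lit 3, nat_lit 9, nat_lit 5, nat_lit 0x4040303020201010000, (NT.leaf (nat_lit 0) (nat_lit 0xb604d807603b412d019411c036c1120224049030008001000f402ac0a201680d10420000)), (NT.node (nat_lit 4) (NT.node (nat_lit 2) (NT.node (nat_lit 1) (NT.leaf (nat_lit 16396) (nat_lit 0x1040204)) (NT.leaf (nat_lit 49164) (nat_lit 0x2040104))) (NT.node (nat_lit 3) (NT.leaf (nat_lit 16) (nat_lit 0x40304030403)) (NT.leaf (nat_lit 4) (nat_lit 0x30103010301)))) (NT.node (nat_lit 6) (NT.node (nat_lit 5) (NT.leaf (nat_lit 12) (nat_lit 0x4010402)) (NT.leaf (nat_lit 16384) (nat_lit 0x1020102))) (NT.node (nat_lit 7) (NT.leaf (nat_lit 49160) (nat_lit 0x30201030201030102)) (NT.node (nat_lit 8) (NT.leaf (nat_lit 16388) (nat_lit 0x10301030103)) (NT.leaf (nat_lit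 32776) (nat_lit 0x20302010302010301))))))⟩
noncomputable def l32p_c0_U : List (List ℕ) := []
noncomputable def l32p_c0_HL : List ℕ := [1,2,3]
theorem l32p_c0_head : l32p_c0_C.head 5 l32p_i l32p_R l32p_c0_U l32p_c0_HL 7 3 3 = true := by decide +kernel
noncomputable def l32p_c0_s0 : List ℕ := [nat_lit 0x480c0f028340604834100806074341c06814040c0f0883e0d0281c1406020502c050382c1006050703c03020280c090181410180380c0806020500a070280c08020900c0a05010081c030180404100180c000b]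
theorem l32p_c0_ok0 : l32p_c0_C.StepsOK 10 21 := (SeqCert.StepsOK.refl _ 10).step (L := l32p_c0_s0) (by decide +kernel)
theorem l32p_c0_ok : l32p_c0_C.StepsOK (7 + 3) 21 := l32p_c0_ok0
noncomputable def l32p_c0_r0 : List ℕ := [nat_lit 0x88480400380, nat_lit 0xc0110588509, nat_lit 0x61014822019a, nat_lit 0x7606982a81d3, nat_lit 0x7183302507ec, nat_lit 0x8288a82d87a5, nat_lit 0x9b0360a30936]
theorem l32p_c0_final : l32p_c0_C.final 5 21 (nat_lit 0x7f) 7 [1,2,3,4] (l32p_c0_r0) = true := by decide +kernel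
theorem l32p_c0 {G : Type*} [Group G] {g : ℕ → G} {H : Subgroup G} (hg : Sat g 5 l32p_i l32p_R)
    (hU : ∀ u ∈ l32p_c0_U, wv g u ∈ H) (hL : ∀ l ∈ l32p_c0_HL, g l ∈ H) :
    IdxLe H (Subgroup.closure {x | ∃ l ∈ ([1,2,3,4] : List ℕ), g l = x}) 7 :=
  SeqCert.idxLe_of_final hg hU hL l32p_c0_head l32p_c0_ok l32p_c0_final
theorem l32p_ord : OrdLe.{u} 5 l32p_i l32p_R [1,2,3,4] 168 :=
  ((((OrdLe.nil 5 l32p_i l32p_R).step (Ls := [1,2]) l32p_c2).step (Ls := [1,2,3]) l32p_c1).step (Ls := [1,2,3,4]) l32p_c0)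
noncomputable def l32p_cs : List ℕ := [l32_O.one,
  83902484,
  16793620,
  67112976,
  352337936]
theorem l32p_s : Ops.slp l32_O l32_g
    [(0, [1]), (2, [2]), (0, [1]), (3, [2]), (0, [5]), (2, [5]), (5, [5, 7]), (6, [2]), (1, [1, 0, 7, 0, 2]), (0, [2, 1]), (2, [3, 3, 9, 9, 9]), (13, [])]
    l32p_cs = true := by decide +kernel
theorem l32p_r : Ops.rels l32_O l32p_cs (invRels l32p_i 5 ++ l32p_R) = true := by decide +kernel
theorem l32p_b : Ops.build l32_O l32p_cs 168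
    [⟨1, 0, 0x10000000200000011, 5, [3, 1, 4]⟩, ⟨17, 0, 0x100000000000200000011, 3, [3, 1, 2]⟩, ⟨20, 0, 4294967309, 2, [2, 1]⟩] = true := by decide +kernel
theorem l32p_pres : ∃ g : ℕ → (Matrix.SpecialLinearGroup (Fin 3) (ZMod 2)), Pres g 5 l32p_i l32p_R :=
  (l32_has.pres (l32_has.slp l32_in l32p_s) l32_card l32p_ord (by decide +kernel) l32p_r l32p_b).imp fun _ h => h.2
noncomputable def l32pa_n1 : Net := (Net.cons (nat_lit 4) (nat_lit 0x4)
 (Net.cons (nat_lit 1) (nat_lit 0x5)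
 (Net.cons (nat_lit 2) (nat_lit 0x30)
 (Net.cons (nat_lit 4) (nat_lit 0x4)
 Net.nil))))
theorem l32pa_n1_ok : l32pa_n1.OK 8 := Net.OK_of_ok (by decide +kernel)
noncomputable def l32pa_n2 : Net := (Net.cons (nat_lit 4) (nat_lit 0x4)
 (Net.cons (nat_lit 2) (nat_lit 0x22)
 (Net.cons (nat_lit 1) (nat_lit 0x14)
 (Net.cons (nat_lit 2) (nat_lit 0x11)
 (Net.cons (nat_lit 4) (nat_lit 0xb)
 Net.nil)))))
theorem l32pa_n2_ok : l32pa_n2.OK 8 := Net.OK_of_ok (by decide +kernel)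
noncomputable def l32pa_n3 : Net := (Net.cons (nat_lit 1) (nat_lit 0x5)
 (Net.cons (nat_lit 2) (nat_lit 0x33)
 Net.nil))
theorem l32pa_n3_ok : l32pa_n3.OK 8 := Net.OK_of_ok (by decide +kernel)
noncomputable def l32pa_n4 : Net := (Net.cons (nat_lit 2) (nat_lit 0x22)
 (Net.cons (nat_lit 1) (nat_lit 0x11)
 (Net.cons (nat_lit 2) (nat_lit 0x22)
 (Net.cons (nat_lit 4) (nat_lit 0x6)
 Net.nil))))
theorem l32pa_n4_ok : l32pa_n4.OK 8 := Net.OK_of_ok (by decide +kernel)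
noncomputable def l32pa_T : ℕ → Net := getN Net.nil [Net.nil, l32pa_n1, l32pa_n2, l32pa_n3, l32pa_n4]
theorem l32pa_nets : NetsOK l32pa_T 8 := netsOK_getN (forall_mem_cons' (Net.OK_nil _) (forall_mem_cons' l32pa_n1_ok (forall_mem_cons' l32pa_n2_ok (forall_mem_cons' l32pa_n3_ok (forall_mem_cons' l32pa_n4_ok forall_mem_nil')))))
theorem l32pa_w : 8 ≤ 2 ^ 3 := by norm_num
theorem l32pa_inv_0 : eqsOn l32pa_T 8 3 (invPairs l32p_i 5) 0 3 = true := by decide +kernel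
theorem l32pa_r0_0 : eqsOn l32pa_T 8 3 (relPairs l32p_i [[2,1,2,1],[3,1,3,1,3,1],[3,1,2,3,2,1,3,2,1],[4,1,4,2],[4,3,4,3,4,3]]) 0 3 = true := by decide +kernel
theorem l32pa_inv : ∀ l < 5, prm l32pa_T 8 (l32p_i l) = (prm l32pa_T 8 l)⁻¹ := inv_of_eqs l32pa_nets l32pa_w ((EqsBelow.zero _ _ _ _).step l32pa_inv_0)
theorem l32pa_rel0 : ∀ r ∈ ([[2,1,2,1],[3,1,3,1,3,1],[3,1,2,3,2,1,3,2,1],[4,1,4,2],[4,3,4,3,4,3]] : List (List ℕ)), wv (prm l32pa_T 8) r = 1 := rels_of_eqs l32pa_nets l32pa_w l32pa_inv (by decide +kernel) ((EqsBelow.zero _ _ _ _).step l32pa_r0_0)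
theorem l32pa_sat : Sat (prm l32pa_T 8) 5 l32p_i l32p_R := sat_prm rfl l32pa_inv fun r hr => l32pa_rel0 r (mem_of_subL (by decide +kernel) r hr)
noncomputable def l32pal_K0 : ℕ → ℕ := getN 0 [0, (nat_lit 0x8e), (nat_lit 0x5c), (nat_lit 0x6c), (nat_lit 0xe1)]
noncomputable def l32pal_K1 : ℕ → ℕ := getN 0 [0, 0, 0, 0, 0]
noncomputable def l32pal_a : List ℕ := [1,1,1,1,0,1,0,0,0,0]
theorem l32pal : Lifts (ZMod 2) (invRels l32p_i 5 ++ l32p_R) (l32pal_a.map Nat.cast) :=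
  lifts_of_chk add2 (K0 := l32pal_K0) (K1 := l32pal_K1) (by decide) l32pa_nets rfl rfl rfl l32pa_sat (by decide +kernel)
theorem l32p_dvd2 : MultDvd (Matrix.SpecialLinearGroup (Fin 3) (ZMod 2)) 2 :=
  l32p_pres.elim fun _ h => multDvd_cyclic h l32pal [2, 0, 0, 0, 0, 1, 0, 0, -2, 0] (by decide +kernel) (by decide +kernel)

theorem mult_l32 {F : Type*} [Field F] [Fintype F] (hF : Fintype.card F = 2) :
    HasCyclicSchurMultiplier (Matrix.ProjectiveSpecialLinearGroup (Fin 3) F) 2 := by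
  obtain ⟨e⟩ := Class.nonempty_ringEquiv_zmod Nat.prime_two hF
  have hc : Subgroup.center (Matrix.SpecialLinearGroup (Fin 3) (ZMod 2)) = ⊥ := eq_bot_iff.2 fun g hg => by
    obtain ⟨r, h1, h2⟩ := Matrix.SpecialLinearGroup.mem_center_iff.1 hg
    have : r = 1 := by clear h2; revert r; decide
    exact Subtype.ext (by rw [← h2, this, map_one]; rfl)
  have h : HasCyclicSchurMultiplier (Matrix.SpecialLinearGroup (Fin 3) (ZMod 2)) 2 :=
    hasCyclic_of_multDvd (by decide) (multLe_cyclic (a := 1) (b := 0) (l32_has.pBound l32_card l32_in l32m2_ck l32m2_m)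
      (pBound_of_card l32_card 7 3 (l := [2]) (by decide +kernel) Nat.prime_three (by simp)) le_rfl (Nat.zero_le _)
      (pBound_others l32_card 7 3 [] (by decide +kernel) (by simp)) rfl) l32p_dvd2
  exact Solv.hasSchurMultiplier_congr_left h
    ((Class.pslEquiv _ e).trans (Class.quotCenterEquivOfEqBot hc)).symm

end Cfsg.Lib.Known
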