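import Cfsg.Agent.Known.PronProj
import Cfsg.Agent.Perm.SymSylow

/-! Monomial quaternion matrices and the normaliser of the Sylow 2-subgroup. -/

set_option autoImplicit false

namespace Cfsg.Lib.Known.Pron

open Matrix Cfsg
open scoped Quaternion

variable {F : Type*} [Field F] {κ : Type*} [Fintype κ] [DecidableEq κ]

theorem exists_dg_pm {g : unitary (Matrix κ κ ℍ[F])} (h : ∀ o, ∃ k, ∀ a, a ≠ k → g.1 a o = 0) :
    ∃ d π, g = dg d * pm π := by
  choose k hk using h
  have hinj : Function.Injective k := fun o o' e => by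
    by_contra hne
    have h1 := congrFun (congrFun g.2.1 o) o'
    rw [mul_apply, one_apply_ne hne, Finset.sum_eq_single (k o)
      (fun a _ ha => by rw [star_apply, hk o a ha, star_zero, zero_mul]) (by simp)] at h1
    have h2 := congrArg Quaternion.normSq h1
    rw [map_mul, star_apply, Quaternion.normSq_star, normSq_eq_one_of_col (hk o), e,
      normSq_eq_one_of_col (hk o'), map_zero, one_mul] at h2
    exact one_ne_zero h2
  let π := Equiv.ofBijective k (Finite.injective_iff_bijective.1 hinj)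
  refine ⟨fun a => ⟨g.1 a (π.symm a), mem_unitary_quat.2 ?_⟩, π,
    Subtype.ext (Matrix.ext fun a b => ?_)⟩
  · have := normSq_eq_one_of_col (hk (π.symm a))
    rwa [show k (π.symm a) = a from π.apply_symm_apply a] at this
  · rw [dg_pm_apply]
    split_ifs with e
    · simp [e]
    · exact hk b a e

theorem dg_pm_conj_fo (d : κ → unitary ℍ[F]) (π : Equiv.Perm κ) (b : κ) (u : unitary ℍ[F]) :
    dg d * pm π * fo b u * (dg d * pm π)⁻¹ = fo (π b) (d (π b) * u * (d (π b))⁻¹) :=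
  conj_fo_of_col (fun a ha => by rw [dg_pm_apply, if_neg ha]) (by rw [dg_pm_apply, if_pos rfl]) u

theorem pm_conj_fo (π : Equiv.Perm κ) (b : κ) (u : unitary ℍ[F]) :
    pm π * fo b u * (pm π)⁻¹ = fo (π b) u := by
  simpa using dg_pm_conj_fo 1 π b u

theorem dg_conj_fo (d : κ → unitary ℍ[F]) (b : κ) (u : unitary ℍ[F]) :
    dg d * fo b u * (dg d)⁻¹ = fo b (d b * u * (d b)⁻¹) := by
  simpa using dg_pm_conj_fo d 1 b u

theorem eq_zero_of_mul_star {x y : ℍ[F]} (hy : Quaternion.normSq y ≠ 0) (h : x * star y = 0) :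
    x = 0 := by
  have := congrArg (· * y) h
  simp only [mul_assoc, Quaternion.star_mul_self, zero_mul, Quaternion.mul_coe_eq_smul] at this
  exact (smul_eq_zero.1 this).resolve_left hy

theorem exists_normSq_ne (g : unitary (Matrix κ κ ℍ[F])) (o : κ) :
    ∃ k, Quaternion.normSq (g.1 k o) ≠ 0 := by
  by_contra h
  push Not at h
  simpa [h] using sum_normSq g o

variable (h2 : (2 : F) ≠ 0) (Q : QSyl κ F)

theorem QSyl.dg_pm_mem {d : κ → unitary ℍ[F]} {π : Equiv.Perm κ}
    (h : dg d * pm π ∈ (Q.S : Subgroup (unitary (Matrix κ κ ℍ[F])))) :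
    (∀ a, d a ∈ (Q.P : Subgroup (unitary ℍ[F]))) ∧ π ∈ (Q.T : Subgroup (Equiv.Perm κ)) := by
  obtain ⟨d', hd, π', hπ, e⟩ := (Q.mem _).1 h
  obtain ⟨rfl, rfl⟩ := dg_pm_inj e
  exact ⟨hd, hπ⟩

theorem QSyl.mem_of_fo_mem {k : κ} {u : unitary ℍ[F]}
    (h : fo k u ∈ (Q.S : Subgroup (unitary (Matrix κ κ ℍ[F])))) :
    u ∈ (Q.P : Subgroup (unitary ℍ[F])) := by
  simpa using (Q.dg_pm_mem (d := Pi.mulSingle k u) (π := 1) (by
    rw [map_one, mul_one]; exact h)).1 k

include h2

theorem QSyl.dichot {g : unitary (Matrix κ κ ℍ[F])} {o : κ}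
    (h : g * fo o (-1) * g⁻¹ ∈ (Q.S : Subgroup (unitary (Matrix κ κ ℍ[F])))) :
    (∃ k, g * fo o (-1) * g⁻¹ = fo k (-1)) ∨ ∃ k k', k' ≠ k ∧
      (∀ a, a ≠ k → a ≠ k' → g.1 a o = 0) ∧ 2 * Quaternion.normSq (g.1 k o) = 1 ∧
        ∃ u ∈ (Q.P : Subgroup (unitary ℍ[F])), g.1 k' o = u * g.1 k o := by
  obtain ⟨d, hd, π, -, e⟩ := (Q.mem _).1 h
  obtain ⟨k, hk⟩ := exists_normSq_ne g o
  have h1 : ∀ a, (if a = k then 1 else 0) - (2 : F) • (g.1 a o * star (g.1 k o)) =
      if a = π k then (d a : ℍ[F]) else 0 := fun a => by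
    rw [← dg_pm_apply, ← e, coe_conj_neg, Matrix.sub_apply, Matrix.smul_apply, pr_apply, one_apply]
  have h3 : ∀ a, a ≠ k → a ≠ π k → g.1 a o = 0 := fun a e1 e2 => by
    have := h1 a
    rw [if_neg e1, if_neg e2, zero_sub, neg_eq_zero, smul_eq_zero] at this
    exact eq_zero_of_mul_star hk (this.resolve_left h2)
  by_cases hπ : π k = k
  · have hc : ∀ a, a ≠ k → g.1 a o = 0 := fun a ha => h3 a ha (hπ.symm ▸ ha)
    refine Or.inl ⟨k, ?_⟩
    rw [conj_fo_of_col hc (t := ⟨_, mem_unitary_quat.2 (normSq_eq_one_of_col hc)⟩) rfl]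
    simp
  · have h4 := h1 k
    rw [if_pos rfl, if_neg (Ne.symm hπ), Quaternion.self_mul_star] at h4
    have h5 : 2 * Quaternion.normSq (g.1 k o) = 1 := by
      have := congrArg (·.re) h4
      simp only [Quaternion.re_sub, Quaternion.re_one, Quaternion.re_smul, Quaternion.re_coe,
        smul_eq_mul, Quaternion.re_zero] at this
      linear_combination -this
    refine Or.inr ⟨k, π k, hπ, h3, h5, -1 * d (π k), mul_mem Q.neg_one_mem (hd _), ?_⟩
    have h6 := h1 (π k)
    rw [if_neg hπ, if_pos rfl, zero_sub] at h6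
    rw [neg_one_mul, Unitary.coe_neg, ← h6, neg_neg, smul_mul_assoc, mul_assoc,
      Quaternion.star_mul_self, Quaternion.mul_coe_eq_smul, smul_smul, h5, one_smul]

theorem QSyl.normalizer_spec [Finite F] (o : κ) {g : unitary (Matrix κ κ ℍ[F])}
    (hg : g ∈ Subgroup.normalizer ((Q.S : Subgroup (unitary (Matrix κ κ ℍ[F]))) :
      Set (unitary (Matrix κ κ ℍ[F])))) :
    ∃ t ∈ Subgroup.normalizer ((Q.P : Subgroup (unitary ℍ[F])) : Set (unitary ℍ[F])),
      (dg fun _ => t)⁻¹ * g ∈ (Q.S : Subgroup (unitary (Matrix κ κ ℍ[F]))) := by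
  have := finite_quat (F := F)
  have hg' := fun s => (Subgroup.mem_normalizer_iff.1 hg s).1
  obtain ⟨d, π, rfl⟩ := exists_dg_pm (g := g) fun b => by
    rcases Q.dichot h2 (hg' _ (Q.fo_mem b Q.neg_one_mem)) with ⟨k, hk⟩ | ⟨k, k', h1, -, h3, u, -, h4⟩
    · exact ⟨k, fun a => apply_eq_zero_of_conj_eq h2 hk⟩
    exfalso
    obtain ⟨d, -, π, -, e⟩ := (Q.mem _).1 (hg' _ (Q.fo_mem b Q.hI))
    have h5 := fun a => (conj_fo_apply g b (qI F) a k).symm.trans
      ((congrArg (fun x : unitary (Matrix κ κ ℍ[F]) => x.1 a k) e).trans (dg_pm_apply d π a k))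
    by_cases hπ : k = π k
    · have h6 := congrArg Quaternion.normSq (h5 k')
      rw [if_neg h1, if_neg (hπ ▸ h1), zero_add, h4, map_mul, map_mul, map_mul, map_zero,
        Quaternion.normSq_star, mem_unitary_quat.1 u.2, Quaternion.normSq_def' (_ - 1)] at h6
      simp only [coe_qI, Quaternion.re_sub, Quaternion.imI_sub, Quaternion.imJ_sub,
        Quaternion.imK_sub, qm_re, qm_imI, qm_imJ, qm_imK, Quaternion.re_one, Quaternion.imI_one,
        Quaternion.imJ_one, Quaternion.imK_one] at h6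
      exact one_ne_zero (α := F) (by
        linear_combination 2 * h6 - (2 * Quaternion.normSq (g.1 k b) + 1) * h3)
    · have h6 := congrArg (·.re) (h5 k)
      rw [Quaternion.normSq_def'] at h3
      simp [hπ, coe_qI] at h6
      exact one_ne_zero (α := F) (by linear_combination 2 * h6 + h3)
  have h1 : ∀ τ ∈ (Q.T : Subgroup (Equiv.Perm κ)), (∀ a, d a * (d ((π * τ * π⁻¹).symm a))⁻¹ ∈
      (Q.P : Subgroup (unitary ℍ[F]))) ∧ π * τ * π⁻¹ ∈ (Q.T : Subgroup (Equiv.Perm κ)) :=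
    fun τ hτ => Q.dg_pm_mem (d := d * fun a => d⁻¹ ((π * τ * π⁻¹).symm a)) (by
      rw [map_mul, ← pm_conj]
      simpa only [map_mul, map_inv, _root_.mul_inv_rev, mul_assoc, inv_mul_cancel_left, inv_inv,
        mul_inv_cancel, mul_one, inv_mul_cancel] using hg' _ (Q.pm_mem hτ))
  have hπ := Perm.SymSyl.normalizer_le Q.T (Subgroup.mem_normalizer_fintype fun τ hτ => (h1 τ hτ).2)
  have h3 : d o ∈ Subgroup.normalizer ((Q.P : Subgroup (unitary ℍ[F])) : Set (unitary ℍ[F])) :=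
    Subgroup.mem_normalizer_fintype fun u hu => by
      have := hg' _ (Q.fo_mem (π.symm o) hu)
      rw [dg_pm_conj_fo, π.apply_symm_apply] at this
      exact Q.mem_of_fo_mem this
  refine ⟨d o, h3, ?_⟩
  rw [← mul_assoc, ← map_inv, ← map_mul]
  refine mul_mem (Q.dg_mem fun a => ?_) (Q.pm_mem hπ)
  obtain ⟨τ, hτ, rfl⟩ := Q.trans o a
  have h4 := (h1 (π⁻¹ * τ * π) (mul_mem (mul_mem (inv_mem hπ) hτ) hπ)).1 (τ o)
  rw [show π * (π⁻¹ * τ * π) * π⁻¹ = τ by group, τ.symm_apply_apply] at h4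
  simpa [mul_assoc] using (Subgroup.mem_normalizer_iff.1 (inv_mem h3) _).1 h4

theorem QSyl.eq_zero_of_norms {v w : ℍ[F]} (hv : Quaternion.normSq v = 1)
    (hw : Quaternion.normSq w = 0 ∨ Quaternion.normSq w = 1)
    (h : ∀ u₁ ∈ (Q.P : Subgroup (unitary ℍ[F])), ∀ u₂ ∈ (Q.P : Subgroup (unitary ℍ[F])), ∀ x,
      x = 1 + star v * ((u₁ : ℍ[F]) - 1) * v + star w * ((u₂ : ℍ[F]) - 1) * w →
        Quaternion.normSq x = 0 ∨ Quaternion.normSq x = 1) : w = 0 := by
  have e : ∀ x u : ℍ[F], star x * (u - 1) * x =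
      star x * u * x - ((Quaternion.normSq x : F) : ℍ[F]) := fun x u => by rw [mul_sub, sub_mul, mul_one, Quaternion.star_mul_self]
  have e' : ∀ x u : ℍ[F], Quaternion.normSq (star x * u * x) =
      Quaternion.normSq x * Quaternion.normSq u * Quaternion.normSq x := fun x u => by
    rw [map_mul, map_mul, Quaternion.normSq_star]
  have h4 : (4 : F) ≠ 0 := by rw [show (4 : F) = 2 * 2 by norm_num]; exact mul_ne_zero h2 h2
  rcases hw with hw | hw
  swap
  · exfalso
    have e1 : star v * ((-1 : unitary ℍ[F]) - 1 : ℍ[F]) * v = ((-2 : F) : ℍ[F]) := by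
      rw [e, Unitary.coe_neg, OneMemClass.coe_one, mul_neg, mul_one, neg_mul,
        Quaternion.star_mul_self, hv]
      ext <;> simp
      norm_num
    have a1 := h _ Q.neg_one_mem _ Q.neg_one_mem ((-3 : F) : ℍ[F]) (by
      rw [e1, e, Unitary.coe_neg, OneMemClass.coe_one, mul_neg, mul_one, neg_mul,
        Quaternion.star_mul_self, hw]
      ext <;> simp
      norm_num)
    have a2 := h _ Q.neg_one_mem _ Q.hI (((-2 : F) : ℍ[F]) + star w * qI F * w) (by
      rw [e1, e, hw, Quaternion.coe_one]; abel)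
    have a3 : (((-2 : F) : ℍ[F]) * star (star w * qI F * w)).re = 0 := by
      simp [coe_qI, -mul_eq_zero]; ring
    rw [Quaternion.normSq_add, a3, e', hw, mem_unitary_quat.1 (qI F).2,
      Quaternion.normSq_coe] at a2
    rw [Quaternion.normSq_coe] at a1
    rcases a1 with a1 | a1
    · rcases a2 with a2 | a2
      · exact one_ne_zero (α := F) (by linear_combination 2 * a2 - a1)
      · exact h4 (by linear_combination a2)
    · exact mul_ne_zero h2 h4 (by linear_combination a1)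
  have b1 : ∀ u₂ ∈ (Q.P : Subgroup (unitary ℍ[F])), star w * u₂ * w = 0 := fun u₂ hu₂ => by
    have b2 : ∀ u₁ ∈ (Q.P : Subgroup (unitary ℍ[F])),
        (star v * u₁ * v * star (star w * u₂ * w)).re = 0 := fun u₁ hu₁ => by
      have c1 := h _ hu₁ _ hu₂ (star v * u₁ * v + star w * u₂ * w) (by
        rw [e, e, hv, hw, Quaternion.coe_one, Quaternion.coe_zero]; abel)
      have c2 := h _ hu₁ _ (mul_mem Q.neg_one_mem hu₂) (star v * u₁ * v + -(star w * u₂ * w)) (by
        rw [e, e, hv, hw, Quaternion.coe_one, Quaternion.coe_zero, neg_one_mul, Unitary.coe_neg,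
          mul_neg, neg_mul]; abel)
      rw [Quaternion.normSq_add, e', e', hv, hw, mem_unitary_quat.1 u₁.2] at c1
      rw [Quaternion.normSq_add, Quaternion.normSq_neg, e', e', hv, hw, mem_unitary_quat.1 u₁.2,
        star_neg, mul_neg, Quaternion.re_neg] at c2
      rcases c1 with c1 | c1
      · rcases c2 with c2 | c2
        · exact absurd (by linear_combination c1 + c2) h2
        · exact mul_left_cancel₀ h2 (by linear_combination -c2)
      · exact mul_left_cancel₀ h2 (by linear_combination c1)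
    have b3 : ∀ u n : ℍ[F], (star v * u * v * n).re = (u * (v * n * star v)).re := fun u n => by
      simp; ring
    simp only [b3] at b2
    generalize hn : star w * u₂ * w = n at b2
    have b4 : v * star n * star v = 0 := by
      generalize v * star n * star v = y at b2
      have d0 := b2 _ (one_mem _)
      have d1 := b2 _ Q.hI
      have d2 := b2 _ Q.hJ
      have d3 := b2 _ (mul_mem Q.hI Q.hJ)
      simp [coe_qI, coe_qJ] at d0 d1 d2 d3
      ext <;> simp [d0, d1, d2, d3]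
    have b5 := congrArg star (eq_zero_of_mul_star (hv.trans_ne one_ne_zero) b4)
    rw [star_mul, star_star, star_zero] at b5
    exact eq_zero_of_mul_star (hv.trans_ne one_ne_zero) b5
  have d1 := congrArg (·.imI) (b1 _ Q.hI)
  have d2 := congrArg (·.imJ) (b1 _ Q.hJ)
  have d3 := congrArg (·.imK) (b1 _ (mul_mem Q.hI Q.hJ))
  rw [Quaternion.normSq_def'] at hw
  simp [coe_qI, coe_qJ] at d1 d2 d3
  ext <;> refine pow_eq_zero_iff two_ne_zero |>.1 (mul_left_cancel₀ h4 ?_)
  · linear_combination hw + d1 + d2 + d3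
  · linear_combination hw + d1 - d2 - d3
  · linear_combination hw - d1 + d2 - d3
  · linear_combination hw - d1 - d2 + d3

theorem QSyl.monomial [Fintype F] {L : Subgroup (unitary (Matrix κ κ ℍ[F]))}
    (hS : (Q.S : Subgroup (unitary (Matrix κ κ ℍ[F]))) ≤ L)
    (H0 : ∀ o, ∀ g ∈ L, g * fo o (-1) * g⁻¹ ∈ (Q.S : Subgroup (unitary (Matrix κ κ ℍ[F]))) →
      ∃ k, g * fo o (-1) * g⁻¹ = fo k (-1))
    (H1 : ∀ o, ∀ l ∈ L, l * fo o (-1) * l⁻¹ = fo o (-1) → ∀ u ∈ (Q.P : Subgroup (unitary ℍ[F])),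
      l * fo o u * l⁻¹ ∈ (Q.P : Subgroup (unitary ℍ[F])).map (fo o))
    {l : unitary (Matrix κ κ ℍ[F])} (hl : l ∈ L) : ∃ d π, l = dg d * pm π := by
  refine exists_dg_pm fun o => ?_
  have h1 : ∀ a, Quaternion.normSq (l.1 a o) = 0 ∨ Quaternion.normSq (l.1 a o) = 1 := fun a => by
    obtain ⟨π, hπ, e⟩ := Q.trans a o
    have := normSq_diag h2 Q hS (H0 o) (H1 o) (mul_mem (hS (Q.pm_mem hπ)) hl)
    rwa [Submonoid.coe_mul, mul_apply, Finset.sum_eq_single a (fun b _ hb => by
      rw [pm_apply, if_neg (e ▸ π.injective.ne hb.symm), zero_mul]) (by simp), pm_apply,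
      if_pos e.symm, one_mul] at this
  obtain ⟨k, hk⟩ := exists_normSq_ne l o
  refine ⟨k, fun a ha => Q.eq_zero_of_norms h2 ((h1 k).resolve_left hk) (h1 a)
    fun u₁ hu₁ u₂ hu₂ x hx => ?_⟩
  have := normSq_diag h2 Q hS (H0 o) (H1 o) (mul_mem (mul_mem (mul_mem (inv_mem hl)
    (hS (Q.fo_mem k hu₁))) (hS (Q.fo_mem a hu₂))) hl)
  rwa [Submonoid.coe_mul, Submonoid.coe_mul, Submonoid.coe_mul, mul_fo_mul_apply, mul_fo_mul_apply,
    mul_fo_apply, if_neg ha, mul_one, coe_inv_unitary, l.2.1, one_apply_eq, star_apply, star_apply,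
    ← hx] at this

end Cfsg.Lib.Known.Pron
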