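import Mathlib
import Cfsg.Agent.Char.SylEALin
import Cfsg.Agent.Known.TwoRankL
import Cfsg.Agent.Known.GL2Sylow
import Cfsg.Prelude.Def_Transfer

/-!
# Normal elementary abelian subgroups of wreath products
-/

set_option autoImplicit false

namespace Cfsg.Lib.Known.S2R

open Cfsg.Lib.Char Module Equiv

variable {P P' : Type*} [Group P] [Group P']

/-- There is a normal elementary abelian subgroup of order at least `c`. -/
def HasN (P : Type*) [Group P] (c : ℕ) : Prop :=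
  ∃ E : Subgroup P, E.Normal ∧ IsElementaryAbelian 2 E ∧ c ≤ Nat.card E

/-- Every normal elementary abelian subgroup has order at most `c`. -/
def LeN (P : Type*) [Group P] (c : ℕ) : Prop :=
  ∀ E : Subgroup P, E.Normal → IsElementaryAbelian 2 E → Nat.card E ≤ c

theorem ea_iff' {E : Subgroup P} : IsElementaryAbelian 2 E ↔
    (∀ a ∈ E, ∀ b ∈ E, a * b = b * a) ∧ ∀ a ∈ E, a ^ 2 = 1 :=
  and_congr_left fun _ => ⟨fun h a ha b hb => congrArg Subtype.val (h.1.1 ⟨a, ha⟩ ⟨b, hb⟩),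
    fun h => ⟨⟨fun a b => Subtype.ext (h _ a.2 _ b.2)⟩⟩⟩

theorem ea_comap (e : P ≃* P') {E : Subgroup P'} (h : IsElementaryAbelian 2 E) :
    IsElementaryAbelian 2 (E.comap e.toMonoidHom) :=
  ea_iff'.2 ⟨fun a ha b hb => e.injective (by simpa using (ea_iff'.1 h).1 _ ha _ hb),
    fun a ha => e.injective (by simpa using h.2 _ ha)⟩

theorem card_comap (e : P ≃* P') (E : Subgroup P') :
    Nat.card (E.comap e.toMonoidHom) = Nat.card E :=
  Nat.card_congr (e.toEquiv.subtypeEquiv fun _ => Iff.rfl)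

theorem HasN.congr {c : ℕ} (h : HasN P' c) (e : P ≃* P') : HasN P c := by
  obtain ⟨E, h1, h2, h3⟩ := h
  exact ⟨E.comap e.toMonoidHom, h1.comap _, ea_comap e h2, by rwa [card_comap]⟩

theorem LeN.congr {c : ℕ} (h : LeN P c) (e : P ≃* P') : LeN P' c := fun E h1 h2 => by
  rw [← card_comap e]
  exact h _ (h1.comap _) (ea_comap e h2)

theorem sylow_equiv [Finite P'] {p : ℕ} [Fact p.Prime] (e : P ≃* P') (S : Sylow p P)
    (S' : Sylow p P') : Nonempty (↥(S' : Subgroup P') ≃* ↥(S : Subgroup P)) := by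
  have := Finite.of_equiv _ e.symm.toEquiv
  exact ((SylH.Emb.subgroup _).trans (SylH.Emb.of_equiv e)).sylow
    (by rw [S.card_eq_multiplicity, Nat.card_congr e.toEquiv]) S'

variable {ι D E G : Type*} [Group D] [Group E] [Group G] (W : WrData ι D E G)
  (T : Subgroup (Perm ι))

theorem mem_syl {x : G} (hx : x ∈ W.syl T) : ∃ b, ∃ π ∈ T, x = W.β b * W.σ π := by
  have := Subgroup.coe_mul_of_right_le_normalizer_left _ _ (W.le_normalizer T)
  have h2 : x ∈ ((W.β.range ⊔ T.map W.σ : Subgroup G) : Set G) := hx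
  rw [this] at h2
  obtain ⟨_, ⟨b, rfl⟩, _, ⟨π, hπ, rfl⟩, rfl⟩ := h2
  exact ⟨b, π, hπ, rfl⟩

theorem hasN_syl [Finite ι] {z : D} {z' : E} (hz : z ∈ Subgroup.center D) (hz2 : z ^ 2 = 1)
    (hz' : z' ∈ Subgroup.center E) (hz2' : z' ^ 2 = 1) :
    HasN (W.syl T) (orderOf z ^ Nat.card ι * orderOf z') := by
  let A : Subgroup ((ι → D) × E) :=
    (Subgroup.pi Set.univ fun _ => Subgroup.zpowers z).prod (Subgroup.zpowers z')
  have hA : ∀ a ∈ A, a ∈ Subgroup.center ((ι → D) × E) ∧ a ^ 2 = 1 := fun a ha => by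
    have h1 : ∀ i, a.1 i ∈ Subgroup.center D ∧ a.1 i ^ 2 = 1 := fun i => by
      obtain ⟨k, hk⟩ := ha.1 i trivial
      rw [← hk]
      exact ⟨zpow_mem hz k, by rw [← zpow_natCast, ← zpow_mul, mul_comm, zpow_mul, zpow_natCast,
        hz2, one_zpow]⟩
    obtain ⟨k, hk⟩ := ha.2
    refine ⟨Subgroup.mem_center_iff.2 fun g => Prod.ext (funext fun i =>
      Subgroup.mem_center_iff.1 (h1 i).1 _) (Subgroup.mem_center_iff.1 (hk ▸ zpow_mem hz' k) _),
      Prod.ext (funext fun i => (h1 i).2) ?_⟩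
    change a.2 ^ 2 = 1
    rw [← hk, ← zpow_natCast, ← zpow_mul, mul_comm, zpow_mul, zpow_natCast, hz2', one_zpow]
  have hle : A.map W.β ≤ W.syl T := (Subgroup.map_le_range _ _).trans le_sup_left
  refine ⟨(A.map W.β).subgroupOf _, ⟨?_⟩, ea_iff'.2 ⟨?_, ?_⟩, ?_⟩
  · rintro ⟨_, hx⟩ ⟨a, ha, rfl⟩ ⟨g, hg⟩
    obtain ⟨b, π, hπ, rfl⟩ := mem_syl W T hg
    have h1 : ((fun i => a.1 (π.symm i), a.2) : (ι → D) × E) ∈ A := ⟨fun i _ => ha.1 _ trivial, ha.2⟩
    refine ⟨_, h1, ?_⟩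
    change _ = W.β b * W.σ π * W.β (a.1, a.2) * (W.β b * W.σ π)⁻¹
    rw [mul_inv_rev, mul_assoc (W.β b), mul_assoc (W.β b), ← mul_assoc (_ * _), W.conj, ← map_inv,
      ← map_mul, ← map_mul, ← mul_assoc, Subgroup.mem_center_iff.1 (hA _ h1).1, mul_inv_cancel_right]
  · rintro ⟨_, hx⟩ ⟨a, ha, rfl⟩ ⟨_, hy⟩ ⟨b, hb, rfl⟩
    refine Subtype.ext ?_
    change W.β a * W.β b = W.β b * W.β a
    rw [← map_mul, ← map_mul, Subgroup.mem_center_iff.1 (hA _ hb).1]
  · rintro ⟨_, hx⟩ ⟨a, ha, rfl⟩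
    refine Subtype.ext ?_
    change W.β a ^ 2 = 1
    rw [← map_pow, (hA _ ha).2, map_one]
  · rw [Nat.card_congr (Subgroup.subgroupOfEquivOfLe hle).toEquiv,
      Subgroup.card_map_of_injective W.inj, Nat.card_congr (Subgroup.prodEquiv _ _).toEquiv,
      Nat.card_prod, Nat.card_zpowers]
    refine Nat.mul_le_mul_right _ (le_of_eq ?_)
    rw [← Nat.card_zpowers, ← Nat.card_fun]
    exact Nat.card_congr
      { toFun := fun f => ⟨fun i => f i, fun i _ => (f i).2⟩
        invFun := fun f i => ⟨f.1 i, f.2 i trivial⟩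
        left_inv := fun _ => rfl
        right_inv := fun _ => rfl }

theorem leN_syl [Finite ι] [Finite D] [Finite E] {a : D} (ha : a ^ 2 ≠ 1) :
    LeN (W.syl T) (Nat.card {d : D // d ^ 2 = 1 ∧ ∀ g, Commute d (g * d * g⁻¹)} ^ Nat.card ι *
      Nat.card E) := fun N hN hE => by
  classical
  have hcomm := (ea_iff'.1 hE).1
  have hbase : ∀ x : N, ∃ b, W.β b = x := fun x => by
    obtain ⟨b, π, hπ, hx⟩ := mem_syl W T x.1.2
    obtain rfl : π = 1 := by
      by_contra hne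
      obtain ⟨i, hi⟩ : ∃ i, π i ≠ i := by
        by_contra! h
        exact hne (Equiv.ext h)
      let g : W.syl T := ⟨W.f i a, W.f_mem_syl T i a⟩
      have h1 := hE.2 _ (mul_mem (hN.conj_mem _ x.2 g) (inv_mem x.2))
      have h2 : ((g * x * g⁻¹ * (x : W.syl T)⁻¹ : W.syl T) : G) =
          W.β ((Pi.mulSingle i a, 1) * b * (Pi.mulSingle (π i) a⁻¹, 1) * b⁻¹) := by
        change W.f i a * x * (W.f i a)⁻¹ * ((x : W.syl T) : G)⁻¹ = _
        rw [hx, map_mul, map_mul, map_mul, ← W.f_apply, ← W.f_apply, ← W.conj_f, map_inv, map_inv]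
        group
      have h3 := congrArg Subtype.val h1
      rw [Subgroup.coe_pow, h2, ← map_pow, Subgroup.coe_one, ← map_one W.β] at h3
      have h4 := congrFun (congrArg Prod.fst (W.inj h3)) i
      simp [Pi.mulSingle_eq_of_ne hi.symm] at h4
      exact ha h4
    exact ⟨b, by rw [hx, map_one, mul_one]⟩
  choose b hb using hbase
  rw [← Nat.card_fun, ← Nat.card_prod]
  refine Nat.card_le_card_of_injective (fun x => (fun i => ⟨(b x).1 i, ?_, fun g => ?_⟩, (b x).2)) ?_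
  · have h1 := congrArg Subtype.val (hE.2 _ x.2)
    rw [Subgroup.coe_pow, ← hb, ← map_pow, Subgroup.coe_one, ← map_one W.β] at h1
    exact congrFun (congrArg Prod.fst (W.inj h1)) i
  · let g' : W.syl T := ⟨W.f i g, W.f_mem_syl T i g⟩
    have h1 := congrArg Subtype.val (hcomm _ x.2 _ (hN.conj_mem _ x.2 g'))
    change (x : G) * (W.f i g * x * (W.f i g)⁻¹) = W.f i g * x * (W.f i g)⁻¹ * x at h1
    rw [← hb, W.f_apply, ← map_inv, ← map_mul, ← map_mul, ← map_mul, ← map_mul] at h1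
    simpa [Commute, SemiconjBy] using congrFun (congrArg Prod.fst (W.inj h1)) i
  · intro x y h
    have h1 : b x = b y := Prod.ext (funext fun i => Subtype.mk.inj (congrFun (Prod.mk.inj h).1 i))
      (Prod.mk.inj h).2
    exact Subtype.ext (Subtype.ext (by rw [← hb, ← hb, h1]))

theorem qd_card_le [Finite D] (h : IsQuasiDihedral D) : (∃ a : D, a ^ 2 ≠ 1) ∧
    Nat.card {d : D // d ^ 2 = 1 ∧ ∀ g, Commute d (g * d * g⁻¹)} ≤ 2 := by
  classical
  obtain ⟨n, hn, hc, x, y, hx, hy, hr⟩ := h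
  have h4 : x ^ 4 ≠ 1 := fun h3 => by
    have := orderOf_dvd_of_pow_eq_one h3
    rw [hx, show 4 = 2 ^ 2 from rfl, Nat.pow_dvd_pow_iff_le_right one_lt_two] at this
    omega
  refine ⟨⟨x, fun h => h4 (by rw [show 4 = 2 * 2 from rfl, pow_mul, h, one_pow])⟩, ?_⟩
  have h3 : (Subgroup.zpowers x).index = 2 := by
    have := (Subgroup.zpowers x).index_mul_card
    rw [hc, Nat.card_zpowers, hx, pow_succ' 2 n] at this
    exact Nat.eq_of_mul_eq_mul_right (by positivity) this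
  have hcz : ∀ u ∈ Subgroup.zpowers x, u * x * u⁻¹ = x := by
    rintro _ ⟨k, rfl⟩
    simp only
    group
  have h0 : 0 < 2 ^ (n - 1) := by positivity
  have h5 : (x * (x ^ (2 ^ (n - 1) - 1))⁻¹) ^ 2 ≠ 1 := fun h => by
    have h6 : x ^ 2 ^ n = 1 := hx ▸ pow_orderOf_eq_one x
    rw [((Commute.refl x).pow_right _).inv_right.mul_pow, inv_pow,
      mul_inv_eq_one, ← pow_mul] at h
    refine h4 ?_
    rw [show 4 = 2 + 2 from rfl, pow_add]
    nth_rw 1 [h]
    rw [← pow_add, ← h6]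
    congr 1
    obtain ⟨m, rfl⟩ : ∃ m, n = m + 1 := ⟨n - 1, by omega⟩
    simp only [Nat.add_sub_cancel] at h0 ⊢
    rw [pow_succ]
    omega
  have hy' : y ∉ Subgroup.zpowers x := fun h => h5 (by rw [← hr, hcz y h]; simp)
  have hmem : ∀ d : D, d ^ 2 = 1 → (∀ g, Commute d (g * d * g⁻¹)) → d ∈ Subgroup.zpowers x := by
    intro d hd hcd
    by_contra hd'
    have h6 : y⁻¹ * d ∈ Subgroup.zpowers x := (Subgroup.mul_mem_iff_of_index_two h3).2 (by
      simp [hy', hd'])
    have h7 : d * x * d⁻¹ = x ^ (2 ^ (n - 1) - 1) := by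
      rw [← hr]
      conv_rhs => rw [← hcz _ h6]
      group
    refine h5 ?_
    rw [← h7, show x * (d * x * d⁻¹)⁻¹ = x * d * x⁻¹ * d⁻¹ by group,
      (hcd x).symm.inv_right.mul_pow, conj_pow, inv_pow, hd]
    simp
  have := Fintype.ofFinite (Subgroup.zpowers x)
  refine le_trans ?_ (IsCyclic.card_pow_eq_one_le (α := Subgroup.zpowers x) two_pos)
  rw [← Fintype.card_coe, ← Nat.card_eq_fintype_card]
  exact Nat.card_le_card_of_injective (fun d => ⟨⟨d.1, hmem _ d.2.1 d.2.2⟩, by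
    simpa [Subtype.ext_iff] using d.2.1⟩) fun d d' h => Subtype.ext (Subtype.mk.inj (Subtype.mk.inj h))

variable {F : Type*} [Field F] [Fintype F]

theorem orderOf_neg {V : Type*} [AddCommGroup V] [Module F V] [Nontrivial V] (h2 : (2 : F) ≠ 0) :
    orderOf (LinearEquiv.neg F : V ≃ₗ[F] V) = 2 := by
  refine orderOf_eq_prime (LinearEquiv.ext fun v => by simp [sq]) fun h => ?_
  obtain ⟨v, hv⟩ := exists_ne (0 : V)
  have h1 : -v = v := LinearEquiv.congr_fun h v
  refine hv ((smul_eq_zero.1 (?_ : (2 : F) • v = 0)).resolve_left h2)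
  rw [two_smul]
  nth_rw 1 [← h1]
  exact neg_add_cancel v

omit [Fintype F] in
theorem neg_mem_center {V : Type*} [AddCommGroup V] [Module F V] :
    (LinearEquiv.neg F : V ≃ₗ[F] V) ∈ Subgroup.center (V ≃ₗ[F] V) :=
  Subgroup.mem_center_iff.2 fun g => LinearEquiv.ext fun v => by simp

theorem mem_sylow_of_center {z : G} (hz : z ∈ Subgroup.center G) (h : z ^ 2 = 1) (S : Sylow 2 G) :
    z ∈ (S : Subgroup G) :=
  GL2.mem_sylow_of_mem_normalizer S (k := 1) (by simpa using h)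
    (Subgroup.center_le_normalizer _ hz)

/-- The Sylow subgroup of `GL` as a wreath product with blocks of dimension `d`. -/
theorem exists_sylow_GL (hF : Odd (Fintype.card F)) {d m r n : ℕ} (hd : 0 < d) (hn : n = d * m + r)
    (D : Sylow 2 ((Fin d → F) ≃ₗ[F] (Fin d → F))) (E : Sylow 2 ((Fin r → F) ≃ₗ[F] (Fin r → F)))
    (hv : padicValNat 2 (∏ i ∈ Finset.range n, (Fintype.card F ^ (i + 1) - 1)) =
      m * padicValNat 2 (∏ i ∈ Finset.range d, (Fintype.card F ^ (i + 1) - 1)) +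
        padicValNat 2 (∏ i ∈ Finset.range r, (Fintype.card F ^ (i + 1) - 1)) +
          padicValNat 2 m.factorial) (S : Sylow 2 (GL (Fin n) F)) :
    ∃ (W : WrData (Fin m) D.1 E.1
      (((Fin m → Fin d → F) × (Fin r → F)) ≃ₗ[F] ((Fin m → Fin d → F) × (Fin r → F))))
      (T : Subgroup (Perm (Fin m))), Nonempty (↥(S : Subgroup (GL (Fin n) F)) ≃* W.syl T) := by
  have h1 : 1 < Fintype.card F := Fintype.one_lt_card
  have : Nonempty (Fin d) := ⟨⟨0, hd⟩⟩
  have : Finite ((Fin d → F) ≃ₗ[F] (Fin d → F)) := finite_linearEquiv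
  have : Finite ((Fin r → F) ≃ₗ[F] (Fin r → F)) := finite_linearEquiv
  have : Finite (((Fin m → Fin d → F) × (Fin r → F)) ≃ₗ[F] ((Fin m → Fin d → F) × (Fin r → F))) :=
    finite_linearEquiv
  obtain ⟨T⟩ : Nonempty (Sylow 2 (Perm (Fin m))) := inferInstance
  let W := (linWr F (Fin m) (Fin d → F) (Fin r → F)).comp (D : Subgroup _).subtype
    (E : Subgroup _).subtype Subtype.val_injective Subtype.val_injective
  have hdim : finrank F ((Fin m → Fin d → F) × (Fin r → F)) = n := by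
    simp [finrank_pi_fintype, mul_comm, hn]
  obtain ⟨S', hS⟩ := W.exists_sylow (p := 2) D.card_eq_multiplicity E.card_eq_multiplicity T (by
    rw [card_linearEquiv hdim, card_linearEquiv (k := d) (by simp),
      card_linearEquiv (k := r) (by simp),
      Nat.factorization_def _ Nat.prime_two, Nat.factorization_def _ Nat.prime_two,
      Nat.factorization_def _ Nat.prime_two, Nat.factorization_def _ Nat.prime_two,
      V2.v_prod_gl h1 hF, V2.v_prod_gl h1 hF, V2.v_prod_gl h1 hF, hv, Fintype.card_fin])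
  refine ⟨W, T, hS ▸ sylow_equiv ((Matrix.GeneralLinearGroup.toLin'
    (Module.finBasisOfFinrankEq F _ hdim)).trans
      (LinearMap.GeneralLinearGroup.generalLinearEquiv F _)).symm S' S⟩

end Cfsg.Lib.Known.S2R
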