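/-
Products of p-elements in alternating groups, part B: small supports, transport along embeddings.
-/
import Cfsg.Agent.Known.AltPA

set_option autoImplicit false

namespace Cfsg.Lib.Known.AltP

open Equiv Equiv.Perm

variable {α β : Type*}

/-- Second criterion. -/
theorem not_solvable_small [DecidableEq β] [Fintype β] (hodd : Odd (Fintype.card β))
    {H : Subgroup (Perm β)} {c x : Perm β} (hc : c ∈ H) (hx : x ∈ H)
    (hcN : c ^ Fintype.card β = 1) (ht : ∀ x y, c.SameCycle x y) (T : Finset β)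
    (hT : ∀ v, v ∉ T → x v = v) (h5 : T.card ≤ 5) (h3 : 3 * T.card < 2 * Fintype.card β)
    {v : β} (hv0 : x v ≠ v) (hv : x v = c (c v) ∨ c (x v) = v) : ¬ Group.IsSolvable H := by
  intro hs
  have hH : H ≠ ⊥ := by
    intro h
    rw [h, Subgroup.mem_bot] at hx
    subst hx
    exact hv0 rfl
  obtain ⟨A, hA, hcm, hn⟩ := exists_abelian_normal hs hH
  have inT : ∀ w, x w ≠ w → w ∈ T := fun w hw => by_contra fun h => hw (hT w h)
  have all : ∀ w, (∃ a ∈ A, a w = c (c w)) → ∀ w' y, ∃ a ∈ A, a w' = y := by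
    intro w hw
    have h1 : ∀ k : ℕ, ∃ a ∈ A, a w = (c ^ (2 * k)) w := by
      intro k
      induction k with
      | zero => exact ⟨1, A.one_mem, rfl⟩
      | succ k ih =>
        refine rel_trans ih ?_
        have := rel_apply hn (H.pow_mem hc (2 * k)) hw
        rwa [Nat.mul_succ, pow_add, mul_apply, sq, mul_apply]
    have h2 : ∀ y, ∃ a ∈ A, a w = y := by
      intro y
      obtain ⟨n, rfl⟩ := (ht w y).exists_nat_pow_eq
      rcases Nat.even_or_odd n with ⟨k, hk⟩ | hk
      · rw [hk, ← two_mul]; exact h1 k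
      · obtain ⟨k, hk⟩ := hk.add_odd hodd
        have := h1 k
        rwa [two_mul, ← hk, pow_add, hcN, mul_one] at this
    exact fun w' y => rel_trans (rel_symm (h2 w')) (h2 y)
  have htr : ∀ w' y, ∃ a ∈ A, a w' = y := by
    by_cases hr : ∃ a ∈ A, a v = x v
    · rcases hv with hv | hv
      · exact all v (hv ▸ hr)
      · refine all (x v) ?_
        have h1 := rel_symm hr
        rw [← hv] at h1
        have h2 : ∃ a ∈ A, a (x v) = c (x v) := by rw [hv]; exact rel_symm hr
        exact rel_trans h2 (rel_apply hn hc h2)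
    · exfalso
      obtain ⟨v1, hv1, r1⟩ := exists_rel_ne hA hn hc ht v
      obtain ⟨n, hn'⟩ := (ht v v1).exists_nat_pow_eq
      have r2 : ∃ a ∈ A, a v = (c ^ n) v1 := by
        have := rel_apply hn (H.pow_mem hc n) r1
        rw [hn'] at this
        exact rel_trans r1 this
      have n1 : (c ^ n) v1 ≠ v1 := fun e => hv1 ((c ^ n).injective (e.trans hn'.symm))
      have n2 : (c ^ n) v1 ≠ v := by
        intro e
        have := eq_of_sq_apply (g := c ^ n) hodd
          (by rw [← pow_mul, mul_comm, pow_mul, hcN, one_pow]) (x := v) (by rw [hn', e])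
        exact hv1 (hn'.symm.trans this)
      let U : Finset β := {v, v1, (c ^ n) v1}
      have hU : U.card = 3 := Finset.card_eq_three.2 ⟨_, _, _, hv1.symm, n2.symm, n1.symm, rfl⟩
      have rU : ∀ w ∈ U, ∃ a ∈ A, a v = w := by
        intro w hw
        simp only [U, Finset.mem_insert, Finset.mem_singleton] at hw
        rcases hw with rfl | rfl | rfl
        · exact ⟨1, A.one_mem, rfl⟩
        · exact r1
        · exact r2
      have nU : ∀ w ∈ U, ∀ w' ∈ U, x w ≠ w' := by
        intro w hw w' hw' e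
        exact hr (rel_trans (rU w' hw') (e ▸ rel_symm (rel_apply hn hx (rU w hw))))
      have hd : Disjoint U (U.image x) := by
        rw [Finset.disjoint_left]
        intro w hw hw'
        obtain ⟨w', h1, h2⟩ := Finset.mem_image.1 hw'
        exact nU w' h1 w hw h2
      have hsub : U ∪ U.image x ⊆ T := by
        intro w hw
        rcases Finset.mem_union.1 hw with hw | hw
        · exact inT w (nU w hw w hw)
        · obtain ⟨w', h1, rfl⟩ := Finset.mem_image.1 hw
          exact inT _ fun e => nU w' h1 w' h1 (x.injective e)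
      have := Finset.card_le_card hsub
      rw [Finset.card_union_of_disjoint hd, Finset.card_image_of_injective _ x.injective, hU] at this
      omega
  obtain ⟨y0, hy0⟩ : ∃ y0, y0 ∉ T := by
    by_contra h
    push Not at h
    have : Fintype.card β ≤ T.card := by
      rw [← Finset.card_univ]
      exact Finset.card_le_card fun w _ => h w
    omega
  obtain ⟨a, ha, hav⟩ := htr y0 v
  have xinv : ∀ f, x f = f → x⁻¹ f = f := fun f hf => by rw [inv_eq_iff_eq, hf]
  have cj : ∀ b ∈ A, ∀ f, x f = f → x (b f) = b f → x * b * x⁻¹ = b := by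
    intro b hb f hf h
    refine eq_of_apply_eq hcm (htr f) (hn x hx b hb) hb ?_
    rw [mul_apply, mul_apply, xinv f hf, h]
  have na : x * a * x⁻¹ ≠ a := by
    intro h
    have := DFunLike.congr_fun h y0
    rw [mul_apply, mul_apply, xinv y0 (hT y0 hy0), hav] at this
    exact hv0 this
  have na2 : x * (a * a) * x⁻¹ ≠ a * a := by
    intro h
    have hb := hn x hx a ha
    set b := x * a * x⁻¹ with hbdef
    have hbb : b * b = a * a := by rw [← h, hbdef]; group
    have hg : (b * a⁻¹) ^ 2 ^ 1 = 1 := by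
      have h1 := hcm _ (A.inv_mem ha) b hb
      calc (b * a⁻¹) ^ 2 ^ 1 = b * (a⁻¹ * b) * a⁻¹ := by rw [pow_one, sq]; group
        _ = b * b * a⁻¹ * a⁻¹ := by rw [h1]; group
        _ = 1 := by rw [hbb]; group
    have : Fact (Nat.Prime 2) := ⟨Nat.prime_two⟩
    obtain ⟨f, hf⟩ := exists_fixed_point_of_prime (Nat.two_dvd_ne_zero.2 (Nat.odd_iff.1 hodd)) hg
    have := eq_of_apply_eq hcm (htr f) (A.mul_mem hb (A.inv_mem ha)) A.one_mem hf
    exact na (mul_inv_eq_one.1 this)
  have m1 : ∀ f, f ∉ T → x (a f) ≠ a f := fun f hf e => na (cj a ha f (hT f hf) e)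
  have m2 : ∀ f, f ∉ T → x (a (a f)) ≠ a (a f) := fun f hf e =>
    na2 (cj _ (A.mul_mem ha ha) f (hT f hf) e)
  have hd : Disjoint (Tᶜ.image a) (Tᶜ.image (a * a)) := by
    rw [Finset.disjoint_left]
    intro w h1 h2
    obtain ⟨f, hf, rfl⟩ := Finset.mem_image.1 h1
    obtain ⟨f', hf', e⟩ := Finset.mem_image.1 h2
    have e' : a f' = f := a.injective e
    exact m1 f' (Finset.mem_compl.1 hf') (e' ▸ hT f (Finset.mem_compl.1 hf))
  have hsub : Tᶜ.image a ∪ Tᶜ.image (a * a) ⊆ T := by
    intro w hw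
    rcases Finset.mem_union.1 hw with hw | hw
    · obtain ⟨f, hf, rfl⟩ := Finset.mem_image.1 hw
      exact inT _ (m1 f (Finset.mem_compl.1 hf))
    · obtain ⟨f, hf, rfl⟩ := Finset.mem_image.1 hw
      exact inT _ (m2 f (Finset.mem_compl.1 hf))
  have := Finset.card_le_card hsub
  rw [Finset.card_union_of_disjoint hd, Finset.card_image_of_injective _ a.injective,
    Finset.card_image_of_injective _ (a * a).injective, Finset.card_compl] at this
  omega

/-- Third criterion: perfect groups generated by two elements of order three. -/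
theorem not_solvable_three {G : Type*} [Group G] {a b : G} (ha1 : a ≠ 1) (ha : a ^ 3 = 1)
    (h1 : (a * b) ^ 20 = 1) (hb : b ^ 3 = 1) (h2 : (a * b⁻¹) ^ 5 = 1) :
    ¬ Group.IsSolvable (Subgroup.closure ({a, b} : Set G)) := by
  intro hs
  set H := Subgroup.closure ({a, b} : Set G)
  have hA : a ∈ H := Subgroup.subset_closure (by simp)
  have hB : b ∈ H := Subgroup.subset_closure (by simp)
  have : Nontrivial H := ⟨⟨⟨a, hA⟩, 1, fun e => ha1 (congrArg Subtype.val e)⟩⟩
  have hlt := Group.IsSolvable.commutator_lt_top_of_nontrivial H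
  let φ := Abelianization.of (G := H)
  set x := φ ⟨a, hA⟩
  set y := φ ⟨b, hB⟩
  have e1 : x ^ 3 = 1 := by rw [← map_pow]; convert map_one φ; exact Subtype.ext ha
  have e2 : y ^ 3 = 1 := by rw [← map_pow]; convert map_one φ; exact Subtype.ext hb
  have e3 : (x * y) ^ 20 = 1 := by
    rw [← map_mul, ← map_pow]; convert map_one φ; exact Subtype.ext h1
  have e4 : (x * y⁻¹) ^ 5 = 1 := by
    rw [← map_inv, ← map_mul, ← map_pow]; convert map_one φ; exact Subtype.ext h2
  have e5 : (x * y) ^ 3 = 1 := by rw [mul_pow, e1, e2, mul_one]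
  have e6 : (x * y⁻¹) ^ 3 = 1 := by rw [mul_pow, inv_pow, e1, e2, inv_one, mul_one]
  have e7 : x * y = 1 := by
    have : (x * y) ^ 21 = 1 := by rw [show 21 = 3 * 7 by rfl, pow_mul, e5, one_pow]
    rwa [pow_succ, e3, one_mul] at this
  have e8 : x * y⁻¹ = 1 := by
    have : (x * y⁻¹) ^ 6 = 1 := by rw [show 6 = 3 * 2 by rfl, pow_mul, e6, one_pow]
    rwa [pow_succ, e4, one_mul] at this
  have e9 : x = y := mul_inv_eq_one.1 e8
  have e10 : x = 1 := by
    rw [← e9] at e7
    rwa [pow_succ, sq, e7, one_mul] at e1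
  have key : ∀ g (hg : g ∈ H), φ ⟨g, hg⟩ = 1 := by
    intro g hg
    induction hg using Subgroup.closure_induction with
    | mem g hg =>
      rcases hg with rfl | rfl
      · exact e10
      · exact e9.symm.trans e10
    | one => exact map_one φ
    | mul g h hg hh ih1 ih2 =>
      have : (⟨g * h, H.mul_mem hg hh⟩ : H) = ⟨g, hg⟩ * ⟨h, hh⟩ := rfl
      rw [this, map_mul, ih1, ih2, mul_one]
    | inv g hg ih =>
      have : (⟨g⁻¹, H.inv_mem hg⟩ : H) = ⟨g, hg⟩⁻¹ := rfl
      rw [this, map_inv, ih, inv_one]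
  refine hlt.ne ?_
  rw [eq_top_iff]
  intro g _
  rw [← Abelianization.ker_of]
  exact key g.1 g.2

/-- The required property of a pair. -/
def Good {G : Type*} [Group G] (p : ℕ) (a b : G) : Prop :=
  (¬ ∃ k : ℕ, orderOf (a * b) = p ^ k) ∧ ¬ Group.IsSolvable (Subgroup.closure ({a, b} : Set G))

theorem solvable_map {G G' : Type*} [Group G] [Group G'] (f : G →* G') {a b : G}
    (h : Group.IsSolvable (Subgroup.closure ({a, b} : Set G))) :
    Group.IsSolvable (Subgroup.closure ({f a, f b} : Set G')) := by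
  have e : (Subgroup.closure ({a, b} : Set G)).map f = Subgroup.closure ({f a, f b} : Set G') := by
    rw [MonoidHom.map_closure, Set.image_pair]
  rw [← e]
  exact solvable_of_surjective (f.subgroupMap_surjective _)

theorem solvable_comap {G G' : Type*} [Group G] [Group G'] (f : G →* G')
    (hf : Function.Injective f) {a b : G}
    (h : Group.IsSolvable (Subgroup.closure ({f a, f b} : Set G'))) :
    Group.IsSolvable (Subgroup.closure ({a, b} : Set G)) := by
  have e : (Subgroup.closure ({a, b} : Set G)).map f = Subgroup.closure ({f a, f b} : Set G') := by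
    rw [MonoidHom.map_closure, Set.image_pair]
  rw [← e] at h
  exact solvable_of_surjective
    (f := ((Subgroup.closure ({a, b} : Set G)).equivMapOfInjective f hf).symm.toMonoidHom)
    (MulEquiv.surjective _)

theorem Good.of_map {G G' : Type*} [Group G] [Group G'] {p : ℕ} (hp : p.Prime) (f : G →* G')
    {a b : G} (h : Good p (f a) (f b)) : Good p a b := by
  refine ⟨fun ⟨k, hk⟩ => h.1 ?_, fun hs => h.2 (solvable_map f hs)⟩
  have := orderOf_map_dvd f (a * b)
  rw [hk, map_mul] at this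
  obtain ⟨j, _, hj⟩ := (Nat.dvd_prime_pow hp).1 this
  exact ⟨j, hj⟩

theorem Good.map {G G' : Type*} [Group G] [Group G'] {p : ℕ} (f : G →* G')
    (hf : Function.Injective f) {a b : G} (h : Good p a b) : Good p (f a) (f b) := by
  refine ⟨fun ⟨k, hk⟩ => h.1 ⟨k, ?_⟩, fun hs => h.2 (solvable_comap f hf hs)⟩
  rw [← hk, ← map_mul, orderOf_injective f hf]

theorem Good.symm {G : Type*} [Group G] {p : ℕ} {a b : G} (h : Good p a b) : Good p b a := by
  refine ⟨fun ⟨k, hk⟩ => h.1 ⟨k, ?_⟩, by rw [Set.pair_comm]; exact h.2⟩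
  rw [← hk]
  exact (SemiconjBy.orderOf_eq b (by simp [SemiconjBy, mul_assoc]))

theorem Good.conj {G : Type*} [Group G] {p : ℕ} {a b : G} (h : Good p a b) (g : G) :
    Good p (g * a * g⁻¹) (g * b * g⁻¹) :=
  h.map (MulAut.conj g).toMonoidHom (MulAut.conj g).injective

theorem Good.lift {p : ℕ} (hp : p.Prime) (f : β ↪ α) {σ τ : Perm α} {σ₁ τ₁ : Perm β}
    (hσ : ∀ x, σ (f x) = f (σ₁ x)) (hτ : ∀ x, τ (f x) = f (τ₁ x)) (h : Good p σ₁ τ₁) :
    Good p σ τ := by
  let K : Subgroup (Perm α × Perm β) :=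
    { carrier := {g | ∀ x, g.1 (f x) = f (g.2 x)}
      mul_mem' := fun {g h} hg hh x => by
        simp only [Prod.fst_mul, Prod.snd_mul, mul_apply]
        rw [hh x, hg]
      one_mem' := fun x => rfl
      inv_mem' := fun {g} hg x => by
        simp only [Prod.fst_inv, Prod.snd_inv]
        rw [inv_eq_iff_eq, hg, apply_inv_self] }
  have h1 : Good p (⟨(σ, σ₁), hσ⟩ : K) ⟨(τ, τ₁), hτ⟩ :=
    Good.of_map hp ((MonoidHom.snd _ _).comp K.subtype) h
  refine h1.map ((MonoidHom.fst _ _).comp K.subtype) ?_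
  rw [injective_iff_map_eq_one]
  rintro ⟨⟨g1, g2⟩, hg⟩ e
  have e' : g1 = 1 := e
  subst e'
  refine Subtype.ext (Prod.ext rfl (Equiv.ext fun x => ?_))
  exact (f.injective (hg x)).symm

theorem exists_good [Finite α] {p : ℕ} (hp : p.Prime) (f f' : β ↪ α) {σ τ : Perm α}
    {σ₁ τ₁ : Perm β} (hσ : ∀ x, σ (f x) = f (σ₁ x)) (hτ : ∀ x, τ (f' x) = f' (τ₁ x))
    (h : Good p σ₁ τ₁) : ∃ g : Perm α, Good p σ (g * τ * g⁻¹) := by
  have : Finite β := Finite.of_injective f f.injective
  obtain ⟨g, hg⟩ := Perm.exists_extending_pair f' f f'.injective f.injective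
  refine ⟨g, Good.lift hp f hσ (fun x => ?_) h⟩
  have : g⁻¹ (f x) = f' x := by rw [inv_eq_iff_eq, hg]
  rw [mul_apply, mul_apply, this, hτ, hg]

theorem exists_good_even [DecidableEq α] [Fintype α] [DecidableEq β] [Fintype β] {p : ℕ}
    (hp : p.Prime) (f f' : β ↪ α) {σ τ : Perm α}
    {σ₁ τ₁ : Perm β} (hσ : ∀ x, σ (f x) = f (σ₁ x)) (hτ : ∀ x, τ (f' x) = f' (τ₁ x))
    (h : ∀ ε : ℤˣ, ∃ s : Perm β, sign s = ε ∧ Good p σ₁ (s * τ₁ * s⁻¹)) :
    ∃ g : Perm α, sign g = 1 ∧ Good p σ (g * τ * g⁻¹) := by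
  obtain ⟨g, hg⟩ := Perm.exists_extending_pair f' f f'.injective f.injective
  obtain ⟨s, hs, h⟩ := h (sign g)
  have hsign : sign (s.viaEmbedding f) = sign s := by
    unfold viaEmbedding
    convert sign_extendDomain s _
  refine ⟨s.viaEmbedding f * g, by rw [map_mul, hsign, hs, Int.units_mul_self],
    Good.lift hp f hσ (fun x => ?_) h⟩
  have : (s.viaEmbedding f * g)⁻¹ (f x) = f' (s⁻¹ x) := by
    rw [inv_eq_iff_eq, mul_apply, hg, viaEmbedding_apply, apply_inv_self]
  rw [mul_apply, mul_apply, this, hτ, mul_apply, hg, viaEmbedding_apply, mul_apply, mul_apply]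

theorem even_of_odd_comm [DecidableEq α] [Fintype α] {p : ℕ} {σ τ : Perm α}
    (ht : ¬ Subgroup.centralizer {σ} ≤ alternatingGroup α) (h : ∃ g : Perm α, Good p σ (g * τ * g⁻¹)) :
    ∃ g : Perm α, sign g = 1 ∧ Good p σ (g * τ * g⁻¹) := by
  obtain ⟨g, hg⟩ := h
  rcases Int.units_eq_one_or (sign g) with h1 | h1
  · exact ⟨g, h1, hg⟩
  obtain ⟨t, ht1, ht2⟩ := SetLike.not_le_iff_exists.1 ht
  rw [Subgroup.mem_centralizer_singleton_iff] at ht1
  have ht3 : sign t = -1 := (Int.units_eq_one_or _).resolve_left ht2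
  refine ⟨t * g, by rw [map_mul, h1, ht3]; rfl, ?_⟩
  have := hg.conj t
  rw [ht1, mul_inv_cancel_right] at this
  convert this using 1
  group

end Cfsg.Lib.Known.AltP
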