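/-
Products of p-elements in alternating groups, part C: the three constructions.
-/
import Cfsg.Agent.Known.AltPB

set_option autoImplicit false

namespace Cfsg.Lib.Known.AltP

open Equiv Equiv.Perm

variable {α β : Type*}

theorem exists_emb (σ : Perm α) (x : α) {N : ℕ} [NeZero N] (h : Function.minimalPeriod σ x = N) :
    ∃ f : ZMod N ↪ α, (∀ k : ℕ, f k = (σ ^ k) x) ∧ ∀ i, σ (f i) = f (i + 1) := by
  let f : ZMod N ↪ α := ⟨fun i => (σ ^ i.val) x, fun i j hij => by
    apply ZMod.val_injective
    refine Function.iterate_injOn_Iio_minimalPeriod (f := σ) (x := x) ?_ ?_ ?_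
    · rw [h]; exact ZMod.val_lt i
    · rw [h]; exact ZMod.val_lt j
    · exact hij⟩
  have h1 : ∀ k : ℕ, f k = (σ ^ k) x := by
    intro k
    change (σ ^ (k : ZMod N).val) x = _
    rw [ZMod.val_natCast, ← h]
    exact Function.iterate_mod_minimalPeriod_eq
  refine ⟨f, h1, fun i => ?_⟩
  obtain ⟨k, rfl⟩ := ZMod.natCast_zmod_surjective i
  rw [← Nat.cast_succ, h1, h1, pow_succ', mul_apply]

theorem minimalPeriod_dvd (σ : Perm α) (x : α) : Function.minimalPeriod σ x ∣ orderOf σ := by
  apply Function.IsPeriodicPt.minimalPeriod_dvd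
  change (σ ^ orderOf σ) x = x
  rw [pow_orderOf_eq_one, one_apply]

theorem exists_minimalPeriod {σ : Perm α} {p a : ℕ} (hp : p.Prime) (h : orderOf σ = p ^ (a + 1)) :
    ∃ x, Function.minimalPeriod σ x = p ^ (a + 1) := by
  have h1 : σ ^ p ^ a ≠ 1 := by
    intro e
    have := orderOf_dvd_of_pow_eq_one e
    rw [h, Nat.pow_dvd_pow_iff_le_right hp.one_lt] at this
    omega
  obtain ⟨x, hx⟩ : ∃ x, (σ ^ p ^ a) x ≠ x := by
    by_contra h2
    push Not at h2
    exact h1 (Equiv.ext h2)
  refine ⟨x, ?_⟩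
  have h2 := minimalPeriod_dvd σ x
  rw [h] at h2
  obtain ⟨j, hj, e⟩ := (Nat.dvd_prime_pow hp).1 h2
  rcases Nat.lt_or_ge j (a + 1) with h3 | h3
  · exfalso
    apply hx
    have : Function.IsPeriodicPt σ (p ^ a) x :=
      Function.isPeriodicPt_iff_minimalPeriod_dvd.2 (e ▸ pow_dvd_pow p (by omega))
    exact this
  · rw [e, le_antisymm hj h3]

theorem exists_equiv_of_tr [Fintype β] {c : Perm β} (ht : ∀ x y, c.SameCycle x y) {N : ℕ}
    [NeZero N] (hN : Fintype.card β = N) : ∃ e : ZMod N ≃ β, ∀ i, c (e i) = e (i + 1) := by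
  obtain ⟨x⟩ : Nonempty β := Fintype.card_pos_iff.1 (by rw [hN]; exact NeZero.pos N)
  have hpos : Function.minimalPeriod c x ≠ 0 := fun e => by
    have := minimalPeriod_dvd c x
    rw [e, zero_dvd_iff] at this
    exact (orderOf_pos c).ne' this
  have : NeZero (Function.minimalPeriod c x) := ⟨hpos⟩
  obtain ⟨f, h1, h2⟩ := exists_emb c x rfl
  have hs : Function.Bijective f := ⟨f.injective, fun y => by
    obtain ⟨n, rfl⟩ := (ht x y).exists_nat_pow_eq
    exact ⟨n, h1 n⟩⟩
  have hc := Fintype.card_of_bijective hs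
  rw [ZMod.card, hN] at hc
  subst hc
  exact ⟨Equiv.ofBijective f hs, h2⟩

theorem pow_eq_one_of_equiv {c : Perm β} {N : ℕ} (e : ZMod N ≃ β) (h : ∀ i, c (e i) = e (i + 1)) :
    c ^ N = 1 := by
  have : ∀ (k : ℕ) i, (c ^ k) (e i) = e (i + k) := by
    intro k
    induction k with
    | zero => simp
    | succ k ih => intro i; rw [pow_succ', mul_apply, ih, h]; push_cast; rw [add_assoc]
  ext y
  obtain ⟨i, rfl⟩ := e.surjective y
  rw [this]; simp

theorem not_pow_of_coprime {G : Type*} [Group G] {x : G} {p m : ℕ} (hx : x ≠ 1) (hm : x ^ m = 1)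
    (hc : Nat.Coprime p m) : ¬ ∃ k, orderOf x = p ^ k := by
  rintro ⟨k, hk⟩
  have h1 := orderOf_dvd_of_pow_eq_one hm
  rw [hk] at h1
  have := Nat.Coprime.eq_one_of_dvd (hc.pow_left k) h1
  exact hx (orderOf_eq_one_iff.1 (hk.trans this))

/-- Construction A: a nontrivial element of odd order against a full cycle. -/
theorem good_A [DecidableEq β] [Fintype β] {p : ℕ} (hp : p.Prime) (hp2 : p ≠ 2)
    (hpN : p ∣ Fintype.card β) (hodd : Odd (Fintype.card β)) (h4 : 4 ≤ Fintype.card β)
    {σ : Perm β} {m : ℕ} (hm : Odd m) (hσ : σ ^ m = 1) {x : β} (hx : σ x ≠ x) :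
    ∃ c : Perm β, (∀ x y, c.SameCycle x y) ∧ Good p σ c := by
  have hs : sign σ = 1 := by
    have := congrArg sign hσ
    rw [map_pow, map_one] at this
    rcases Int.units_eq_one_or (sign σ) with h | h
    · exact h
    · rw [h, hm.neg_one_pow] at this; exact absurd this (by decide)
  obtain ⟨c, y, z, hyz, t1, t2⟩ := exists_tr_two (by omega) hs hx
    (fun e => hx (eq_of_sq_apply hm hσ e))
  have ht : ∀ x y, c.SameCycle x y := fun x y => t1.tr x (Finset.mem_univ _) y (Finset.mem_univ _)
  have : NeZero (Fintype.card β) := ⟨by omega⟩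
  obtain ⟨e, he⟩ := exists_equiv_of_tr ht rfl
  have hc : c ∈ Subgroup.closure ({σ, c} : Set (Perm β)) := Subgroup.subset_closure (by simp)
  have hσ' : σ ∈ Subgroup.closure ({σ, c} : Set (Perm β)) := Subgroup.subset_closure (by simp)
  refine ⟨c, ht, ?_, not_solvable_two hodd h4 hc (Subgroup.mul_mem _ hσ' hc)
    (pow_eq_one_of_equiv e he) t1 hyz t2⟩
  rintro ⟨k, hk⟩
  have : Fact p.Prime := ⟨hp⟩
  have h1 := card_compl_support_modEq (p := p) (n := k) (σ := σ * c) (hk ▸ pow_orderOf_eq_one _)
  have h2 : (σ * c).supportᶜ = {y, z} := by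
    ext v
    rw [Finset.mem_compl, mem_support, not_not, Finset.mem_insert, Finset.mem_singleton]
    constructor
    · intro h
      by_contra h3
      push Not at h3
      exact t2.ne (by
        rw [Finset.card_erase_of_mem (by simp [hyz.symm]),
          Finset.card_erase_of_mem (Finset.mem_univ _), Finset.card_univ]
        omega) (by simp [h3.1, h3.2]) h
    · rintro (rfl | rfl) <;> exact t2.fix _ (by simp)
  rw [h2, Finset.card_pair hyz] at h1
  have h3 : p ∣ 2 := (h1.dvd_iff dvd_rfl).2 hpN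
  exact hp2 ((Nat.prime_dvd_prime_iff_eq hp Nat.prime_two).1 h3)

theorem good_small [DecidableEq β] [Fintype β] {p : ℕ} (hodd : Odd (Fintype.card β))
    {c s x : Perm β} (hcN : c ^ Fintype.card β = 1) (ht : ∀ x y, c.SameCycle x y)
    (hx : c * s * c⁻¹ * s⁻¹ = x) (T : Finset β)
    (hT : ∀ v, v ∉ T → x v = v) (h5 : T.card ≤ 5) (h3 : 3 * T.card < 2 * Fintype.card β)
    {v : β} (hv0 : x v ≠ v) (hv : x v = c (c v) ∨ c (x v) = v) {m : ℕ} (hm : x ^ m = 1)
    (hc : Nat.Coprime p m) : Good p c (s * c⁻¹ * s⁻¹) := by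
  have e : c * (s * c⁻¹ * s⁻¹) = x := by rw [← hx]; group
  have h1 : c ∈ Subgroup.closure ({c, s * c⁻¹ * s⁻¹} : Set (Perm β)) :=
    Subgroup.subset_closure (by simp)
  have h2 : s * c⁻¹ * s⁻¹ ∈ Subgroup.closure ({c, s * c⁻¹ * s⁻¹} : Set (Perm β)) :=
    Subgroup.subset_closure (by simp)
  refine ⟨?_, not_solvable_small hodd h1 (e ▸ Subgroup.mul_mem _ h1 h2) hcN ht T hT h5 h3 hv0 hv⟩
  rw [e]
  exact not_pow_of_coprime (fun h => hv0 (by rw [h]; rfl)) hm hc

theorem pow_eq_one_of_forall [DecidableEq β] {x : Perm β} {T : Finset β}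
    (hT : ∀ v, v ∉ T → x v = v) {m : ℕ} (h : ∀ v ∈ T, (x ^ m) v = v) : x ^ m = 1 := by
  ext v
  by_cases hv : v ∈ T
  · exact h v hv
  · exact pow_apply_eq_self_of_apply_eq_self (hT v hv) m

/-- Construction B: a full cycle against both classes of full cycles. -/
theorem good_B [DecidableEq β] [Fintype β] {p : ℕ} (hp : p.Prime) (hodd : Odd (Fintype.card β))
    (h5 : 5 ≤ Fintype.card β) (h9 : p = 3 → 9 ≤ Fintype.card β)
    {c : Perm β} (hcN : c ^ Fintype.card β = 1) (ht : ∀ x y, c.SameCycle x y) {a0 a1 a2 a3 a4 : β}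
    (e0 : c a0 = a1) (e1 : c a1 = a2) (e2 : c a2 = a3) (e3 : c a3 = a4)
    (hn : [a0, a1, a2, a3, a4].Nodup) (ε : ℤˣ) :
    ∃ s : Perm β, sign s = ε ∧ Good p c (s * c⁻¹ * s⁻¹) := by
  simp only [List.nodup_cons, List.mem_cons, not_or, List.not_mem_nil, not_false_eq_true,
    List.nodup_nil, and_true] at hn
  obtain ⟨⟨n01, n02, n03, n04⟩, ⟨n12, n13, n14⟩, ⟨n23, n24⟩, n34⟩ := hn
  have m01 := Ne.symm n01
  have m02 := Ne.symm n02
  have m03 := Ne.symm n03
  have m04 := Ne.symm n04
  have m12 := Ne.symm n12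
  have m13 := Ne.symm n13
  have m14 := Ne.symm n14
  have m23 := Ne.symm n23
  have m24 := Ne.symm n24
  have m34 := Ne.symm n34
  have cj : ∀ a b a' b' : β, c * (swap a b * swap a' b') * c⁻¹ = swap (c a) (c b) * swap (c a') (c b') := by
    intro a b a' b'
    rw [swap_apply_apply, swap_apply_apply]; group
  by_cases hp3 : p = 3
  · have h9' := h9 hp3
    subst hp3
    rcases Int.units_eq_one_or ε with rfl | rfl
    · refine ⟨swap a0 a1 * swap a1 a3, by simp [sign_swap n01, sign_swap n13], ?_⟩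
      have hT : ∀ v, v ∉ ({a0, a1, a2, a3, a4} : Finset β) →
          (swap a1 a2 * swap a2 a4 * (swap a1 a3 * swap a0 a1)) v = v := by
        intro v hv
        simp only [Finset.mem_insert, Finset.mem_singleton, not_or] at hv
        simp [swap_apply_def, hv]
      refine good_small hodd hcN ht (by rw [cj, e0, e1, e3]; simp) _ hT
        Finset.card_le_five (by have := Finset.card_le_five (a := a0) (b := a1) (c := a2) (d := a3) (e := a4); omega)
        (v := a1) (by simp [swap_apply_def, *]) (Or.inr (by simp [swap_apply_def, *])) (m := 5)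
        (pow_eq_one_of_forall hT ?_) (by norm_num)
      intro v hv
      simp only [Finset.mem_insert, Finset.mem_singleton] at hv
      rcases hv with rfl | rfl | rfl | rfl | rfl <;> simp [pow_succ, swap_apply_def, *]
    · refine ⟨swap a0 a2, sign_swap n02, ?_⟩
      have hT : ∀ v, v ∉ ({a0, a1, a2, a3} : Finset β) → (swap a1 a3 * swap a0 a2) v = v := by
        intro v hv
        simp only [Finset.mem_insert, Finset.mem_singleton, not_or] at hv
        simp [swap_apply_def, hv]
      have hc := Finset.card_le_four (a := a0) (b := a1) (c := a2) (d := a3)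
      refine good_small hodd hcN ht (by rw [← swap_apply_apply, e0, e2]; simp) _ hT
        (by omega) (by omega)
        (v := a0) (by simp [swap_apply_def, *]) (Or.inl (by simp [swap_apply_def, *])) (m := 2)
        (pow_eq_one_of_forall hT ?_) (by norm_num)
      intro v hv
      simp only [Finset.mem_insert, Finset.mem_singleton] at hv
      rcases hv with rfl | rfl | rfl | rfl <;> simp [pow_succ, swap_apply_def, *]
  · have hc3 : Nat.Coprime p 3 := (Nat.coprime_primes hp Nat.prime_three).2 hp3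
    rcases Int.units_eq_one_or ε with rfl | rfl
    · refine ⟨swap a0 a1 * swap a1 a2, by simp [sign_swap n01, sign_swap n12], ?_⟩
      have hT : ∀ v, v ∉ ({a0, a1, a3} : Finset β) →
          (swap a1 a2 * swap a2 a3 * (swap a1 a2 * swap a0 a1)) v = v := by
        intro v hv
        simp only [Finset.mem_insert, Finset.mem_singleton, not_or] at hv
        by_cases h : v = a2
        · subst h; simp [swap_apply_def, *]
        · simp [swap_apply_def, hv, h]
      have hc := Finset.card_le_three (a := a0) (b := a1) (c := a3)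
      refine good_small hodd hcN ht (by rw [cj, e0, e1, e2]; simp) _ hT
        (by omega) (by omega)
        (v := a1) (by simp [swap_apply_def, *]) (Or.inr (by simp [swap_apply_def, *])) (m := 3)
        (pow_eq_one_of_forall hT ?_) hc3
      intro v hv
      simp only [Finset.mem_insert, Finset.mem_singleton] at hv
      rcases hv with rfl | rfl | rfl <;> simp [pow_succ, swap_apply_def, *]
    · refine ⟨swap a0 a1, sign_swap n01, ?_⟩
      have hT : ∀ v, v ∉ ({a0, a1, a2} : Finset β) → (swap a1 a2 * swap a0 a1) v = v := by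
        intro v hv
        simp only [Finset.mem_insert, Finset.mem_singleton, not_or] at hv
        simp [swap_apply_def, hv]
      have hc := Finset.card_le_three (a := a0) (b := a1) (c := a2)
      refine good_small hodd hcN ht (by rw [← swap_apply_apply, e0, e1]; simp) _ hT
        (by omega) (by omega)
        (v := a0) (by simp [swap_apply_def, *]) (Or.inl (by simp [swap_apply_def, *])) (m := 3)
        (pow_eq_one_of_forall hT ?_) hc3
      intro v hv
      simp only [Finset.mem_insert, Finset.mem_singleton] at hv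
      rcases hv with rfl | rfl | rfl <;> simp [pow_succ, swap_apply_def, *]

theorem good_three {G : Type*} [Group G] {a b : G} (ha1 : a ≠ 1) (ha : a ^ 3 = 1)
    (h1 : (a * b) ^ 20 = 1) (hb : b ^ 3 = 1) (h2 : (a * b⁻¹) ^ 5 = 1) (h3 : a * b ≠ 1) :
    Good 3 a b :=
  ⟨not_pow_of_coprime h3 h1 (by norm_num), not_solvable_three ha1 ha h1 hb h2⟩

end Cfsg.Lib.Known.AltP
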