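/-
Products of p-elements in alternating groups, part D: reduction and the main theorem.
-/
import Cfsg.Agent.Known.AltPC

set_option autoImplicit false

namespace Cfsg.Lib.Known.AltP

open Equiv Equiv.Perm

variable {α β : Type*}

theorem minimalPeriod_ne_zero [Finite α] (σ : Perm α) (x : α) : Function.minimalPeriod σ x ≠ 0 :=
  fun e => by
    have := minimalPeriod_dvd σ x
    rw [e, zero_dvd_iff] at this
    exact (orderOf_pos σ).ne' this

theorem card_orb [DecidableEq α] [Fintype α] (σ : Perm α) (x : α) :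
    (Finset.univ.filter (σ.SameCycle x ·)).card = Function.minimalPeriod σ x := by
  have : NeZero (Function.minimalPeriod σ x) := ⟨minimalPeriod_ne_zero σ x⟩
  obtain ⟨f, h1, -⟩ := exists_emb σ x rfl
  have : Finset.univ.filter (σ.SameCycle x ·) = Finset.univ.map f := by
    ext y
    simp only [Finset.mem_filter, Finset.mem_univ, true_and, Finset.mem_map]
    constructor
    · intro h
      obtain ⟨n, rfl⟩ := h.exists_nat_pow_eq
      exact ⟨n, h1 n⟩
    · rintro ⟨i, rfl⟩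
      obtain ⟨k, rfl⟩ := ZMod.natCast_zmod_surjective i
      exact ⟨k, by rw [h1, zpow_natCast]⟩
  rw [this, Finset.card_map, Finset.card_univ, ZMod.card]

theorem exists_invariant [DecidableEq α] [Fintype α] {σ : Perm α} {p a b : ℕ} (hp : p.Prime)
    (h : orderOf σ = p ^ (a + 1)) (hab : a + 1 ≤ b) (hn : p ^ b ≤ Fintype.card α) :
    ∃ Δ : Finset α, (∀ y, σ y ∈ Δ ↔ y ∈ Δ) ∧ Δ.card = p ^ b ∧ ∃ x ∈ Δ, σ x ≠ x := by
  obtain ⟨x0, hx0⟩ := exists_minimalPeriod hp h
  have hmov : σ x0 ≠ x0 := by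
    intro e
    have := Function.minimalPeriod_eq_one_iff_isFixedPt.2 e
    rw [hx0] at this
    exact (Nat.one_lt_pow (by omega) hp.one_lt).ne' this
  have hpw : ∀ y, ∃ j ≤ a + 1, Function.minimalPeriod σ y = p ^ j := fun y =>
    (Nat.dvd_prime_pow hp).1 (h ▸ minimalPeriod_dvd σ y)
  have hO : ∀ x y, σ y ∈ Finset.univ.filter (σ.SameCycle x ·) ↔
      y ∈ Finset.univ.filter (σ.SameCycle x ·) := by
    intro x y; simp
  have main : ∀ (d : ℕ) (Δ : Finset α), (∀ y, σ y ∈ Δ ↔ y ∈ Δ) → x0 ∈ Δ → Δ.card + d = p ^ b →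
      (∀ y, y ∉ Δ → Function.minimalPeriod σ y ∣ d) →
      ∃ Δ : Finset α, (∀ y, σ y ∈ Δ ↔ y ∈ Δ) ∧ Δ.card = p ^ b ∧ ∃ x ∈ Δ, σ x ≠ x := by
    intro d
    induction d using Nat.strong_induction_on with
    | _ d ih =>
      intro Δ h1 h2 h3 h4
      rcases Nat.eq_zero_or_pos d with rfl | hd
      · exact ⟨Δ, h1, h3, x0, h2, hmov⟩
      have hne : (Δᶜ).Nonempty := by
        rw [← Finset.card_pos, Finset.card_compl]; omega
      obtain ⟨y, hy, hmax⟩ := Finset.exists_max_image Δᶜ (Function.minimalPeriod σ) hne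
      rw [Finset.mem_compl] at hy
      have hle := Nat.le_of_dvd hd (h4 y hy)
      have hpos := Nat.pos_of_ne_zero (minimalPeriod_ne_zero σ y)
      have hdis : Disjoint Δ (Finset.univ.filter (σ.SameCycle y ·)) := by
        rw [Finset.disjoint_right]
        intro z hz hzΔ
        obtain ⟨n, rfl⟩ := (Finset.mem_filter.1 hz).2.exists_nat_pow_eq
        apply hy
        clear hz
        induction n with
        | zero => exact hzΔ
        | succ n ih => rw [pow_succ', mul_apply, h1] at hzΔ; exact ih hzΔ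
      refine ih (d - Function.minimalPeriod σ y) (by omega)
        (Δ ∪ Finset.univ.filter (σ.SameCycle y ·)) (fun z => ?_) (Finset.mem_union_left _ h2) ?_ ?_
      · rw [Finset.mem_union, Finset.mem_union, h1, hO]
      · rw [Finset.card_union_of_disjoint hdis, card_orb]; omega
      · intro z hz
        have hz' : z ∉ Δ := fun e => hz (Finset.mem_union_left _ e)
        refine Nat.dvd_sub (h4 z hz') ?_
        have := hmax z (Finset.mem_compl.2 hz')
        obtain ⟨i, -, hi⟩ := hpw z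
        obtain ⟨j, -, hj⟩ := hpw y
        rw [hi, hj] at this ⊢
        exact pow_dvd_pow p ((Nat.pow_le_pow_iff_right hp.one_lt).1 this)
  have hle : p ^ (a + 1) ≤ p ^ b := Nat.pow_le_pow_right hp.pos hab
  refine main (p ^ b - p ^ (a + 1)) _ (hO x0) (by simp [SameCycle.refl]) ?_ fun y _ => ?_
  · rw [card_orb, hx0]; omega
  · obtain ⟨j, hj, e⟩ := hpw y
    rw [e]
    exact Nat.dvd_sub (pow_dvd_pow p (by omega)) (pow_dvd_pow p hj)

theorem card_le_of_centralizer [DecidableEq α] [Fintype α] {σ : Perm α} {p k : ℕ} (hp : p.Prime)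
    (h : orderOf σ = p ^ k) (hc : Subgroup.centralizer {σ} ≤ alternatingGroup α) :
    Fintype.card α ≤ ∑ i ∈ Finset.range (k + 1), p ^ i := by
  obtain ⟨-, h2, h3⟩ := centralizer_le_alternating_iff.1 hc
  have hnd : σ.cycleType.Nodup := Multiset.nodup_iff_count_le_one.2 h3
  have e1 : σ.cycleType.sum = ∑ c ∈ σ.cycleType.toFinset, c := by
    rw [Finset.sum, Multiset.toFinset_val, hnd.dedup, Multiset.map_id']
  have hsub : σ.cycleType.toFinset ⊆ (Finset.range k).image fun i => p ^ (i + 1) := by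
    intro c hc
    rw [Multiset.mem_toFinset] at hc
    have h4 := dvd_of_mem_cycleType hc
    have h5 := two_le_of_mem_cycleType hc
    rw [h] at h4
    obtain ⟨j, hj, rfl⟩ := (Nat.dvd_prime_pow hp).1 h4
    rcases j with _ | j
    · simp at h5
    · exact Finset.mem_image.2 ⟨j, Finset.mem_range.2 (by omega), rfl⟩
  have h4 := Finset.sum_le_sum_of_subset (f := fun c => c) hsub
  have h5 : ∑ c ∈ (Finset.range k).image fun i => p ^ (i + 1), c
      ≤ ∑ i ∈ Finset.range k, p ^ (i + 1) := Finset.sum_image_le_of_nonneg fun _ _ => Nat.zero_le _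
  rw [Finset.sum_range_succ', pow_zero]
  omega

theorem exists_good' [Finite α] {p : ℕ} (hp : p.Prime) (f f' : β ↪ α) {σ τ : Perm α}
    {σ₁ τ₁ : Perm β} (hσ : ∀ x, σ (f x) = f (σ₁ x)) (hτ : ∀ x, τ (f' x) = f' (τ₁ x)) (s : Perm β)
    (h : Good p σ₁ (s * τ₁ * s⁻¹)) : ∃ g : Perm α, Good p σ (g * τ * g⁻¹) :=
  exists_good hp f ((s⁻¹ : Perm β).toEmbedding.trans f') hσ (fun x => by
    change τ (f' (s⁻¹ x)) = f' (s⁻¹ ((s * τ₁ * s⁻¹) x))
    rw [hτ]; simp) h

/-- two 3-cycles -/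
def t33 : Perm (Fin 6) := ⟨![1, 2, 0, 4, 5, 3], ![2, 0, 1, 5, 3, 4], by decide, by decide⟩
/-- one 3-cycle on six points -/
def t31 : Perm (Fin 6) := ⟨![1, 2, 0, 3, 4, 5], ![2, 0, 1, 3, 4, 5], by decide, by decide⟩
/-- one 3-cycle on five points -/
def t5 : Perm (Fin 5) := ⟨![1, 2, 0, 3, 4], ![2, 0, 1, 3, 4], by decide, by decide⟩

theorem three_cases [DecidableEq α] [Fintype α] (h5 : 5 ≤ Fintype.card α) {σ : Perm α}
    (h3 : σ ^ 3 = 1) (h1 : σ ≠ 1) :
    (∃ f : Fin 6 ↪ α, ∀ i, σ (f i) = f (t33 i)) ∨ ((∃ f : Fin 5 ↪ α, ∀ i, σ (f i) = f (t5 i)) ∧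
      (6 ≤ Fintype.card α → ∃ f : Fin 6 ↪ α, ∀ i, σ (f i) = f (t31 i))) := by
  have e3 : ∀ y, σ (σ (σ y)) = y := fun y => by
    have := DFunLike.congr_fun h3 y
    simpa [pow_succ] using this
  have nd : ∀ y, σ y ≠ y → σ (σ y) ≠ y ∧ σ (σ y) ≠ σ y := fun y hy =>
    ⟨fun e => hy (eq_of_sq_apply (by decide) h3 e), fun e => hy (σ.injective e)⟩
  obtain ⟨x, hx⟩ : ∃ x, σ x ≠ x := by
    by_contra h
    push Not at h
    exact h1 (Equiv.ext h)
  obtain ⟨a1, a2⟩ := nd x hx
  by_cases hy : ∃ y, y ≠ x ∧ y ≠ σ x ∧ y ≠ σ (σ x) ∧ σ y ≠ y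
  · left
    obtain ⟨y, y1, y2, y3, hy⟩ := hy
    obtain ⟨b1, b2⟩ := nd y hy
    have c1 : σ y ≠ x := fun e => y3 (σ.injective (e.trans (e3 x).symm))
    have c2 : σ y ≠ σ x := fun e => y1 (σ.injective e)
    have c3 : σ y ≠ σ (σ x) := fun e => y2 (σ.injective e)
    have d1 : σ (σ y) ≠ x := fun e => c3 (σ.injective (e.trans (e3 x).symm))
    have d2 : σ (σ y) ≠ σ x := fun e => c1 (σ.injective e)
    have d3 : σ (σ y) ≠ σ (σ x) := fun e => c2 (σ.injective e)
    refine ⟨⟨![x, σ x, σ (σ x), y, σ y, σ (σ y)], List.nodup_ofFn.1 ?_⟩, fun i => ?_⟩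
    · simp only [List.ofFn_succ, List.ofFn_zero]
      simp [hx.symm, a1.symm, a2.symm, y1.symm, y2.symm, y3.symm, hy.symm, b1.symm, b2.symm,
        c1.symm, c2.symm, c3.symm, d1.symm, d2.symm, d3.symm]
    · fin_cases i <;> first | rfl | exact e3 _
  · right
    push Not at hy
    have hc : (({x, σ x, σ (σ x)} : Finset α)ᶜ).card = Fintype.card α - 3 := by
      rw [Finset.card_compl, Finset.card_eq_three.2 ⟨_, _, _, hx.symm, a1.symm, a2.symm, rfl⟩]
    have fx : ∀ y ∈ ({x, σ x, σ (σ x)} : Finset α)ᶜ,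
        y ≠ x ∧ y ≠ σ x ∧ y ≠ σ (σ x) ∧ σ y = y := by
      intro y h
      simp only [Finset.mem_compl, Finset.mem_insert, Finset.mem_singleton, not_or] at h
      exact ⟨h.1, h.2.1, h.2.2, hy y h.1 h.2.1 h.2.2⟩
    constructor
    · obtain ⟨y, hy1, z, hz1, hyz⟩ := Finset.one_lt_card.1 (by omega :
        1 < (({x, σ x, σ (σ x)} : Finset α)ᶜ).card)
      obtain ⟨y1, y2, y3, y4⟩ := fx y hy1
      obtain ⟨z1, z2, z3, z4⟩ := fx z hz1
      refine ⟨⟨![x, σ x, σ (σ x), y, z], List.nodup_ofFn.1 ?_⟩, fun i => ?_⟩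
      · simp only [List.ofFn_succ, List.ofFn_zero]
        simp [hx.symm, a1.symm, a2.symm, y1.symm, y2.symm, y3.symm, z1.symm, z2.symm, z3.symm, hyz]
      · fin_cases i <;> first | rfl | exact e3 _ | exact y4 | exact z4
    · intro h6
      obtain ⟨y, hy1, z, hz1, v, hv1, hyz, hyv, hzv⟩ := Finset.two_lt_card.1 (by omega :
        2 < (({x, σ x, σ (σ x)} : Finset α)ᶜ).card)
      obtain ⟨y1, y2, y3, y4⟩ := fx y hy1
      obtain ⟨z1, z2, z3, z4⟩ := fx z hz1
      obtain ⟨v1, v2, v3, v4⟩ := fx v hv1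
      refine ⟨⟨![x, σ x, σ (σ x), y, z, v], List.nodup_ofFn.1 ?_⟩, fun i => ?_⟩
      · simp only [List.ofFn_succ, List.ofFn_zero]
        simp [hx.symm, a1.symm, a2.symm, y1.symm, y2.symm, y3.symm, z1.symm, z2.symm, z3.symm,
          v1.symm, v2.symm, v3.symm, hyz, hyv, hzv]
      · fin_cases i <;> first | rfl | exact e3 _ | exact y4 | exact z4 | exact v4

theorem small_case [DecidableEq α] [Fintype α] (h5 : 5 ≤ Fintype.card α) {σ τ : Perm α}
    (h3 : σ ^ 3 = 1) (h1 : σ ≠ 1) (h3' : τ ^ 3 = 1) (h1' : τ ≠ 1) :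
    ∃ g : Perm α, Good 3 σ (g * τ * g⁻¹) := by
  have six : ∀ f : Fin 6 ↪ α, 6 ≤ Fintype.card α := fun f => by
    simpa using Fintype.card_le_of_embedding f
  rcases three_cases h5 h3 h1 with ⟨f, hf⟩ | ⟨⟨f, hf⟩, hf2⟩ <;>
    rcases three_cases h5 h3' h1' with ⟨g, hg⟩ | ⟨⟨g, hg⟩, hg2⟩
  · exact exists_good' Nat.prime_three f g hf hg (swap 2 3 * swap 4 5)
      (good_three (by decide) (by decide) (by decide +kernel) (by decide +kernel)
        (by decide +kernel) (by decide +kernel))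
  · obtain ⟨g', hg'⟩ := hg2 (six f)
    exact exists_good' Nat.prime_three f g' hf hg' (swap 2 3)
      (good_three (by decide) (by decide) (by decide +kernel) (by decide +kernel)
        (by decide +kernel) (by decide +kernel))
  · obtain ⟨f', hf'⟩ := hf2 (six g)
    exact exists_good' Nat.prime_three f' g hf' hg (swap 2 3)
      (good_three (by decide) (by decide) (by decide +kernel) (by decide +kernel)
        (by decide +kernel) (by decide +kernel))
  · exact exists_good' Nat.prime_three f g hf hg (swap 1 3 * swap 2 4)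
      (good_three (by decide) (by decide) (by decide +kernel) (by decide +kernel)
        (by decide +kernel) (by decide +kernel))

theorem main_le [DecidableEq α] [Fintype α] (h5 : 5 ≤ Fintype.card α) {p : ℕ} (hp : p.Prime)
    (hp3 : 3 ≤ p) {σ τ : Perm α} {a b : ℕ} (ha : orderOf σ = p ^ (a + 1))
    (hb : orderOf τ = p ^ (b + 1)) (hab : a ≤ b) :
    ∃ g : Perm α, sign g = 1 ∧ Good p σ (g * τ * g⁻¹) := by
  have hpo : Odd p := hp.odd_of_ne_two (by omega)
  have ne1 : ∀ {ρ : Perm α} {k : ℕ}, orderOf ρ = p ^ (k + 1) → ρ ≠ 1 := by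
    intro ρ k h e
    rw [e, orderOf_one] at h
    exact (Nat.one_lt_pow (by omega) hp.one_lt).ne h
  have : NeZero (p ^ (b + 1)) := ⟨pow_ne_zero _ hp.ne_zero⟩
  obtain ⟨y, hy⟩ := exists_minimalPeriod hp hb
  obtain ⟨f', -, hf'⟩ := exists_emb τ y hy
  have hN : p ^ (b + 1) ≤ Fintype.card α := by simpa using Fintype.card_le_of_embedding f'
  by_cases hsm : p = 3 ∧ b = 0
  · obtain ⟨rfl, rfl⟩ := hsm
    obtain rfl : a = 0 := by omega
    refine even_of_odd_comm (fun hc => ?_) (small_case h5 (by simpa [ha] using pow_orderOf_eq_one σ)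
      (ne1 ha) (by simpa [hb] using pow_orderOf_eq_one τ) (ne1 hb))
    have := card_le_of_centralizer hp ha hc
    simp [Finset.sum_range_succ] at this
    omega
  have h9 : p = 3 → 9 ≤ p ^ (b + 1) := by
    rintro rfl
    have : 2 ≤ b + 1 := by
      by_contra h
      exact hsm ⟨rfl, by omega⟩
    exact Nat.pow_le_pow_right (n := 3) (by omega) this
  have hN5 : 5 ≤ p ^ (b + 1) := by
    by_cases h : p = 3
    · have := h9 h; omega
    · have h1 : p ≠ 4 := by rintro rfl; exact absurd hp (by decide)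
      have := Nat.le_self_pow (n := b + 1) (by omega) p
      omega
  rcases hab.eq_or_lt with rfl | hlt
  · obtain ⟨x, hx⟩ := exists_minimalPeriod hp ha
    obtain ⟨f, -, hf⟩ := exists_emb σ x hx
    clear hx hy ha hb hN
    generalize hNdef : p ^ (a + 1) = N at *
    have hNo : Odd N := hNdef ▸ hpo.pow
    let c : Perm (ZMod N) := Equiv.addRight 1
    have hc : ∀ i, c i = i + 1 := fun i => rfl
    have hck : ∀ (k : ℕ) i, (c ^ k) i = i + k := by
      intro k
      induction k with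
      | zero => simp
      | succ k ih => intro i; rw [pow_succ', mul_apply, ih, hc]; push_cast; rw [add_assoc]
    refine exists_good_even hp f ((Equiv.neg (ZMod N)).toEmbedding.trans f') (σ₁ := c) (τ₁ := c⁻¹)
      hf (fun i => ?_) fun ε => ?_
    · change τ (f' (-i)) = f' (-(c⁻¹ i))
      rw [hf']
      congr 1
      have : c⁻¹ i = i - 1 := by rw [inv_eq_iff_eq, hc]; ring
      rw [this]; ring
    · refine good_B hp (by rw [ZMod.card]; exact hNo) (by rwa [ZMod.card])
        (by rwa [ZMod.card]) (by rw [ZMod.card]; exact pow_eq_one_of_equiv (Equiv.refl _) hc)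
        (fun i j => ⟨(j - i).val, by rw [zpow_natCast, hck]; simp⟩)
        (a0 := ((0 : ℕ) : ZMod N)) (a1 := ((1 : ℕ) : ZMod N)) (a2 := ((2 : ℕ) : ZMod N))
        (a3 := ((3 : ℕ) : ZMod N)) (a4 := ((4 : ℕ) : ZMod N))
        (Nat.cast_succ _).symm (Nat.cast_succ _).symm (Nat.cast_succ _).symm
        (Nat.cast_succ _).symm ?_ ε
      have : List.map (Nat.cast : ℕ → ZMod N) [0, 1, 2, 3, 4] = [((0 : ℕ) : ZMod N),
        ((1 : ℕ) : ZMod N), ((2 : ℕ) : ZMod N), ((3 : ℕ) : ZMod N), ((4 : ℕ) : ZMod N)] := rfl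
      rw [← this]
      refine List.Nodup.map_on (fun i hi j hj e => ?_) (by decide)
      have h1 : ∀ i ∈ [0, 1, 2, 3, 4], i < N := by
        intro i hi
        simp only [List.mem_cons, List.not_mem_nil, or_false] at hi
        omega
      have := congrArg ZMod.val e
      rwa [ZMod.val_cast_of_lt (h1 i hi), ZMod.val_cast_of_lt (h1 j hj)] at this
  · refine even_of_odd_comm (fun hc => ?_) ?_
    · have h1 := card_le_of_centralizer hp ha hc
      have h2 := Nat.geomSum_lt (m := p) (n := a + 1 + 1) (s := Finset.range (a + 1 + 1))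
        hp.two_le (fun k hk => Finset.mem_range.1 hk)
      have h3 : p ^ (a + 1 + 1) ≤ p ^ (b + 1) := Nat.pow_le_pow_right hp.pos (by omega)
      omega
    obtain ⟨Δ, hΔ, hcard, x, hx, hmov⟩ := exists_invariant hp ha (b := b + 1) (by omega) hN
    have hcΔ : Fintype.card Δ = p ^ (b + 1) := by rw [Fintype.card_coe, hcard]
    obtain ⟨c, ht, hg⟩ := good_A (β := Δ) hp (by omega) (by rw [hcΔ]; exact dvd_pow_self p (by omega))
      (by rw [hcΔ]; exact hpo.pow) (by omega) (σ := σ.subtypePerm hΔ) (m := p ^ (a + 1)) hpo.pow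
      (by
        ext v
        rw [subtypePerm_pow, subtypePerm_apply, ← ha]
        change (σ ^ orderOf σ) v = v
        rw [pow_orderOf_eq_one]
        rfl) (x := ⟨x, hx⟩) (fun e => hmov (congrArg Subtype.val e))
    obtain ⟨e, he⟩ := exists_equiv_of_tr ht hcΔ
    refine exists_good hp (Function.Embedding.subtype _) (e.symm.toEmbedding.trans f')
      (fun v => rfl) (fun v => ?_) hg
    obtain ⟨i, rfl⟩ := e.surjective v
    rw [he]
    simp [hf']

theorem main [DecidableEq α] [Fintype α] (h5 : 5 ≤ Fintype.card α) {p : ℕ} (hp : p.Prime)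
    (hp3 : 3 ≤ p) {σ τ : Perm α} (h1 : σ ≠ 1) (h2 : τ ≠ 1) (ha : ∃ k, orderOf σ = p ^ k)
    (hb : ∃ k, orderOf τ = p ^ k) : ∃ g : Perm α, sign g = 1 ∧ Good p σ (g * τ * g⁻¹) := by
  obtain ⟨_ | a, ha⟩ := ha
  · exact absurd (orderOf_eq_one_iff.1 ha) h1
  obtain ⟨_ | b, hb⟩ := hb
  · exact absurd (orderOf_eq_one_iff.1 hb) h2
  rcases le_total a b with h | h
  · exact main_le h5 hp hp3 ha hb h
  · obtain ⟨g, hg, hG⟩ := main_le h5 hp hp3 hb ha h
    refine ⟨g⁻¹, by rw [sign_inv, hg], ?_⟩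
    have := hG.symm.conj g⁻¹
    convert this using 1
    group

end Cfsg.Lib.Known.AltP
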