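import Mathlib

/-! Statements used to split the proofs of the theorems on 2-transitive subgroups of `GL(n,2)`
(Cameron–Kantor for `q = 2`) and on pyramidal groups into independent pieces. -/

namespace Cfsg.Lib.Known.CK

universe u

/-- `H` is 2-transitive on the non-zero vectors. -/
def TwoTr {V : Type u} [AddCommGroup V] [Module (ZMod 2) V] (H : Subgroup (V ≃ₗ[ZMod 2] V)) :
    Prop :=
  ∀ x y x' y' : V, x ≠ 0 → y ≠ 0 → y ≠ x → x' ≠ 0 → y' ≠ 0 → y' ≠ x' →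
    ∃ h ∈ H, h x = x' ∧ h y = y'

/-- No non-singular alternating trilinear form over `F₂` in dimension `> 3`. -/
def Trilin : Prop :=
  ∀ (V : Type u) [AddCommGroup V] [Finite V] (f : V → V → V → ZMod 2),
    (∀ v : V, v + v = 0) → (∀ x y z w, f x y (z + w) = f x y z + f x y w) →
    (∀ x y z, f x y z = f y x z) → (∀ x y z, f x y z = f x z y) → (∀ x z, f x x z = 0) →
    (∀ x y, x ≠ 0 → y ≠ 0 → y ≠ x → ∃ z, f x y z ≠ 0) → Nat.card V ≤ 8

/-- The geometric theorem: a 2-transitive group is transitive on flags, on antiflags and on triples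
(two points on a hyperplane). -/
def MGT : Prop :=
  ∀ (V : Type u) [AddCommGroup V] [Module (ZMod 2) V] [Finite V] (H : Subgroup (V ≃ₗ[ZMod 2] V)),
    TwoTr H →
    (∀ (x x' : V) (φ φ' : V →ₗ[ZMod 2] ZMod 2), x ≠ 0 → x' ≠ 0 → φ ≠ 0 → φ' ≠ 0 → φ x = φ' x' →
      ∃ h ∈ H, h x = x' ∧ ∀ v, φ' (h v) = φ v) ∧
    (∀ (x y x' y' : V) (φ φ' : V →ₗ[ZMod 2] ZMod 2), x ≠ 0 → y ≠ 0 → y ≠ x → x' ≠ 0 → y' ≠ 0 →
      y' ≠ x' → φ ≠ 0 → φ' ≠ 0 → φ x = 0 → φ y = 0 → φ' x' = 0 → φ' y' = 0 →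
      ∃ h ∈ H, h x = x' ∧ h y = y' ∧ ∀ v, φ' (h v) = φ v)

/-- Cameron–Kantor for `q = 2`. -/
def CK2 : Prop :=
  ∀ (V : Type u) [AddCommGroup V] [Module (ZMod 2) V] [Finite V] (H : Subgroup (V ≃ₗ[ZMod 2] V)),
    TwoTr H → H = ⊤ ∨ (Nat.card V = 16 ∧ ¬ 16 ∣ Nat.card H)

/-- Transitive linear groups on a Mersenne prime number of vectors. -/
def TLin : Prop :=
  ∀ (V : Type u) [AddCommGroup V] [Module (ZMod 2) V] [Finite V] (H : Subgroup (V ≃ₗ[ZMod 2] V)),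
    (Nat.card V - 1).Prime → (∀ v w : V, v ≠ 0 → w ≠ 0 → ∃ h ∈ H, h v = w) →
    Group.IsSolvable H ∨ H = ⊤

/-- The involutions of `G` are the non-trivial elements of `E`; they are conjugate, their number
is prime, and `O(G) = 1`. -/
structure Pyr {G : Type u} [Group G] (E : Subgroup G) : Prop where
  normal : E.Normal
  mem : ∀ x : G, x ∈ E ↔ x * x = 1
  conj : ∀ x ∈ E, ∀ y ∈ E, x ≠ 1 → y ≠ 1 → ∃ g : G, g * x * g⁻¹ = y
  prime : (Nat.card E - 1).Prime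
  odd : ∀ N : Subgroup G, N.Normal → Odd (Nat.card N) → N = ⊥

/-- `S` is a Sylow 2-subgroup of `C(E)`, normal in `G`. -/
structure PyS {G : Type u} [Group G] (E S : Subgroup G) : Prop where
  normal : S.Normal
  two : IsPGroup 2 S
  le : E ≤ S
  cent : S ≤ Subgroup.centralizer (E : Set G)
  odd : Odd (S.relIndex (Subgroup.centralizer (E : Set G)))

/-- `G` induces every automorphism of `E`. -/
def Full {G : Type u} [Group G] (E : Subgroup G) : Prop :=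
  ∀ α : MulAut E, ∃ g : G, ∀ e : E, ((α e : E) : G) = g * e * g⁻¹

def PA1 : Prop :=
  ∀ (G : Type u) [Group G] [Finite G] (E : Subgroup G), Pyr E → ∃ S : Subgroup G, PyS E S ∧
    ((∀ x ∈ S, ∀ y ∈ S, x * y = y * x) ∨ ((∀ x ∈ S, x * x ∈ E) ∧
      (Nat.card S = Nat.card E ^ 2 ∨ Nat.card S = Nat.card E ^ 3)))

def PA2 : Prop :=
  ∀ (G : Type u) [Group G] [Finite G] (E S : Subgroup G), Pyr E → PyS E S → Full E →
    8 ≤ Nat.card E → (¬ ∀ x ∈ S, ∀ y ∈ S, x * y = y * x) → (∀ x ∈ S, x * x ∈ E) →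
    (Nat.card S = Nat.card E ^ 2 ∨ Nat.card S = Nat.card E ^ 3) → False

def PA3 : Prop :=
  ∀ (G : Type u) [Group G] [Finite G] (E S : Subgroup G), Pyr E → PyS E S → Full E →
    8 ≤ Nat.card E → (∀ x ∈ S, ∀ y ∈ S, x * y = y * x) → False

def Core : Prop :=
  ∀ (G : Type u) [Group G] [Finite G] (E : Subgroup G), Pyr E → Group.IsSolvable G

end Cfsg.Lib.Known.CK
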