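import Mathlib
import Cfsg.Agent.Known.CKDefs

/-! From the geometric transitivity theorem to the theorem of Cameron and Kantor over `F₂`. -/

namespace Cfsg.Lib.Known.CK

universe u

namespace Ind

variable {V : Type u} [AddCommGroup V] [Module (ZMod 2) V]

lemma z01 (a : ZMod 2) : a = 0 ∨ a = 1 := by revert a; decide

lemma two (v : V) : v + v = 0 := by
  rw [← two_smul (ZMod 2) v]
  have : (2 : ZMod 2) = 0 := rfl
  rw [this, zero_smul]

lemma exists_tv (φ : V →ₗ[ZMod 2] ZMod 2) (x : V) (h : φ x = 0) :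
    ∃ g : V ≃ₗ[ZMod 2] V, ∀ v, g v = v + φ v • x := by
  let f : V →ₗ[ZMod 2] V := LinearMap.id + φ.smulRight x
  have hf : ∀ v, f v = v + φ v • x := fun v => rfl
  have hff : Function.Involutive f := by
    intro v
    rw [hf, hf, map_add, map_smul, h, smul_zero, add_zero, add_assoc, two, add_zero]
  exact ⟨LinearEquiv.ofInvolutive f hff, hf⟩

lemma exists_fun_of {p : Submodule (ZMod 2) V} {v : V} (hv : v ∉ p) :
    ∃ φ : V →ₗ[ZMod 2] ZMod 2, φ v = 1 ∧ ∀ w ∈ p, φ w = 0 := by
  obtain ⟨f, h1, h2⟩ := Submodule.exists_le_ker_of_notMem hv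
  exact ⟨f, (z01 _).resolve_left h1, fun w hw => h2 hw⟩

lemma exists_fun {x y : V} (hy : y ≠ 0) (hyx : y ≠ x) :
    ∃ φ : V →ₗ[ZMod 2] ZMod 2, φ x = 0 ∧ φ y = 1 := by
  have : y ∉ Submodule.span (ZMod 2) {x} := by
    rw [Submodule.mem_span_singleton]
    rintro ⟨a, ha⟩
    rcases z01 a with h | h
    · rw [h, zero_smul] at ha; exact hy ha.symm
    · rw [h, one_smul] at ha; exact hyx ha.symm
  obtain ⟨φ, h1, h2⟩ := exists_fun_of this
  exact ⟨φ, h2 x (Submodule.mem_span_singleton_self x), h1⟩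

/-- Transvections generate the general linear group over `F₂`. -/
theorem eq_top_of_tv [Finite V] (H : Subgroup (V ≃ₗ[ZMod 2] V))
    (h : ∀ (φ : V →ₗ[ZMod 2] ZMod 2) (x : V), φ ≠ 0 → x ≠ 0 → φ x = 0 →
      ∃ t ∈ H, ∀ v, t v = v + φ v • x) : H = ⊤ := by
  have key : ∀ n, ∀ g : V ≃ₗ[ZMod 2] V, {v | g v ≠ v}.ncard = n → g ∈ H := by
    intro n
    induction n using Nat.strong_induction_on with
    | _ n ih =>
      intro g hg
      by_cases h1 : ∀ v, g v = v
      · have : g = 1 := LinearEquiv.ext h1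
        rw [this]; exact H.one_mem
      push Not at h1
      obtain ⟨v, hv⟩ := h1
      let F : Submodule (ZMod 2) V := LinearMap.eqLocus (g : V →ₗ[ZMod 2] V) LinearMap.id
      have hF : ∀ w, w ∈ F ↔ g w = w := fun w => Iff.rfl
      have hne : v + g v ≠ 0 := by
        intro h0
        apply hv
        have := two v
        exact add_left_cancel (h0.trans this.symm)
      have hvF : v ∉ F ⊔ Submodule.span (ZMod 2) {v + g v} := by
        intro hm
        obtain ⟨a, ha, b, hb, hab⟩ := Submodule.mem_sup.1 hm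
        obtain ⟨c, rfl⟩ := Submodule.mem_span_singleton.1 hb
        rcases z01 c with hc | hc
        · rw [hc, zero_smul, add_zero] at hab
          exact hv ((hF v).1 (hab ▸ ha))
        · rw [hc, one_smul] at hab
          have h2 : a = g v := by
            have h3 : a + g v = 0 := by
              have : v + (a + g v) = v + 0 := by rw [add_zero, add_left_comm, hab]
              exact add_left_cancel this
            exact add_right_cancel (h3.trans (two (g v)).symm)
          rw [h2] at ha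
          exact hv (g.injective ((hF _).1 ha))
      obtain ⟨φ, h1, h2⟩ := exists_fun_of hvF
      have h3 : φ (v + g v) = 0 :=
        h2 _ (Submodule.mem_sup_right (Submodule.mem_span_singleton_self _))
      obtain ⟨t, ht, htv⟩ := h φ (v + g v) (fun h0 => by simp [h0] at h1) hne h3
      have h4 : φ (g v) = 1 := by
        rw [map_add, h1] at h3
        rcases z01 (φ (g v)) with h5 | h5
        · rw [h5] at h3; exact absurd h3 (by decide)
        · exact h5
      have hlt : {w | (t * g) w ≠ w}.ncard < n := by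
        rw [← hg]
        apply Set.ncard_lt_ncard _ (Set.toFinite _)
        refine ⟨fun w hw hw' => hw ?_, fun hs => hs hv ?_⟩
        · show t (g w) = w
          rw [hw', htv, h2 w (Submodule.mem_sup_left ((hF w).2 hw')), zero_smul, add_zero]
        · show t (g v) = v
          rw [htv, h4, one_smul, add_left_comm, two, add_zero]
      have := ih _ hlt (t * g) rfl
      exact (H.mul_mem_cancel_left ht).1 this
  exact eq_top_iff.2 fun g _ => key _ g rfl

/-- Flag transitivity. -/
def FlagTr (H : Subgroup (V ≃ₗ[ZMod 2] V)) : Prop :=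
  ∀ (x x' : V) (φ φ' : V →ₗ[ZMod 2] ZMod 2), x ≠ 0 → x' ≠ 0 → φ ≠ 0 → φ' ≠ 0 → φ x = φ' x' →
      ∃ h ∈ H, h x = x' ∧ ∀ v, φ' (h v) = φ v

theorem eq_top_of_one_tv [Finite V] {H : Subgroup (V ≃ₗ[ZMod 2] V)} (hH : FlagTr H)
    {φ : V →ₗ[ZMod 2] ZMod 2} {x : V} (hφ : φ ≠ 0) (hx : x ≠ 0) (h0 : φ x = 0)
    {t : V ≃ₗ[ZMod 2] V} (ht : t ∈ H) (htv : ∀ v, t v = v + φ v • x) : H = ⊤ := by
  apply eq_top_of_tv
  intro φ' x' hφ' hx' h0'
  obtain ⟨h, hh, hhx, hhφ⟩ := hH x x' φ φ' hx hx' hφ hφ' (h0.trans h0'.symm)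
  refine ⟨h * t * h⁻¹, H.mul_mem (H.mul_mem hh ht) (H.inv_mem hh), fun v => ?_⟩
  show h (t (h.symm v)) = _
  rw [htv, map_add, map_smul, hhx, ← hhφ, LinearEquiv.apply_symm_apply]

lemma exists_ker [Finite V] (h : 32 ≤ Nat.card V) (φ ψ χ : V →ₗ[ZMod 2] ZMod 2) (x : V) :
    ∃ u, φ u = 0 ∧ ψ u = 0 ∧ χ u = 0 ∧ u ≠ 0 ∧ u ≠ x := by
  let f : V →+ ZMod 2 × ZMod 2 × ZMod 2 := (φ.prod (ψ.prod χ)).toAddMonoidHom
  have h1 := f.ker.card_mul_index
  rw [AddSubgroup.index_ker] at h1
  have h2 : Nat.card f.range ≤ 8 := by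
    have := Nat.card_le_card_of_injective _ f.range.subtype_injective
    simpa [Nat.card_prod] using this
  by_contra hc
  push Not at hc
  have h3 : (f.ker : Set V) ⊆ {0, x} := by
    intro u hu
    have hu' : f u = 0 := hu
    have e : f u = (φ u, ψ u, χ u) := rfl
    rw [e, Prod.mk_eq_zero, Prod.mk_eq_zero] at hu'
    by_cases h0 : u = 0
    · exact Or.inl h0
    · exact Or.inr (hc u hu'.1 hu'.2.1 hu'.2.2 h0)
  have h4 : Nat.card f.ker ≤ 2 := by
    have := Set.ncard_le_ncard h3
    exact this.trans ((Set.ncard_insert_le _ _).trans (by simp))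
  have := Nat.mul_le_mul h4 h2
  omega

theorem big [Finite V] (h32 : 32 ≤ Nat.card V) {H : Subgroup (V ≃ₗ[ZMod 2] V)} (hH : FlagTr H)
    (φ : V →ₗ[ZMod 2] ZMod 2) (v0 : V) (hv0 : φ v0 = 1)
    (hinj : ∀ g ∈ H, (∀ w, φ w = 0 → g w = w) → g = 1)
    (hsurj : ∀ (ψ : V →ₗ[ZMod 2] ZMod 2) (x : V), φ x = 0 → ψ x = 0 →
      ∃ t ∈ H, (∀ v, φ (t v) = φ v) ∧ ∀ w, φ w = 0 → t w = w + ψ w • x) : H = ⊤ := by
  obtain ⟨x, hx, -, -, hx0, -⟩ := exists_ker h32 φ φ φ 0
  obtain ⟨y, hy, -, -, hy0, hyx⟩ := exists_ker h32 φ φ φ x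
  obtain ⟨ψ, hψx, hψy⟩ := exists_fun hy0 hyx
  obtain ⟨t, ht, htφ, htw⟩ := hsurj ψ x hx hψx
  have hc : ∃ ε : ZMod 2, t v0 - v0 = ε • x := by
    by_contra hc
    push Not at hc
    have hc0 : t v0 - v0 ≠ 0 := by simpa using hc 0
    have hc1 : t v0 - v0 ≠ x := by simpa using hc 1
    obtain ⟨χ, hχx, hχc⟩ := exists_fun hc0 hc1
    obtain ⟨u, hu1, hu2, hu3, hu0, hux⟩ := exists_ker h32 φ ψ χ x
    obtain ⟨g, hg, hgφ, hgw⟩ := hsurj χ u hu1 hu3
    have hcomm : g * t = t * g := by
      have := hinj ((t * g)⁻¹ * (g * t))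
        (H.mul_mem (H.inv_mem (H.mul_mem ht hg)) (H.mul_mem hg ht)) (by
          intro w hw
          show (t * g).symm (g (t w)) = w
          rw [LinearEquiv.symm_apply_eq]
          show g (t w) = t (g w)
          rw [hgw (t w) (by rw [htφ, hw]), htw (g w) (by rw [hgφ, hw]), htw w hw, hgw w hw]
          simp only [map_add, map_smul, hχx, hu2, smul_zero, add_zero]
          abel)
      exact (inv_mul_eq_one.1 this).symm
    have e1 : g (t v0) = t (g v0) := by
      have := congrArg (fun k : V ≃ₗ[ZMod 2] V => k v0) hcomm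
      exact this
    have hw : φ (g v0 - v0) = 0 := by rw [map_sub, hgφ, sub_self]
    have hcW : φ (t v0 - v0) = 0 := by rw [map_sub, htφ, sub_self]
    have e2 := hgw _ hcW
    have e3 := htw _ hw
    rw [hχc, one_smul, map_sub] at e2
    rw [map_sub t] at e3
    have e4 : u = ψ (g v0 - v0) • x := by
      rw [e1] at e2
      have e5 : t (g v0) = g v0 + (t v0 - v0 + u) := by rw [← e2]; abel
      have e6 : t (g v0) = t v0 + (g v0 - v0 + ψ (g v0 - v0) • x) := by rw [← e3]; abel
      rw [e5] at e6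
      have : u = (g v0 + (t v0 - v0 + u)) - (g v0 + t v0 - v0) := by abel
      rw [this, e6]; abel
    rcases z01 (ψ (g v0 - v0)) with h | h
    · rw [h, zero_smul] at e4; exact hu0 e4
    · rw [h, one_smul] at e4; exact hux e4
  obtain ⟨ε, hε⟩ := hc
  refine eq_top_of_one_tv hH (φ := ψ + (ε - ψ v0) • φ) (x := x) ?_ hx0 ?_ ht ?_
  · intro h0
    have := congrArg (fun f : V →ₗ[ZMod 2] ZMod 2 => f y) h0
    simp [hψy, hy] at this
  · simp [hψx, hx]
  · intro v
    have h1 : φ (v - φ v • v0) = 0 := by simp [hv0]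
    have h2 := htw _ h1
    have h3 : t v0 = v0 + ε • x := by rw [← hε]; abel
    rw [map_sub, map_smul, h3, sub_eq_iff_eq_add] at h2
    rw [h2]
    simp only [map_sub, map_smul, LinearMap.add_apply, LinearMap.smul_apply, smul_eq_mul]
    module

/-- The stabiliser of a linear functional. -/
def St (φ : V →ₗ[ZMod 2] ZMod 2) : Subgroup (V ≃ₗ[ZMod 2] V) where
  carrier := {g | ∀ v, φ (g v) = φ v}
  one_mem' := fun _ => rfl
  mul_mem' := fun {a b} ha hb v => (ha (b v)).trans (hb v)
  inv_mem' := fun {a} ha v => by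
    have := ha (a.symm v)
    rw [LinearEquiv.apply_symm_apply] at this
    exact this.symm

/-- Restriction to the kernel. -/
def res (φ : V →ₗ[ZMod 2] ZMod 2) :
    St φ →* (LinearMap.ker φ ≃ₗ[ZMod 2] LinearMap.ker φ) where
  toFun g :=
    { toFun := fun w => ⟨g.1 w, by rw [LinearMap.mem_ker, g.2]; exact w.2⟩
      invFun := fun w => ⟨(g⁻¹).1 w, by rw [LinearMap.mem_ker, (g⁻¹).2]; exact w.2⟩
      map_add' := fun a b => Subtype.ext (map_add g.1 _ _)
      map_smul' := fun a b => Subtype.ext (map_smul g.1 _ _)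
      left_inv := fun w => Subtype.ext (g.1.symm_apply_apply _)
      right_inv := fun w => Subtype.ext (g.1.apply_symm_apply _) }
  map_one' := rfl
  map_mul' := fun _ _ => rfl

lemma res_apply (φ : V →ₗ[ZMod 2] ZMod 2) (g : St φ) (w : LinearMap.ker φ) :
    (res φ g w : V) = g.1 w := rfl

/-- The action on linear functionals. -/
@[reducible] def dualAct : MulAction (V ≃ₗ[ZMod 2] V) (V →ₗ[ZMod 2] ZMod 2) where
  smul g φ := φ ∘ₗ (g.symm : V →ₗ[ZMod 2] V)
  one_smul _ := rfl
  mul_smul _ _ _ := rfl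

lemma card_lin [Finite V] {m : ℕ} (h : Module.finrank (ZMod 2) V = m) :
    Nat.card (V ≃ₗ[ZMod 2] V) = ∏ i : Fin m, (2 ^ m - 2 ^ (i : ℕ)) := by
  have e := (Matrix.GeneralLinearGroup.toLin' (Module.finBasisOfFinrankEq (ZMod 2) V h)).trans
    (LinearMap.GeneralLinearGroup.generalLinearEquiv (ZMod 2) V)
  rw [← Nat.card_congr e.toEquiv, Matrix.card_GL_field, ZMod.card]

lemma relIndex_St [Finite V] {H : Subgroup (V ≃ₗ[ZMod 2] V)} (hH : FlagTr H)
    {φ : V →ₗ[ZMod 2] ZMod 2} {v0 : V} (hv0 : φ v0 = 1) :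
    (St φ).relIndex H = Nat.card V - 1 := by
  letI := dualAct (V := V)
  have hφ : φ ≠ 0 := fun h => by simp [h] at hv0
  have h1 : (St φ).subgroupOf H = MulAction.stabilizer H φ := by
    ext g
    rw [Subgroup.mem_subgroupOf, MulAction.mem_stabilizer_iff, ← Subgroup.inv_mem_iff]
    exact ⟨fun h => LinearMap.ext h, fun h v => congrArg (fun f : V →ₗ[ZMod 2] ZMod 2 => f v) h⟩
  have h2 : MulAction.orbit H φ = {0}ᶜ := by
    ext ψ
    constructor
    · rintro ⟨g, rfl⟩ h0
      have h3 : φ (g.1.symm (g.1 v0)) = 0 :=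
        congrArg (fun f : V →ₗ[ZMod 2] ZMod 2 => f (g.1 v0)) h0
      rw [LinearEquiv.symm_apply_apply, hv0] at h3
      exact one_ne_zero h3
    · intro h0
      have h0' : ψ ≠ 0 := h0
      obtain ⟨w, hw⟩ := DFunLike.ne_iff.1 h0'
      have hw1 : ψ w = 1 := (z01 _).resolve_left hw
      obtain ⟨h, hh, -, hh2⟩ := hH v0 w φ ψ (fun h => by simp [h] at hv0)
        (fun h => by simp [h] at hw1) hφ h0' (hv0.trans hw1.symm)
      refine ⟨⟨h, hh⟩, LinearMap.ext fun v => ?_⟩
      show φ (h.symm v) = ψ v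
      rw [← hh2, LinearEquiv.apply_symm_apply]
  haveI : Finite (V →ₗ[ZMod 2] ZMod 2) := Module.finite_of_finite (ZMod 2)
  rw [Subgroup.relIndex, h1, MulAction.index_stabilizer, h2, Set.ncard_compl, Set.ncard_singleton,
    Module.natCard_eq_pow_finrank (K := ZMod 2) (V := V →ₗ[ZMod 2] ZMod 2),
    Module.natCard_eq_pow_finrank (K := ZMod 2) (V := V)]
  congr 2
  exact Subspace.dual_finrank_eq

lemma ncard_one {φ : V →ₗ[ZMod 2] ZMod 2} {v0 : V} (hv0 : φ v0 = 1) :
    {v | φ v = 1}.ncard = Nat.card (LinearMap.ker φ) := by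
  have : {v | φ v = 1} = (fun w => w + v0) '' (LinearMap.ker φ : Set V) := by
    ext v
    constructor
    · intro hv
      refine ⟨v - v0, ?_, by simp⟩
      have hv' : φ v = 1 := hv
      simp [hv', hv0]
    · rintro ⟨w, hw, rfl⟩
      have hw' : φ w = 0 := hw
      simp [hw', hv0]
  rw [this, Set.ncard_image_of_injective _ (add_left_injective v0)]
  rfl

lemma card_ker_dvd [Finite V] {H : Subgroup (V ≃ₗ[ZMod 2] V)} (hH : FlagTr H)
    {φ : V →ₗ[ZMod 2] ZMod 2} {v0 : V} (hv0 : φ v0 = 1) :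
    Nat.card (LinearMap.ker φ) ∣ Nat.card (H ⊓ St φ : Subgroup _) := by
  have hφ : φ ≠ 0 := fun h => by simp [h] at hv0
  have h2 : MulAction.orbit (H ⊓ St φ : Subgroup (V ≃ₗ[ZMod 2] V)) v0 = {v | φ v = 1} := by
    ext w
    constructor
    · rintro ⟨g, rfl⟩
      exact (g.2.2 v0).trans hv0
    · intro hw
      have hw1 : φ w = 1 := hw
      obtain ⟨h, hh, hh1, hh2⟩ := hH v0 w φ φ (fun h => by simp [h] at hv0)
        (fun h => by simp [h] at hw1) hφ hφ (hv0.trans hw1.symm)
      exact ⟨⟨h, hh, hh2⟩, hh1⟩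
  rw [← ncard_one hv0, ← h2, ← MulAction.index_stabilizer]
  exact Subgroup.index_dvd_card _

lemma card_eq_two_mul [Finite V] {φ : V →ₗ[ZMod 2] ZMod 2} {v0 : V} (hv0 : φ v0 = 1) :
    Nat.card V = Nat.card (LinearMap.ker φ) * 2 := by
  have h1 := φ.toAddMonoidHom.ker.card_mul_index
  rw [AddSubgroup.index_ker] at h1
  have h2 : φ.toAddMonoidHom.range = ⊤ := by
    rw [eq_top_iff]
    intro a _
    refine ⟨a • v0, ?_⟩
    simp [hv0]
  rw [h2, AddSubgroup.card_top, Nat.card_zmod] at h1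
  exact h1.symm

end Ind

open Ind in
theorem ck2_of (h : MGT.{u}) : CK2.{u} := by
  have key : ∀ n, ∀ (V : Type u) [AddCommGroup V] [Module (ZMod 2) V] [Finite V]
      (H : Subgroup (V ≃ₗ[ZMod 2] V)), Nat.card V = n →
      TwoTr H → H = ⊤ ∨ (Nat.card V = 16 ∧ ¬ 16 ∣ Nat.card H) := by
    intro n
    induction n using Nat.strong_induction_on with
    | _ n ih =>
      intro V _ _ _ H hn hH
      obtain ⟨hF, hT⟩ := h V H hH
      have hF' : FlagTr H := hF
      by_cases htop : H = ⊤
      · exact Or.inl htop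
      right
      have hex : ∃ (φ : V →ₗ[ZMod 2] ZMod 2) (x : V), φ ≠ 0 ∧ x ≠ 0 ∧ φ x = 0 := by
        by_contra hc
        push Not at hc
        exact htop (eq_top_of_tv H fun φ x h1 h2 h3 => absurd h3 (hc φ x h1 h2))
      obtain ⟨φ, x, hφ, hx, hφx⟩ := hex
      obtain ⟨v0, hv0⟩ := DFunLike.ne_iff.1 hφ
      replace hv0 : φ v0 = 1 := (z01 _).resolve_left hv0
      have hinj : ∀ g ∈ H, (∀ w, φ w = 0 → g w = w) → g = 1 := by
        intro g hg hw
        have hgv : ∀ v, g v = v + φ v • (g v0 - v0) := by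
          intro v
          have h1 := hw (v - φ v • v0) (by simp [hv0])
          rw [map_sub, map_smul, sub_eq_iff_eq_add] at h1
          rw [h1]; module
        by_cases h0 : g v0 - v0 = 0
        · exact LinearEquiv.ext fun v => by rw [hgv, h0, smul_zero, add_zero]; rfl
        · exfalso
          refine htop (eq_top_of_one_tv hF' hφ h0 ?_ hg hgv)
          rcases z01 (φ (g v0)) with h1 | h1
          · have h2 := g.injective (hw _ h1)
            exact absurd (sub_eq_zero.2 h2) h0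
          · rw [map_sub, h1, hv0, sub_self]
      let K := (H.subgroupOf (St φ)).map (res φ)
      have hK : Nat.card K = Nat.card (H ⊓ St φ : Subgroup _) := by
        have e1 : Nat.card K = Nat.card (H.subgroupOf (St φ)) := by
          refine (Nat.card_congr (Equiv.ofBijective ((res φ).subgroupMap _) ⟨?_, ?_⟩)).symm
          · rw [injective_iff_map_eq_one]
            intro g hg
            have hg' : res φ g.1 = 1 := congrArg Subtype.val hg
            refine Subtype.ext (Subtype.ext (hinj _ g.2 fun w hw => ?_))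
            have := res_apply φ g.1 ⟨w, hw⟩
            rw [hg'] at this
            exact this.symm
          · exact MonoidHom.subgroupMap_surjective _ _
        rw [e1, ← Subgroup.inf_subgroupOf_right]
        exact Nat.card_congr (Subgroup.subgroupOfEquivOfLe inf_le_right).toEquiv
      have hKT : TwoTr K := by
        intro a b a' b' h1 h2 h3 h4 h5 h6
        obtain ⟨g, hg, e1, e2, e3⟩ := hT a b a' b' φ φ (fun h => h1 (Subtype.ext h))
          (fun h => h2 (Subtype.ext h)) (fun h => h3 (Subtype.ext h))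
          (fun h => h4 (Subtype.ext h)) (fun h => h5 (Subtype.ext h))
          (fun h => h6 (Subtype.ext h)) hφ hφ a.2 b.2 a'.2 b'.2
        exact ⟨res φ ⟨g, e3⟩, ⟨⟨g, e3⟩, hg, rfl⟩, Subtype.ext e1, Subtype.ext e2⟩
      have hcard := card_eq_two_mul hv0
      have hpos : 0 < Nat.card (LinearMap.ker φ) := Nat.card_pos
      have hdvd := card_ker_dvd hF' hv0
      rw [← hK] at hdvd
      rcases ih _ (by omega) (LinearMap.ker φ) K rfl hKT with hKt | ⟨h16, hn16⟩
      swap
      · exact absurd (h16 ▸ hdvd) hn16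
      have hW := Module.natCard_eq_pow_finrank (K := ZMod 2) (V := LinearMap.ker φ)
      rw [Nat.card_zmod] at hW
      have hKc : Nat.card K = Nat.card (LinearMap.ker φ ≃ₗ[ZMod 2] LinearMap.ker φ) := by
        rw [hKt, Subgroup.card_top]
      generalize hm : Module.finrank (ZMod 2) (LinearMap.ker φ) = m at hW
      rw [card_lin hm] at hKc
      have hm0 : m ≠ 0 := by
        rintro rfl
        rw [pow_zero] at hW
        have := (Nat.card_eq_one_iff_unique.1 hW).1
        exact hx (congrArg Subtype.val (Subsingleton.elim (⟨x, hφx⟩ : LinearMap.ker φ) 0))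
      by_cases hm4 : 4 ≤ m
      · exfalso
        apply htop
        refine big ?_ hF' φ v0 hv0 hinj ?_
        · have : 2 ^ 4 ≤ 2 ^ m := Nat.pow_le_pow_right (by norm_num) hm4
          omega
        · intro ψ y hy hψy
          obtain ⟨g, hg⟩ := exists_tv (ψ ∘ₗ (LinearMap.ker φ).subtype) ⟨y, hy⟩ hψy
          have hgK : g ∈ K := hKt ▸ Subgroup.mem_top g
          obtain ⟨t, ht, rfl⟩ := hgK
          refine ⟨t.1, ht, t.2, fun w hw => ?_⟩
          exact congrArg Subtype.val (hg ⟨w, hw⟩)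
      · rw [hKc, hW] at hdvd
        have hm3 : m = 3 := by
          have : m = 1 ∨ m = 2 ∨ m = 3 := by omega
          rcases this with rfl | rfl | rfl
          · exact absurd hdvd (by decide)
          · exact absurd hdvd (by decide)
          · rfl
        subst hm3
        have h16 : Nat.card V = 16 := by omega
        refine ⟨h16, ?_⟩
        have h1 := ((St φ).subgroupOf H).card_mul_index
        have h2 := relIndex_St hF' hv0
        rw [Subgroup.relIndex] at h2
        have h3 : Nat.card ((St φ).subgroupOf H) = Nat.card (H ⊓ St φ : Subgroup _) := by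
          rw [← Subgroup.inf_subgroupOf_left]
          exact Nat.card_congr (Subgroup.subgroupOfEquivOfLe inf_le_left).toEquiv
        rw [h2, h3, ← hK, hKc, h16] at h1
        rw [← h1]
        decide
  intro V _ _ _ H hH
  exact key _ V H rfl hH

end Cfsg.Lib.Known.CK
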