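import Mathlib
import Cfsg.Agent.Known.CKInd
import Cfsg.Agent.Perm.PrimeDeg2

/-! Linear groups over `F₂` transitive on a prime number of non-zero vectors. -/

namespace Cfsg.Lib.Known.CK

universe u

namespace Mer

open Cfsg.Lib.Perm

variable {V : Type u} [AddCommGroup V] [Module (ZMod 2) V]

lemma pow_coord {p : ℕ} [NeZero p] {c : V ≃ₗ[ZMod 2] V} {e : ZMod p → V}
    (he : ∀ j, c (e j) = e (j + 1)) (n : ℕ) (j : ZMod p) : (c ^ n) (e j) = e (j + n) := by
  induction n generalizing j with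
  | zero => simp
  | succ n ih =>
    rw [pow_succ, LinearEquiv.mul_apply, he, ih]
    push_cast
    rw [add_assoc, add_comm 1]

lemma pow_val {p : ℕ} [NeZero p] {c : V ≃ₗ[ZMod 2] V} {e : ZMod p → V}
    (he : ∀ j, c (e j) = e (j + 1)) (b j : ZMod p) : (c ^ b.val) (e j) = e (j + b) := by
  rw [pow_coord he, ZMod.natCast_zmod_val]

/-- A group of multipliers of a Singer cycle has order dividing the dimension. -/
theorem card_dvd [Finite V] {p : ℕ} [NeZero p] (c : V ≃ₗ[ZMod 2] V) (e : ZMod p → V)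
    (he : ∀ j, c (e j) = e (j + 1)) (hs : ∀ w, w ≠ 0 → ∃ j, e j = w) (h0 : e 0 ≠ 0)
    (S : Subgroup (V ≃ₗ[ZMod 2] V)) (hS : ∀ h ∈ S, ∃ a, ∀ j, h (e j) = e (a * j)) :
    Nat.card S ∣ Module.finrank (ZMod 2) V := by
  let K : Subalgebra (ZMod 2) (Module.End (ZMod 2) V) :=
    Subalgebra.centralizer (ZMod 2) {(c : Module.End (ZMod 2) V)}
  have hK : ∀ k : K, ∀ v, k.1 (c v) = c (k.1 v) := by
    intro k v
    have := (Subalgebra.mem_centralizer_iff _).1 k.2 _ rfl
    exact (congrArg (fun f : Module.End (ZMod 2) V => f v) this).symm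
  have hKn : ∀ k : K, ∀ n : ℕ, ∀ v, k.1 ((c ^ n) v) = (c ^ n) (k.1 v) := by
    intro k n
    induction n with
    | zero => intro v; rfl
    | succ n ih => intro v; rw [pow_succ', LinearEquiv.mul_apply, hK, ih]; rfl
  let pw : ZMod p → K := fun j => ⟨(c ^ j.val : V ≃ₗ[ZMod 2] V), by
    rw [Subalgebra.mem_centralizer_iff]
    rintro _ rfl
    ext v
    show (c * c ^ j.val) v = (c ^ j.val * c) v
    rw [← pow_succ, ← pow_succ']⟩
  have hpw : ∀ i j, (pw i).1 (e j) = e (j + i) := fun i j => pow_val he i j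
  let ev0 : K →ₗ[ZMod 2] V := (LinearMap.applyₗ (e 0)) ∘ₗ K.toSubmodule.subtype
  have hev0 : ∀ k, ev0 k = k.1 (e 0) := fun k => rfl
  have hinj : Function.Injective ev0 := by
    rw [injective_iff_map_eq_zero]
    intro k hk
    refine Subtype.ext (LinearMap.ext fun w => ?_)
    by_cases hw : w = 0
    · simp [hw]
    · obtain ⟨j, rfl⟩ := hs w hw
      have : e j = (c ^ j.val) (e 0) := by rw [pow_val he, zero_add]
      rw [this, hKn, ← hev0, hk, map_zero]; rfl
  have hevpw : ∀ j, ev0 (pw j) = e j := fun j => by rw [hev0, hpw, zero_add]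
  have hsurj : Function.Surjective ev0 := by
    intro w
    by_cases hw : w = 0
    · exact ⟨0, by rw [hw, map_zero]⟩
    · obtain ⟨j, rfl⟩ := hs w hw
      exact ⟨pw j, hevpw j⟩
  let ev : K ≃ₗ[ZMod 2] V := LinearEquiv.ofBijective ev0 ⟨hinj, hsurj⟩
  have hev : ∀ j, ev (pw j) = e j := hevpw
  have hev' : ∀ j, ev.symm (e j) = pw j := fun j => by rw [LinearEquiv.symm_apply_eq, hev]
  have hmul : ∀ i j, pw i * pw j = pw (i + j) := by
    intro i j
    apply hinj
    rw [hevpw, hev0]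
    show (pw i).1 ((pw j).1 (e 0)) = _
    rw [hpw, hpw, zero_add, add_comm]
  have hone : pw 0 = 1 := by
    apply hinj
    rw [hevpw]; rfl
  have hall : ∀ k : K, k = 0 ∨ ∃ j, k = pw j := by
    intro k
    by_cases hk : k = 0
    · exact Or.inl hk
    · obtain ⟨j, hj⟩ := hs (ev k) (by simpa using hk)
      exact Or.inr ⟨j, by rw [← hev', hj, LinearEquiv.symm_apply_apply]⟩
  have hF : IsField K := by
    refine ⟨⟨1, 0, fun h => h0 ?_⟩, ?_, ?_⟩
    · rw [← hev, hone, h, map_zero]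
    · intro x y
      rcases hall x with rfl | ⟨i, rfl⟩
      · simp
      rcases hall y with rfl | ⟨j, rfl⟩
      · simp
      rw [hmul, hmul, add_comm]
    · intro x hx
      obtain ⟨i, rfl⟩ := (hall x).resolve_left hx
      exact ⟨pw (-i), by rw [hmul, add_neg_cancel, hone]⟩
  letI : Field K := hF.toField
  haveI : Finite K := Finite.of_injective _ hinj
  let φ : S →* (K ≃ₐ[ZMod 2] K) :=
    { toFun := fun h => AlgEquiv.ofLinearEquiv (ev.trans (h.1.trans ev.symm))
        (by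
          obtain ⟨a, ha⟩ := hS h.1 h.2
          show ev.symm (h.1 (ev 1)) = 1
          rw [← hone, hev, ha, mul_zero, hev'])
        (by
          obtain ⟨a, ha⟩ := hS h.1 h.2
          intro x y
          rcases hall x with rfl | ⟨i, rfl⟩
          · simp
          rcases hall y with rfl | ⟨j, rfl⟩
          · simp
          show ev.symm (h.1 (ev _)) = ev.symm (h.1 (ev _)) * ev.symm (h.1 (ev _))
          rw [hmul, hev, hev, hev, ha, ha, ha, hev', hev', hev', hmul, mul_add])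
      map_one' := by
        ext1 x
        exact ev.symm_apply_apply x
      map_mul' := by
        intro a b
        ext1 x
        show ev.symm (a.1 (b.1 (ev x))) = ev.symm (a.1 (ev (ev.symm (b.1 (ev x)))))
        rw [LinearEquiv.apply_symm_apply] }
  have hφ : Function.Injective φ := by
    rw [injective_iff_map_eq_one]
    intro h hh
    refine Subtype.ext (LinearEquiv.ext fun w => ?_)
    have h1 : ev.symm (h.1 (ev (ev.symm w))) = ev.symm w :=
      congrArg (fun f : K ≃ₐ[ZMod 2] K => f (ev.symm w)) hh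
    rw [LinearEquiv.apply_symm_apply] at h1
    exact ev.symm.injective h1
  rw [← ev.finrank_eq, ← IsGalois.card_aut_eq_finrank]
  exact Subgroup.card_dvd_of_injective φ hφ

/-- The action on the non-zero vectors. -/
def toP : (V ≃ₗ[ZMod 2] V) →* Equiv.Perm {v : V // v ≠ 0} where
  toFun g := g.toEquiv.subtypeEquiv fun v => by simp
  map_one' := rfl
  map_mul' _ _ := rfl

lemma toP_apply (g : V ≃ₗ[ZMod 2] V) (v : {v : V // v ≠ 0}) : (toP g v : V) = g v := rfl

lemma toP_inj : Function.Injective (toP (V := V)) := by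
  rw [injective_iff_map_eq_one]
  intro g hg
  refine LinearEquiv.ext fun v => ?_
  by_cases hv : v = 0
  · simp [hv]
  · have := toP_apply g ⟨v, hv⟩
    rw [hg] at this
    exact this.symm

theorem dichotomy (hck : CK2.{u}) [Finite V] {p : ℕ} [hp : Fact p.Prime] (hV : Nat.card V - 1 = p)
    (H : Subgroup (V ≃ₗ[ZMod 2] V)) (htr : ∀ v w : V, v ≠ 0 → w ≠ 0 → ∃ h ∈ H, h v = w) :
    H = ⊤ ∨ ∃ c ∈ H, ∃ e : ZMod p ≃ {v : V // v ≠ 0}, orderOf c = p ∧
      (∀ j, toP c (e j) = e (j + 1)) ∧ IsAffineIn e (H.map toP) := by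
  classical
  letI : Fintype V := Fintype.ofFinite V
  have hα : Fintype.card {v : V // v ≠ 0} = p := by
    rw [← hV, Fintype.card_subtype_compl, Fintype.card_subtype_eq, Nat.card_eq_fintype_card]
  haveI : MulAction.IsPretransitive (H.map toP) {v : V // v ≠ 0} := ⟨fun v w => by
    obtain ⟨h, hh, e⟩ := htr v w v.2 w.2
    exact ⟨⟨toP h, h, hh, rfl⟩, Subtype.ext e⟩⟩
  obtain ⟨c', hc', hcp⟩ := exists_orderOf_eq_prime_degree hα (H.map toP)
  obtain ⟨c, hc, rfl⟩ := hc'
  obtain ⟨e, he⟩ := exists_coord hα _ hcp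
  rcases isAffineIn_or_two_transitive (G := H.map toP) ⟨c, hc, rfl⟩ he with h | h
  · exact Or.inr ⟨c, hc, e, by rw [← hcp, orderOf_injective _ toP_inj], he, h⟩
  · left
    rw [MulAction.is_two_pretransitive_iff] at h
    have h2 : TwoTr H := by
      intro x y x' y' h1 h2 h3 h4 h5 h6
      obtain ⟨⟨_, g, hg, rfl⟩, e1, e2⟩ := h (a := ⟨x, h1⟩) (b := ⟨y, h2⟩) (c := ⟨x', h4⟩)
        (d := ⟨y', h5⟩) (fun h => h3 (congrArg Subtype.val h).symm)
        (fun h => h6 (congrArg Subtype.val h).symm)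
      exact ⟨g, hg, congrArg Subtype.val e1, congrArg Subtype.val e2⟩
    rcases hck V H h2 with h3 | ⟨h3, -⟩
    · exact h3
    · have := hp.out
      rw [← hV, h3] at this
      exact absurd this (by norm_num)

lemma orbit_card [Finite V] {H : Subgroup (V ≃ₗ[ZMod 2] V)}
    (htr : ∀ v w : V, v ≠ 0 → w ≠ 0 → ∃ h ∈ H, h v = w) {v : V} (hv : v ≠ 0) :
    (MulAction.stabilizer H v).index = Nat.card V - 1 := by
  have : MulAction.orbit H v = {0}ᶜ := by
    ext w
    constructor
    · rintro ⟨g, rfl⟩ h0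
      exact hv ((LinearEquiv.map_eq_zero_iff g.1).1 h0)
    · intro hw
      obtain ⟨h, hh, e⟩ := htr v w hv hw
      exact ⟨⟨h, hh⟩, e⟩
  rw [MulAction.index_stabilizer, this, Set.ncard_compl, Set.ncard_singleton]

lemma tr_of_card [Finite V] {C : Subgroup (V ≃ₗ[ZMod 2] V)} (hp : (Nat.card V - 1).Prime)
    (hC : Nat.card C = Nat.card V - 1) (v w : V) (hv : v ≠ 0) (hw : w ≠ 0) :
    ∃ h ∈ C, h v = w := by
  have hne : ∃ g ∈ C, ∃ x, g x ≠ x := by
    by_contra hc
    push Not at hc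
    have : C = ⊥ := by
      rw [eq_bot_iff]
      intro g hg
      exact LinearEquiv.ext (hc g hg)
    rw [this, Subgroup.card_bot] at hC
    exact hp.one_lt.ne hC
  obtain ⟨g, hg, x, hx⟩ := hne
  have hx0 : x ≠ 0 := by rintro rfl; simp at hx
  have h1 := (MulAction.stabilizer C x).index_dvd_card
  rw [hC] at h1
  have h2 : (MulAction.stabilizer C x).index = Nat.card V - 1 := by
    refine ((Nat.dvd_prime hp).1 h1).resolve_left fun h => hx ?_
    rw [Subgroup.index_eq_one] at h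
    have : (⟨g, hg⟩ : C) ∈ MulAction.stabilizer C x := h ▸ Subgroup.mem_top _
    exact this
  have h3 : MulAction.orbit C x = {0}ᶜ := by
    apply Set.eq_of_subset_of_ncard_le
    · rintro _ ⟨g, rfl⟩ h0
      exact hx0 ((LinearEquiv.map_eq_zero_iff g.1).1 h0)
    · rw [← MulAction.index_stabilizer, h2, Set.ncard_compl, Set.ncard_singleton]
    · exact Set.toFinite _
  have hv' : v ∈ MulAction.orbit C x := h3 ▸ hv
  have hw' : w ∈ MulAction.orbit C x := h3 ▸ hw
  obtain ⟨a, rfl⟩ := hv'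
  obtain ⟨b, rfl⟩ := hw'
  refine ⟨(b * a⁻¹ : C), (b * a⁻¹).2, ?_⟩
  show (b * a⁻¹) • a • x = b • x
  rw [mul_smul, inv_smul_smul]

lemma tr_top (v w : V) (hv : v ≠ 0) (hw : w ≠ 0) : ∃ h : V ≃ₗ[ZMod 2] V, h v = w := by
  obtain ⟨φ, h1, h2⟩ := Ind.exists_fun (x := v + w) hv (by simpa using hw)
  obtain ⟨g, hg⟩ := Ind.exists_tv φ _ h1
  exact ⟨g, by rw [hg, h2, one_smul, ← add_assoc, Ind.two, zero_add]⟩

end Mer

open Mer

theorem tlin_of (h : CK2.{u}) : TLin.{u} := by
  intro V _ _ _ H hp htr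
  haveI := Fact.mk hp
  rcases dichotomy h rfl H htr with h1 | ⟨c, -, e, -, -, h1⟩
  · exact Or.inr h1
  · left
    haveI := h1.isSolvable
    exact solvable_of_solvable_injective
      (f := (H.equivMapOfInjective toP toP_inj).toMonoidHom) (MulEquiv.injective _)

theorem s4179_of (h : CK2.{u}) {V : Type u} [AddCommGroup V] [Module (ZMod 2) V] [Finite V] (n : ℕ)
    (hn : Module.finrank (ZMod 2) V = n)
    (hprime : (2 ^ n - 1).Prime) (H : Subgroup (V ≃ₗ[ZMod 2] V)) :
    (∀ v w : V, v ≠ 0 → w ≠ 0 → ∃ h ∈ H, h v = w) ↔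
      ((IsCyclic ↥H ∧ Nat.card ↥H = 2 ^ n - 1) ∨
       (Nat.card ↥H = n * (2 ^ n - 1) ∧ ∃ C : Subgroup (V ≃ₗ[ZMod 2] V), C ≤ H ∧ (C.subgroupOf H).Normal ∧
          IsCyclic ↥C ∧ Nat.card ↥C = 2 ^ n - 1) ∨
       H = ⊤) := by
  have hV : Nat.card V = 2 ^ n := by
    rw [Module.natCard_eq_pow_finrank (K := ZMod 2), Nat.card_zmod, hn]
  constructor
  · intro htr
    haveI := Fact.mk hprime
    rcases dichotomy h (by rw [hV]) H htr (p := 2 ^ n - 1) with h1 | ⟨c, hc, e, hcp, he, h1⟩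
    · exact Or.inr (Or.inr h1)
    have hnp : n.Prime := (Nat.prime_of_pow_sub_one_prime (by
      rintro rfl
      exact absurd hprime (by norm_num)) hprime).2
    have he' : ∀ j, c (e j) = e (j + 1) := fun j => congrArg Subtype.val (he j)
    have haff : ∀ g ∈ H, ∃ a b, ∀ j, g (e j) = e (a * j + b) := by
      intro g hg
      obtain ⟨a, b, hab⟩ := h1 _ ⟨g, hg, rfl⟩
      exact ⟨a, b, fun j => congrArg Subtype.val (hab j)⟩
    have hs : ∀ w : V, w ≠ 0 → ∃ j, (e j : V) = w := fun w hw =>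
      ⟨e.symm ⟨w, hw⟩, by rw [Equiv.apply_symm_apply]⟩
    have hd := card_dvd c (fun j => (e j : V)) he' hs (e 0).2
      ((MulAction.stabilizer H (e 0 : V)).map H.subtype) (by
        rintro _ ⟨g, hg, rfl⟩
        obtain ⟨a, b, hab⟩ := haff g g.2
        have h2 : (g : V ≃ₗ[ZMod 2] V) (e 0) = e 0 := hg
        rw [hab, mul_zero, zero_add] at h2
        have h3 : b = 0 := e.injective (Subtype.ext h2)
        exact ⟨a, fun j => by rw [← add_zero (a * j), ← h3]; exact hab j⟩)
    rw [Subgroup.card_map_of_injective H.subtype_injective, hn] at hd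
    have hH := (MulAction.stabilizer H (e 0 : V)).card_mul_index
    rw [orbit_card htr (e 0).2, hV] at hH
    rcases (Nat.dvd_prime hnp).1 hd with h2 | h2
    · left
      rw [h2, one_mul] at hH
      exact ⟨isCyclic_of_prime_card hH.symm, hH.symm⟩
    · right; left
      rw [h2] at hH
      refine ⟨hH.symm, Subgroup.zpowers c, Subgroup.zpowers_le.2 hc, ⟨?_⟩, inferInstance, ?_⟩
      · rintro x ⟨k, hk⟩ g
        obtain ⟨a, b, hab⟩ := haff g g.2
        have h3 : (g : V ≃ₗ[ZMod 2] V) * c * (g : V ≃ₗ[ZMod 2] V)⁻¹ = c ^ a.val := by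
          rw [mul_inv_eq_iff_eq_mul]
          refine LinearEquiv.ext fun w => ?_
          by_cases hw : w = 0
          · simp [hw]
          · obtain ⟨j, rfl⟩ := hs w hw
            rw [LinearEquiv.mul_apply, LinearEquiv.mul_apply, he', hab, hab,
              pow_val (e := fun j => (e j : V)) he']
            congr 2
            ring
        rw [Subgroup.mem_subgroupOf]
        have h4 : ((g * x * g⁻¹ : H) : V ≃ₗ[ZMod 2] V) = (c ^ a.val) ^ k := by
          have hk' : c ^ k = x := hk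
          rw [← h3, conj_zpow, hk']; rfl
        rw [h4]
        exact Subgroup.zpow_mem _ (Subgroup.pow_mem _ (Subgroup.mem_zpowers c) _) _
      · rw [Nat.card_zpowers, hcp]
  · intro hc v w hv hw
    rw [← hV] at hprime hc
    rcases hc with ⟨-, h1⟩ | ⟨-, C, hCH, -, -, h1⟩ | h1
    · exact tr_of_card hprime h1 v w hv hw
    · obtain ⟨g, hg, e⟩ := tr_of_card hprime h1 v w hv hw
      exact ⟨g, hCH hg, e⟩
    · obtain ⟨g, e⟩ := tr_top v w hv hw
      exact ⟨g, h1 ▸ Subgroup.mem_top g, e⟩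

end Cfsg.Lib.Known.CK
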