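import Mathlib
import Cfsg.Agent.Known.CKDefs

/-! No non-singular alternating trilinear form over `F₂` in dimension greater than three. -/

namespace Cfsg.Lib.Known.CK

namespace Tri

open MvPolynomial Matrix

lemma sum_symm_eq_zero {ι R : Type*} [Fintype ι] [DecidableEq ι] [AddCommGroup R]
    (h2 : ∀ r : R, r + r = 0) (g : ι → ι → R) (hs : ∀ i k, g i k = g k i) (h0 : ∀ i, g i i = 0) :
    ∑ i, ∑ k, g i k = 0 := by
  rw [← Fintype.sum_prod_type']
  refine Finset.sum_involution (fun p _ => p.swap) ?_ ?_ ?_ ?_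
  · intro p _
    simp only [Prod.fst_swap, Prod.snd_swap]
    rw [hs p.2 p.1]; exact h2 _
  · intro p _ hp he
    apply hp
    have : p.2 = p.1 := congrArg Prod.fst he
    rw [this]; exact h0 _
  · intro p _; exact Finset.mem_univ _
  · intro p _; simp

variable {n : ℕ} (t : Fin n → Fin n → Fin n → ZMod 2)

/-- The generic matrix of the form. -/
noncomputable def B : Matrix (Fin n) (Fin n) (MvPolynomial (Fin n) (ZMod 2)) :=
  Matrix.of fun j k => ∑ i, X i * C (t i j k)

lemma two_R (r : MvPolynomial (Fin n) (ZMod 2)) : r + r = 0 := CharTwo.add_self_eq_zero r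

lemma B_mulVec (hs1 : ∀ i j k, t i j k = t j i k) (hs2 : ∀ i j k, t i j k = t i k j)
    (h0 : ∀ i k, t i i k = 0) : B t *ᵥ (fun i => X i) = 0 := by
  funext j
  simp only [B, mulVec, dotProduct, of_apply, Finset.sum_mul, Pi.zero_apply]
  apply sum_symm_eq_zero two_R
  · intro k i
    have : t i j k = t k j i := by rw [hs1 i j k, hs2 j i k, hs1 j k i]
    rw [this]; ring
  · intro i
    rw [hs2, h0]; simp

lemma key1 (hs1 : ∀ i j k, t i j k = t j i k) (hs2 : ∀ i j k, t i j k = t i k j)
    (h0 : ∀ i k, t i i k = 0)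
    (hns : ∀ a v : Fin n → ZMod 2, a ≠ 0 → (∀ j, ∑ k, (∑ i, a i * t i j k) * v k = 0) →
      v = 0 ∨ v = a) (a : Fin n → ZMod 2) (k : Fin n) (hk : a k ≠ 0) :
    eval a ((B t).adjugate k k) ≠ 0 := by
  rw [adjugate_apply, RingHom.map_det]
  intro hdet
  obtain ⟨v, hv, hM⟩ := exists_mulVec_eq_zero_iff.2 hdet
  have hvk : v k = 0 := by
    have := congrFun hM k
    simpa [mulVec, dotProduct, Pi.single_apply] using this
  have hj : ∀ j, j ≠ k → ∑ l, (∑ i, a i * t i j l) * v l = 0 := by
    intro j hj
    have := congrFun hM j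
    simpa [mulVec, dotProduct, updateRow_ne hj, B] using this
  have hall : ∑ j, a j * ∑ l, (∑ i, a i * t i j l) * v l = 0 := by
    simp only [Finset.mul_sum, Finset.sum_mul]
    rw [Finset.sum_comm]
    refine Finset.sum_eq_zero fun l _ => ?_
    apply sum_symm_eq_zero (fun r => CharTwo.add_self_eq_zero r)
    · intro j i
      rw [hs1 i j l]; ring
    · intro i
      rw [h0]; simp
  have hkk : ∑ l, (∑ i, a i * t i k l) * v l = 0 := by
    rw [Finset.sum_eq_single k] at hall
    · exact (mul_eq_zero.1 hall).resolve_left hk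
    · intro j _ hjk; rw [hj j hjk, mul_zero]
    · simp
  have ha : a ≠ 0 := fun h => hk (by rw [h]; rfl)
  rcases hns a v ha (fun j => by
    by_cases h : j = k
    · rw [h]; exact hkk
    · exact hj j h) with h | h
  · exact hv h
  · exact hk (h ▸ hvk)

lemma homog (k : Fin n) : ((B t).adjugate k k).IsHomogeneous (n - 1) := by
  rw [adjugate_apply, det_apply']
  refine IsHomogeneous.sum _ _ _ fun σ _ => ?_
  have h1 : (∏ i, (B t).updateRow k (Pi.single k 1) (σ i) i).IsHomogeneous
      (∑ i, if σ i = k then 0 else 1) := by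
    refine IsHomogeneous.prod _ _ _ fun i _ => ?_
    by_cases h : σ i = k
    · rw [h, updateRow_self, if_pos rfl, Pi.single_apply]
      split_ifs
      · exact isHomogeneous_one _ _
      · exact isHomogeneous_zero _ _ _
    · rw [updateRow_ne h, if_neg h]
      simp only [B, of_apply]
      refine IsHomogeneous.sum _ _ _ fun l _ => ?_
      simpa using (isHomogeneous_X (ZMod 2) l).mul (isHomogeneous_C _ (t l (σ i) i))
  have h2 : (∑ i, if σ i = k then 0 else 1) = n - 1 := by
    rw [Equiv.sum_comp σ (fun j => if j = k then 0 else 1)]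
    rw [Finset.sum_ite]
    simp [Finset.filter_ne', Finset.card_erase_of_mem]
  rw [h2] at h1
  have h3 : (((Equiv.Perm.sign σ : ℤˣ) : ℤ) : MvPolynomial (Fin n) (ZMod 2)).IsHomogeneous 0 := by
    rw [← map_intCast (C : ZMod 2 →+* MvPolynomial (Fin n) (ZMod 2))]
    exact isHomogeneous_C _ _
  simpa using h3.mul h1

theorem core (hs1 : ∀ i j k, t i j k = t j i k) (hs2 : ∀ i j k, t i j k = t i k j)
    (h0 : ∀ i k, t i i k = 0)
    (hns : ∀ a v : Fin n → ZMod 2, a ≠ 0 → (∀ j, ∑ k, (∑ i, a i * t i j k) * v k = 0) →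
      v = 0 ∨ v = a) : n ≤ 3 := by
  by_contra hn
  push Not at hn
  have hk1 := key1 t hs1 hs2 h0 hns
  have hBX := B_mulVec t hs1 hs2 h0
  let i0 : Fin n := ⟨0, by omega⟩
  let i1 : Fin n := ⟨1, by omega⟩
  have h01 : i0 ≠ i1 := by simp [i0, i1]
  have hne : ∀ k, (B t).adjugate k k ≠ 0 := by
    intro k h
    exact hk1 (Pi.single k 1) k (by simp) (by rw [h, map_zero])
  have hdet : (B t).det = 0 := by
    refine exists_mulVec_eq_zero_iff.1 ⟨_, ?_, hBX⟩
    intro h
    exact X_ne_zero i0 (congrFun h i0)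
  have hsym : ∀ i j, (B t).adjugate i j = (B t).adjugate j i := by
    intro i j
    have hT : (B t)ᵀ = B t := by
      ext1 a b
      simp only [B, transpose_apply, of_apply]
      exact Finset.sum_congr rfl fun l _ => by rw [hs2]
    have := adjugate_transpose (B t)
    rw [hT] at this
    rw [← this, transpose_apply, this]
  have hcol : ∀ j, B t *ᵥ (fun i => (B t).adjugate i j) = 0 := by
    intro j
    funext i
    have := congrFun (congrFun (mul_adjugate (B t)) i) j
    rw [hdet, zero_smul] at this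
    simpa [mulVec, dotProduct, mul_apply] using this
  have key2 : ∀ k i j, X k * (B t).adjugate i j = (B t).adjugate k j * X i := by
    intro k i j
    let v : Fin n → MvPolynomial (Fin n) (ZMod 2) :=
      (X k : MvPolynomial (Fin n) (ZMod 2)) • (fun i => (B t).adjugate i j) -
        (B t).adjugate k j • (fun i => X i)
    have hv : B t *ᵥ v = 0 := by
      simp only [v, mulVec_sub, mulVec_smul, hcol, hBX, smul_zero, sub_zero]
    have hvk : v k = 0 := by simp [v, mul_comm]
    have hv0 : v = 0 := by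
      have hd : ((B t).updateRow k (Pi.single k 1)).det ≠ 0 := by
        rw [← adjugate_apply]; exact hne k
      apply eq_zero_of_mulVec_eq_zero hd
      funext l
      by_cases h : l = k
      · subst h
        simpa [mulVec, dotProduct, Pi.single_apply] using hvk
      · have := congrFun hv l
        simpa [mulVec, updateRow_ne h] using this
    have := congrFun hv0 i
    simpa [v, sub_eq_zero] using this
  have key3 : ∀ k, X k ^ 2 * (B t).adjugate i0 i0 = X i0 ^ 2 * (B t).adjugate k k := by
    intro k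
    calc X k ^ 2 * (B t).adjugate i0 i0 = X k * (X k * (B t).adjugate i0 i0) := by ring
      _ = X i0 * (X k * (B t).adjugate i0 k) := by rw [key2 k i0 i0, hsym k i0]; ring
      _ = _ := by rw [key2 k i0 k]; ring
  have hdvd : (X i0 : MvPolynomial (Fin n) (ZMod 2)) ^ 2 ∣ (B t).adjugate i0 i0 := by
    have hp : Prime (X i0 : MvPolynomial (Fin n) (ZMod 2)) := X_prime
    refine hp.pow_dvd_of_dvd_mul_left 2 (a := X i1 ^ 2) ?_ ⟨_, key3 i1⟩
    intro h
    exact h01 (X_dvd_X.1 (hp.dvd_of_dvd_pow h))
  obtain ⟨G, hG⟩ := hdvd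
  have hGk : ∀ k, (B t).adjugate k k = X k ^ 2 * G := by
    intro k
    have h := key3 k
    rw [hG] at h
    apply mul_left_cancel₀ (pow_ne_zero 2 (X_ne_zero (R := ZMod 2) i0))
    rw [← h]; ring
  have hG0 : G ≠ 0 := by
    intro h
    exact hne i0 (by rw [hG, h, mul_zero])
  have hhom := homog t i0
  have hdeg : G.totalDegree < Fintype.card (Fin n) := by
    have h1 := hhom.totalDegree_le
    rw [hG, totalDegree_mul_of_isDomain (pow_ne_zero 2 (X_ne_zero i0)) hG0] at h1
    rw [Fintype.card_fin]
    omega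
  have hc0 : eval (0 : Fin n → ZMod 2) G = 0 := by
    have h1 : coeff (Finsupp.single i0 2) ((B t).adjugate i0 i0) = 0 := by
      apply hhom.coeff_eq_zero
      simp only [Finsupp.degree_single]
      omega
    rw [hG, X_pow_eq_monomial] at h1
    have h2 := coeff_monomial_mul (0 : Fin n →₀ ℕ) (Finsupp.single i0 2) (1 : ZMod 2) G
    rw [add_zero, h1, one_mul] at h2
    rw [eval_zero, constantCoeff_eq, ← h2]
  have hcw := char_dvd_card_solutions 2 hdeg
  have hone : Fintype.card {x : Fin n → ZMod 2 // eval x G = 0} = 1 := by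
    rw [Fintype.card_eq_one_iff]
    refine ⟨⟨0, hc0⟩, ?_⟩
    rintro ⟨a, ha⟩
    ext1
    by_contra h
    obtain ⟨k, hk⟩ := Function.ne_iff.1 h
    apply hk1 a k hk
    rw [hGk, map_mul, ha, mul_zero]
  rw [hone] at hcw
  omega

end Tri

universe u

theorem trilin : Trilin.{u} := by
  intro V _ _ f h2 hadd hs1 hs2 h0 hns
  classical
  letI : Module (ZMod 2) V := AddCommGroup.zmodModule (n := 2) (by
    intro v; rw [two_nsmul]; exact h2 v)
  let e := Module.finBasis (ZMod 2) V
  have hadd2 : ∀ x y w z, f x (y + w) z = f x y z + f x w z := by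
    intro x y w z; rw [hs2, hadd, hs2 x z y, hs2 x z w]
  have hadd1 : ∀ x w y z, f (x + w) y z = f x y z + f w y z := by
    intro x w y z; rw [hs1, hadd2, hs1 y x z, hs1 y w z]
  have lin : ∀ g : V → ZMod 2, (∀ x y, g (x + y) = g x + g y) →
      ∀ a : Fin (Module.finrank (ZMod 2) V) → ZMod 2, g (∑ i, a i • e i) = ∑ i, a i * g (e i) := by
    intro g hg a
    let g' : V →+ ZMod 2 := AddMonoidHom.mk' g hg
    let g'' : V →ₗ[ZMod 2] ZMod 2 := g'.toZModLinearMap 2
    have : ∀ v, g v = g'' v := fun v => rfl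
    simp only [this, map_sum, map_smul, smul_eq_mul]
  have hn : Module.finrank (ZMod 2) V ≤ 3 := by
    apply Tri.core (fun i j k => f (e i) (e j) (e k))
    · intro i j k; exact hs1 _ _ _
    · intro i j k; exact hs2 _ _ _
    · intro i k; exact h0 _ _
    · intro a v ha hv
      by_contra hc
      push Not at hc
      have inj : ∀ a b : Fin (Module.finrank (ZMod 2) V) → ZMod 2,
          ∑ i, a i • e i = ∑ i, b i • e i → a = b := by
        intro a b hab
        have := e.equivFun.symm.injective (a₁ := a) (a₂ := b)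
        simp only [Module.Basis.equivFun_symm_apply] at this
        exact this hab
      obtain ⟨z, hz⟩ := hns (∑ i, a i • e i) (∑ i, v i • e i)
        (fun h => ha (inj a 0 (by simpa using h))) (fun h => hc.1 (inj v 0 (by simpa using h)))
        (fun h => hc.2 (inj v a h))
      apply hz
      rw [← e.sum_repr z, lin (fun z => f _ _ z) (fun x y => hadd _ _ x y)]
      refine Finset.sum_eq_zero fun j _ => ?_
      rw [lin (fun y => f _ y _) (fun x y => hadd2 _ x y _)]
      have := hv j
      rw [mul_eq_zero]; right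
      rw [← this]
      refine Finset.sum_congr rfl fun k _ => ?_
      rw [lin (fun x => f x _ _) (fun x y => hadd1 x y _ _), mul_comm]
      congr 1
      exact Finset.sum_congr rfl fun i _ => by rw [hs2]
  rw [Module.natCard_eq_pow_finrank (K := ZMod 2), Nat.card_zmod]
  calc 2 ^ Module.finrank (ZMod 2) V ≤ 2 ^ 3 := Nat.pow_le_pow_right (by norm_num) hn
    _ = 8 := by norm_num

end Cfsg.Lib.Known.CK
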