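import Cfsg.Agent.Known.CKa

/-! Hyperplanes, cores and chains of invariant subgroups. -/

set_option linter.unusedSectionVars false

namespace Cfsg.Lib.Known.CK

open scoped Pointwise

/-- `T` has index two in `S`. -/
structure Hy {V : Type*} [AddCommGroup V] (S T : AddSubgroup V) : Prop where
  le : T ≤ S
  card : Nat.card S = 2 * Nat.card T

/-- The set difference of two subgroups. -/
def df {V : Type*} [AddCommGroup V] (S T : AddSubgroup V) : Set V := {v | v ∈ S ∧ v ∉ T}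

section
variable {G V : Type*} [Group G] [AddCommGroup V] [DistribMulAction G V]

/-- The largest `K`-invariant subgroup of `Z`. -/
def core (K : Subgroup G) (Z : AddSubgroup V) : AddSubgroup V where
  carrier := {v | ∀ k ∈ K, k • v ∈ Z}
  zero_mem' k _ := by simp
  add_mem' ha hb k hk := by rw [smul_add]; exact Z.add_mem (ha k hk) (hb k hk)
  neg_mem' ha k hk := by rw [smul_neg]; exact Z.neg_mem (ha k hk)

theorem core_le (K : Subgroup G) (Z : AddSubgroup V) : core K Z ≤ Z := fun v hv => by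
  simpa using hv 1 K.one_mem

theorem iv_core (K : Subgroup G) (Z : AddSubgroup V) : Iv K (core K Z) :=
  fun k hk v hv g hg => by rw [← mul_smul]; exact hv _ (K.mul_mem hg hk)

theorem le_core {K : Subgroup G} {Z T : AddSubgroup V} (h : Iv K T) (hT : T ≤ Z) : T ≤ core K Z :=
  fun v hv k hk => hT (h k hk v hv)

theorem core_le_smul {K : Subgroup G} (Z : AddSubgroup V) {k : G} (hk : k ∈ K) :
    core K Z ≤ k • Z := fun v hv => by
  rw [AddSubgroup.mem_pointwise_smul_iff_inv_smul_mem]; exact hv _ (K.inv_mem hk)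

theorem le_core_iff {K : Subgroup G} {Z T : AddSubgroup V} :
    T ≤ core K Z ↔ ∀ k ∈ K, T ≤ k • Z := by
  refine ⟨fun h k hk => h.trans (core_le_smul Z hk), fun h v hv k hk => ?_⟩
  have := h k⁻¹ (K.inv_mem hk) hv
  rwa [AddSubgroup.mem_pointwise_smul_iff_inv_smul_mem, inv_inv] at this

theorem iv_iff {K : Subgroup G} {S : AddSubgroup V} : Iv K S ↔ K ≤ MulAction.stabilizer G S :=
  ⟨fun h _ hk => h.smul_eq hk, fun h => iv_of_smul fun _ hk => h hk⟩

theorem iv_stab (S : AddSubgroup V) : Iv (MulAction.stabilizer G S) S := iv_iff.2 le_rfl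

theorem smul_le_smul {g : G} {S T : AddSubgroup V} : g • S ≤ g • T ↔ S ≤ T :=
  AddSubgroup.pointwise_smul_le_pointwise_smul_iff

theorem smul_inf' (g : G) (S T : AddSubgroup V) : g • (S ⊓ T) = g • S ⊓ g • T := by
  ext v; simp [AddSubgroup.mem_pointwise_smul_iff_inv_smul_mem]

theorem smul_sup' (g : G) (S T : AddSubgroup V) : g • (S ⊔ T) = g • S ⊔ g • T :=
  AddSubgroup.map_sup _ _ _

theorem Hy.smul {S T : AddSubgroup V} (h : Hy S T) (g : G) : Hy (g • S) (g • T) :=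
  ⟨smul_le_smul.2 h.le, by rw [card_smul, card_smul, h.card]⟩

/-- If `K` is transitive on `S \ T`, every proper invariant subgroup of `S` lies in `T`. -/
theorem Tr.le_of_iv {K : Subgroup G} {S T Y : AddSubgroup V} (h : Tr K (df S T)) (hTS : T ≤ S)
    (hY : Iv K Y) (hYS : Y ≤ S) (hne : ¬ S ≤ Y) : Y ≤ T := by
  intro v hv
  by_contra hv'
  have key : ∀ w ∈ S, w ∉ T → w ∈ Y := fun w hw hw' => by
    obtain ⟨k, hk, rfl⟩ := h v ⟨hYS hv, hv'⟩ w ⟨hw, hw'⟩
    exact hY k hk v hv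
  refine hne fun w hw => ?_
  by_cases hw' : w ∈ T
  · have := key (w + v) (S.add_mem hw (hYS hv)) fun hh => hv' ((T.add_mem_cancel_left hw').1 hh)
    exact (Y.add_mem_cancel_right hv).1 this
  · exact key w hw hw'

theorem tr_core {K J : Subgroup G} {S T : AddSubgroup V} (hK : K ≤ J) (hS : Iv J S)
    (h : Tr K (df S T)) : Tr J (df S (core J T)) := by
  have key : ∀ v ∈ df S (core J T), ∃ k ∈ J, k • v ∈ df S T := by
    rintro v ⟨hv, hv'⟩
    have : ¬ ∀ k ∈ J, k • v ∈ T := hv'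
    push Not at this
    obtain ⟨k, hk, e⟩ := this
    exact ⟨k, hk, hS k hk v hv, e⟩
  intro x hx y hy
  obtain ⟨k, hk, e⟩ := key x hx
  obtain ⟨k', hk', e'⟩ := key y hy
  obtain ⟨g, hg, e''⟩ := h _ e _ e'
  exact ⟨k'⁻¹ * g * k, J.mul_mem (J.mul_mem (J.inv_mem hk') (hK hg)) hk, by
    rw [mul_smul, mul_smul, e'', inv_smul_smul]⟩

variable [Finite V]

theorem mem_stab_of {S : AddSubgroup V} {g : G} (h : ∀ v ∈ S, g • v ∈ S) :
    g ∈ MulAction.stabilizer G S := by
  refine AddSubgroup.eq_of_le_of_card_ge ?_ (card_smul g S).ge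
  intro v hv
  obtain ⟨w, hw, rfl⟩ := (AddSubgroup.mem_smul_pointwise_iff_exists _ _ _).1 hv
  exact h w hw

theorem card_df {S T : AddSubgroup V} (h : T ≤ S) :
    Nat.card (df S T) + Nat.card T = Nat.card S := by
  have h1 : ∀ T : AddSubgroup V, Nat.card T = (T : Set V).ncard := fun T =>
    Nat.card_coe_set_eq (T : Set V)
  rw [h1, h1, Nat.card_coe_set_eq]
  exact Set.ncard_diff_add_ncard_of_subset h

theorem Hy.card_df {S T : AddSubgroup V} (h : Hy S T) : Nat.card (df S T) = Nat.card T := by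
  have := CK.card_df h.le
  have := h.card
  omega

theorem Hy.not_le {S T : AddSubgroup V} (h : Hy S T) : ¬ S ≤ T := fun h' => by
  have h1 := AddSubgroup.card_le_of_le h'
  have h2 := h.card
  have h3 : 0 < Nat.card T := Nat.card_pos
  omega

theorem Hy.exists {S T : AddSubgroup V} (h : Hy S T) : ∃ v ∈ S, v ∉ T := by
  by_contra! hh; exact h.not_le hh

theorem Hy.sub_mem {S T : AddSubgroup V} (h : Hy S T) {x y : V} (hx : x ∈ S) (hx' : x ∉ T)
    (hy : y ∈ S) (hy' : y ∉ T) : x - y ∈ T := by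
  have h1 : (T.addSubgroupOf S).index = 2 := by
    have h2 := (T.addSubgroupOf S).card_mul_index
    have h3 : Nat.card (T.addSubgroupOf S) = Nat.card T :=
      Nat.card_congr (AddSubgroup.addSubgroupOfEquivOfLe h.le).toEquiv
    rw [h3, h.card, mul_comm 2] at h2
    exact Nat.eq_of_mul_eq_mul_left Nat.card_pos h2
  have := (AddSubgroup.add_mem_iff_of_index_two h1 (a := ⟨x, hx⟩) (b := -⟨y, hy⟩)).2
    (by simp [AddSubgroup.mem_addSubgroupOf, hx', hy'])
  simpa [AddSubgroup.mem_addSubgroupOf, sub_eq_add_neg] using this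

theorem Hy.eq_of_le {S T Y : AddSubgroup V} (h : Hy S T) (h1 : T ≤ Y) (h2 : Y ≤ S) :
    Y = T ∨ Y = S := by
  by_cases h3 : Y ≤ T
  · exact Or.inl (le_antisymm h3 h1)
  · right
    obtain ⟨y, hy, hy'⟩ := SetLike.not_le_iff_exists.1 h3
    refine le_antisymm h2 fun x hx => ?_
    by_cases hx' : x ∈ T
    · exact h1 hx'
    · simpa using Y.add_mem (h1 (h.sub_mem hx hx' (h2 hy) hy')) hy

theorem Hy.eq {S T T' : AddSubgroup V} (h : Hy S T) (h' : Hy S T') (hle : T ≤ T') : T = T' :=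
  AddSubgroup.eq_of_le_of_card_ge hle (by have := h.card; have := h'.card; omega)

theorem Hy.eq' {S S' T : AddSubgroup V} (h : Hy S T) (h' : Hy S' T) (hle : S ≤ S') : S = S' :=
  AddSubgroup.eq_of_le_of_card_ge hle (by have := h.card; have := h'.card; omega)

theorem hy_of {S T : AddSubgroup V} (hle : T ≤ S) {x : V} (hx : x ∈ S) (hx' : x ∉ T)
    (h : ∀ y ∈ S, y ∉ T → y - x ∈ T) : Hy S T := by
  refine ⟨hle, ?_⟩
  have h1 : Nat.card (df S T) = Nat.card T := Nat.card_congr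
    { toFun := fun y => ⟨y - x, h _ y.2.1 y.2.2⟩
      invFun := fun t => ⟨t + x, S.add_mem (hle t.2) hx,
        fun hh => hx' ((T.add_mem_cancel_left t.2).1 hh)⟩
      left_inv := fun y => by simp
      right_inv := fun t => by simp }
  have := card_df hle
  omega

theorem Hy.inf {S T T' : AddSubgroup V} (h : Hy S T) (hT' : T' ≤ S) (hne : ¬ T' ≤ T) :
    Hy T' (T' ⊓ T) := by
  obtain ⟨x, hx, hx'⟩ := SetLike.not_le_iff_exists.1 hne
  refine hy_of inf_le_left hx (fun hh => hx' hh.2) fun y hy hy' => ⟨T'.sub_mem hy hx, ?_⟩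
  exact h.sub_mem (hT' hy) (fun hh => hy' ⟨hy, hh⟩) (hT' hx) hx'

theorem Hy.sup_eq {S T T' : AddSubgroup V} (h : Hy S T) (hT' : T' ≤ S) (hne : ¬ T' ≤ T) :
    T ⊔ T' = S :=
  (h.eq_of_le le_sup_left (sup_le h.le hT')).resolve_left fun e => hne (e ▸ le_sup_right)

/-- A Sylow subgroup is transitive on an invariant coset. -/
theorem tr_hy [Finite G] (P : Sylow 2 G) {J : Subgroup G} {S T Y : AddSubgroup V}
    (hP : (P : Subgroup G) ≤ J) (hT : Iv J T) (h : Tr J (df S T)) (hY : Hy Y T) (hYS : Y ≤ S)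
    (hPY : Iv (P : Subgroup G) Y) {a : ℕ} (ha : Nat.card T = 2 ^ a) :
    Tr (P : Subgroup G) (df Y T) := by
  haveI : Fact (Nat.Prime 2) := ⟨Nat.prime_two⟩
  refine tr_sylow P (K := J ⊓ MulAction.stabilizer G Y) (le_inf hP (iv_iff.1 hPY)) ?_ ?_
    (hY.card_df.trans ha)
  · intro x hx y hy
    obtain ⟨k, hk, e⟩ := h x ⟨hYS hx.1, hx.2⟩ y ⟨hYS hy.1, hy.2⟩
    refine ⟨k, ⟨hk, mem_stab_of fun v hv => ?_⟩, e⟩
    by_cases hv' : v ∈ T
    · exact hY.le (hT k hk v hv')
    · have := Y.add_mem (hY.le (hT k hk _ (hY.sub_mem hv hv' hx.1 hx.2))) hy.1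
      rwa [smul_sub, e, sub_add_cancel] at this
  · rintro k hk x ⟨hx, hx'⟩
    exact ⟨iv_stab Y k hk.2 x hx, fun hh => hx' ((hT.iff hk.1).1 hh)⟩

/-- A 2-group has a fixed point in a non-trivial section. -/
theorem exists_hy_over (h2 : ∀ v : V, v + v = 0) {P : Subgroup G} (hP : IsPGroup 2 P)
    {U S : AddSubgroup V} (hUS : U ≤ S) (hne : ¬ S ≤ U) (hU : Iv P U) (hS : Iv P S) :
    ∃ Y, Hy Y U ∧ Y ≤ S ∧ Iv P Y := by
  haveI : Fact (Nat.Prime 2) := ⟨Nat.prime_two⟩
  let f : P → V ⧸ U →+ V ⧸ U := fun g =>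
    QuotientAddGroup.map U U (DistribSMul.toAddMonoidHom V (g : G)) fun v hv => hU g g.2 v hv
  have hf : ∀ (g : P) (v : V), f g (v : V ⧸ U) = (((g : G) • v : V) : V ⧸ U) := fun _ _ => rfl
  let A := S.map (QuotientAddGroup.mk' U)
  letI : MulAction P A :=
    { smul := fun g q => ⟨f g q, by
        obtain ⟨_, v, hv, rfl⟩ := q
        exact ⟨(g : G) • v, hS g g.2 v hv, rfl⟩⟩
      one_smul := by
        rintro ⟨_, v, hv, rfl⟩
        exact Subtype.ext (by change f 1 (v : V ⧸ U) = (v : V ⧸ U); rw [hf]; simp)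
      mul_smul := by
        rintro g h ⟨_, v, hv, rfl⟩
        exact Subtype.ext (by
          change f (g * h) (v : V ⧸ U) = f g (f h (v : V ⧸ U)); rw [hf, hf, hf]; simp [mul_smul]) }
  obtain ⟨x, hx, hx'⟩ := SetLike.not_le_iff_exists.1 hne
  have hdvd : 2 ∣ Nat.card A := by
    have h1 : addOrderOf (⟨(x : V ⧸ U), x, hx, rfl⟩ : A) = 2 := by
      refine addOrderOf_eq_prime ?_ ?_
      · rw [two_nsmul]
        exact Subtype.ext (by
          change (x : V ⧸ U) + (x : V ⧸ U) = 0; rw [← QuotientAddGroup.mk_add, h2]; rfl)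
      · intro e
        exact hx' ((QuotientAddGroup.eq_zero_iff x).1 (congrArg Subtype.val e))
    rw [← h1]; exact addOrderOf_dvd_natCard _
  obtain ⟨⟨_, w, hw, rfl⟩, hq, hq'⟩ := hP.exists_fixed_point_of_prime_dvd_card_of_fixed_point
    (α := A) hdvd (a := 0) (fun g => Subtype.ext (map_zero (f g)))
  have hwU : w ∉ U := fun e => hq' (Subtype.ext ((QuotientAddGroup.eq_zero_iff w).2 e).symm)
  have hfix : ∀ g ∈ P, g • w - w ∈ U := fun g hg => by
    have := congrArg Subtype.val (hq ⟨g, hg⟩)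
    exact QuotientAddGroup.eq_iff_sub_mem.1 this
  let Y : AddSubgroup V :=
    { carrier := {v | v ∈ U ∨ v - w ∈ U}
      zero_mem' := Or.inl U.zero_mem
      add_mem' := by
        rintro a c (ha | ha) (hc | hc)
        · exact Or.inl (U.add_mem ha hc)
        · exact Or.inr (by rw [add_sub_assoc]; exact U.add_mem ha hc)
        · exact Or.inr (by rw [add_sub_right_comm]; exact U.add_mem ha hc)
        · refine Or.inl ?_
          have := U.add_mem ha hc
          rwa [sub_add_sub_comm, h2, sub_zero] at this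
      neg_mem' := by
        intro a ha
        rwa [neg_eq_of_add_eq_zero_left (h2 a)] }
  refine ⟨Y, hy_of (fun v hv => Or.inl hv) (x := w) (Or.inr (by simp)) hwU
    fun y hy hy' => hy.resolve_left hy', ?_, ?_⟩
  · rintro v (hv | hv)
    · exact hUS hv
    · simpa using S.add_mem (hUS hv) hw
  · rintro g hg v (hv | hv)
    · exact Or.inl (hU g hg v hv)
    · refine Or.inr ?_
      have := U.add_mem (hU g hg _ hv) (hfix g hg)
      rwa [smul_sub, sub_add_sub_cancel] at this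

end

namespace Pr

variable {G V W : Type*} [Group G] [AddCommGroup V] [AddCommGroup W] [DistribMulAction G V]
  [DistribMulAction G W] (p : Pr G V W)

/-- The hyperplane defined by `φ`. -/
def ker (φ : W) : AddSubgroup V := (p.b.flip φ).ker

theorem mem_ker {φ : W} {v : V} : v ∈ p.ker φ ↔ p.b v φ = 0 := Iff.rfl

theorem le_ker {S : AddSubgroup V} {φ : W} : S ≤ p.ker φ ↔ φ ∈ p.ann S := Iff.rfl

theorem ker_smul (g : G) (φ : W) : p.ker (g • φ) = g • p.ker φ := by
  ext v; rw [AddSubgroup.mem_pointwise_smul_iff_inv_smul_mem, mem_ker, mem_ker, p.inv'']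

/-- The subgroup `{0, x}`. -/
def ln (x : V) : AddSubgroup V where
  carrier := {v | v = 0 ∨ v = x}
  zero_mem' := Or.inl rfl
  add_mem' := by
    rintro _ _ (rfl | rfl) (rfl | h)
    · simp
    · simp [h]
    · simp
    · simp [h, p.two]
  neg_mem' ha := by rwa [p.neg_eq]

theorem mem_ln {x v : V} : v ∈ p.ln x ↔ v = 0 ∨ v = x := Iff.rfl

theorem ln_le {x : V} {S : AddSubgroup V} : p.ln x ≤ S ↔ x ∈ S :=
  ⟨fun h => h (Or.inr rfl), by rintro h _ (rfl | rfl); exacts [S.zero_mem, h]⟩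

theorem ann_ln (x : V) : p.ann (p.ln x) = p.flip.ker x := by
  ext φ
  refine ⟨fun h => h x (Or.inr rfl), ?_⟩
  rintro h _ (rfl | rfl)
  · simp
  · exact h

theorem iv_ln {K : Subgroup G} {x : V} (h : ∀ k ∈ K, k • x = x) : Iv K (p.ln x) := by
  rintro k hk _ (rfl | rfl)
  · exact Or.inl (smul_zero _)
  · exact Or.inr (h k hk)

theorem iv_ker {K : Subgroup G} {φ : W} (h : ∀ k ∈ K, k • φ = φ) : Iv K (p.ker φ) :=
  fun k hk v hv => by rw [mem_ker, ← h k hk, p.inv]; exact hv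

variable [Fintype V] [Fintype W]

theorem ann_ker (φ : W) : p.ann (p.ker φ) = p.flip.ln φ := by
  rw [← p.flip.ann_ann (p.flip.ln φ), p.flip.ann_ln]; rfl

theorem hy_ln {x : V} (hx : x ≠ 0) : Hy (p.ln x) ⊥ :=
  hy_of bot_le (x := x) (Or.inr rfl) (by simpa using hx) <| by
    rintro _ (rfl | rfl) h
    · simp at h
    · simp

theorem card_ln {x : V} (hx : x ≠ 0) : Nat.card (p.ln x) = 2 := by
  rw [(p.hy_ln hx).card, AddSubgroup.card_bot]

theorem hy_ann {S T : AddSubgroup V} (h : Hy S T) : Hy (p.ann T) (p.ann S) := by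
  refine ⟨p.ann_anti h.le, ?_⟩
  have h1 := p.card_mul_ann S
  have h2 := p.card_mul_ann T
  rw [h.card, ← h2, mul_comm 2, mul_assoc] at h1
  exact (Nat.eq_of_mul_eq_mul_left Nat.card_pos h1).symm

theorem hy_inf_ker {S : AddSubgroup V} {φ : W} (h : φ ∉ p.ann S) : Hy S (S ⊓ p.ker φ) := by
  have h0 : φ ≠ 0 := fun e => h (e ▸ AddSubgroup.zero_mem _)
  have h1 := p.flip.hy_ann (p.flip.hy_ln h0)
  rw [p.flip.ann_bot, p.flip.ann_ln] at h1
  exact h1.inf le_top h

theorem hy_ker {φ : W} (h : φ ≠ 0) : Hy ⊤ (p.ker φ) := by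
  have := p.hy_inf_ker (S := ⊤) (φ := φ) (by rwa [ann_top, AddSubgroup.mem_bot])
  rwa [top_inf_eq] at this

theorem hy_eq_ker {S T : AddSubgroup V} (h : Hy S T) {φ : W} (h1 : φ ∈ p.ann T)
    (h2 : φ ∉ p.ann S) : T = S ⊓ p.ker φ :=
  h.eq (p.hy_inf_ker h2) (le_inf h.le h1)

include p in
theorem exists_hy_under {P : Subgroup G} (hP : IsPGroup 2 P) {U S : AddSubgroup V} (hUS : U ≤ S)
    (hne : ¬ S ≤ U) (hU : Iv P U) (hS : Iv P S) : ∃ Y, Hy S Y ∧ U ≤ Y ∧ Iv P Y := by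
  obtain ⟨Y, h1, h2, h3⟩ := exists_hy_over p.flip.two hP (p.ann_anti hUS)
    (mt p.ann_le_ann.1 hne) (p.iv_ann hS) (p.iv_ann hU)
  refine ⟨p.flip.ann Y, ?_, p.le_ann_comm.1 h2, p.flip.iv_ann h3⟩
  have := p.flip.hy_ann h1
  rwa [p.ann_ann] at this

include p in
/-- All hyperplanes of `S` above the core are conjugate. -/
theorem core_conj {K J : Subgroup G} {S T : AddSubgroup V} (hK : K ≤ J) (hS : Iv J S)
    (hT : Hy S T) (h : Tr K (df S T)) {T' : AddSubgroup V} (hT' : Hy S T') (hle : core J T ≤ T') :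
    ∃ k ∈ J, T' = k • T := by
  obtain ⟨φ, h1, h2⟩ := (p.hy_ann hT).exists
  obtain ⟨ψ, h3, h4⟩ := (p.hy_ann hT').exists
  obtain ⟨k, hk, e⟩ := p.tr_dual ((core_le J T).trans hT.le) (iv_core J T) hS
    (fun x hx hx' y hy hy' => by
      obtain ⟨k, hk, e⟩ := tr_core hK hS h x ⟨hx, hx'⟩ y ⟨hy, hy'⟩
      exact ⟨k, hk, by rw [e, sub_self]; exact AddSubgroup.zero_mem _⟩)
    (p.ann_anti (core_le J T) h1) h2 (p.ann_anti hle h3) h4
  refine ⟨k, hk, ?_⟩
  have h5 := hT.smul k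
  rw [hS.smul_eq hk] at h5
  rw [p.hy_eq_ker hT' h3 h4]
  symm
  refine p.hy_eq_ker h5 ?_ h4
  have h6 : k • φ ∈ p.ann (k • T) := by
    rw [ann_smul]; exact AddSubgroup.smul_mem_pointwise_smul _ _ _ h1
  simpa using AddSubgroup.sub_mem _ h6 (p.ann_anti h5.le e)

/-- Transitivity on `V \ T` gives transitivity on the non-zero elements of the annihilator. -/
theorem tr_ann {K : Subgroup G} {T : AddSubgroup V} (hT : Iv K T) (h : Tr K (df ⊤ T)) :
    Tr K (df (p.ann T) ⊥) := by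
  rintro φ ⟨h1, h2⟩ ψ ⟨h3, h4⟩
  obtain ⟨k, hk, e⟩ := p.tr_dual le_top hT (iv_top K)
    (fun x hx hx' y hy hy' => by
      obtain ⟨k, hk, e⟩ := h x ⟨hx, hx'⟩ y ⟨hy, hy'⟩
      exact ⟨k, hk, by rw [e, sub_self]; exact AddSubgroup.zero_mem _⟩)
    h1 (by rwa [ann_top]) h3 (by rwa [ann_top])
  rw [ann_top, AddSubgroup.mem_bot, sub_eq_zero] at e
  exact ⟨k, hk, e⟩

end Pr

end Cfsg.Lib.Known.CK
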