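import Cfsg.Agent.Known.CKb

/-! A group that is 2-transitive on the non-zero vectors: Sylow 2-subgroups and special triples. -/

set_option linter.unusedSectionVars false

namespace Cfsg.Lib.Known.CK

open scoped Pointwise
open MulAction

attribute [local simp] smul_eq_zero_iff_eq

theorem dc_le {α β : Type*} [Finite α] [Finite β] (r : α → β → Prop) (X : Set α) (Y : Set β)
    {m k : ℕ} (h1 : ∀ a ∈ X, m ≤ {b | b ∈ Y ∧ r a b}.ncard)
    (h2 : ∀ b ∈ Y, {a | a ∈ X ∧ r a b}.ncard ≤ k) : X.ncard * m ≤ Y.ncard * k := by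
  classical
  rw [Set.ncard_eq_toFinset_card X, Set.ncard_eq_toFinset_card Y]
  refine Finset.card_mul_le_card_mul r (fun a ha => ?_) fun b hb => ?_
  · refine (h1 a (by simpa using ha)).trans (le_of_eq ?_)
    rw [← Set.ncard_coe_finset]; congr 1; ext b; simp [Finset.bipartiteAbove]
  · refine le_trans (le_of_eq ?_) (h2 b (by simpa using hb))
    rw [← Set.ncard_coe_finset]; congr 1; ext a; simp [Finset.bipartiteBelow]

theorem dc_eq {α β : Type*} [Finite α] [Finite β] (r : α → β → Prop) (X : Set α) (Y : Set β)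
    {m k : ℕ} (h1 : ∀ a ∈ X, {b | b ∈ Y ∧ r a b}.ncard = m)
    (h2 : ∀ b ∈ Y, {a | a ∈ X ∧ r a b}.ncard = k) : X.ncard * m = Y.ncard * k :=
  le_antisymm (dc_le r X Y (fun a ha => (h1 a ha).ge) fun b hb => (h2 b hb).le)
    (dc_le (fun b a => r a b) Y X (fun b hb => (h2 b hb).ge) fun a ha => (h1 a ha).le)

theorem ncard_df {V : Type*} [AddCommGroup V] [Finite V] {S T : AddSubgroup V} (h : T ≤ S) :
    (df S T).ncard + Nat.card T = Nat.card S := by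
  rw [← Nat.card_coe_set_eq]; exact card_df h

section
variable {G V W : Type*} [Group G] [AddCommGroup V] [AddCommGroup W] [DistribMulAction G V]
  [DistribMulAction G W]

/-- The Sylow subgroup `P` fixes `x`. -/
def Fx (P : Sylow 2 G) (x : V) : Prop := ∀ g ∈ (P : Subgroup G), g • x = x

theorem mem_sylow_smul {P : Sylow 2 G} {g k : G} (hk : k ∈ ((g • P : Sylow 2 G) : Subgroup G)) :
    g⁻¹ * k * g ∈ (P : Subgroup G) := by
  rw [Sylow.coe_subgroup_smul, Subgroup.mem_pointwise_smul_iff_inv_smul_mem] at hk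
  simpa using hk

theorem Fx.smul {P : Sylow 2 G} {x : V} (h : Fx P x) (g : G) : Fx (g • P) (g • x) := fun k hk => by
  have := h _ (mem_sylow_smul hk)
  rwa [mul_smul, mul_smul, inv_smul_eq_iff] at this

variable (G) in
/-- Special triples: stabilised (with the line through `x`, `y`) by a Sylow 2-subgroup. -/
def Sp (x y : V) (φ : W) : Prop :=
  x ≠ 0 ∧ y ≠ 0 ∧ y ≠ x ∧ φ ≠ 0 ∧ ∃ P : Sylow 2 G, Fx P x ∧ Fx P φ ∧
    ∀ g ∈ (P : Subgroup G), g • y = y ∨ g • y = x + y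

theorem Sp.smul {x y : V} {φ : W} (h : Sp G x y φ) (g : G) : Sp G (g • x) (g • y) (g • φ) := by
  obtain ⟨h1, h2, h3, h4, P, h5, h6, h7⟩ := h
  refine ⟨by simpa using h1, by simpa using h2, by simpa using h3, by simpa using h4, g • P,
    h5.smul g, h6.smul g, fun k hk => ?_⟩
  have := h7 _ (mem_sylow_smul hk)
  rwa [mul_smul, mul_smul, inv_smul_eq_iff, inv_smul_eq_iff, smul_add] at this

theorem sp_smul {x y : V} {φ : W} {g : G} : Sp G (g • x) (g • y) (g • φ) ↔ Sp G x y φ :=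
  ⟨fun h => by simpa using h.smul g⁻¹, fun h => h.smul g⟩

variable (G W) in
/-- The hyperplanes that are special for a line. -/
def Ns (x y : V) : AddSubgroup W := AddSubgroup.closure {φ | Sp G x y φ}

variable (G) in
/-- The points that are special for a flag. -/
def Bs (x : V) (φ : W) : AddSubgroup V := AddSubgroup.closure {y | y = x ∨ Sp G x y φ}

theorem smul_closure' (g : G) (s : Set V) :
    g • AddSubgroup.closure s = AddSubgroup.closure (g • s) := AddMonoidHom.map_closure _ _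

theorem Ns_smul (g : G) (x y : V) : Ns G W (g • x) (g • y) = g • Ns G W x y := by
  rw [Ns, Ns, smul_closure']
  congr 1; ext φ
  rw [Set.mem_smul_set_iff_inv_smul_mem, Set.mem_setOf_eq, Set.mem_setOf_eq, ← sp_smul (g := g⁻¹)]
  simp

theorem Bs_smul (g : G) (x : V) (φ : W) : Bs G (g • x) (g • φ) = g • Bs G x φ := by
  rw [Bs, Bs, smul_closure']
  congr 1; ext y
  rw [Set.mem_smul_set_iff_inv_smul_mem, Set.mem_setOf_eq, Set.mem_setOf_eq, ← sp_smul (g := g⁻¹),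
    inv_smul_eq_iff]
  simp

theorem self_mem_Bs (x : V) (φ : W) : x ∈ Bs G x φ := AddSubgroup.subset_closure (Or.inl rfl)

theorem Sp.mem_Bs {x y : V} {φ : W} (h : Sp G x y φ) : y ∈ Bs G x φ :=
  AddSubgroup.subset_closure (Or.inr h)

theorem Sp.mem_Ns {x y : V} {φ : W} (h : Sp G x y φ) : φ ∈ Ns G W x y :=
  AddSubgroup.subset_closure h

end

namespace Pr

variable {G V W : Type*} [Group G] [AddCommGroup V] [AddCommGroup W] [DistribMulAction G V]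
  [DistribMulAction G W] (p : Pr G V W)

theorem mem_df_ker {φ : W} {v : V} : v ∈ df ⊤ (p.ker φ) ↔ p.b v φ = 1 :=
  ⟨fun h => z2' h.2, fun h => ⟨trivial, by rw [mem_ker, h]; decide⟩⟩

/-- The subgroup `{0, x, y, x + y}`. -/
def pl (x y : V) : AddSubgroup V := p.ln x ⊔ p.ln y

theorem mem_pl {x y v : V} : v ∈ p.pl x y ↔ v = 0 ∨ v = x ∨ v = y ∨ v = x + y := by
  rw [pl, AddSubgroup.mem_sup]
  constructor
  · rintro ⟨_, rfl | rfl, _, rfl | rfl, rfl⟩ <;> simp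
  · rintro (rfl | rfl | rfl | rfl)
    exacts [⟨0, Or.inl rfl, 0, Or.inl rfl, by simp⟩, ⟨_, Or.inr rfl, 0, Or.inl rfl, by simp⟩,
      ⟨0, Or.inl rfl, _, Or.inr rfl, by simp⟩, ⟨_, Or.inr rfl, _, Or.inr rfl, rfl⟩]

theorem pl_le {x y : V} {S : AddSubgroup V} : p.pl x y ≤ S ↔ x ∈ S ∧ y ∈ S := by
  rw [pl, sup_le_iff, ln_le, ln_le]

theorem ann_pl (x y : V) : p.ann (p.pl x y) = p.flip.ker x ⊓ p.flip.ker y := by
  rw [pl, ann_sup, ann_ln, ann_ln]

theorem iv_pl {K : Subgroup G} {x y : V} (h : ∀ k ∈ K, k • x = x)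
    (h' : ∀ k ∈ K, k • y = y ∨ k • y = x + y) : Iv K (p.pl x y) := by
  intro k hk v hv
  rw [mem_pl] at hv ⊢
  rcases hv with rfl | rfl | rfl | rfl
  · simp
  · simp [h k hk]
  · rcases h' k hk with e | e <;> simp [e]
  · rcases h' k hk with e | e <;> simp [e, h k hk, p.add_add]

theorem smul_of_iv_pl {g : G} {x y : V} (hy : y ≠ 0) (hyx : y ≠ x) (h : g • x = x)
    (h' : g • y ∈ p.pl x y) : g • y = y ∨ g • y = x + y := by
  rcases p.mem_pl.1 h' with e | e | e | e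
  · exact absurd (by simpa using e) hy
  · exact absurd (smul_left_cancel g (e.trans h.symm)) hyx
  · exact Or.inl e
  · exact Or.inr e

include p in
theorem sp_add {x y : V} {φ : W} (h : Sp G x y φ) : Sp G x (x + y) φ := by
  obtain ⟨h1, h2, h3, h4, P, h5, h6, h7⟩ := h
  refine ⟨h1, by rw [Ne, p.add_eq_zero]; exact h3.symm, by simpa using h2, h4, P, h5, h6,
    fun g hg => ?_⟩
  rcases h7 g hg with e | e <;> simp [e, h5 g hg]

variable [Fintype V] [Fintype W]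

theorem hy_pl {x y : V} (hy : y ≠ 0) (hyx : y ≠ x) : Hy (p.pl x y) (p.ln x) := by
  refine hy_of le_sup_left (x := y) (p.mem_pl.2 (by simp)) (by simp [mem_ln, hy, hyx]) ?_
  intro v hv hv'
  rcases p.mem_pl.1 hv with rfl | rfl | rfl | rfl <;> simp_all [mem_ln]

theorem card_pl {x y : V} (hx : x ≠ 0) (hy : y ≠ 0) (hyx : y ≠ x) : Nat.card (p.pl x y) = 4 := by
  rw [(p.hy_pl hy hyx).card, p.card_ln hx]

theorem card_ker {φ : W} (h : φ ≠ 0) : Nat.card V = 2 * Nat.card (p.ker φ) := by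
  rw [← (p.hy_ker h).card, AddSubgroup.card_top]

theorem tr_anti {K : Subgroup G} {x : V} (hx : ∀ k ∈ K, k • x = x)
    (h : Tr K (df ⊤ (p.ln x))) : Tr K (df ⊤ (p.flip.ker x)) := by
  classical
  intro φ hφ ψ hψ
  rw [mem_df_ker, flip_b] at hφ hψ
  have hx0 : x ≠ 0 := by rintro rfl; simp at hφ
  obtain ⟨O, hO⟩ : ∃ O : Set W, ∀ w, w ∈ O ↔ ∃ k ∈ K, k • φ = w := ⟨_, fun _ => Iff.rfl⟩
  have hOk : ∀ k ∈ K, ∀ w ∈ O, k • w ∈ O := by
    intro k hk w hw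
    obtain ⟨g, hg, e⟩ := (hO _).1 hw
    exact (hO _).2 ⟨k * g, K.mul_mem hk hg, by rw [mul_smul, e]⟩
  have hOk' : ∀ k ∈ K, ∀ w, k • w ∈ O ↔ w ∈ O := fun k hk w =>
    ⟨fun h => by simpa using hOk _ (K.inv_mem hk) _ h, hOk k hk w⟩
  set F : V → ℤ := fun v => ∑ χ, if χ ∈ O then ep (p.b v χ) else 0 with hF
  obtain ⟨c, hc⟩ : ∃ c, ∀ v, v ≠ 0 → v ≠ x → F v = c := by
    by_cases hh : ∃ v, v ≠ 0 ∧ v ≠ x
    · obtain ⟨v, h1, h2⟩ := hh
      refine ⟨F v, fun w h3 h4 => ?_⟩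
      obtain ⟨k, hk, rfl⟩ := h v ⟨trivial, by simp [mem_ln, h1, h2]⟩ w
        ⟨trivial, by simp [mem_ln, h3, h4]⟩
      exact p.fourier_smul (hOk' k hk) v
    · exact ⟨0, fun v h1 h2 => (hh ⟨v, h1, h2⟩).elim⟩
  have key : ∀ χ, p.b x χ = 1 → (if χ ∈ O then (Nat.card V : ℤ) else 0) = F 0 - F x := by
    intro χ hχ
    have h0 : χ ≠ 0 := by rintro rfl; simp at hχ
    have e1 := p.sum_ep_top χ
    rw [if_neg h0] at e1
    rw [← p.fourier O χ]
    have e2 : ∀ v, F v * ep (p.b v χ) = c * ep (p.b v χ) + (if v = 0 then F 0 - c else 0) +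
        (if v = x then c - F x else 0) := by
      intro v
      by_cases h1 : v = 0
      · simp [h1, hx0.symm, ep_zero]
      · by_cases h2 : v = x
        · simp [h2, hx0, hχ, ep_one]; ring
        · simp [h1, h2, hc v h1 h2]
    change ∑ v, F v * _ = _
    simp_rw [e2]
    rw [Finset.sum_add_distrib, Finset.sum_add_distrib, ← Finset.mul_sum, e1]
    simp
  have a1 := key φ hφ
  have a2 := key ψ hψ
  rw [if_pos ((hO _).2 ⟨1, K.one_mem, by simp⟩)] at a1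
  by_contra hh
  rw [if_neg (mt (hO _).1 hh), ← a1] at a2
  exact (Nat.card_pos (α := V)).ne' (by exact_mod_cast a2.symm)

/-- `G` is 2-transitive on the non-zero vectors, dimension at least 3. -/
structure TT (p : Pr G V W) : Prop where
  tr : ∀ x y x' y' : V, x ≠ 0 → y ≠ 0 → y ≠ x → x' ≠ 0 → y' ≠ 0 → y' ≠ x' →
    ∃ g : G, g • x = x' ∧ g • y = y'
  big : 8 ≤ Nat.card V

variable {p}

theorem exists_not_mem {S : AddSubgroup V} (h : Nat.card S < Nat.card V) : ∃ v, v ∉ S := by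
  by_contra! hh
  rw [(AddSubgroup.eq_top_iff' S).2 hh, AddSubgroup.card_top] at h
  exact lt_irrefl _ h

namespace TT

variable (h : TT p)
include h

theorem exists_ne {x : V} (hx : x ≠ 0) : ∃ y, y ≠ 0 ∧ y ≠ x := by
  obtain ⟨v, hv⟩ := exists_not_mem (S := p.ln x) (by rw [p.card_ln hx]; have := h.big; omega)
  exact ⟨v, by simpa [mem_ln] using hv⟩

theorem tr1 {x x' : V} (hx : x ≠ 0) (hx' : x' ≠ 0) : ∃ g : G, g • x = x' := by
  obtain ⟨y, h1, h2⟩ := h.exists_ne hx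
  obtain ⟨y', h3, h4⟩ := h.exists_ne hx'
  obtain ⟨g, e, -⟩ := h.tr x y x' y' hx h1 h2 hx' h3 h4
  exact ⟨g, e⟩

theorem tr_stab {x : V} (hx : x ≠ 0) : Tr (stabilizer G x) (df ⊤ (p.ln x)) := by
  rintro y ⟨-, hy⟩ y' ⟨-, hy'⟩
  simp only [mem_ln, not_or] at hy hy'
  obtain ⟨g, e, e'⟩ := h.tr x y x y' hx hy.1 hy.2 hx hy'.1 hy'.2
  exact ⟨g, e, e'⟩

theorem tr_flag {x x' : V} {φ φ' : W} (hx : x ≠ 0) (hx' : x' ≠ 0) (hφ : φ ≠ 0) (hφ' : φ' ≠ 0)
    (e : p.b x φ = p.b x' φ') : ∃ g : G, g • x = x' ∧ g • φ = φ' := by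
  obtain ⟨g, rfl⟩ := h.tr1 hx hx'
  rw [← p.inv g] at e
  have : ∃ k ∈ stabilizer G (g • x), k • g • φ = φ' := by
    rcases z2 (p.b (g • x) φ') with e' | e'
    · have := p.tr_ann (p.iv_ln fun k hk => hk) (h.tr_stab hx')
      rw [ann_ln] at this
      exact this _ ⟨e.trans e', by simpa using hφ⟩ _ ⟨e', by simpa using hφ'⟩
    · exact p.tr_anti (fun k hk => hk) (h.tr_stab hx') _ (p.flip.mem_df_ker.2 (e.trans e')) _
        (p.flip.mem_df_ker.2 e')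
  obtain ⟨k, hk, e'⟩ := this
  exact ⟨k * g, by rw [mul_smul]; exact hk, by rw [mul_smul, e']⟩

theorem flip : TT p.flip := by
  refine ⟨fun φ ψ φ' ψ' h1 h2 h3 h4 h5 h6 => ?_, p.card_eq ▸ h.big⟩
  have t1 : ∃ g : G, g • φ = φ' := by
    obtain ⟨x, -, e⟩ := p.flip.exists_ann (S := ⊥) (v := φ) (by simpa using h1)
    obtain ⟨x', -, e'⟩ := p.flip.exists_ann (S := ⊥) (v := φ') (by simpa using h4)
    rw [flip_b] at e e'
    obtain ⟨g, -, e''⟩ := h.tr_flag (x := x) (x' := x') (by rintro rfl; simp at e)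
      (by rintro rfl; simp at e') h1 h4 (e.trans e'.symm)
    exact ⟨g, e''⟩
  obtain ⟨g, rfl⟩ := t1
  obtain ⟨k, hk, e⟩ := p.tr_dual (K := stabilizer G (g • φ)) (U := ⊥) (S := p.ker (g • φ)) bot_le
    (iv_bot _) (p.iv_ker fun k hk => hk) (fun x hx hx' y hy hy' => by
      obtain ⟨k, e, e'⟩ := h.tr_flag (x := x) (x' := y) (by simpa using hx') (by simpa using hy')
        h4 h4 (Eq.trans hx (Eq.symm hy))
      exact ⟨k, e', by simp [e]⟩) (φ := g • ψ) (ψ := ψ') (by simp [ann_bot])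
      (by simp [ann_ker, mem_ln, h2, h3]) (by simp [ann_bot]) (by simp [ann_ker, mem_ln, h5, h6])
  rw [ann_ker, mem_ln] at e
  rcases e with e | e
  · exact ⟨k * g, by rw [mul_smul]; exact hk, by rw [mul_smul]; exact sub_eq_zero.1 e⟩
  · obtain ⟨k', hk', e'⟩ := p.flip.af (K := stabilizer G (g • φ)) (x := g • φ)
      (fun x hx y hy => by
        have hx : p.b x (g • φ) = 1 := hx
        have hy : p.b y (g • φ) = 1 := hy
        obtain ⟨k, e, e'⟩ := h.tr_flag (x := x) (x' := y) (by rintro rfl; simp at hx)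
          (by rintro rfl; simp at hy) h4 h4 (hx.trans hy.symm)
        exact ⟨k, e', e⟩) h5 h6
    refine ⟨k'⁻¹ * k * g, ?_, ?_⟩
    · rw [mul_smul]; exact (stabilizer G (g • φ)).mul_mem (Subgroup.inv_mem _ hk') hk
    · rw [mul_smul, mul_smul, inv_smul_eq_iff, e', sub_eq_iff_eq_add.1 e, add_comm]

variable [Finite G]

omit h in
include p in
theorem exists_fx [Nontrivial V] (P : Sylow 2 G) : ∃ x : V, x ≠ 0 ∧ Fx P x := by
  obtain ⟨Y, h1, -, h3⟩ := exists_hy_over (G := G) p.two P.isPGroup' (U := ⊥) (S := ⊤) bot_le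
    (by simp) (iv_bot _) (iv_top _)
  obtain ⟨x, hx, hx'⟩ := h1.exists
  refine ⟨x, by simpa using hx', fun g hg => ?_⟩
  have := h1.sub_mem (h3 g hg x hx) (by simpa using hx') hx hx'
  simpa [sub_eq_zero] using this

theorem tr_fx {P : Sylow 2 G} {φ : W} (h0 : φ ≠ 0) (hφ : Fx P φ) :
    Tr (P : Subgroup G) (df ⊤ (p.ker φ)) := by
  obtain ⟨a, ha⟩ := p.exists_card (p.ker φ)
  refine tr_hy P (J := stabilizer G φ) (S := ⊤) hφ (p.iv_ker fun k hk => hk) ?_ (p.hy_ker h0)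
    le_rfl (iv_top _) ha
  intro x hx y hy
  rw [mem_df_ker] at hx hy
  obtain ⟨k, e, e'⟩ := h.tr_flag (x := x) (x' := y) (by rintro rfl; simp at hx)
    (by rintro rfl; simp at hy) h0 h0 (hx.trans hy.symm)
  exact ⟨k, e', e⟩

theorem le_ker_fx {P : Sylow 2 G} {φ : W} (h0 : φ ≠ 0) (hφ : Fx P φ) {T : AddSubgroup V}
    (hT : Iv (P : Subgroup G) T) (hne : T ≠ ⊤) : T ≤ p.ker φ :=
  (h.tr_fx h0 hφ).le_of_iv le_top hT le_top (by rwa [top_le_iff])

theorem ne_top {T : AddSubgroup V} (hT : Nat.card T < 8) : T ≠ ⊤ := by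
  rintro rfl
  rw [AddSubgroup.card_top] at hT
  exact absurd h.big (by omega)

theorem mem_fx {P : Sylow 2 G} {x : V} (h0 : x ≠ 0) (hx : Fx P x) {T : AddSubgroup V}
    (hT : Iv (P : Subgroup G) T) (hne : T ≠ ⊥) : x ∈ T := by
  have := h.flip.le_ker_fx h0 hx (p.iv_ann hT) (fun e => hne (p.ann_inj (e.trans p.ann_bot.symm)))
  rwa [← ann_ln, ann_le_ann, ln_le] at this

theorem fx_unique {P : Sylow 2 G} {x x' : V} (h0 : x ≠ 0) (hx : Fx P x) (h0' : x' ≠ 0)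
    (hx' : Fx P x') : x = x' :=
  (h.mem_fx h0 hx (p.iv_ln hx') (fun e => h0' (by
    have : x' ∈ p.ln x' := Or.inr rfl
    rwa [e, AddSubgroup.mem_bot] at this))).resolve_left h0

theorem fx_flag {P : Sylow 2 G} {x : V} {φ : W} (h0 : x ≠ 0) (hx : Fx P x) (h0' : φ ≠ 0)
    (hφ : Fx P φ) : p.b x φ = 0 :=
  h.le_ker_fx h0' hφ (p.iv_ln hx) (h.ne_top (by rw [p.card_ln h0]; omega)) (Or.inr rfl)

theorem nontrivial : Nontrivial V :=
  Finite.one_lt_card_iff_nontrivial.1 (by have := h.big; omega)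

theorem flag_sylow {x : V} {φ : W} (hx : x ≠ 0) (hφ : φ ≠ 0) (e : p.b x φ = 0) :
    ∃ P : Sylow 2 G, Fx P x ∧ Fx P φ := by
  haveI : Fact (Nat.Prime 2) := ⟨Nat.prime_two⟩
  haveI := h.nontrivial
  haveI := h.flip.nontrivial
  obtain ⟨P⟩ : Nonempty (Sylow 2 G) := inferInstance
  obtain ⟨x₀, h1, h2⟩ := exists_fx (p := p) P
  obtain ⟨φ₀, h3, h4⟩ := exists_fx (p := p.flip) P
  obtain ⟨g, rfl, rfl⟩ := h.tr_flag h1 hx h3 hφ ((h.fx_flag h1 h2 h3 h4).trans e.symm)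
  exact ⟨g • P, h2.smul g, h4.smul g⟩

theorem af_fx {P : Sylow 2 G} {x : V} (h0 : x ≠ 0) (hx : Fx P x) {v : V} (hv : v ≠ 0)
    (hv' : v ≠ x) : ∃ k ∈ (P : Subgroup G), k • v = x + v := by
  rw [add_comm]
  exact p.af (fun a ha c hc => h.flip.tr_fx h0 hx a (p.flip.mem_df_ker.2 ha) c
    (p.flip.mem_df_ker.2 hc)) hv hv'

/-- Second level: a Sylow subgroup is transitive on `W \ D`. -/
theorem tr_fx2 {P : Sylow 2 G} {φ : W} (h0 : φ ≠ 0) (hφ : Fx P φ) {D : AddSubgroup V}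
    (hD : Hy (p.ker φ) D) (hPD : Iv (P : Subgroup G) D) : Tr (P : Subgroup G) (df (p.ker φ) D) := by
  obtain ⟨a, ha⟩ := p.exists_card D
  refine tr_hy P (J := stabilizer G φ ⊓ stabilizer G D) (S := p.ker φ)
    (le_inf hφ (iv_iff.1 hPD)) ((iv_stab D).mono inf_le_right) ?_ hD le_rfl (p.iv_ker hφ) ha
  obtain ⟨ψ, h1, h2⟩ := (p.hy_ann hD).exists
  have hD' := p.hy_eq_ker hD h1 h2
  have key : ∀ v ∈ df (p.ker φ) D, v ≠ 0 ∧ p.b v ψ = 1 := by
    rintro v ⟨hv, hv'⟩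
    exact ⟨fun e => hv' (e ▸ D.zero_mem), z2' fun e => hv' (hD' ▸ ⟨hv, e⟩)⟩
  intro v hv v' hv'
  obtain ⟨g, rfl, e⟩ := h.tr_flag (key v hv).1 (key v' hv').1 h0 h0 (Eq.trans hv.1 (Eq.symm hv'.1))
  obtain ⟨Q, hQ, hQ'⟩ := h.flag_sylow (key _ hv').1 h0 hv'.1
  obtain ⟨k, hk, e'⟩ := h.flip.tr_fx (key _ hv').1 hQ (g • ψ)
    (p.flip.mem_df_ker.2 (by rw [flip_b, p.inv]; exact (key v hv).2)) ψ
    (p.flip.mem_df_ker.2 (key _ hv').2)
  have e1 : (k * g) • φ = φ := by rw [mul_smul, e, hQ' k hk]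
  refine ⟨k * g, ⟨e1, ?_⟩, by rw [mul_smul, hQ k hk]⟩
  change (k * g) • D = D
  rw [hD', smul_inf', ← ker_smul, ← ker_smul, e1, mul_smul, e']

theorem sp_bx {x y : V} {φ : W} (s : Sp G x y φ) : p.b x φ = 0 := by
  obtain ⟨h1, -, -, h4, P, h5, h6, -⟩ := s
  exact h.fx_flag h1 h5 h4 h6

theorem sp_by {x y : V} {φ : W} (s : Sp G x y φ) : p.b y φ = 0 := by
  obtain ⟨h1, h2, h3, h4, P, h5, h6, h7⟩ := s
  exact h.le_ker_fx h4 h6 (p.iv_pl h5 h7) (h.ne_top (by rw [p.card_pl h1 h2 h3]; omega))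
    (p.mem_pl.2 (by simp))

/-- Every invariant subgroup properly containing `⟨x⟩` contains the invariant line. -/
theorem mem_fx2 {P : Sylow 2 G} {x y : V} (h1 : x ≠ 0) (h2 : y ≠ 0) (h3 : y ≠ x) (hx : Fx P x)
    (hy : ∀ g ∈ (P : Subgroup G), g • y = y ∨ g • y = x + y) {T : AddSubgroup V}
    (hT : Iv (P : Subgroup G) T) (hne : ¬ T ≤ p.ln x) : y ∈ T := by
  have hxT : x ∈ T := h.mem_fx h1 hx hT (by rintro rfl; exact hne bot_le)
  have h4 := p.hy_ann (p.hy_pl h2 h3)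
  rw [ann_ln] at h4
  have h5 := (h.flip.tr_fx2 h1 hx h4 (p.iv_ann (p.iv_pl hx hy))).le_of_iv h4.le (p.iv_ann hT)
    (by rw [← ann_ln, ann_le_ann, ln_le]; exact hxT) (by rwa [← ann_ln, ann_le_ann])
  rw [ann_le_ann, pl_le] at h5
  exact h5.2

theorem sp_tr {x y x' y' : V} {φ φ' : W} (s : Sp G x y φ) (s' : Sp G x' y' φ') :
    ∃ g : G, g • x = x' ∧ g • y = y' ∧ g • φ = φ' := by
  haveI : Fact (Nat.Prime 2) := ⟨Nat.prime_two⟩
  obtain ⟨h1', h2', h3', h4', P', h5', h6', h7'⟩ := s'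
  have : ∃ g : G, Fx P' (g • x) ∧ Fx P' (g • φ) ∧
      ∀ k ∈ (P' : Subgroup G), k • g • y = g • y ∨ k • g • y = g • x + g • y := by
    obtain ⟨-, -, -, -, P, h5, h6, h7⟩ := s
    obtain ⟨g, rfl⟩ := exists_smul_eq G P P'
    refine ⟨g, h5.smul g, h6.smul g, fun k hk => ?_⟩
    have := h7 _ (mem_sylow_smul hk)
    rwa [mul_smul, mul_smul, inv_smul_eq_iff, inv_smul_eq_iff, smul_add] at this
  obtain ⟨g, h5, h6, h7⟩ := this
  obtain ⟨h1, h2, h3, h4, -⟩ := s.smul g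
  have e1 := h.fx_unique h1 h5 h1' h5'
  have e2 := h.flip.fx_unique h4 h6 h4' h6'
  have e3 := h.mem_fx2 h1' h2' h3' h5' h7' (p.iv_pl h5 h7) (by
    rw [pl_le, mem_ln, mem_ln, ← e1]; simp [h2, h3])
  rcases p.mem_pl.1 e3 with e | e | e | e
  · exact absurd e h2'
  · exact absurd (e.trans e1) h3'
  · exact ⟨g, e1, e.symm, e2⟩
  · obtain ⟨k, hk, e'⟩ := h.af_fx h1 h5 h2 h3
    exact ⟨k * g, by rw [mul_smul, h5 k hk, e1], by rw [mul_smul, e', e],
      by rw [mul_smul, h6 k hk, e2]⟩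

theorem exists_line {P : Sylow 2 G} {x : V} (h1 : x ≠ 0) (hx : Fx P x) :
    ∃ y, y ≠ 0 ∧ y ≠ x ∧ ∀ g ∈ (P : Subgroup G), g • y = y ∨ g • y = x + y := by
  obtain ⟨Y, h2, -, h3⟩ := exists_hy_over (G := G) p.two P.isPGroup' (U := p.ln x) (S := ⊤) le_top
    (by rw [top_le_iff]; exact h.ne_top (by rw [p.card_ln h1]; omega)) (p.iv_ln hx) (iv_top _)
  obtain ⟨y, hy, hy'⟩ := h2.exists
  refine ⟨y, fun e => hy' (Or.inl e), fun e => hy' (Or.inr e), fun g hg => ?_⟩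
  rcases h2.sub_mem (h3 g hg y hy) (fun e => hy' (((p.iv_ln hx).iff hg).1 e)) hy hy' with e | e
  · exact Or.inl (sub_eq_zero.1 e)
  · exact Or.inr (sub_eq_iff_eq_add.1 e)

theorem exists_sp {x : V} {φ : W} (hx : x ≠ 0) (hφ : φ ≠ 0) (e : p.b x φ = 0) :
    ∃ y, Sp G x y φ := by
  obtain ⟨P, h1, h2⟩ := h.flag_sylow hx hφ e
  obtain ⟨y, h3, h4, h5⟩ := h.exists_line hx h1
  exact ⟨y, hx, h3, h4, hφ, P, h1, h2, h5⟩

theorem exists_sp' {x y : V} (hx : x ≠ 0) (hy : y ≠ 0) (hyx : y ≠ x) : ∃ φ : W, Sp G x y φ := by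
  obtain ⟨φ, h1, h2⟩ : ∃ φ ∈ p.flip.ker x, φ ≠ 0 := by
    by_contra! hh
    have h1 := p.flip.card_ker hx
    rw [(AddSubgroup.eq_bot_iff_forall _).2 hh, AddSubgroup.card_bot] at h1
    have := h.flip.big; omega
  obtain ⟨y', s⟩ := h.exists_sp hx h2 h1
  obtain ⟨g, e, e'⟩ := h.tr x y' x y hx s.2.1 s.2.2.1 hx hy hyx
  exact ⟨g • φ, by simpa [e, e'] using s.smul g⟩

theorem sp_add' {x y : V} {φ : W} (s : Sp G x y φ) : Sp G (y + x) y φ := by
  obtain ⟨Q, h1, h2⟩ := h.flag_sylow s.2.1 s.2.2.2.1 (h.sp_by s)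
  obtain ⟨k, hk, e⟩ := h.af_fx s.2.1 h1 s.1 s.2.2.1.symm
  simpa [e, h1 k hk, h2 k hk] using s.smul k

theorem sp_symm {x y : V} {φ : W} (s : Sp G x y φ) : Sp G y x φ := by
  have s1 := p.sp_add (h.sp_add' s)
  rw [add_comm y x, add_assoc, p.two, add_zero] at s1
  have s2 := h.sp_add' s1
  rwa [p.add_add] at s2

end TT

end Pr

end Cfsg.Lib.Known.CK
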