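import Cfsg.Agent.Known.CKc
import Cfsg.Agent.Known.CKDefs

/-! The subspaces `N(x,y)`, `A(x,φ)` attached to lines and flags. -/

set_option linter.unusedSectionVars false

namespace Cfsg.Lib.Known.CK

open scoped Pointwise
open MulAction

attribute [local simp] smul_eq_zero_iff_eq

universe u

namespace Pr

variable {G V W : Type*} [Group G] [AddCommGroup V] [AddCommGroup W] [DistribMulAction G V]
  [DistribMulAction G W] (p : Pr G V W)

/-- The perp of the line through `x` and `y`. -/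
def N (x y : V) : AddSubgroup V := p.flip.ann (Ns G W x y)

/-- The perp of `x` in the hyperplane `φ`. -/
def A (x : V) (φ : W) : AddSubgroup V := p.flip.ann (Bs G φ x)

/-- Stabiliser of a point and a line. -/
def Jl (x y : V) : Subgroup G := stabilizer G x ⊓ stabilizer G (p.pl x y)

variable (G) in
/-- Stabiliser of a point and a hyperplane. -/
def _root_.Cfsg.Lib.Known.CK.Jf (x : V) (φ : W) : Subgroup G := stabilizer G x ⊓ stabilizer G φ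

theorem N_smul (g : G) (x y : V) : p.N (g • x) (g • y) = g • p.N x y := by
  rw [N, N, Ns_smul, ann_smul]

theorem A_smul (g : G) (x : V) (φ : W) : p.A (g • x) (g • φ) = g • p.A x φ := by
  rw [A, A, Bs_smul, ann_smul]

theorem pl_add (x y : V) : p.pl x (x + y) = p.pl x y := by
  ext v; simp only [mem_pl, p.add_add]; tauto

theorem mem_Jl {x y : V} (hy : y ≠ 0) (hyx : y ≠ x) {g : G} (hg : g ∈ p.Jl x y) :
    g • x = x ∧ (g • y = y ∨ g • y = x + y) :=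
  ⟨hg.1, p.smul_of_iv_pl hy hyx hg.1 (iv_stab _ g hg.2 y (p.mem_pl.2 (by simp)))⟩

include p in
theorem Ns_add (x y : V) : Ns G W x (x + y) = Ns G W x y := by
  rw [Ns, Ns]; congr 1; ext φ
  exact ⟨fun s => by simpa [p.add_add] using p.sp_add s, p.sp_add⟩

theorem N_add (x y : V) : p.N x (x + y) = p.N x y := by rw [N, N, p.Ns_add]

theorem iv_A (x : V) (φ : W) : Iv (Jf G x φ) (p.A x φ) :=
  iv_of_smul fun k hk => by rw [← A_smul, hk.1, hk.2]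

theorem iv_Bs (x : V) (φ : W) : Iv (Jf G x φ) (Bs G x φ) :=
  iv_of_smul fun k hk => by rw [← Bs_smul, hk.1, hk.2]

theorem A_le_ker (x : V) (φ : W) : p.A x φ ≤ p.ker φ := fun _ hv => hv φ (self_mem_Bs φ x)

theorem N_le_ker {x y : V} {φ : W} (s : Sp G x y φ) : p.N x y ≤ p.ker φ :=
  fun _ hv => hv φ s.mem_Ns

variable [Fintype V] [Fintype W]

theorem le_Jl {K : Subgroup G} {x y : V} (h : ∀ k ∈ K, k • x = x)
    (h' : ∀ k ∈ K, k • y = y ∨ k • y = x + y) : K ≤ p.Jl x y :=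
  le_inf h (iv_iff.1 (p.iv_pl h h'))

theorem iv_N {x y : V} (hy : y ≠ 0) (hyx : y ≠ x) : Iv (p.Jl x y) (p.N x y) :=
  iv_of_smul fun k hk => by
    obtain ⟨e, e' | e'⟩ := p.mem_Jl hy hyx hk <;> rw [← N_smul, e, e']
    exact p.N_add x y

theorem ann_N (x y : V) : p.ann (p.N x y) = Ns G W x y := p.ann_ann' _

theorem ann_A (x : V) (φ : W) : p.ann (p.A x φ) = Bs G φ x := p.ann_ann' _

theorem card_N (x y : V) : Nat.card (Ns G W x y) * Nat.card (p.N x y) = Nat.card V :=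
  p.flip.card_mul_ann _

theorem card_A (x : V) (φ : W) : Nat.card (Bs G φ x) * Nat.card (p.A x φ) = Nat.card V :=
  p.flip.card_mul_ann _

variable {p}

namespace TT

variable [Finite G] (h : TT p)
include h

theorem N_spec {x y : V} {φ : W} (s : Sp G x y φ) :
    Tr (p.Jl x y) (df ⊤ (p.N x y)) ∧ ∀ ψ, ψ ∈ Ns G W x y ↔ ψ = 0 ∨ Sp G x y ψ := by
  obtain ⟨h1, h2, h3, h4, P, h5, h6, h7⟩ := id s
  have t1 := tr_core (p.le_Jl h5 h7) (iv_top _) (h.tr_fx h4 h6)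
  have t2 := p.tr_ann (iv_core _ _) t1
  have m1 : φ ∈ p.ann (core (p.Jl x y) (p.ker φ)) := p.le_ker.1 (core_le _ _)
  have key : ∀ ψ, ψ ∈ p.ann (core (p.Jl x y) (p.ker φ)) ↔ ψ = 0 ∨ Sp G x y ψ := by
    intro ψ
    constructor
    · intro hψ
      by_cases h0 : ψ = 0
      · exact Or.inl h0
      obtain ⟨k, hk, rfl⟩ := t2 φ ⟨m1, by simpa using h4⟩ ψ ⟨hψ, by simpa using h0⟩
      have s' := s.smul k
      obtain ⟨e, e' | e'⟩ := p.mem_Jl h2 h3 hk <;> rw [e, e'] at s'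
      · exact Or.inr s'
      · exact Or.inr (by simpa [p.add_add] using p.sp_add s')
    · rintro (rfl | s')
      · exact AddSubgroup.zero_mem _
      · obtain ⟨g, e1, e2, rfl⟩ := h.sp_tr s s'
        refine p.iv_ann (iv_core _ _) g (p.le_Jl (K := stabilizer G x ⊓ stabilizer G y)
          (fun k hk => hk.1) (fun k hk => Or.inl hk.2) ⟨e1, e2⟩) φ m1
  have e : Ns G W x y = p.ann (core (p.Jl x y) (p.ker φ)) := by
    refine le_antisymm ((AddSubgroup.closure_le _).2 fun ψ hψ => (key ψ).2 (Or.inr hψ))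
      fun ψ hψ => ?_
    rcases (key ψ).1 hψ with rfl | s'
    exacts [AddSubgroup.zero_mem _, s'.mem_Ns]
  refine ⟨?_, fun ψ => by rw [e, key]⟩
  rw [N, e, p.ann_ann]; exact t1

theorem mem_Ns {x y : V} (hx : x ≠ 0) (hy : y ≠ 0) (hyx : y ≠ x) {ψ : W} :
    ψ ∈ Ns G W x y ↔ ψ = 0 ∨ Sp G x y ψ :=
  let ⟨_, s⟩ := h.exists_sp' hx hy hyx; (h.N_spec s).2 ψ

theorem tr_N {x y : V} (hx : x ≠ 0) (hy : y ≠ 0) (hyx : y ≠ x) :
    Tr (p.Jl x y) (df ⊤ (p.N x y)) :=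
  let ⟨_, s⟩ := h.exists_sp' hx hy hyx; (h.N_spec s).1

theorem A_spec {x : V} {φ ψ : W} (s : Sp G φ ψ x) :
    Tr (Jf G x φ) (df (p.ker φ) (p.A x φ)) ∧
      ∀ χ, χ ∈ Bs G φ x ↔ χ = 0 ∨ χ = φ ∨ Sp G φ χ x := by
  obtain ⟨h1, h2, h3, h4, P, h5, h6, h7⟩ := id s
  have hD := p.flip.hy_ann (p.flip.hy_pl h2 h3)
  rw [ann_ln, show p.flip.flip.ker φ = p.ker φ from rfl] at hD
  set D := p.flip.ann (p.flip.pl φ ψ)
  have hW : Iv (Jf G x φ) (p.ker φ) := p.iv_ker fun k hk => hk.2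
  have t1 := tr_core (J := Jf G x φ) (le_inf h6 h5) hW
    (h.tr_fx2 h1 h5 hD (p.flip.iv_ann (p.flip.iv_pl h5 h7)))
  have m0 : p.flip.pl φ ψ ≤ p.ann (core (Jf G x φ) D) := p.le_ann_comm.2 (core_le _ _)
  obtain ⟨m1, m2⟩ := p.flip.pl_le.1 m0
  have key : ∀ χ, χ ∈ p.ann (core (Jf G x φ) D) ↔ χ = 0 ∨ χ = φ ∨ Sp G φ χ x := by
    intro χ
    constructor
    · intro hχ
      by_cases h0 : χ = 0 ∨ χ = φ
      · tauto
      obtain ⟨k, hk, e⟩ := p.tr_dual ((core_le _ _).trans hD.le) (iv_core _ _) hW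
        (fun a ha ha' c hc hc' => by
          obtain ⟨k, hk, e⟩ := t1 a ⟨ha, ha'⟩ c ⟨hc, hc'⟩
          exact ⟨k, hk, by rw [e, sub_self]; exact AddSubgroup.zero_mem _⟩) m2
        (by simp [ann_ker, mem_ln, h2, h3]) hχ (by rwa [ann_ker])
      have s' := s.smul k
      rw [hk.1, hk.2] at s'
      rw [ann_ker, mem_ln, sub_eq_zero, sub_eq_iff_eq_add] at e
      rcases e with e | e <;> rw [e] at s'
      · exact Or.inr (Or.inr s')
      · exact Or.inr (Or.inr (by simpa [p.flip.add_add] using p.flip.sp_add s'))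
    · rintro (rfl | rfl | s')
      · exact AddSubgroup.zero_mem _
      · exact m1
      · obtain ⟨g, e1, rfl, e2⟩ := h.flip.sp_tr s s'
        exact p.iv_ann (iv_core (Jf G x φ) _) g ⟨e2, e1⟩ ψ m2
  have e : Bs G φ x = p.ann (core (Jf G x φ) D) := by
    refine le_antisymm ((AddSubgroup.closure_le _).2 fun χ hχ => (key χ).2 (Or.inr hχ))
      fun χ hχ => ?_
    rcases (key χ).1 hχ with rfl | rfl | s'
    exacts [AddSubgroup.zero_mem _, self_mem_Bs _ _, s'.mem_Bs]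
  refine ⟨?_, fun χ => by rw [e, key]⟩
  rw [A, e, p.ann_ann]; exact t1

theorem tr_A {x : V} {φ : W} (hx : x ≠ 0) (hφ : φ ≠ 0) (e : p.b x φ = 0) :
    Tr (Jf G x φ) (df (p.ker φ) (p.A x φ)) :=
  let ⟨_, s⟩ := h.flip.exists_sp hφ hx e; (h.A_spec s).1

theorem mem_Bs {x : V} {φ : W} (hx : x ≠ 0) (hφ : φ ≠ 0) (e : p.b x φ = 0) {y : V} :
    y ∈ Bs G x φ ↔ y = 0 ∨ y = x ∨ Sp G x y φ :=
  let ⟨_, s⟩ := h.exists_sp hx hφ e; (h.flip.A_spec s).2 y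

theorem sp_of_Bs {x : V} {φ : W} (hx : x ≠ 0) (hφ : φ ≠ 0) (e : p.b x φ = 0) {y : V}
    (hy : y ∈ Bs G x φ) (h0 : y ≠ 0) (h1 : y ≠ x) : Sp G x y φ :=
  (((h.mem_Bs hx hφ e).1 hy).resolve_left h0).resolve_left h1

theorem sp_of_Ns {x y : V} (hx : x ≠ 0) (hy : y ≠ 0) (hyx : y ≠ x) {ψ : W}
    (h1 : ψ ∈ Ns G W x y) (h0 : ψ ≠ 0) : Sp G x y ψ :=
  ((h.mem_Ns hx hy hyx).1 h1).resolve_left h0

theorem Ns_comm (x y : V) : Ns G W x y = Ns G W y x := by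
  rw [Ns, Ns]; congr 1; ext φ; exact ⟨h.sp_symm, h.sp_symm⟩

theorem N_comm (x y : V) : p.N x y = p.N y x := by rw [N, N, h.Ns_comm]

theorem left_mem_N (x y : V) : x ∈ p.N x y :=
  p.ln_le.1 (p.le_ann_comm.1 ((AddSubgroup.closure_le _).2 fun φ s => by
    rw [ann_ln]; exact h.sp_bx s))

theorem right_mem_N (x y : V) : y ∈ p.N x y := h.N_comm x y ▸ h.left_mem_N y x

theorem Bs_le_ker {x : V} {φ : W} (e : p.b x φ = 0) : Bs G x φ ≤ p.ker φ :=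
  (AddSubgroup.closure_le _).2 (by rintro y (rfl | s); exacts [e, h.sp_by s])

theorem mem_A {x : V} {φ : W} (e : p.b x φ = 0) : x ∈ p.A x φ := h.flip.Bs_le_ker e

omit h in
theorem N_top {x y : V} (hd : x = 0 ∨ y = 0 ∨ y = x) : p.N x y = ⊤ := by
  have : Ns G W x y = ⊥ := by
    rw [Ns, AddSubgroup.closure_eq_bot_iff]
    rintro φ ⟨h1, h2, h3, -⟩; tauto
  rw [N, this, ann_bot]

theorem N_ne_top {x y : V} (hx : x ≠ 0) (hy : y ≠ 0) (hyx : y ≠ x) : p.N x y ≠ ⊤ := by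
  obtain ⟨φ, s⟩ := h.exists_sp' hx hy hyx
  exact fun e => (p.hy_ker s.2.2.2.1).not_le (e ▸ p.N_le_ker s)

theorem N_comm' {x y z : V} (hz : y ∈ p.N x z) : z ∈ p.N x y := by
  by_contra hy
  have nd : ¬ (x = 0 ∨ y = 0 ∨ y = x) := fun hd => hy (by rw [N_top hd]; trivial)
  push Not at nd
  obtain ⟨hx, h1, h2⟩ := nd
  set X := df ⊤ (p.ln x) with hX
  have mX : ∀ v, v ∈ X ↔ v ≠ 0 ∧ v ≠ x := fun v => by simp [hX, df, mem_ln]
  have cX : X.ncard + 2 = Nat.card V := by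
    rw [← p.card_ln hx, ncard_df le_top, AddSubgroup.card_top]
  obtain ⟨φ, s⟩ := h.exists_sp' hx h1 h2
  obtain ⟨q, hq⟩ : ∃ q, Nat.card V = 2 * q := ⟨_, p.card_ker s.2.2.2.1⟩
  have big := h.big
  have c1 : ∀ a ∈ X, q ≤ {c | c ∈ X ∧ c ∉ p.N x a}.ncard := by
    intro a ha
    rw [mX] at ha
    obtain ⟨ψ, s'⟩ := h.exists_sp' hx ha.1 ha.2
    have e1 := p.card_ker s'.2.2.2.1
    have e2 := (p.hy_ker s'.2.2.2.1).card_df
    rw [Nat.card_coe_set_eq] at e2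
    refine le_trans (by omega) (Set.ncard_le_ncard (s := df ⊤ (p.ker ψ)) ?_)
    rintro c ⟨-, hc⟩
    have hc' : c ∉ p.N x a := fun hh => hc (p.N_le_ker s' hh)
    exact ⟨(mX c).2 ⟨fun e => hc' (e ▸ AddSubgroup.zero_mem _),
      fun e => hc' (e ▸ h.left_mem_N _ _)⟩, hc'⟩
  obtain ⟨c, hc, c2⟩ : ∃ c ∈ X, q ≤ {a | a ∈ X ∧ c ∉ p.N x a}.ncard := by
    by_contra! hh
    have := dc_le (fun a c => c ∉ p.N x a) X X (k := q - 1) c1 fun c hc => by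
      have := hh c hc; omega
    have := Nat.le_of_mul_le_mul_left this (by omega)
    omega
  obtain ⟨a, ⟨ha, ha1⟩, -, ha2⟩ : ({a | a ∈ X ∧ c ∉ p.N x a} ∩ {a | a ∈ X ∧ a ∉ p.N x c}).Nonempty := by
    rw [← Set.not_disjoint_iff_nonempty_inter]
    intro hd
    have e1 := Set.ncard_union_eq hd
    have e2 : ({a | a ∈ X ∧ c ∉ p.N x a} ∪ {a | a ∈ X ∧ a ∉ p.N x c}).ncard ≤ X.ncard :=
      Set.ncard_le_ncard (by rintro a (ha | ha) <;> exact ha.1)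
    have := c1 c hc
    omega
  obtain ⟨g, hg, rfl⟩ := h.tr_stab hx a ha y ((mX y).2 ⟨h1, h2⟩)
  have hg : g • x = x := hg
  have e1 : g • c ∉ p.N x (g • a) := by
    rw [← hg, N_smul]; simpa using ha1
  obtain ⟨k, hk, rfl⟩ := h.tr_N hx h1 h2 _ ⟨trivial, e1⟩ z ⟨trivial, hy⟩
  obtain ⟨e2, e3⟩ := p.mem_Jl h1 h2 hk
  have e4 : k • g • a ∉ p.N x (k • g • c) := by
    rw [← e2, ← hg, N_smul, N_smul]; simpa using ha2
  rcases e3 with e3 | e3 <;> rw [e3] at e4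
  · exact e4 hz
  · exact e4 (AddSubgroup.add_mem _ (h.left_mem_N _ _) hz)

end TT

/-- The parameter `m = 2^c`. -/
structure Par (p : Pr G V W) (m : ℕ) : Prop where
  ns : ∀ x y : V, x ≠ 0 → y ≠ 0 → y ≠ x → Nat.card (Ns G W x y) = m
  bs : ∀ (x : V) (φ : W), x ≠ 0 → φ ≠ 0 → p.b x φ = 0 → Nat.card (Bs G x φ) = 2 * m
  pow : ∃ c, m = 2 ^ (c + 1)

/-- `B(x,φ) ≤ A(x,φ)` for all flags. -/
def BA (p : Pr G V W) : Prop :=
  ∀ (x : V) (φ : W), x ≠ 0 → φ ≠ 0 → p.b x φ = 0 → Bs G x φ ≤ p.A x φ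

theorem BA.flip (h : BA p) : BA p.flip := fun φ x h1 h2 e => p.le_ann_comm.2 (h x φ h2 h1 e)

namespace TT

variable [Finite G] (h : TT p)
include h

theorem exists_par : ∃ m, Par p m := by
  haveI := h.nontrivial
  obtain ⟨x, hx⟩ := _root_.exists_ne (0 : V)
  obtain ⟨y, h1, h2⟩ := h.exists_ne hx
  obtain ⟨φ, s⟩ := h.exists_sp' hx h1 h2
  have c1 : ∀ x' y' : V, x' ≠ 0 → y' ≠ 0 → y' ≠ x' →
      Nat.card (Ns G W x' y') = Nat.card (Ns G W x y) := by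
    intro x' y' h3 h4 h5
    obtain ⟨g, rfl, rfl⟩ := h.tr x y x' y' hx h1 h2 h3 h4 h5
    rw [Ns_smul, card_smul]
  have c2 : ∀ (x' : V) (φ' : W), x' ≠ 0 → φ' ≠ 0 → p.b x' φ' = 0 →
      Nat.card (Bs G x' φ') = Nat.card (Bs G x φ) := by
    intro x' φ' h3 h4 h5
    obtain ⟨g, rfl, rfl⟩ := h.tr_flag hx h3 s.2.2.2.1 h4 ((h.sp_bx s).trans h5.symm)
    rw [Bs_smul, card_smul]
  have c3 := dc_eq (fun (a : V) (ψ : W) => Sp G x a ψ) (df ⊤ (p.ln x)) (df (p.flip.ker x) ⊥)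
    (m := Nat.card (Ns G W x y) - 1) (k := Nat.card (Bs G x φ) - 2) (by
      rintro a ⟨-, ha⟩
      simp only [mem_ln, not_or] at ha
      have e1 := ncard_df (S := Ns G W x a) bot_le
      rw [AddSubgroup.card_bot, c1 x a hx ha.1 ha.2] at e1
      rw [← e1, Nat.add_sub_cancel]
      congr 1; ext ψ
      exact ⟨fun hh => ⟨hh.2.mem_Ns, hh.1.2⟩, fun hh =>
        have := h.sp_of_Ns hx ha.1 ha.2 hh.1 (by simpa using hh.2)
        ⟨⟨h.sp_bx this, hh.2⟩, this⟩⟩) (by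
      rintro ψ ⟨h3, h4⟩
      have e1 := ncard_df (S := Bs G x ψ) (p.ln_le.2 (self_mem_Bs x ψ))
      rw [p.card_ln hx, c2 x ψ hx (by simpa using h4) h3] at e1
      rw [← e1, Nat.add_sub_cancel]
      congr 1; ext a
      exact ⟨fun hh => ⟨hh.2.mem_Bs, hh.1.2⟩, fun hh => ⟨⟨trivial, hh.2⟩,
        h.sp_of_Bs hx (by simpa using h4) h3 hh.1 (fun e => hh.2 (Or.inl e))
          fun e => hh.2 (Or.inr e)⟩⟩)
  have e1 := ncard_df (S := ⊤) (T := p.ln x) le_top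
  have e2 := ncard_df (S := p.flip.ker x) bot_le
  have e3 := p.flip.card_ker hx
  rw [p.card_ln hx, AddSubgroup.card_top] at e1
  rw [AddSubgroup.card_bot] at e2
  have e4 := p.card_eq
  have e5 := h.big
  have e6 : (df ⊤ (p.ln x)).ncard = (df (p.flip.ker x) ⊥).ncard * 2 := by omega
  rw [e6, mul_assoc] at c3
  have c4 := Nat.eq_of_mul_eq_mul_left (by omega) c3
  have e7 : 2 ≤ Nat.card (Ns G W x y) := by
    rw [← p.flip.card_ln s.2.2.2.1]; exact AddSubgroup.card_le_of_le (p.flip.ln_le.2 s.mem_Ns)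
  refine ⟨Nat.card (Ns G W x y), c1, fun x' φ' h3 h4 h5 => by rw [c2 x' φ' h3 h4 h5]; omega, ?_⟩
  obtain ⟨a, ha⟩ := p.flip.exists_card (Ns G W x y)
  rcases a with _ | a
  · omega
  · exact ⟨a, ha⟩

theorem ba_of {x y : V} {φ : W} (hx : x ≠ 0) (hy : y ≠ 0) (hyx : y ≠ x) (hφ : φ ≠ 0)
    (e : p.b x φ = 0) (e' : p.b y φ = 0) (ns : ¬ Sp G x y φ) : BA p := by
  intro x' φ' h3 h4 h5
  obtain ⟨g, rfl, rfl⟩ := h.tr_flag hx h3 hφ h4 (e.trans h5.symm)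
  rw [Bs_smul, A_smul, smul_le_smul]
  exact (h.tr_A hx hφ e).le_of_iv (p.A_le_ker x φ) (iv_Bs x φ) (h.Bs_le_ker e)
    fun hh => ns (h.sp_of_Bs hx hφ e (hh e') hy hyx)

theorem exists_sp0 : ∃ (x y : V) (φ : W), Sp G x y φ := by
  haveI := h.nontrivial
  obtain ⟨x, hx⟩ := _root_.exists_ne (0 : V)
  obtain ⟨y, h1, h2⟩ := h.exists_ne hx
  obtain ⟨φ, s⟩ := h.exists_sp' hx h1 h2
  exact ⟨x, y, φ, s⟩

theorem card_ge {m m' : ℕ} (hm : Par p m) (hm' : Par p.flip m') (hb : BA p) :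
    4 * m * m' ≤ Nat.card V := by
  obtain ⟨x, y, φ, s⟩ := h.exists_sp0
  have e := h.sp_bx s
  have h1 := AddSubgroup.card_le_of_le (hb x φ s.1 s.2.2.2.1 e)
  rw [← p.card_A x φ, hm'.bs φ x s.2.2.2.1 s.1 e]
  rw [hm.bs x φ s.1 s.2.2.2.1 e] at h1
  nlinarith

theorem A_le_sup {x y : V} {φ : W} (hx : x ≠ 0) (hy : y ≠ 0) (hyx : y ≠ x) (hφ : φ ≠ 0)
    (e : p.b x φ = 0) (e' : p.b y φ = 0) : p.A (x + y) φ ≤ p.A x φ ⊔ p.A y φ := by
  rw [A, A, A, ← p.flip.ann_inf]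
  refine p.flip.ann_anti fun χ hχ => ?_
  by_cases h0 : χ = 0
  · exact h0 ▸ AddSubgroup.zero_mem _
  by_cases h1 : χ = φ
  · exact h1 ▸ self_mem_Bs _ _
  have s1 := h.flip.sp_of_Bs hφ hx e hχ.1 h0 h1
  have s2 := h.flip.sp_of_Bs hφ hy e' hχ.2 h0 h1
  exact (h.flip.sp_of_Ns hφ h0 h1 (AddSubgroup.add_mem _ s1.mem_Ns s2.mem_Ns)
    (by rw [Ne, p.add_eq_zero]; exact hyx.symm)).mem_Bs

theorem card_A_eq {x y : V} {φ ψ : W} (hx : x ≠ 0) (hy : y ≠ 0) (hφ : φ ≠ 0) (hψ : ψ ≠ 0)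
    (e : p.b x φ = 0) (e' : p.b y ψ = 0) : Nat.card (p.A x φ) = Nat.card (p.A y ψ) := by
  obtain ⟨g, rfl, rfl⟩ := h.tr_flag hx hy hφ hψ (e.trans e'.symm)
  rw [A_smul, card_smul]

/-- The dichotomy `j ≤ 1` for special lines. -/
theorem hy_sup {x y : V} {φ : W} (s : Sp G x y φ) (hne : p.A y φ ≠ p.A x φ) :
    Hy (p.A x φ ⊔ p.A y φ) (p.A x φ) := by
  obtain ⟨h1, h2, h3, h4, P, h5, h6, h7⟩ := id s
  have s' := p.sp_add s
  have e1 := h.sp_bx s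
  have e2 := h.sp_by s
  have e3 := h.sp_by s'
  have c1 := h.card_A_eq h2 h1 h4 h4 e2 e1
  have c2 := h.card_A_eq s'.2.1 h1 h4 h4 e3 e1
  have hPJ : (P : Subgroup G) ≤ Jf G x φ := le_inf h5 h6
  have hA := (p.iv_A x φ).mono hPJ
  have hs : ∀ g ∈ (P : Subgroup G), ∀ v ∈ p.A y φ, g • v ∈ p.A y φ ∨ g • v ∈ p.A (x + y) φ := by
    intro g hg v hv
    have := AddSubgroup.smul_mem_pointwise_smul _ g _ hv
    rw [← A_smul, h6 g hg] at this
    rcases h7 g hg with e | e <;> rw [e] at this <;> tauto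
  have hT : Iv (P : Subgroup G) (p.A x φ ⊔ p.A y φ) := by
    intro g hg v hv
    obtain ⟨a, ha, c, hc, rfl⟩ := AddSubgroup.mem_sup.1 hv
    rw [smul_add]
    refine AddSubgroup.add_mem _ (AddSubgroup.mem_sup_left (hA g hg a ha)) ?_
    rcases hs g hg c hc with e | e
    exacts [AddSubgroup.mem_sup_right e, h.A_le_sup h1 h2 h3 h4 e1 e2 e]
  obtain ⟨Y, y1, y2, y3⟩ := exists_hy_over p.two P.isPGroup' le_sup_left
    (fun hh => hne (AddSubgroup.eq_of_le_of_card_ge (le_sup_right.trans hh) c1.ge)) hA hT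
  obtain ⟨a, ha⟩ := p.exists_card (p.A x φ)
  have t := tr_hy P hPJ (p.iv_A x φ) (h.tr_A h1 h4 e1) y1
    (y2.trans (sup_le (p.A_le_ker _ _) (p.A_le_ker _ _))) y3 ha
  obtain ⟨w, hw, hw'⟩ := y1.exists
  obtain ⟨a', ha', c, hc, rfl⟩ := AddSubgroup.mem_sup.1 (y2 hw)
  have hcY : c ∈ df Y (p.A x φ) := ⟨(Y.add_mem_cancel_left (y1.le ha')).1 hw,
    fun hh => hw' (AddSubgroup.add_mem _ ha' hh)⟩
  have half : ∀ Z : AddSubgroup V, 2 * (df (Z ⊓ Y) (p.A x φ)).ncard ≤ Nat.card (Z ⊓ Y :) := by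
    intro Z
    by_cases hZ : Z ⊓ Y ≤ p.A x φ
    · rw [show df (Z ⊓ Y) (p.A x φ) = ∅ from Set.eq_empty_of_forall_notMem fun v hv =>
        hv.2 (hZ hv.1)]
      simp
    · have := y1.inf inf_le_right hZ
      rw [this.card, ← this.card_df, Nat.card_coe_set_eq]
      exact le_of_eq (by congr 2; ext v; simp only [df, Set.mem_setOf_eq, AddSubgroup.mem_inf]; tauto)
  have cov : (df Y (p.A x φ)).ncard ≤ (df (p.A y φ ⊓ Y) (p.A x φ)).ncard +
      (df (p.A (x + y) φ ⊓ Y) (p.A x φ)).ncard := by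
    refine le_trans (Set.ncard_le_ncard fun v hv => ?_) (Set.ncard_union_le _ _)
    obtain ⟨g, hg, rfl⟩ := t c hcY v hv
    rcases hs g hg c hc with e | e
    exacts [Or.inl ⟨⟨e, hv.1⟩, hv.2⟩, Or.inr ⟨⟨e, hv.1⟩, hv.2⟩]
  have c3 := y1.card_df
  rw [Nat.card_coe_set_eq] at c3
  have c4 := half (p.A y φ)
  have c5 := half (p.A (x + y) φ)
  have c6 := AddSubgroup.card_le_of_le (inf_le_left : p.A (x + y) φ ⊓ Y ≤ _)
  have c7 : p.A y φ ⊓ Y = p.A y φ := AddSubgroup.eq_of_le_of_card_ge inf_le_left (by omega)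
  rwa [le_antisymm (sup_le y1.le (inf_eq_left.1 c7)) y2]

end TT

/-- Special points have different perps. -/
def J1 (p : Pr G V W) : Prop := ∀ (x y : V) (φ : W), Sp G x y φ → p.A y φ ≠ p.A x φ

/-- The configuration `c = d ≥ 2`. -/
structure Gam (p : Pr G V W) (m : ℕ) : Prop where
  par : Par p m
  par' : Par p.flip m
  big : 4 ≤ m
  ba : BA p
  j : J1 p
  j' : J1 p.flip
  ub : ∀ (x : V) (φ ψ : W), Sp G φ ψ x → Ns G V φ ψ ≤ Bs G x φ
  ub' : ∀ (φ : W) (x y : V), Sp G x y φ → Ns G W x y ≤ Bs G φ x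

theorem Gam.flip {m : ℕ} (h : Gam p m) : Gam p.flip m :=
  ⟨h.par', h.par, h.big, h.ba.flip, h.j', h.j, h.ub', h.ub⟩

namespace TT

variable [Finite G] (h : TT p)
include h

theorem le_of_not_j1 {m m' : ℕ} (hm : Par p m) (hm' : Par p.flip m') (hj : ¬ J1 p) :
    2 * m ≤ m' := by
  simp only [J1, not_forall, not_not] at hj
  obtain ⟨x, y, φ, s, e⟩ := hj
  have e1 := h.sp_bx s
  obtain ⟨ψ, s'⟩ := h.flip.exists_sp s.2.2.2.1 s.1 e1
  rw [← hm.bs x φ s.1 s.2.2.2.1 e1, ← hm'.ns φ ψ s'.1 s'.2.1 s'.2.2.1]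
  refine AddSubgroup.card_le_of_le fun u hu => ?_
  rcases (h.mem_Bs s.1 s.2.2.2.1 e1).1 hu with rfl | rfl | s''
  · exact AddSubgroup.zero_mem _
  · exact s'.mem_Ns
  · obtain ⟨g, e2, rfl, e3⟩ := h.sp_tr s s''
    have e4 := congrArg (g • ·) e
    simp only [← A_smul, e2, e3] at e4
    have e5 := p.flip.ann_inj e4
    exact (h.flip.sp_of_Bs s.2.2.2.1 s''.2.1 (h.sp_by s'') (e5 ▸ s'.mem_Bs) s'.2.1 s'.2.2.1).mem_Ns

theorem count_j1 {m m' k : ℕ} (hm : Par p m) (hm' : Par p.flip m') (hj : J1 p)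
    (hk : ∀ (x : V) (φ ψ : W), Sp G φ ψ x → Nat.card (Bs G x φ ⊓ Ns G V φ ψ :) ≤ k + 2) :
    (2 * m - 2) * (m' - 2) ≤ (2 * m' - 2) * k := by
  obtain ⟨x, y, φ, s⟩ := h.exists_sp0
  have e := h.sp_bx s
  have hx := s.1
  have hφ := s.2.2.2.1
  have c1 := ncard_df (S := Bs G x φ) (p.ln_le.2 (self_mem_Bs x φ))
  have c2 := ncard_df (S := Bs G φ x) (p.flip.ln_le.2 (self_mem_Bs φ x))
  rw [p.card_ln hx, hm.bs x φ hx hφ e] at c1
  rw [p.flip.card_ln hφ, hm'.bs φ x hφ hx e] at c2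
  rw [← c1, ← c2, Nat.add_sub_cancel, Nat.add_sub_cancel]
  refine dc_le (fun (a : V) (ψ : W) => Sp G φ ψ a) _ _ ?_ ?_
  · rintro a ⟨h1, h2⟩
    have sa := h.sp_of_Bs hx hφ e h1 (fun e => h2 (Or.inl e)) fun e => h2 (Or.inr e)
    have h3 := p.hy_ann (h.hy_sup sa (hj _ _ _ sa))
    rw [ann_sup, ann_A, ann_A] at h3
    have h4 := h3.card
    have h5 := ncard_df (S := Bs G φ x ⊓ Bs G φ a)
      (p.flip.ln_le.2 ⟨self_mem_Bs φ x, self_mem_Bs φ a⟩)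
    rw [hm'.bs φ x hφ hx e] at h4
    rw [p.flip.card_ln hφ] at h5
    refine le_trans (by omega) (Set.ncard_le_ncard (s := df (Bs G φ x ⊓ Bs G φ a) (p.flip.ln φ)) ?_)
    rintro ψ ⟨h6, h7⟩
    exact ⟨⟨h6.1, h7⟩, h.flip.sp_of_Bs hφ sa.2.1 (h.sp_by sa) h6.2 (fun e => h7 (Or.inl e))
      fun e => h7 (Or.inr e)⟩
  · rintro ψ ⟨h1, h2⟩
    have sψ := h.flip.sp_of_Bs hφ hx e h1 (fun e => h2 (Or.inl e)) fun e => h2 (Or.inr e)
    have h5 := ncard_df (S := Bs G x φ ⊓ Ns G V φ ψ) (p.ln_le.2 ⟨self_mem_Bs x φ, sψ.mem_Ns⟩)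
    have h6 := hk x φ ψ sψ
    rw [p.card_ln hx] at h5
    refine le_trans (Set.ncard_le_ncard (t := df (Bs G x φ ⊓ Ns G V φ ψ) (p.ln x)) ?_) (by omega)
    rintro a ⟨h7, h8⟩
    exact ⟨⟨h7.1, h8.mem_Ns⟩, h7.2⟩

theorem le_of_j1 {m m' : ℕ} (hm : Par p m) (hm' : Par p.flip m') (hj : J1 p) (h4 : 4 ≤ m') :
    m ≤ m' := by
  have := h.count_j1 hm hm' hj (k := m' - 2) fun x φ ψ s => by
    have := AddSubgroup.card_le_of_le (inf_le_right : Bs G x φ ⊓ Ns G V φ ψ ≤ _)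
    rw [hm'.ns φ ψ s.1 s.2.1 s.2.2.1] at this
    omega
  have := Nat.le_of_mul_le_mul_right this (by omega)
  omega

theorem ub_of_j1 {m : ℕ} (hm : Par p m) (hm' : Par p.flip m) (hj : J1 p) (h4 : 4 ≤ m)
    (x : V) (φ ψ : W) (s : Sp G φ ψ x) : Ns G V φ ψ ≤ Bs G x φ := by
  by_contra hh
  have := h.count_j1 hm hm' hj (k := m - 3) fun x' φ' ψ' s' => by
    obtain ⟨g, rfl, rfl, rfl⟩ := h.flip.sp_tr s s'
    rw [Bs_smul, Ns_smul, ← smul_inf', card_smul]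
    have h1 := AddSubgroup.card_le_of_le (inf_le_right : Bs G x φ ⊓ Ns G V φ ψ ≤ _)
    have h2 : ¬ Nat.card (Ns G V φ ψ) ≤ Nat.card (Bs G x φ ⊓ Ns G V φ ψ :) := fun h3 =>
      hh (inf_eq_right.1 (AddSubgroup.eq_of_le_of_card_ge inf_le_right h3))
    rw [hm'.ns φ ψ s.1 s.2.1 s.2.2.1] at h1 h2
    omega
  have := Nat.le_of_mul_le_mul_left this (by omega)
  omega

theorem exists_gam {m m' : ℕ} (hm : Par p m) (hm' : Par p.flip m') (h4 : 4 ≤ m) (h4' : 4 ≤ m')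
    (hb : BA p) : Gam p m := by
  by_cases j : J1 p <;> by_cases j' : J1 p.flip
  · obtain rfl := le_antisymm (h.le_of_j1 hm hm' j h4') (h.flip.le_of_j1 hm' hm j' h4)
    exact ⟨hm, hm', h4, hb, j, j', h.ub_of_j1 hm hm' j h4, h.flip.ub_of_j1 hm' hm j' h4⟩
  · have := h.le_of_j1 hm hm' j h4'
    have := h.flip.le_of_not_j1 hm' hm j'
    omega
  · have := h.le_of_not_j1 hm hm' j
    have := h.flip.le_of_j1 hm' hm j' h4
    omega
  · have := h.le_of_not_j1 hm hm' j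
    have := h.flip.le_of_not_j1 hm' hm j'
    omega

end TT

end Pr

/-- The case `c = 1` gives a non-singular alternating trilinear form. -/
theorem Pr.TT.card_le_of_par_two {G : Type*} {V : Type u} {W : Type*} [Group G] [AddCommGroup V]
    [AddCommGroup W] [DistribMulAction G V] [DistribMulAction G W] {p : Pr G V W} [Fintype V]
    [Fintype W] [Finite G] (h : p.TT) (ht : Trilin.{u}) (hm : p.Par 2) : Nat.card V ≤ 8 := by
  classical
  refine ht V (fun x y z => if z ∈ p.N x y then 0 else 1) p.two ?_ ?_ ?_ ?_ ?_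
  · intro x y z w
    by_cases hd : x = 0 ∨ y = 0 ∨ y = x
    · simp [Pr.TT.N_top hd]
    push Not at hd
    have h1 : Hy ⊤ (p.N x y) := ⟨le_top, by
      rw [AddSubgroup.card_top, ← p.card_N x y, hm.ns x y hd.1 hd.2.1 hd.2.2]⟩
    by_cases hz : z ∈ p.N x y <;> by_cases hw : w ∈ p.N x y
    · simp [hz, hw, AddSubgroup.add_mem _ hz hw]
    · simp [hz, hw, AddSubgroup.add_mem_cancel_left _ hz]
    · simp [hz, hw, AddSubgroup.add_mem_cancel_right _ hw]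
    · have := h1.sub_mem (x := z) (y := w) trivial hz trivial hw
      rw [p.sub_eq] at this
      simp [hz, hw, this]; rfl
  · intro x y z; simp only [h.N_comm x y]
  · intro x y z
    have : z ∈ p.N x y ↔ y ∈ p.N x z := ⟨h.N_comm', h.N_comm'⟩
    simp only [this]
  · intro x z; simp [Pr.TT.N_top (Or.inr (Or.inr rfl))]
  · intro x y h1 h2 h3
    have := h.N_ne_top h1 h2 h3
    rw [Ne, AddSubgroup.eq_top_iff'] at this
    push Not at this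
    obtain ⟨z, hz⟩ := this
    exact ⟨z, by simp [hz]⟩

end Cfsg.Lib.Known.CK
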