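import Cfsg.Agent.Known.CKd

/-! The configuration `c = d ≥ 2`: first properties, and the case of blocks. -/

set_option linter.unusedSectionVars false

namespace Cfsg.Lib.Known.CK

open scoped Pointwise
open MulAction

attribute [local simp] smul_eq_zero_iff_eq

theorem Tr.merge {G V : Type*} [Group G] [AddCommGroup V] [DistribMulAction G V] {K : Subgroup G}
    {S T : AddSubgroup V} (h1 : Tr K (df ⊤ S)) (h2 : Tr K (df S T)) (hle : T ≤ S) (hne : ¬ S ≤ T)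
    (hi : ¬ Iv K S) : Tr K (df ⊤ T) := by
  obtain ⟨k, hk, v, hv, e⟩ : ∃ k ∈ K, ∃ v ∈ df S T, k • v ∉ S := by
    by_contra! hh
    refine hi fun k hk v hv => ?_
    by_cases hv' : v ∈ T
    · obtain ⟨w, hw, hw'⟩ := SetLike.not_le_iff_exists.1 hne
      have := hh k hk (v + w) ⟨S.add_mem hv hw, fun e => hw' ((T.add_mem_cancel_left hv').1 e)⟩
      rw [smul_add] at this
      exact (S.add_mem_cancel_right (hh k hk w ⟨hw, hw'⟩)).1 this
    · exact hh k hk v ⟨hv, hv'⟩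
  refine (h2.union h1 hv ⟨trivial, e⟩ hk rfl).sub ?_
  rintro w ⟨-, hw⟩
  by_cases hw' : w ∈ S
  exacts [Or.inl ⟨hw', hw⟩, Or.inr ⟨trivial, hw'⟩]

theorem hy_of_card_le {V : Type*} [AddCommGroup V] [Finite V] {S T : AddSubgroup V} (hle : T ≤ S)
    (hne : ¬ S ≤ T) (hc : Nat.card S ≤ 2 * Nat.card T) : Hy S T := by
  refine ⟨hle, ?_⟩
  obtain ⟨c, hc'⟩ := AddSubgroup.card_dvd_of_le hle
  have h0 : 0 < Nat.card T := Nat.card_pos
  have h1 : 0 < Nat.card S := Nat.card_pos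
  have h2 : c ≠ 1 := by
    rintro rfl
    exact hne (AddSubgroup.eq_of_le_of_card_ge hle (by omega)).ge
  have h3 : c ≤ 2 := by
    rw [hc', mul_comm 2] at hc; exact Nat.le_of_mul_le_mul_left hc h0
  have h4 : c ≠ 0 := by rintro rfl; omega
  obtain rfl : c = 2 := by omega
  omega

namespace Pr

variable {G V W : Type*} [Group G] [AddCommGroup V] [AddCommGroup W] [DistribMulAction G V]
  [DistribMulAction G W] (p : Pr G V W)

theorem ln_smul (g : G) (x : V) : p.ln (g • x) = g • p.ln x := by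
  ext v; simp [AddSubgroup.mem_pointwise_smul_iff_inv_smul_mem, mem_ln, inv_smul_eq_iff]

theorem pl_smul (g : G) (x y : V) : p.pl (g • x) (g • y) = g • p.pl x y := by
  rw [pl, pl, smul_sup', ln_smul, ln_smul]

theorem pl_comm (x y : V) : p.pl x y = p.pl y x := sup_comm _ _

variable [Fintype V] [Fintype W]

include p in
theorem orbit_bound {K J : Subgroup G} {S T : AddSubgroup V} (hK : K ≤ J) (hS : Iv J S)
    (hT : Hy S T) (h : Tr K (df S T)) {s : Set (AddSubgroup V)} (hs : ∀ k ∈ J, k • T ∈ s) :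
    Nat.card S ≤ (s.ncard + 1) * Nat.card (core J T) := by
  have hc : core J T ≤ S := (core_le J T).trans hT.le
  have h1 := dc_le (fun (φ : W) (Z : AddSubgroup V) => φ ∈ df (p.ann Z) (p.ann S) ∧ Hy S Z)
    (df (p.ann (core J T)) (p.ann S)) s (m := 1) (k := Nat.card (p.ann S)) (by
      rintro φ ⟨h1, h2⟩
      have h3 := p.hy_inf_ker h2
      obtain ⟨k, hk, e⟩ := p.core_conj hK hS hT h h3 (le_inf hc h1)
      exact (Set.ncard_pos (Set.toFinite _)).2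
        ⟨S ⊓ p.ker φ, e ▸ hs k hk, ⟨p.le_ker.1 inf_le_right, h2⟩, h3⟩) (by
      intro Z _
      by_cases hZ : Hy S Z
      · rw [← (p.hy_ann hZ).card_df, Nat.card_coe_set_eq]
        exact Set.ncard_le_ncard fun φ hφ => hφ.2.1
      · simp [hZ])
  have h2 := ncard_df (p.ann_anti hc)
  have h3 := p.card_mul_ann S
  have h4 := p.card_mul_ann (core J T)
  have h5 : Nat.card (p.ann (core J T)) ≤ (s.ncard + 1) * Nat.card (p.ann S) := by
    rw [add_mul]; omega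
  have h6 := Nat.mul_le_mul_left (Nat.card (core J T)) h5
  rw [h4, ← h3, ← mul_assoc] at h6
  rw [mul_comm]
  exact Nat.le_of_mul_le_mul_right h6 Nat.card_pos

include p in
theorem ncard_hy {S U : AddSubgroup V} (hU : U ≤ S) {r : ℕ}
    (hr : Nat.card S = (r + 1) * Nat.card U) : {T | Hy S T ∧ U ≤ T}.ncard ≤ r := by
  have h1 := dc_le (fun (Z : AddSubgroup V) (φ : W) => φ ∈ p.ann Z) {T | Hy S T ∧ U ≤ T}
    (df (p.ann U) (p.ann S)) (m := Nat.card (p.ann S)) (k := 1) (by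
      rintro Z ⟨h1, h2⟩
      rw [← (p.hy_ann h1).card_df, Nat.card_coe_set_eq]
      exact Set.ncard_le_ncard fun φ hφ => ⟨⟨p.ann_anti h2 hφ.1, hφ.2⟩, hφ.1⟩) (by
      rintro φ ⟨-, h2⟩
      rw [Set.ncard_le_one_iff_subsingleton]
      rintro Z ⟨h3, h4⟩ Z' ⟨h5, h6⟩
      rw [p.hy_eq_ker h3.1 h4 h2, p.hy_eq_ker h5.1 h6 h2])
  have h2 := ncard_df (p.ann_anti hU)
  have h3 := p.card_mul_ann S
  have h4 := p.card_mul_ann U
  rw [hr, ← h4, mul_comm (r + 1), mul_assoc] at h3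
  have h5 := Nat.eq_of_mul_eq_mul_left Nat.card_pos h3
  refine Nat.le_of_mul_le_mul_right (c := Nat.card (p.ann S)) ?_ Nat.card_pos
  rw [add_mul] at h5
  omega

include p in
theorem step3 [Finite G] (P : Sylow 2 G) {J : Subgroup G} {S T : AddSubgroup V}
    (hP : (P : Subgroup G) ≤ J) (hS : Iv J S) (hT : Hy S T) (hPT : Iv (P : Subgroup G) T)
    (h : Tr (P : Subgroup G) (df S T)) {s : Set (AddSubgroup V)} (hs : ∀ k ∈ J, k • T ∈ s)
    (h3 : s.ncard ≤ 3) (hi : ¬ Iv J T) :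
    Hy T (core J T) ∧ Tr (P : Subgroup G) (df T (core J T)) := by
  have h1 := p.orbit_bound hP hS hT h hs
  have h2 : Hy T (core J T) := by
    refine hy_of_card_le (core_le J T) (fun hh => hi ?_) ?_
    · rw [le_antisymm hh (core_le J T)]; exact iv_core _ _
    · have := Nat.mul_le_mul_right (Nat.card (core J T)) (show s.ncard + 1 ≤ 4 by omega)
      have := hT.card
      omega
  obtain ⟨a, ha⟩ := p.exists_card (core J T)
  exact ⟨h2, tr_hy P hP (iv_core J T) (tr_core hP hS h) h2 hT.le hPT ha⟩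

/-- The subspaces `B(x,φ)` are blocks. -/
def TW (G V W : Type*) [Group G] [AddCommGroup V] [AddCommGroup W] [DistribMulAction G V]
    [DistribMulAction G W] : Prop :=
  ∀ (x y : V) (φ : W), Sp G x y φ → Bs G y φ = Bs G x φ

/-- The intersection of the perps of the points of `B(x,φ)`. -/
def Rf (x : V) (φ : W) : AddSubgroup V where
  carrier := {v | v ∈ p.A x φ ∧ ∀ y, Sp G x y φ → v ∈ p.A y φ}
  zero_mem' := ⟨AddSubgroup.zero_mem _, fun _ _ => AddSubgroup.zero_mem _⟩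
  add_mem' ha hb := ⟨AddSubgroup.add_mem _ ha.1 hb.1,
    fun y s => AddSubgroup.add_mem _ (ha.2 y s) (hb.2 y s)⟩
  neg_mem' ha := by rwa [p.neg_eq]

theorem smul_mem_Rf {x v : V} {φ : W} (g : G) (hv : v ∈ p.Rf x φ) :
    g • v ∈ p.Rf (g • x) (g • φ) := by
  refine ⟨by rw [A_smul]; simpa using hv.1, fun y s => ?_⟩
  have := hv.2 (g⁻¹ • y) (by simpa using s.smul g⁻¹)
  have := AddSubgroup.smul_mem_pointwise_smul _ g _ this
  rwa [← A_smul, smul_inv_smul] at this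

variable {p}

namespace TT

variable [Finite G] (h : TT p) {m : ℕ} (γ : Gam p m)
include h γ

omit h in
theorem A_le_N {x y : V} {φ : W} (s : Sp G x y φ) : p.A x φ ≤ p.N x y :=
  p.flip.ann_anti (γ.ub' φ x y s)

theorem hy_U {x : V} {φ ψ : W} (s : Sp G φ ψ x) : Hy (Bs G x φ) (Ns G V φ ψ) :=
  ⟨γ.ub x φ ψ s, by
    rw [γ.par.bs x φ s.2.2.2.1 s.1 (h.flip.sp_bx s), γ.par'.ns φ ψ s.1 s.2.1 s.2.2.1]⟩

theorem hy_N {x y : V} {φ : W} (s : Sp G x y φ) : Hy (p.N x y) (p.A x φ) :=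
  p.flip.hy_ann (h.flip.hy_U γ.flip s)

theorem N_eq {x y : V} {φ : W} (s : Sp G x y φ) : p.A x φ ⊔ p.A y φ = p.N x y :=
  (h.hy_sup s (γ.j _ _ _ s)).eq' (h.hy_N γ s)
    (sup_le (A_le_N γ s) (h.N_comm x y ▸ A_le_N γ (h.sp_symm s)))

theorem Ns_eq {x y : V} {φ : W} (s : Sp G x y φ) : Ns G W x y = Bs G φ x ⊓ Bs G φ y := by
  rw [← p.ann_N, ← h.N_eq γ s, ann_sup, ann_A, ann_A]

theorem ke {x y : V} {φ ψ : W} (s : Sp G x y φ) (s' : Sp G φ ψ x) :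
    y ∈ Ns G V φ ψ ↔ ψ ∈ Ns G W x y := by
  rw [h.Ns_eq γ s]
  exact ⟨fun hy => ⟨s'.mem_Bs, (h.flip.sp_of_Ns s'.1 s'.2.1 s'.2.2.1 hy s.2.1).mem_Bs⟩,
    fun hψ => (h.flip.sp_of_Bs s'.1 s.2.1 (h.sp_by s) hψ.2 s'.2.1 s'.2.2.1).mem_Ns⟩

theorem b1 {u u' : V} {ψ : W} (hu : u ≠ 0) (hu' : u' ≠ 0) (hψ : ψ ≠ 0) (e : p.b u ψ = 0)
    (e' : p.b u' ψ = 0) (hA : p.A u' ψ = p.A u ψ) : u' = u := by
  by_contra hne
  obtain ⟨χ, s⟩ := h.flip.exists_sp hψ hu e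
  have h1 := p.flip.ann_inj hA
  have s' := h.flip.sp_of_Bs hψ hu' e' (h1 ▸ s.mem_Bs) s.2.1 s.2.2.1
  exact γ.j _ _ _ (h.sp_of_Bs hu hψ e (γ.ub _ _ _ s s'.mem_Ns) hu' hne) hA

theorem N_inj {x y z : V} {φ : W} (s : Sp G x y φ) (s' : Sp G x z φ) (e : p.N x y = p.N x z) :
    z = y ∨ z = x + y := by
  by_contra! hh
  have e0 := h.sp_bx s
  have e1 : Ns G W x y = Ns G W x z := p.flip.ann_inj e
  have s'' : Sp G x (y + z) φ := h.sp_of_Bs s.1 s.2.2.2.1 e0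
    (AddSubgroup.add_mem _ s.mem_Bs s'.mem_Bs) (by rw [Ne, p.add_eq_zero]; exact hh.1.symm)
    (fun e => hh.2 (by rw [← e, add_comm y z, add_assoc, p.two, add_zero]))
  refine (h.flip.hy_U γ.flip s'').not_le fun ψ hψ => ?_
  rcases (h.flip.mem_Bs s.2.2.2.1 s.1 e0).1 hψ with rfl | rfl | t
  · exact AddSubgroup.zero_mem _
  · exact s''.mem_Ns
  · rw [← h.ke γ s'' t]
    by_cases hy : y ∈ Ns G V φ ψ
    · exact AddSubgroup.add_mem _ hy ((h.ke γ s' t).2 (e1 ▸ (h.ke γ s t).1 hy))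
    · rw [← p.sub_eq]
      exact (h.hy_U γ t).sub_mem s.mem_Bs hy s'.mem_Bs
        fun hz => hy ((h.ke γ s t).2 (e1 ▸ (h.ke γ s' t).1 hz))

theorem inf_N {x y z : V} {φ : W} (s : Sp G x y φ) (s' : Sp G x z φ) (h1 : z ≠ y)
    (h2 : z ≠ x + y) : p.N x y ⊓ p.N x z = p.A x φ := by
  refine ((h.hy_N γ s).eq_of_le (le_inf (A_le_N γ s) (A_le_N γ s')) inf_le_left).resolve_right
    fun e => ?_
  exact (h.N_inj γ s s' ((h.hy_N γ s).eq' (h.hy_N γ s') (inf_eq_left.1 e))).elim h1 h2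

theorem exists_third {x y : V} {φ : W} (s : Sp G x y φ) :
    ∃ z, Sp G x z φ ∧ z ≠ y ∧ z ≠ x + y := by
  have e0 := h.sp_bx s
  have : ¬ Bs G x φ ≤ p.pl x y := fun hh => by
    have h1 := AddSubgroup.card_le_of_le hh
    rw [γ.par.bs x φ s.1 s.2.2.2.1 e0, p.card_pl s.1 s.2.1 s.2.2.1] at h1
    have := γ.big; omega
  obtain ⟨z, h1, h2⟩ := SetLike.not_le_iff_exists.1 this
  simp only [mem_pl, not_or] at h2
  exact ⟨z, h.sp_of_Bs s.1 s.2.2.2.1 e0 h1 h2.1 h2.2.1, h2.2.2.1, h2.2.2.2⟩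

theorem exists_second {x y : V} {φ : W} (s : Sp G x y φ) : ∃ ψ, Sp G x y ψ ∧ ψ ≠ φ := by
  have : ¬ Ns G W x y ≤ p.flip.ln φ := fun hh => by
    have h1 := AddSubgroup.card_le_of_le hh
    rw [γ.par.ns x y s.1 s.2.1 s.2.2.1, p.flip.card_ln s.2.2.2.1] at h1
    have := γ.big; omega
  obtain ⟨ψ, h1, h2⟩ := SetLike.not_le_iff_exists.1 this
  simp only [mem_ln, not_or] at h2
  exact ⟨ψ, h.sp_of_Ns s.1 s.2.1 s.2.2.1 h1 h2.1, h2.2⟩

theorem sp_flip {x y : V} {φ ψ : W} (s : Sp G x y φ) (s' : Sp G x y ψ) (hne : ψ ≠ φ) :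
    Sp G φ ψ x :=
  h.flip.sp_of_Bs s.2.2.2.1 s.1 (h.sp_bx s) (γ.ub' _ _ _ s s'.mem_Ns) s'.2.2.2.1 hne

theorem tw_of_big (h8 : 8 ≤ m) : TW G V W := by
  intro x y φ s
  have e0 := h.sp_bx s
  symm
  refine AddSubgroup.eq_of_le_of_card_ge (fun z hz => ?_) (by
    rw [γ.par.bs x φ s.1 s.2.2.2.1 e0, γ.par.bs y φ s.2.1 s.2.2.2.1 (h.sp_by s)])
  rcases (h.mem_Bs s.1 s.2.2.2.1 e0).1 hz with rfl | rfl | s'
  · exact AddSubgroup.zero_mem _
  · exact (h.sp_symm s).mem_Bs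
  have : ¬ Ns G W x y ⊓ Ns G W x z ≤ p.flip.ln φ := fun hh => by
    have h1 := AddSubgroup.card_le_of_le hh
    rw [p.flip.card_ln s.2.2.2.1] at h1
    have h2 := γ.par.ns x y s.1 s.2.1 s.2.2.1
    by_cases h3 : Ns G W x y ≤ Ns G W x z
    · rw [inf_eq_left.2 h3] at h1; omega
    · have := ((h.flip.hy_U γ.flip s').inf (γ.ub' _ _ _ s) h3).card
      omega
  obtain ⟨ψ, h1, h2⟩ := SetLike.not_le_iff_exists.1 this
  simp only [mem_ln, not_or] at h2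
  have t := h.flip.sp_of_Bs s.2.2.2.1 s.1 e0 (γ.ub' _ _ _ s h1.1) h2.1 h2.2
  exact γ.ub _ _ _ (h.flip.sp_of_Ns t.1 t.2.1 t.2.2.1 ((h.ke γ s t).2 h1.1) s.2.1)
    ((h.ke γ s' t).2 h1.2)

theorem inf_le_A (tw : TW G V W) {x y z : V} {φ : W} (s : Sp G x y φ) (s' : Sp G x z φ)
    (h1 : z ≠ y) (h2 : z ≠ x + y) : p.A x φ ⊓ p.A y φ ≤ p.A z φ := by
  have t1 := h.sp_symm s'
  have t2 : Sp G y z φ := h.sp_of_Bs s.2.1 s.2.2.2.1 (h.sp_by s) (tw _ _ _ s ▸ s'.mem_Bs)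
    s'.2.1 h1
  rw [← h.inf_N γ t1 (h.sp_symm t2) s.2.2.1 (fun e => h2 (by
    rw [e, add_comm z x, p.add_add])), h.N_comm z x, h.N_comm z y]
  exact inf_le_inf (A_le_N γ s') (A_le_N γ t2)

theorem Rf_eq (tw : TW G V W) {x y : V} {φ : W} (s : Sp G x y φ) :
    p.Rf x φ = p.A x φ ⊓ p.A y φ := by
  refine le_antisymm (fun v hv => ⟨hv.1, hv.2 y s⟩) fun v hv => ⟨hv.1, fun z s' => ?_⟩
  by_cases h1 : z = y
  · exact h1 ▸ hv.2
  by_cases h2 : z = x + y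
  · obtain ⟨w, t, h3, h4⟩ := h.exists_third γ s
    refine h.inf_le_A γ tw t s' (fun e => h4 (e.symm.trans h2)) (fun e => h3 ?_)
      ⟨hv.1, h.inf_le_A γ tw s t h3 h4 hv⟩
    exact (add_left_cancel (h2.symm.trans e)).symm
  · exact h.inf_le_A γ tw s s' h1 h2 hv

theorem false_of_tw (tw : TW G V W) (tw' : TW G W V) : False := by
  obtain ⟨x, y, φ, s⟩ := h.exists_sp0
  have hx := s.1
  set a := Nat.card (p.A x φ) with ha
  have mX : ∀ ψ, ψ ∈ df (p.flip.ker x) ⊥ ↔ p.b x ψ = 0 ∧ ψ ≠ 0 := fun ψ => by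
    simp [df, mem_ker]
  set S : V → Set W := fun z => {ψ | ψ ∈ df (p.flip.ker x) ⊥ ∧ z ∈ df (p.A x ψ) (p.Rf x ψ)}
  have hy0 : y ∈ df ⊤ (p.ln x) := ⟨trivial, by simp [mem_ln, s.2.1, s.2.2.1]⟩
  have hS : ∀ g : G, g • x = x → ∀ z, ∀ ψ ∈ S z, g • ψ ∈ S (g • z) := by
    rintro g hg z ψ ⟨h1, h2, h3⟩
    rw [mX] at h1
    refine ⟨(mX _).2 ⟨by rw [← hg, p.inv]; exact h1.1, by simpa using h1.2⟩, ?_, fun hh => h3 ?_⟩
    · rw [← hg, A_smul]; simpa using h2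
    · have := p.smul_mem_Rf g⁻¹ hh
      rwa [inv_smul_smul, inv_smul_smul, inv_smul_eq_iff.2 hg.symm] at this
  have hS' : ∀ g : G, g • x = x → ∀ z, (S z).ncard ≤ (S (g • z)).ncard := fun g hg z =>
    Set.ncard_le_ncard_of_injOn (g • ·) (hS g hg z) (MulAction.injective g).injOn
  have c1 := dc_eq (fun (ψ : W) (z : V) => z ∈ df (p.A x ψ) (p.Rf x ψ)) (df (p.flip.ker x) ⊥)
    (df ⊤ (p.ln x)) (m := a / 2) (k := (S y).ncard) (by
      intro ψ hψ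
      rw [mX] at hψ
      obtain ⟨u, t⟩ := h.exists_sp hx hψ.2 hψ.1
      have t' := h.sp_symm t
      have h1 := (h.hy_N γ t').inf (h.N_comm x u ▸ A_le_N γ t) fun hh =>
        γ.j _ _ _ t (AddSubgroup.eq_of_le_of_card_ge hh
          (h.card_A_eq t'.1 hx hψ.2 hψ.2 (h.sp_by t) hψ.1).le).symm
      rw [← h.Rf_eq γ tw t] at h1
      have h2 := h1.card
      have h3 := h1.card_df
      rw [h.card_A_eq hx hx hψ.2 s.2.2.2.1 hψ.1 (h.sp_bx s)] at h2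
      rw [Nat.card_coe_set_eq] at h3
      rw [show a / 2 = (df (p.A x ψ) (p.Rf x ψ)).ncard by omega]
      congr 1; ext z
      refine ⟨fun hz => hz.2, fun hz => ⟨⟨trivial, fun hh => hz.2 ?_⟩, hz⟩⟩
      refine p.ln_le.2 ?_ hh
      rw [h.Rf_eq γ tw t]
      exact ⟨h.mem_A hψ.1, γ.ba u ψ t'.1 hψ.2 (h.sp_by t) t'.mem_Bs⟩) (by
      intro z hz
      obtain ⟨g, hg, rfl⟩ := h.tr_stab hx y hy0 z hz
      refine le_antisymm ?_ (hS' g hg y)
      simpa using hS' g⁻¹ ((stabilizer G x).inv_mem hg) (g • y))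
  have c2 := dc_eq (fun (ψ : W) (T : AddSubgroup W) => Bs G ψ x = T) (S y)
    ((fun ψ => Bs G ψ x) '' S y) (m := 1) (k := 2 * m - 1) (by
      intro ψ hψ
      rw [Set.ncard_eq_one]
      exact ⟨Bs G ψ x, by ext T; exact ⟨fun hT => hT.2.symm, fun hT => ⟨⟨ψ, hψ, hT.symm⟩, hT.symm⟩⟩⟩)
    (by
      rintro _ ⟨ψ, hψ, rfl⟩
      obtain ⟨h1, h2⟩ := (mX ψ).1 hψ.1
      have h3 := ncard_df (S := Bs G ψ x) bot_le
      rw [AddSubgroup.card_bot, γ.par'.bs ψ x h2 hx h1] at h3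
      rw [← h3, Nat.add_sub_cancel]
      congr 1; ext χ
      refine ⟨fun hh => ⟨hh.2.le (self_mem_Bs χ x), hh.1.1.2⟩, fun hh => ?_⟩
      rcases (h.flip.mem_Bs h2 hx h1).1 hh.1 with rfl | rfl | t
      · exact absurd (AddSubgroup.zero_mem _) hh.2
      · exact ⟨hψ, rfl⟩
      have e1 : p.A x χ = p.A x ψ := congrArg p.flip.ann (tw' _ _ _ t)
      obtain ⟨u, t', h4⟩ := h.flip.exists_second γ.flip t
      have e2 : p.A u χ = p.A u ψ := congrArg p.flip.ann (tw' _ _ _ t')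
      have t1 := h.flip.sp_flip γ.flip t t' h4
      have t2 := h.flip.sp_flip γ.flip (h.flip.sp_symm t) (h.flip.sp_symm t') h4
      refine ⟨⟨(mX χ).2 ⟨h.sp_bx t2, t.2.1⟩, ?_⟩, tw' _ _ _ t⟩
      have h5 := hψ.2
      rwa [h.Rf_eq γ tw t1, ← e2, ← e1, ← h.Rf_eq γ tw t2] at h5)
  have e1 := ncard_df (S := ⊤) (T := p.ln x) le_top
  have e2 := ncard_df (S := p.flip.ker x) bot_le
  have e3 := p.flip.card_ker hx
  rw [p.card_ln hx, AddSubgroup.card_top] at e1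
  rw [AddSubgroup.card_bot] at e2
  have e4 := p.card_eq
  have e5 := h.big
  have e6 : (df ⊤ (p.ln x)).ncard = (df (p.flip.ker x) ⊥).ncard * 2 := by omega
  rw [e6, mul_assoc] at c1
  have c4 := Nat.eq_of_mul_eq_mul_left (by omega) c1
  obtain ⟨n, hn⟩ := p.exists_card (p.A x φ)
  have h2 : 2 ≤ a := by
    rw [← p.card_ln hx]; exact AddSubgroup.card_le_of_le (p.ln_le.2 (h.mem_A (h.sp_bx s)))
  have d1 : 2 * m - 1 ∣ 2 ^ n := by
    rw [← hn, ← ha]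
    have : 2 ∣ a := by
      rw [ha, hn]; refine dvd_pow_self 2 ?_
      rintro rfl; omega
    rw [show a = 4 * (S y).ncard by omega, ← mul_one (S y).ncard, c2]
    exact Dvd.dvd.mul_left (dvd_mul_left _ _) _
  obtain ⟨i, -, hi⟩ := (Nat.dvd_prime_pow Nat.prime_two).1 d1
  have := γ.big
  rcases i with _ | i
  · omega
  · rw [pow_succ] at hi; omega

end TT

end Pr

end Cfsg.Lib.Known.CK
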