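import Cfsg.Agent.Known.CKe

/-! The configuration `c = d = 2` without blocks. -/

set_option linter.unusedSectionVars false

namespace Cfsg.Lib.Known.CK

open scoped Pointwise
open MulAction

attribute [local simp] smul_eq_zero_iff_eq

namespace Pr

variable {G V W : Type*} [Group G] [AddCommGroup V] [AddCommGroup W] [DistribMulAction G V]
  [DistribMulAction G W] (p : Pr G V W)

/-- The intersection of all perps attached to a line. -/
def Rl (T : AddSubgroup V) : AddSubgroup V where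
  carrier := {v | ∀ (u w : V) (φ : W), u ∈ T → w ∈ T → Sp G u w φ → v ∈ p.A u φ}
  zero_mem' _ _ _ _ _ _ := AddSubgroup.zero_mem _
  add_mem' ha hb u w φ h1 h2 s := AddSubgroup.add_mem _ (ha u w φ h1 h2 s) (hb u w φ h1 h2 s)
  neg_mem' ha := by rwa [p.neg_eq]

theorem Rl_smul (g : G) (T : AddSubgroup V) : p.Rl (g • T) = g • p.Rl T := by
  have key : ∀ (g : G) (T : AddSubgroup V) (v : V), v ∈ p.Rl T → g • v ∈ p.Rl (g • T) := by
    intro g T v hv u w φ h1 h2 s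
    rw [AddSubgroup.mem_pointwise_smul_iff_inv_smul_mem] at h1 h2
    have := AddSubgroup.smul_mem_pointwise_smul _ g _ (hv _ _ _ h1 h2 (s.smul g⁻¹))
    rwa [← A_smul, smul_inv_smul, smul_inv_smul] at this
  ext v
  rw [AddSubgroup.mem_pointwise_smul_iff_inv_smul_mem]
  exact ⟨fun hv => by simpa using key g⁻¹ _ v hv, fun hv => by simpa using key g _ _ hv⟩

theorem mem_Jf {x : V} {φ : W} {g : G} (h : g • x = x) (h' : g • φ = φ) : g ∈ Jf G x φ := ⟨h, h'⟩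

/-- Special hyperplanes give different perps. -/
def NT : Prop := ∀ (x : V) (φ ψ : W), Sp G φ ψ x → p.A x ψ ≠ p.A x φ

variable [Fintype V] [Fintype W]

theorem pl_of_pl {x y u w : V} (hu : u ∈ p.pl x y) (hw : w ∈ p.pl x y) (h1 : u ≠ 0) (h2 : w ≠ 0)
    (h3 : w ≠ u) (hx : x ≠ 0) (hy : y ≠ 0) (hyx : y ≠ x) : p.pl u w = p.pl x y :=
  AddSubgroup.eq_of_le_of_card_ge (p.pl_le.2 ⟨hu, hw⟩)
    (by rw [p.card_pl h1 h2 h3, p.card_pl hx hy hyx])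

theorem ncard_image_df {α : Type*} (f : V → α) {S : AddSubgroup V} (h : Nat.card S = 4) :
    (f '' df S ⊥).ncard ≤ 3 := by
  have := ncard_df (S := S) bot_le
  rw [AddSubgroup.card_bot, h] at this
  exact (Set.ncard_image_le (Set.toFinite _)).trans (by omega)

variable {p}

namespace TT

variable [Finite G] (h : TT p)
include h

theorem sp_of_pl {x y u w : V} {φ : W} (s : Sp G x y φ) (hu : u ∈ p.pl x y) (hw : w ∈ p.pl x y)
    (h1 : u ≠ 0) (h2 : w ≠ 0) (h3 : w ≠ u) : Sp G u w φ := by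
  have s1 := h.sp_symm s
  have s2 := p.sp_add s
  have s3 := p.sp_add s1
  rw [add_comm y x] at s3
  rcases p.mem_pl.1 hu with rfl | rfl | rfl | rfl <;>
    rcases p.mem_pl.1 hw with rfl | rfl | rfl | rfl <;>
    first | contradiction | assumption | exact h.sp_symm s2 | exact h.sp_symm s3

theorem Ns_of_pl {x y u w : V} (hu : u ∈ p.pl x y) (hw : w ∈ p.pl x y) (h1 : u ≠ 0) (h2 : w ≠ 0)
    (h3 : w ≠ u) (hx : x ≠ 0) (hy : y ≠ 0) (hyx : y ≠ x) : Ns G W u w = Ns G W x y := by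
  have e := p.pl_of_pl hu hw h1 h2 h3 hx hy hyx
  rw [Ns, Ns]; congr 1; ext φ
  exact ⟨fun s => h.sp_of_pl s (e ▸ p.mem_pl.2 (by simp)) (e ▸ p.mem_pl.2 (by simp)) hx hy hyx,
    fun s => h.sp_of_pl s hu hw h1 h2 h3⟩

theorem iv_N' {x y : V} (hx : x ≠ 0) (hy : y ≠ 0) (hyx : y ≠ x) :
    Iv (stabilizer G (p.pl x y)) (p.N x y) :=
  iv_of_smul fun k hk => by
    rw [← N_smul, N, N, h.Ns_of_pl (iv_stab _ k hk x (p.mem_pl.2 (by simp)))
      (iv_stab _ k hk y (p.mem_pl.2 (by simp))) (by simpa using hx) (by simpa using hy)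
      (by simpa using hyx) hx hy hyx]

theorem nt_of_not_tw (hn : ¬ TW G W V) : NT p := by
  intro x φ ψ s e
  refine hn fun φ' ψ' x' s' => ?_
  obtain ⟨g, rfl, rfl, rfl⟩ := h.flip.sp_tr s s'
  rw [Bs_smul, Bs_smul, p.flip.ann_inj e]

variable (γ : Gam p 4)
include γ

theorem tr_NA {x y : V} {φ : W} (s : Sp G x y φ) {P : Sylow 2 G} (h5 : Fx P x) (h6 : Fx P φ)
    (h7 : ∀ g ∈ (P : Subgroup G), g • y = y ∨ g • y = x + y) :
    Tr (P : Subgroup G) (df (p.N x y) (p.A x φ)) := by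
  obtain ⟨a, ha⟩ := p.exists_card (p.A x φ)
  exact tr_hy P (J := Jf G x φ) (le_inf h5 h6) (p.iv_A x φ) (h.tr_A s.1 s.2.2.2.1 (h.sp_bx s))
    (h.hy_N γ s) (p.N_le_ker s) ((p.iv_N s.2.1 s.2.2.1).mono (p.le_Jl h5 h7)) ha

theorem row {x y : V} {φ : W} (s : Sp G x y φ) {P : Sylow 2 G} (h5 : Fx P x) (h6 : Fx P φ)
    (h7 : ∀ g ∈ (P : Subgroup G), g • y = y ∨ g • y = x + y) :
    Hy (p.A x φ) (p.A x φ ⊓ p.A y φ) ∧
      Tr (P : Subgroup G) (df (p.A x φ) (p.A x φ ⊓ p.A y φ)) ∧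
      (∀ u ∈ p.pl x y, u ≠ 0 → p.A x φ ⊓ p.A y φ ≤ p.A u φ) ∧
      ∀ T, Hy (p.N x y) T → p.A x φ ⊓ p.A y φ ≤ T → ∃ u ∈ p.pl x y, u ≠ 0 ∧ T = p.A u φ := by
  set J := stabilizer G φ ⊓ stabilizer G (p.pl x y)
  have hP : (P : Subgroup G) ≤ J := le_inf h6 (iv_iff.1 (p.iv_pl h5 h7))
  have hN : Iv J (p.N x y) := (h.iv_N' s.1 s.2.1 s.2.2.1).mono inf_le_right
  have hx : x ∈ p.pl x y := p.mem_pl.2 (by simp)
  have orb : ∀ k ∈ J, k • p.A x φ = p.A (k • x) φ := fun k hk => by rw [← A_smul, hk.1]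
  have mv : ∀ u ∈ p.pl x y, u ≠ 0 → ∃ k ∈ J, k • x = u := by
    intro u hu h0
    obtain ⟨w, hw, h1, h2⟩ : ∃ w ∈ p.pl x y, w ≠ 0 ∧ w ≠ u := by
      by_cases e : u = x
      · exact ⟨y, p.mem_pl.2 (by simp), s.2.1, e ▸ s.2.2.1⟩
      · exact ⟨x, hx, s.1, Ne.symm e⟩
    obtain ⟨k, e1, e2, e3⟩ := h.sp_tr s (h.sp_of_pl s hu hw h0 h1 h2)
    refine ⟨k, ⟨e3, ?_⟩, e1⟩
    change k • p.pl x y = p.pl x y
    rw [← pl_smul, e1, e2, p.pl_of_pl hu hw h0 h1 h2 s.1 s.2.1 s.2.2.1]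
  have le1 : ∀ u ∈ p.pl x y, u ≠ 0 → core J (p.A x φ) ≤ p.A u φ := fun u hu h0 => by
    obtain ⟨k, hk, rfl⟩ := mv u hu h0
    rw [← orb k hk]; exact core_le_smul _ hk
  have t := h.tr_NA γ s h5 h6 h7
  obtain ⟨c1, c2⟩ := p.step3 P hP hN (h.hy_N γ s) ((p.iv_A x φ).mono (le_inf h5 h6)) t
    (s := (fun u => p.A u φ) '' df (p.pl x y) ⊥)
    (fun k hk => ⟨k • x, ⟨iv_stab _ k hk.2 x hx, by simpa using s.1⟩, (orb k hk).symm⟩)
    (ncard_image_df _ (p.card_pl s.1 s.2.1 s.2.2.1)) (fun hi => by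
      obtain ⟨k, hk, e⟩ := mv y (p.mem_pl.2 (by simp)) s.2.1
      exact γ.j _ _ _ s (by rw [← e, ← orb k hk, hi.smul_eq hk]))
  have s' := h.sp_symm s
  have c3 : Hy (p.A x φ) (p.A x φ ⊓ p.A y φ) :=
    (h.hy_N γ s').inf (h.N_comm x y ▸ A_le_N γ s) fun hh =>
      γ.j _ _ _ s ((h.hy_N γ s).eq (h.N_comm x y ▸ h.hy_N γ s') hh).symm
  have e := c1.eq c3 (le_inf (core_le _ _) (le1 y (p.mem_pl.2 (by simp)) s.2.1))
  rw [← e]
  refine ⟨c1, c2, le1, fun T hT hle => ?_⟩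
  obtain ⟨k, hk, rfl⟩ := p.core_conj hP hN (h.hy_N γ s) t hT hle
  exact ⟨k • x, iv_stab _ k hk.2 x hx, by simpa using s.1, orb k hk⟩

theorem col {x y : V} {φ ψ : W} (s : Sp G x y φ) (s' : Sp G x y ψ) :
    p.A x φ ⊓ p.A y φ ≤ p.A x ψ := by
  by_cases e : p.A x ψ = p.A x φ
  · exact e ▸ inf_le_left
  obtain ⟨h1, h2, h3, h4, P, h5, h6, h7⟩ := id s
  have hP := p.le_Jl h5 h7
  have orb : ∀ k ∈ p.Jl x y, k • p.A x φ = p.A x (k • φ) := fun k hk => by rw [← A_smul, hk.1]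
  obtain ⟨g, e1, e2, e3⟩ := h.sp_tr s s'
  have hg : g ∈ p.Jl x y := p.le_Jl (K := stabilizer G x ⊓ stabilizer G y)
    (fun k hk => hk.1) (fun k hk => Or.inl hk.2) ⟨e1, e2⟩
  obtain ⟨c1, -⟩ := p.step3 P hP (p.iv_N h2 h3) (h.hy_N γ s) ((p.iv_A x φ).mono (le_inf h5 h6))
    (h.tr_NA γ s h5 h6 h7) (s := (fun χ => p.A x χ) '' df (Ns G W x y) ⊥)
    (fun k hk => ⟨k • φ, ⟨p.ann_N x y ▸ p.iv_ann (p.iv_N h2 h3) k hk φ (p.ann_N x y ▸ s.mem_Ns),
      by simpa using h4⟩, (orb k hk).symm⟩)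
    (ncard_image_df _ (γ.par.ns x y h1 h2 h3))
    (fun hi => e (by rw [← e3, ← orb g hg, hi.smul_eq hg]))
  obtain ⟨r1, r2, -⟩ := h.row γ s h5 h6 h7
  rw [← c1.eq r1 (r2.le_of_iv r1.le ((iv_core _ _).mono hP) c1.le c1.not_le), ← e3, ← orb g hg]
  exact core_le_smul _ hg

theorem Rl_eq {x y : V} {φ : W} (s : Sp G x y φ) : p.Rl (p.pl x y) = p.A x φ ⊓ p.A y φ := by
  have hx : x ∈ p.pl x y := p.mem_pl.2 (by simp)
  have hy : y ∈ p.pl x y := p.mem_pl.2 (by simp)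
  refine le_antisymm (fun v hv => ⟨hv x y φ hx hy s, hv y x φ hy hx (h.sp_symm s)⟩)
    fun v hv u w ψ hu hw t => ?_
  obtain ⟨-, -, -, -, P, h5, h6, h7⟩ := id s
  obtain ⟨-, -, r, -⟩ := h.row γ s h5 h6 h7
  exact h.col γ (h.sp_of_pl s hu hw t.1 t.2.1 t.2.2.1) t ⟨r u hu t.1 hv, r w hw t.2.1 hv⟩

theorem hy_Rl {x y : V} {φ : W} (s : Sp G x y φ) : Hy (p.A x φ) (p.Rl (p.pl x y)) := by
  obtain ⟨-, -, -, -, P, h5, h6, h7⟩ := id s
  rw [h.Rl_eq γ s]; exact (h.row γ s h5 h6 h7).1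

variable (nt : NT p)
include nt

theorem diag {x y : V} {φ ψ : W} (s : Sp G x y φ) (s' : Sp G x y ψ) (hne : ψ ≠ φ) :
    p.A y ψ = p.A x φ ∨ p.A (x + y) ψ = p.A x φ := by
  obtain ⟨-, -, -, -, P, h5, h6, h7⟩ := id s'
  obtain ⟨u, hu, h0, e⟩ := (h.row γ s' h5 h6 h7).2.2.2 _ (h.hy_N γ s) (h.col γ s' s)
  rcases p.mem_pl.1 hu with rfl | rfl | rfl | rfl
  · contradiction
  · exact absurd e.symm (nt _ _ _ (h.sp_flip γ s s' hne))
  · exact Or.inl e.symm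
  · exact Or.inr e.symm

theorem fa_exists {x u : V} {φ : W} (hx : x ≠ 0) (hφ : φ ≠ 0) (e : p.b x φ = 0)
    (hu : u ∈ Bs G x φ) (h0 : u ≠ 0) : ∃ ψ, ψ ≠ 0 ∧ p.b u ψ = 0 ∧ p.A u ψ = p.A x φ := by
  by_cases h1 : u = x
  · exact ⟨φ, hφ, h1 ▸ e, by rw [h1]⟩
  have s := h.sp_of_Bs hx hφ e hu h0 h1
  obtain ⟨ψ, s', hne⟩ := h.exists_second γ s
  have s'' : Sp G x u (φ + ψ) := h.sp_of_Ns hx h0 h1 (AddSubgroup.add_mem _ s.mem_Ns s'.mem_Ns)
    (by rw [Ne, p.flip.add_eq_zero]; exact hne.symm)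
  rcases h.diag γ nt s s' hne with e1 | e1
  · exact ⟨ψ, s'.2.2.2.1, h.sp_by s', e1⟩
  rcases h.diag γ nt s s'' (by simpa using s'.2.2.2.1) with e2 | e2
  · exact ⟨φ + ψ, s''.2.2.2.1, h.sp_by s'', e2⟩
  exact absurd (e2.trans e1.symm) (nt _ _ _ (h.sp_flip γ (h.sp_symm (p.sp_add s'))
    (h.sp_symm (p.sp_add s'')) (by simpa using hφ)))

theorem fa_mem {x u : V} {φ ψ : W} (hx : x ≠ 0) (hφ : φ ≠ 0) (e : p.b x φ = 0) (hu : u ≠ 0)
    (hψ : ψ ≠ 0) (e' : p.b u ψ = 0) (hA : p.A u ψ = p.A x φ) : u ∈ Bs G x φ := by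
  by_cases h1 : ψ = φ
  · subst h1
    rw [h.b1 γ hx hu hψ e e' hA]; exact self_mem_Bs _ _
  have t := h.flip.sp_of_Bs hφ hx e (p.flip.ann_inj hA ▸ self_mem_Bs ψ u) hψ h1
  obtain ⟨y, t', h2⟩ := h.flip.exists_second γ.flip t
  have s := h.flip.sp_flip γ.flip t t' h2
  have s' := h.flip.sp_flip γ.flip (h.flip.sp_symm t) (h.flip.sp_symm t') h2
  rcases h.diag γ nt s s' h1 with e1 | e1
  · rw [h.b1 γ s.2.1 hu hψ (h.sp_by s') e' (hA.trans e1.symm)]; exact s.mem_Bs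
  · rw [h.b1 γ (p.sp_add s).2.1 hu hψ (h.sp_by (p.sp_add s')) e' (hA.trans e1.symm)]
    exact (p.sp_add s).mem_Bs

theorem fa_Bs {x u : V} {φ ψ : W} (hx : x ≠ 0) (hφ : φ ≠ 0) (e : p.b x φ = 0) (hu : u ≠ 0)
    (hψ : ψ ≠ 0) (e' : p.b u ψ = 0) (hA : p.A u ψ = p.A x φ) : Bs G u ψ = Bs G x φ := by
  symm
  refine AddSubgroup.eq_of_le_of_card_ge (fun w hw => ?_)
    (by rw [γ.par.bs x φ hx hφ e, γ.par.bs u ψ hu hψ e'])
  by_cases h0 : w = 0
  · exact h0 ▸ AddSubgroup.zero_mem _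
  obtain ⟨χ, h1, h2, h3⟩ := h.fa_exists γ nt hx hφ e hw h0
  exact h.fa_mem γ nt hu hψ e' h0 h1 h2 (h3.trans hA.symm)

theorem iv_pi {x : V} {φ : W} (hx : x ≠ 0) (hφ : φ ≠ 0) (e : p.b x φ = 0) :
    Iv (stabilizer G (p.A x φ)) (Bs G x φ) :=
  iv_of_smul fun k hk => by
    rw [← Bs_smul]
    exact h.fa_Bs γ nt hx hφ e (by simpa using hx) (by simpa using hφ) (by rw [p.inv, e])
      (by rw [A_smul]; exact hk)

theorem tr_pi {x u : V} {φ : W} (hx : x ≠ 0) (hφ : φ ≠ 0) (e : p.b x φ = 0)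
    (hu : u ∈ Bs G x φ) (h0 : u ≠ 0) : ∃ g ∈ stabilizer G (p.A x φ), g • x = u := by
  obtain ⟨ψ, h1, h2, h3⟩ := h.fa_exists γ nt hx hφ e hu h0
  obtain ⟨g, rfl, rfl⟩ := h.tr_flag hx h0 hφ h1 (e.trans h2.symm)
  exact ⟨g, by rw [mem_stabilizer_iff, ← A_smul, h3], rfl⟩

theorem kill {x : V} {φ : W} (hx : x ≠ 0) (hφ : φ ≠ 0) (e : p.b x φ = 0) {T : AddSubgroup V}
    (hT : T ≤ p.A x φ) (hΓ : Iv (stabilizer G (p.A x φ)) T) {K : Subgroup G} (hK : Iv K T)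
    (hKx : ∀ k ∈ K, k • x = x) (ht : Tr K (df ⊤ T)) : False := by
  set Y : Set V := {y | ∃ g ∈ stabilizer G T, g • x = y}
  have hφT : φ ∈ df (p.ann T) ⊥ := ⟨p.le_ker.1 (hT.trans (p.A_le_ker x φ)), by simpa using hφ⟩
  have key : ∀ y ∈ Y, ∀ ψ ∈ df (p.ann T) ⊥, y ≠ 0 ∧ ψ ≠ 0 ∧ p.b y ψ = 0 ∧ T ≤ p.A y ψ ∧
      ∀ w ∈ Bs G y ψ, w ≠ 0 → w ∈ Y := by
    rintro _ ⟨g, hg, rfl⟩ ψ hψ
    obtain ⟨k, hk, e1⟩ := p.tr_ann hK ht φ hφT (g⁻¹ • ψ)
      ⟨p.iv_ann (iv_stab T) _ (Subgroup.inv_mem _ hg) ψ hψ.1, by simpa using hψ.2⟩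
    have hg' : g * k ∈ stabilizer G T := Subgroup.mul_mem _ hg (iv_iff.1 hK hk)
    have e2 : g • x = (g * k) • x := by rw [mul_smul, hKx k hk]
    have e3 : ψ = (g * k) • φ := by rw [mul_smul, e1, smul_inv_smul]
    rw [e2, e3]
    refine ⟨by simpa using hx, by simpa using hφ, by rw [p.inv, e], ?_, fun w hw h0 => ?_⟩
    · rw [A_smul, ← show (g * k) • T = T from hg', smul_le_smul]; exact hT
    · rw [Bs_smul, AddSubgroup.mem_pointwise_smul_iff_inv_smul_mem] at hw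
      obtain ⟨c, hc, e4⟩ := h.tr_pi γ nt hx hφ e hw (by simpa using h0)
      exact ⟨g * k * c, Subgroup.mul_mem _ hg' (iv_iff.1 hΓ hc), by
        rw [mul_smul, e4, smul_inv_smul]⟩
  have c1 := dc_le (fun (y : V) (χ : W) => Sp G φ χ y) Y (df (p.ann T) (p.flip.ln φ))
    (m := 6) (k := 3) (by
      intro y hy
      obtain ⟨h1, h2, h3, h4, -⟩ := key y hy φ hφT
      have h5 := ncard_df (S := Bs G φ y) (p.flip.ln_le.2 (self_mem_Bs φ y))
      rw [p.flip.card_ln hφ, γ.par'.bs φ y hφ h1 h3] at h5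
      refine le_trans (by omega) (Set.ncard_le_ncard (s := df (Bs G φ y) (p.flip.ln φ)) ?_)
      rintro χ ⟨h6, h7⟩
      exact ⟨⟨p.le_ann_comm.2 h4 h6, h7⟩, h.flip.sp_of_Bs hφ h1 h3 h6 (fun e => h7 (Or.inl e))
        fun e => h7 (Or.inr e)⟩) (by
      rintro χ ⟨-, h2⟩
      simp only [mem_ln, not_or] at h2
      have h5 := ncard_df (S := Ns G V φ χ) bot_le
      rw [AddSubgroup.card_bot, γ.par'.ns φ χ hφ h2.1 h2.2] at h5
      refine le_trans (Set.ncard_le_ncard (t := df (Ns G V φ χ) ⊥) ?_) (by omega)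
      rintro y ⟨-, s⟩
      exact ⟨s.mem_Ns, by simpa using s.2.2.2.1⟩)
  have c2 := dc_le (fun (ψ : W) (y : V) => Sp G x y ψ) (df (p.ann T) ⊥) Y (m := 6) (k := 3) (by
      intro ψ hψ
      obtain ⟨h1, h2, h3, -, h4⟩ := key x ⟨1, Subgroup.one_mem _, one_smul _ _⟩ ψ hψ
      have h5 := ncard_df (S := Bs G x ψ) (p.ln_le.2 (self_mem_Bs x ψ))
      rw [p.card_ln hx, γ.par.bs x ψ hx h2 h3] at h5
      refine le_trans (by omega) (Set.ncard_le_ncard (s := df (Bs G x ψ) (p.ln x)) ?_)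
      rintro y ⟨h6, h7⟩
      exact ⟨h4 y h6 fun e => h7 (Or.inl e), h.sp_of_Bs hx h2 h3 h6 (fun e => h7 (Or.inl e))
        fun e => h7 (Or.inr e)⟩) (by
      intro y _
      by_cases hy : y ≠ 0 ∧ y ≠ x
      · have h5 := ncard_df (S := Ns G W x y) bot_le
        rw [AddSubgroup.card_bot, γ.par.ns x y hx hy.1 hy.2] at h5
        refine le_trans (Set.ncard_le_ncard (t := df (Ns G W x y) ⊥) ?_) (by omega)
        rintro ψ ⟨h1, s⟩
        exact ⟨s.mem_Ns, h1.2⟩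
      · rw [Set.eq_empty_of_forall_notMem (s := {a | a ∈ df (p.ann T) ⊥ ∧ Sp G x y a})
          fun ψ hψ => hy ⟨hψ.2.2.1, hψ.2.2.2.1⟩]
        simp)
  have c3 := ncard_df (S := p.ann T) bot_le
  have c4 := ncard_df (S := p.ann T) (p.flip.ln_le.2 hφT.1)
  rw [AddSubgroup.card_bot] at c3
  rw [p.flip.card_ln hφ] at c4
  omega

omit nt in
/-- If two lines of `B(x,φ)` through `x` have the same `R`, then `R` is invariant. -/
theorem iv_of_Rl_eq {x y z : V} {φ : W} (s : Sp G x y φ) (s' : Sp G x z φ) (hz : z ∉ p.pl x y)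
    (e : p.Rl (p.pl x z) = p.Rl (p.pl x y)) : Iv (Jf G x φ) (p.Rl (p.pl x y)) := by
  by_contra hi
  obtain ⟨h1, h2, h3, h4, P, h5, h6, h7⟩ := id s
  have e0 := h.sp_bx s
  have hP : (P : Subgroup G) ≤ Jf G x φ := le_inf h5 h6
  have t := (h.row γ s h5 h6 h7).2.1
  rw [← h.Rl_eq γ s] at t
  have hy := h.hy_Rl γ s
  have orb : ∀ k ∈ Jf G x φ, k • p.Rl (p.pl x y) ∈
      ({p.Rl (p.pl x y), p.Rl (p.pl x (y + z))} : Set (AddSubgroup V)) := by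
    intro k hk
    have sk := s.smul k
    rw [← Rl_smul, ← pl_smul]
    rw [hk.1, hk.2] at sk
    rw [hk.1]
    have hB : Hy (Bs G x φ) (p.pl x y) := ⟨p.pl_le.2 ⟨self_mem_Bs _ _, s.mem_Bs⟩, by
      rw [γ.par.bs x φ h1 h4 e0, p.card_pl h1 h2 h3]⟩
    have hx : ∀ w, x ∈ p.pl x w := fun w => p.mem_pl.2 (by simp)
    by_cases c : k • y ∈ p.pl x y
    · exact Or.inl (by rw [p.pl_of_pl (hx _) c h1 sk.2.1 sk.2.2.1 h1 h2 h3])
    have c' := hB.sub_mem sk.mem_Bs c s'.mem_Bs hz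
    have s'' : y + z ≠ 0 ∧ y + z ≠ x :=
      ⟨fun e => hz (p.mem_pl.2 (by simp [p.add_eq_zero.1 e])),
        fun e => hz (p.mem_pl.2 (by rw [← e, add_comm y z, add_assoc, p.two]; simp))⟩
    simp only [mem_pl, sub_eq_iff_eq_add] at c'
    rcases c' with c' | c' | c' | c'
    · exact Or.inl (by rw [← e, c', zero_add])
    · exact Or.inl (by rw [← e, c', pl_add])
    · exact Or.inr (by rw [c']; rfl)
    · exact Or.inr (by rw [c', add_assoc, pl_add]; rfl)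
  have b := p.orbit_bound hP (p.iv_A x φ) hy t orb
  have b2 : ({p.Rl (p.pl x y), p.Rl (p.pl x (y + z))} : Set (AddSubgroup V)).ncard ≤ 2 :=
    (Set.ncard_insert_le _ _).trans (by simp)
  have c := (p.step3 P hP (p.iv_A x φ) hy (iv_of_smul fun k hk => by
    rw [← Rl_smul, (p.iv_pl h5 h7).smul_eq hk]) t orb (by omega) hi).1.card
  have := hy.card
  have := Nat.mul_le_mul_right (Nat.card (core (Jf G x φ) (p.Rl (p.pl x y)))) (Nat.add_le_add_right b2 1)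
  have : 0 < Nat.card (core (Jf G x φ) (p.Rl (p.pl x y))) := Nat.card_pos
  omega

omit γ nt in
theorem iv_Rl_tr {x y u w : V} {φ ψ : W} (s : Sp G x y φ) (s' : Sp G u w ψ)
    (hi : Iv (Jf G x φ) (p.Rl (p.pl x y))) : Iv (Jf G u ψ) (p.Rl (p.pl u w)) := by
  obtain ⟨g, rfl, rfl, rfl⟩ := h.sp_tr s s'
  refine iv_of_smul fun k hk => ?_
  have : g⁻¹ * k * g ∈ Jf G x φ :=
    mem_Jf (by rw [mul_smul, mul_smul, hk.1, inv_smul_smul])
      (by rw [mul_smul, mul_smul, hk.2, inv_smul_smul])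
  have := hi.smul_eq this
  rwa [mul_smul, mul_smul, inv_smul_eq_iff, ← Rl_smul, ← pl_smul] at this

theorem sp_in_pi {x u : V} {φ : W} (hx : x ≠ 0) (hφ : φ ≠ 0) (e : p.b x φ = 0)
    (hu : u ∈ Bs G x φ) (h0 : u ≠ 0) :
    ∃ ψ, p.A u ψ = p.A x φ ∧ ∀ w ∈ Bs G x φ, w ≠ 0 → w ≠ u → Sp G u w ψ := by
  obtain ⟨ψ, h1, h2, h3⟩ := h.fa_exists γ nt hx hφ e hu h0
  exact ⟨ψ, h3, fun w hw h4 h5 =>
    h.sp_of_Bs h0 h1 h2 (h.fa_Bs γ nt hx hφ e h0 h1 h2 h3 ▸ hw) h4 h5⟩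

theorem iv_Rl_pi {x y : V} {φ : W} (s : Sp G x y φ) (hi : Iv (Jf G x φ) (p.Rl (p.pl x y))) :
    Iv (stabilizer G (p.A x φ)) (p.Rl (p.pl x y)) := by
  have e0 := h.sp_bx s
  have hx := s.1
  have hφ := s.2.2.2.1
  have same : ∀ u ∈ Bs G x φ, u ≠ 0 → ∀ w ∈ Bs G x φ, w ≠ 0 → w ≠ u → ∀ w' ∈ Bs G x φ, w' ≠ 0 →
      w' ≠ u → p.Rl (p.pl u w') = p.Rl (p.pl u w) := by
    intro u hu h0 w hw h1 h2 w' hw' h3 h4
    obtain ⟨ψ, -, t⟩ := h.sp_in_pi γ nt hx hφ e0 hu h0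
    obtain ⟨g, e1, rfl, e3⟩ := h.sp_tr (t w hw h1 h2) (t w' hw' h3 h4)
    rw [← (h.iv_Rl_tr s (t w hw h1 h2) hi).smul_eq (k := g) ⟨e1, e3⟩, ← Rl_smul, ← pl_smul, e1]
  refine iv_of_smul fun k hk => ?_
  have sk := s.smul k
  have h1 := h.iv_pi γ nt hx hφ e0 k hk x (self_mem_Bs _ _)
  have h2 := h.iv_pi γ nt hx hφ e0 k hk y s.mem_Bs
  rw [← Rl_smul, ← pl_smul]
  by_cases c : k • x = x
  · rw [c] at sk ⊢
    exact same x (self_mem_Bs _ _) hx y s.mem_Bs s.2.1 s.2.2.1 _ h2 sk.2.1 sk.2.2.1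
  · rw [same _ h1 sk.1 x (self_mem_Bs _ _) hx (Ne.symm c) _ h2 sk.2.1 sk.2.2.1, pl_comm]
    exact same x (self_mem_Bs _ _) hx y s.mem_Bs s.2.1 s.2.2.1 _ h1 sk.1 c

omit nt in
theorem pentagon {x y : V} {φ : W} (s : Sp G x y φ) {Z : AddSubgroup V} (hZ : Z ≤ p.N x y)
    (hc : Nat.card V = 32 * Nat.card Z) {K : Subgroup G} (hK : Iv K Z)
    (hKx : ∀ k ∈ K, k • x = x) (ht : Tr K (df ⊤ Z)) : False := by
  haveI : Fact (Nat.Prime 31) := ⟨by norm_num⟩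
  set X := df (p.ann Z) ⊥ with hX
  have cX : X.ncard = 31 := by
    have h1 := ncard_df (S := p.ann Z) bot_le
    have h2 := p.card_mul_ann Z
    rw [← p.card_eq, hc, mul_comm 32] at h2
    have := Nat.eq_of_mul_eq_mul_left Nat.card_pos h2
    rw [AddSubgroup.card_bot, this] at h1
    exact Nat.add_right_cancel h1
  have iX : ∀ k ∈ K, ∀ ψ ∈ X, k • ψ ∈ X := fun k hk ψ hψ =>
    ⟨p.iv_ann hK k hk ψ hψ.1, by simpa using hψ.2⟩
  have mX : ∀ ψ, Sp G x y ψ → ψ ∈ X := fun ψ t =>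
    ⟨p.ann_anti hZ (p.ann_N x y ▸ t.mem_Ns), by simpa using t.2.2.2.1⟩
  obtain ⟨Q⟩ : Nonempty (Sylow 31 K) := inferInstance
  have hQ : (Q : Subgroup K).map K.subtype ≤ K := Subgroup.map_subtype_le _
  have tQ := tr_of_coprime hQ (p.tr_ann hK ht) iX (by
    rw [Nat.card_coe_set_eq, cX, Subgroup.relIndex, Subgroup.subgroupOf,
      Subgroup.comap_map_eq_self_of_injective K.subtype_injective]
    exact (Nat.Prime.coprime_iff_not_dvd Fact.out).2 Q.not_dvd_index)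
  obtain ⟨ψ, s', hne⟩ := h.exists_second γ s
  obtain ⟨α, hα, rfl⟩ := tQ φ (mX φ s) ψ (mX ψ s')
  have hαK := hQ hα
  have hz : Subgroup.zpowers α ≤ K := Subgroup.zpowers_le.2 hαK
  have horb : orbit (Subgroup.zpowers α) φ = X := by
    have h1 : orbit (Subgroup.zpowers α) φ ⊆ X := by
      rintro _ ⟨k, rfl⟩; exact iX k (hz k.2) φ (mX φ s)
    refine Set.eq_of_subset_of_ncard_le h1 ?_
    have h2 : IsPGroup 31 (Subgroup.zpowers α) :=
      (Q.isPGroup'.map K.subtype).to_le (Subgroup.zpowers_le.2 hα)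
    obtain ⟨j, hj⟩ := h2.card_orbit φ
    rw [Nat.card_coe_set_eq] at hj
    rw [hj, cX]
    rcases j with _ | j
    · obtain ⟨a, ha⟩ := Set.ncard_eq_one.1 hj
      have h3 : φ ∈ orbit (Subgroup.zpowers α) φ := mem_orbit_self φ
      have h4 : α • φ ∈ orbit (Subgroup.zpowers α) φ := ⟨⟨α, Subgroup.mem_zpowers α⟩, rfl⟩
      rw [ha] at h3 h4
      exact absurd (h4.trans h3.symm) hne
    · exact Nat.le_self_pow (by omega) 31
  have small : ∀ S : AddSubgroup W, φ ∈ S → (∀ v ∈ S, α • v ∈ S) → Nat.card S ≤ 8 → False := by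
    intro S h1 h2 h3
    have h4 : X ⊆ S := by
      rw [← horb]
      rintro _ ⟨k, rfl⟩
      exact iv_stab S k (Subgroup.zpowers_le.2 (mem_stab_of h2) k.2) φ h1
    have := Set.ncard_le_ncard h4
    rw [← Nat.card_coe_set_eq (S : Set W)] at this
    change _ ≤ Nat.card S at this
    omega
  have h0 := s.2.2.2.1
  have h0' := s'.2.2.2.1
  have n2 : α • α • φ ∉ p.flip.pl φ (α • φ) := fun hh =>
    small (p.flip.pl φ (α • φ)) (p.flip.mem_pl.2 (by simp)) (fun v hv => by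
      rcases p.flip.mem_pl.1 hv with rfl | rfl | rfl | rfl
      · simp
      · exact p.flip.mem_pl.2 (by simp)
      · exact hh
      · rw [smul_add]; exact AddSubgroup.add_mem _ (p.flip.mem_pl.2 (by simp)) hh)
      (by rw [p.flip.card_pl h0 h0' hne]; omega)
  have n3 : α • α • α • φ ∉ p.flip.pl φ (α • φ) ⊔ p.flip.ln (α • α • φ) := fun hh => by
    have m2 : α • α • φ ∈ p.flip.pl φ (α • φ) ⊔ p.flip.ln (α • α • φ) :=
      AddSubgroup.mem_sup_right (Or.inr rfl)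
    have m1 : α • φ ∈ p.flip.pl φ (α • φ) ⊔ p.flip.ln (α • α • φ) :=
      AddSubgroup.mem_sup_left (p.flip.mem_pl.2 (by simp))
    refine small (p.flip.pl φ (α • φ) ⊔ p.flip.ln (α • α • φ))
      (AddSubgroup.mem_sup_left (p.flip.mem_pl.2 (by simp))) (fun v hv => ?_) ?_
    · obtain ⟨a, ha, c, hc, rfl⟩ := AddSubgroup.mem_sup.1 hv
      rw [smul_add]
      refine AddSubgroup.add_mem _ ?_ ?_
      · rcases p.flip.mem_pl.1 ha with rfl | rfl | rfl | rfl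
        · simp
        · exact m1
        · exact m2
        · rw [smul_add]; exact AddSubgroup.add_mem _ m1 m2
      · rcases hc with rfl | rfl
        · simp
        · exact hh
    · have : Hy (p.flip.pl φ (α • φ) ⊔ p.flip.ln (α • α • φ)) (p.flip.pl φ (α • φ)) :=
        hy_of le_sup_left m2 n2 fun v hv hv' => by
          obtain ⟨a, ha, c, rfl | rfl, rfl⟩ := AddSubgroup.mem_sup.1 hv
          · exact absurd (by simpa using ha) hv'
          · simpa using ha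
      rw [this.card, p.flip.card_pl h0 h0' hne]
  have s'' : Sp G x y (φ + α • φ) := h.sp_of_Ns s.1 s.2.1 s.2.2.1
    (AddSubgroup.add_mem _ s.mem_Ns s'.mem_Ns) (by rw [Ne, p.flip.add_eq_zero]; exact hne.symm)
  obtain ⟨β, hβ, eβ⟩ : ∃ β ∈ Subgroup.zpowers α, β • φ = φ + α • φ :=
    let ⟨k, e⟩ := horb.ge (mX _ s''); ⟨k, k.2, e⟩
  have hβ' : ∀ χ ∈ p.ann Z, β • χ = χ + α • χ := by
    intro χ hχ
    by_cases c : χ = 0
    · simp [c]
    obtain ⟨⟨k, hk⟩, rfl⟩ := horb ▸ (show χ ∈ X from ⟨hχ, by simpa using c⟩)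
    obtain ⟨i, rfl⟩ := hk
    obtain ⟨j, rfl⟩ := hβ
    change (α ^ j) • φ = _ at eβ
    change (α ^ j) • (α ^ i) • φ = (α ^ i) • φ + α • (α ^ i) • φ
    rw [← mul_smul, zpow_mul_comm, mul_smul, eβ, smul_add, ← mul_smul, ← mul_smul,
      (Commute.self_zpow α i).eq]
  have inv : ∀ k ∈ K, Sp G x y (k • φ) → k⁻¹ • φ ∈ Bs G φ x := fun k hk t => by
    have t1 := t.smul k⁻¹
    have t2 := s.smul k⁻¹
    rw [hKx _ (K.inv_mem hk)] at t1 t2
    rw [inv_smul_smul] at t1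
    exact γ.ub' _ _ _ t1 t2.mem_Ns
  have ma := inv α hαK s'
  have mb := inv β (hz hβ) (eβ ▸ s'')
  have hE : Hy (Bs G φ x) (p.flip.pl φ (α • φ)) :=
    ⟨p.flip.pl_le.2 ⟨self_mem_Bs _ _, γ.ub' _ _ _ s s'.mem_Ns⟩, by
      rw [γ.par'.bs φ x h0 s.1 (h.sp_bx s), p.flip.card_pl h0 h0' hne]⟩
  have hEZ : p.flip.pl φ (α • φ) ≤ p.ann Z := p.flip.pl_le.2 ⟨(mX _ s).1, (mX _ s').1⟩
  have two := p.flip.two
  have na : α⁻¹ • φ ∉ p.flip.pl φ (α • φ) := fun hh => by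
    simp only [mem_pl, inv_smul_eq_iff, smul_zero, smul_add] at hh
    rcases hh with e | e | e | e
    · exact h0 e
    · exact hne e.symm
    · exact n2 (p.flip.mem_pl.2 (by simp [← e]))
    · refine n2 (p.flip.mem_pl.2 (Or.inr (Or.inr (Or.inr ?_))))
      rw [← p.flip.add_add (α • φ) (α • α • φ), ← e, add_comm]
  by_cases c : β⁻¹ • φ ∈ p.flip.pl φ (α • φ)
  · have e := hβ' _ (hEZ c)
    rw [smul_inv_smul] at e
    rcases p.flip.mem_pl.1 c with c | c | c | c <;> rw [c] at e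
    · exact h0 (by simpa using e)
    · exact h0' (by simpa using e)
    · refine n2 (p.flip.mem_pl.2 (Or.inr (Or.inr (Or.inr ?_))))
      rw [← p.flip.add_add (α • φ) (α • α • φ), ← e, add_comm]
    · rw [smul_add, add_assoc, p.flip.add_add] at e
      exact h0 (by simpa using e)
  · have c' := hE.sub_mem mb c ma na
    have e := hβ' _ (hEZ c')
    have e' := hβ' _ (iX _ (K.inv_mem hαK) φ (mX φ s)).1
    rw [smul_sub, smul_inv_smul, e', smul_inv_smul, add_comm (α⁻¹ • φ), p.flip.sub_eq,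
      p.flip.add_add, inv_smul_eq_iff] at e
    rcases p.flip.mem_pl.1 c' with c | c | c | c <;> rw [c] at e
    · exact h0 (by simpa using e)
    · refine n2 (p.flip.mem_pl.2 (Or.inr (Or.inr (Or.inr ?_))))
      rw [smul_add] at e
      rw [← p.flip.add_add (α • φ) (α • α • φ), ← e, add_comm]
    · rw [smul_add] at e
      refine n3 ?_
      rw [← p.flip.add_add (α • α • φ) (α • α • α • φ), ← e]
      exact AddSubgroup.add_mem _ (AddSubgroup.mem_sup_right (Or.inr rfl))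
        (AddSubgroup.mem_sup_left (p.flip.mem_pl.2 (by simp)))
    · rw [smul_add α φ, add_assoc, p.flip.add_add, smul_add] at e
      refine n3 ?_
      rw [← p.flip.add_add (α • φ) (α • α • α • φ), ← e]
      exact AddSubgroup.mem_sup_left (p.flip.mem_pl.2 (by simp [add_comm]))

theorem false_of_nt : False := by
  obtain ⟨x, y, φ, s⟩ := h.exists_sp0
  obtain ⟨h1, h2, h3, h4, P, h5, h6, h7⟩ := id s
  have e0 := h.sp_bx s
  set K := p.Jl x y ⊔ Jf G x φ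
  have hPf : (P : Subgroup G) ≤ Jf G x φ := le_inf h5 h6
  have hPl := p.le_Jl h5 h7
  have hPK : (P : Subgroup G) ≤ K := hPf.trans le_sup_right
  have hKx : ∀ k ∈ K, k • x = x :=
    fun k hk => (sup_le inf_le_left inf_le_left : K ≤ stabilizer G x) hk
  have ivK : ∀ T : AddSubgroup V, Iv (p.Jl x y) T → Iv (Jf G x φ) T → Iv K T := fun T a c =>
    iv_iff.2 (sup_le (iv_iff.1 a) (iv_iff.1 c))
  set R := p.Rl (p.pl x y) with hR
  have hyN := h.hy_N γ s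
  have hyR : Hy (p.A x φ) R := h.hy_Rl γ s
  have tR : Tr (P : Subgroup G) (df (p.A x φ) R) := by
    rw [hR, h.Rl_eq γ s]; exact (h.row γ s h5 h6 h7).2.1
  have ivR : Iv (p.Jl x y) R := iv_of_smul fun k hk => by rw [← Rl_smul, hk.2]
  obtain ⟨z, sz, z1, z2⟩ := h.exists_third γ s
  have t1 : Tr K (df ⊤ (p.A x φ)) := ((h.tr_N h1 h2 h3).mono le_sup_left).merge
    ((h.tr_NA γ s h5 h6 h7).mono hPK) hyN.le hyN.not_le fun hi => by
      obtain ⟨g, e1, e2, e3⟩ := h.sp_tr s sz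
      have := hi.smul_eq (k := g) (le_sup_right (a := p.Jl x y) ⟨e1, e3⟩)
      rw [← N_smul, e1, e2] at this
      exact (h.N_inj γ s sz this.symm).elim z1 z2
  have t2 : Tr K (df ⊤ R) := t1.merge (tR.mono hPK) hyR.le hyR.not_le fun hi => by
    obtain ⟨ψ, s', hne⟩ := h.exists_second γ s
    obtain ⟨g, e1, e2, e3⟩ := h.sp_tr s s'
    have := hi.smul_eq (k := g) (le_sup_left (b := Jf G x φ) (p.le_Jl
      (K := stabilizer G x ⊓ stabilizer G y) (fun k hk => hk.1) (fun k hk => Or.inl hk.2) ⟨e1, e2⟩))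
    rw [← A_smul, e1, e3] at this
    exact nt _ _ _ (h.sp_flip γ s s' hne) this
  by_cases c1 : Iv (Jf G x φ) R
  · exact h.kill γ nt h1 h4 e0 hyR.le (h.iv_Rl_pi γ nt s c1) (ivK R ivR c1) hKx t2
  have cB := γ.par.bs x φ h1 h4 e0
  have hyB : ∀ u ∈ Bs G x φ, ∀ w ∈ Bs G x φ, u ≠ 0 → w ≠ 0 → w ≠ u → Hy (Bs G x φ) (p.pl u w) :=
    fun u hu w hw a1 a2 a3 => ⟨p.pl_le.2 ⟨hu, hw⟩, by rw [cB, p.card_pl a1 a2 a3]⟩
  obtain ⟨hyR', tR'⟩ := p.step3 P hPf (p.iv_A x φ) hyR (ivR.mono hPl) tR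
    (s := p.Rl '' {T | Hy (Bs G x φ) T ∧ p.ln x ≤ T}) (fun k hk => by
      refine ⟨k • p.pl x y, ⟨?_, ?_⟩, p.Rl_smul _ _⟩
      · have := (hyB x (self_mem_Bs _ _) y s.mem_Bs h1 h2 h3).smul k
        rwa [(iv_Bs x φ).smul_eq hk] at this
      · rw [← pl_smul, hk.1]; exact le_sup_left)
    ((Set.ncard_image_le (Set.toFinite _)).trans
      (p.ncard_hy (p.ln_le.2 (self_mem_Bs _ _)) (by rw [cB, p.card_ln h1]))) c1
  set R' := core (Jf G x φ) R with hR'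
  have t3 : Tr K (df ⊤ R') := t2.merge (tR'.mono hPK) hyR'.le hyR'.not_le
    fun hi => c1 (hi.mono le_sup_right)
  have cV : Nat.card V = 32 * Nat.card R' := by
    have := p.card_N x y
    rw [γ.par.ns x y h1 h2 h3, hyN.card, hyR.card, hyR'.card] at this
    omega
  by_cases c2 : Iv (p.Jl x y) R'
  · exact h.pentagon γ s (hyR'.le.trans (hyR.le.trans hyN.le)) cV (ivK R' c2 (iv_core _ _)) hKx t3
  obtain ⟨hyR'', tR''⟩ := p.step3 P hPl ivR hyR' ((iv_core _ _).mono hPf) tR'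
    (s := (fun χ => core (Jf G x χ) R) '' df (Ns G W x y) ⊥) (fun k hk => by
      refine ⟨k • φ, ⟨p.ann_N x y ▸ p.iv_ann (p.iv_N h2 h3) k hk φ (p.ann_N x y ▸ s.mem_Ns),
        by simpa using h4⟩, ?_⟩
      ext v
      rw [AddSubgroup.mem_pointwise_smul_iff_inv_smul_mem]
      constructor
      · intro hv g hg
        have := hv (k * g * k⁻¹) (mem_Jf (by
          rw [mul_smul, mul_smul, (inv_smul_eq_iff.2 hk.1.symm), hg.1, hk.1])
          (by rw [mul_smul, mul_smul, inv_smul_smul, hg.2]))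
        rwa [mul_smul, mul_smul, ivR.iff hk] at this
      · intro hv g hg
        have := hv (k⁻¹ * g * k) (mem_Jf (by
          rw [mul_smul, mul_smul, hk.1, hg.1, inv_smul_eq_iff, hk.1])
          (by rw [mul_smul, mul_smul, hg.2, inv_smul_smul]))
        rwa [mul_smul, mul_smul, smul_inv_smul, ivR.iff (Subgroup.inv_mem _ hk)] at this)
    (ncard_image_df _ (γ.par.ns x y h1 h2 h3)) c2
  set R'' := core (p.Jl x y) R' with hR''
  have t4 : Tr K (df ⊤ R'') := t3.merge (tR''.mono hPK) hyR''.le hyR''.not_le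
    fun hi => c2 (hi.mono le_sup_left)
  set Γ := stabilizer G (p.A x φ)
  have hfΓ : Jf G x φ ≤ Γ := iv_iff.1 (p.iv_A x φ)
  have ivπ := h.iv_pi γ nt h1 h4 e0
  have b7 := p.orbit_bound (hPf.trans hfΓ) (iv_stab _) hyR tR
    (s := p.Rl '' {T | Hy (Bs G x φ) T ∧ ⊥ ≤ T}) (fun k hk => by
      refine ⟨k • p.pl x y, ⟨?_, bot_le⟩, p.Rl_smul _ _⟩
      have := (hyB x (self_mem_Bs _ _) y s.mem_Bs h1 h2 h3).smul k
      rwa [ivπ.smul_eq hk] at this)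
  have b7' : (p.Rl '' {T | Hy (Bs G x φ) T ∧ ⊥ ≤ T}).ncard ≤ 7 :=
    (Set.ncard_image_le (Set.toFinite _)).trans
      (p.ncard_hy bot_le (by rw [cB, AddSubgroup.card_bot]))
  have le1 : core Γ R ≤ R' := le_core ((iv_core _ _).mono hfΓ) (core_le _ _)
  have ne1 : ¬ R' ≤ core Γ R := by
    intro hle
    obtain ⟨ψ, a1, a2⟩ := h.sp_in_pi γ nt h1 h4 e0 s.mem_Bs h2
    have syz := a2 z sz.mem_Bs sz.2.1 z1
    obtain ⟨g, g1, g2, g3⟩ := h.sp_tr s syz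
    have hg : g ∈ Γ := by rw [mem_stabilizer_iff, ← A_smul, g1, g3, a1]
    have a3 := hyR.smul g
    rw [show g • p.A x φ = p.A x φ from hg] at a3
    obtain ⟨k, hk, a4⟩ := p.core_conj hPf (p.iv_A x φ) hyR tR a3 (hle.trans (core_le_smul _ hg))
    rw [hR, ← Rl_smul, ← Rl_smul, ← pl_smul, ← pl_smul, g1, g2, hk.1] at a4
    have sk := s.smul k
    rw [hk.1, hk.2] at sk
    have nx : x ∉ p.pl y z := by
      simp only [mem_pl, not_or]
      exact ⟨h1, h3.symm, sz.2.2.1.symm, fun e => z2 (by rw [e, add_comm y z, add_assoc, p.two,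
        add_zero])⟩
    have q1 := hyB y s.mem_Bs z sz.mem_Bs h2 sz.2.1 z1
    have q2 := hyB x (self_mem_Bs _ _) _ sk.mem_Bs h1 sk.2.1 sk.2.2.1
    have q3 := q1.inf q2.le fun hh => nx (hh (p.mem_pl.2 (by simp)))
    obtain ⟨u, hu, u0⟩ : ∃ u ∈ p.pl x (k • y) ⊓ p.pl y z, u ≠ 0 := by
      by_contra! hh
      have := q3.card
      rw [(AddSubgroup.eq_bot_iff_forall _).2 hh, AddSubgroup.card_bot,
        p.card_pl h1 sk.2.1 sk.2.2.1] at this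
      omega
    have ux : x ≠ u := fun e => nx (e ▸ hu.2)
    obtain ⟨w, hw, w0, wu⟩ : ∃ w ∈ p.pl y z, w ≠ 0 ∧ w ≠ u := by
      by_cases e : u = y
      · exact ⟨z, p.mem_pl.2 (by simp), sz.2.1, e ▸ z1⟩
      · exact ⟨y, p.mem_pl.2 (by simp), h2, Ne.symm e⟩
    obtain ⟨χ, -, a6⟩ := h.sp_in_pi γ nt h1 h4 e0 (q2.le hu.1) u0
    have r1 := p.pl_of_pl hu.2 hw u0 w0 wu h2 sz.2.1 z1
    have r2 := p.pl_of_pl hu.1 (p.mem_pl.2 (by simp)) u0 h1 ux h1 sk.2.1 sk.2.2.1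
    have suw := a6 w (q1.le hw) w0 wu
    exact c1 (h.iv_Rl_tr suw s (h.iv_of_Rl_eq γ suw (a6 x (self_mem_Bs _ _) h1 ux) (r1 ▸ nx)
      (by rw [r1, r2, a4])))
  have le2 : core Γ R ≤ R'' :=
    tR''.le_of_iv hyR''.le ((iv_core _ _).mono (hPf.trans hfΓ)) le1 ne1
  have e2 : core Γ R = R'' := AddSubgroup.eq_of_le_of_card_ge le2 (by
    have := Nat.mul_le_mul_right (Nat.card (core Γ R)) (Nat.add_le_add_right b7' 1)
    have := hyR.card
    have := hyR'.card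
    have := hyR''.card
    omega)
  exact h.kill γ nt h1 h4 e0 (hyR''.le.trans (hyR'.le.trans hyR.le)) (e2 ▸ iv_core _ _)
    (ivK R'' (iv_core _ _) (e2 ▸ (iv_core _ _).mono hfΓ)) hKx t4

end TT

end Pr

end Cfsg.Lib.Known.CK
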