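import Cfsg.Agent.Known.CKf
import Cfsg.Agent.Known.CKTri
import Cfsg.Agent.Known.CKInd
import Cfsg.Agent.Known.CKMer

/-! The geometric theorem on 2-transitive subgroups of `GL(n,2)`. -/

set_option linter.unusedSectionVars false

namespace Cfsg.Lib.Known.CK

universe u

theorem Pr.TT.sp_all {G : Type*} {V W : Type u} [Group G] [AddCommGroup V] [AddCommGroup W]
    [DistribMulAction G V] [DistribMulAction G W] {p : Pr G V W} [Fintype V] [Fintype W] [Finite G]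
    (h : p.TT) {x y : V} {φ : W} (hx : x ≠ 0) (hy : y ≠ 0) (hyx : y ≠ x) (hφ : φ ≠ 0)
    (e : p.b x φ = 0) (e' : p.b y φ = 0) : Sp G x y φ := by
  by_contra ns
  have hb := h.ba_of hx hy hyx hφ e e' ns
  obtain ⟨m, hm⟩ := h.exists_par
  obtain ⟨m', hm'⟩ := h.flip.exists_par
  have hc := h.card_ge hm hm' hb
  obtain ⟨c, rfl⟩ := hm.pow
  obtain ⟨d, rfl⟩ := hm'.pow
  have p1 : 1 ≤ 2 ^ c := Nat.one_le_two_pow
  have p2 : 1 ≤ 2 ^ d := Nat.one_le_two_pow
  rcases c with _ | c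
  · have := h.card_le_of_par_two trilin hm
    rw [pow_succ 2 d] at hc; omega
  rcases d with _ | d
  · have := h.flip.card_le_of_par_two trilin hm'
    rw [← p.card_eq] at this
    rw [pow_succ 2 (c + 1)] at hc; omega
  have p3 : 1 ≤ 2 ^ c := Nat.one_le_two_pow
  have p4 : 1 ≤ 2 ^ d := Nat.one_le_two_pow
  have γ := h.exists_gam hm hm' (by rw [pow_succ, pow_succ]; omega)
    (by rw [pow_succ, pow_succ]; omega) hb
  rcases c with _ | c
  · by_cases t : Pr.TW G W V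
    · by_cases t' : Pr.TW G V W
      · exact h.false_of_tw γ t' t
      · exact h.flip.false_of_nt γ.flip (h.flip.nt_of_not_tw t')
    · exact h.false_of_nt γ (h.nt_of_not_tw t)
  · have p5 : 1 ≤ 2 ^ c := Nat.one_le_two_pow
    have h8 : 8 ≤ 2 ^ (c + 1 + 1 + 1) := by rw [pow_succ, pow_succ, pow_succ]; omega
    exact h.false_of_tw γ (h.tw_of_big γ h8) (h.flip.tw_of_big γ.flip h8)

theorem Pr.pl_eq_top {G V W : Type*} [Group G] [AddCommGroup V] [AddCommGroup W]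
    [DistribMulAction G V] [DistribMulAction G W] (p : Pr G V W) [Fintype V] [Fintype W]
    (h : Nat.card V < 8) {x y : V} (hx : x ≠ 0) (hy : y ≠ 0) (hyx : y ≠ x) (v : V) :
    v = 0 ∨ v = x ∨ v = y ∨ v = x + y := by
  have h1 := p.card_pl hx hy hyx
  have h2 := (p.pl x y).card_addSubgroup_dvd_card
  rw [h1] at h2
  have h3 : 0 < Nat.card V := Nat.card_pos
  rw [← p.mem_pl, (AddSubgroup.card_eq_iff_eq_top (p.pl x y)).1 (by omega)]
  trivial

theorem mgt : MGT.{u} := by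
  intro V _ _ _ H hH
  classical
  letI : DistribMulAction H (V →ₗ[ZMod 2] ZMod 2) :=
    { smul := fun g φ => φ ∘ₗ ((g : V ≃ₗ[ZMod 2] V).symm : V →ₗ[ZMod 2] V)
      one_smul := fun φ => rfl
      mul_smul := fun g k φ => rfl
      smul_zero := fun g => rfl
      smul_add := fun g φ ψ => rfl }
  haveI : Finite (V →ₗ[ZMod 2] ZMod 2) := Finite.of_injective _ DFunLike.coe_injective
  haveI : Finite (V ≃ₗ[ZMod 2] V) := Finite.of_injective _ DFunLike.coe_injective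
  letI := Fintype.ofFinite V
  letI := Fintype.ofFinite (V →ₗ[ZMod 2] ZMod 2)
  let p : Pr H V (V →ₗ[ZMod 2] ZMod 2) :=
    { b := AddMonoidHom.mk' (fun v => AddMonoidHom.mk' (fun φ => φ v) fun _ _ => rfl)
        fun v w => AddMonoidHom.ext fun φ => map_add φ v w
      nd := fun v hv => (Module.forall_dual_apply_eq_zero_iff (ZMod 2) v).1 hv
      nd' := fun φ hφ => LinearMap.ext hφ
      inv := fun g v φ => congrArg φ ((g : V ≃ₗ[ZMod 2] V).symm_apply_apply v) }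
  have conv : ∀ (g : H) (φ φ' : V →ₗ[ZMod 2] ZMod 2), g • φ = φ' →
      ∀ v, φ' ((g : V ≃ₗ[ZMod 2] V) v) = φ v := by
    rintro g φ _ rfl v
    exact p.inv g v φ
  by_cases big : 8 ≤ Nat.card V
  · have h : p.TT := ⟨fun x y x' y' h1 h2 h3 h4 h5 h6 =>
      let ⟨g, hg, e⟩ := hH x y x' y' h1 h2 h3 h4 h5 h6; ⟨⟨g, hg⟩, e⟩, big⟩
    refine ⟨fun x x' φ φ' h1 h2 h3 h4 e => ?_,
      fun x y x' y' φ φ' h1 h2 h3 h4 h5 h6 h7 h8 e1 e2 e3 e4 => ?_⟩
    · obtain ⟨g, a, c⟩ := h.tr_flag h1 h2 h3 h4 e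
      exact ⟨g, g.2, a, conv g φ φ' c⟩
    · obtain ⟨g, a, b, c⟩ := h.sp_tr (h.sp_all h1 h2 h3 h7 e1 e2) (h.sp_all h4 h5 h6 h8 e3 e4)
      exact ⟨g, g.2, a, b, conv g φ φ' c⟩
  have all := fun {x y : V} => p.pl_eq_top (x := x) (y := y) (not_le.1 big)
  refine ⟨fun x x' φ φ' h1 h2 h3 h4 e => ?_,
    fun x y x' y' φ φ' h1 h2 h3 h4 h5 h6 h7 h8 e1 e2 e3 e4 => ?_⟩
  · by_cases hV : ∀ v : V, v = 0 ∨ v = x
    · obtain rfl := (hV x').resolve_left h2
      exact ⟨1, H.one_mem, rfl, fun v => by rcases hV v with rfl | rfl <;> simp [e]⟩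
    have key : ∀ (u : V) (ψ : V →ₗ[ZMod 2] ZMod 2), u ≠ 0 → ψ ≠ 0 →
        ∃ w, w ≠ 0 ∧ w ≠ u ∧ ψ w = ψ u + 1 := by
      intro u ψ hu hψ
      obtain ⟨w, a1, a2⟩ : ∃ w, w ≠ 0 ∧ w ≠ u := by
        by_cases c : u = x
        · subst c; simpa using hV
        · exact ⟨x, h1, Ne.symm c⟩
      rcases z2 (ψ u) with c | c <;> rcases z2 (ψ w) with c' | c'
      · exact absurd (LinearMap.ext fun v => by
          rcases all hu a1 a2 v with rfl | rfl | rfl | rfl <;> simp [c, c']) hψ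
      · exact ⟨w, a1, a2, by rw [c, c', zero_add]⟩
      · exact ⟨w, a1, a2, by rw [c, c', z2add]⟩
      · exact ⟨u + w, by rw [Ne, p.add_eq_zero]; exact a2.symm, by simpa using a1,
          by rw [map_add, c']⟩
    obtain ⟨w, a1, a2, a3⟩ := key x φ h1 h3
    obtain ⟨w', b1, b2, b3⟩ := key x' φ' h2 h4
    obtain ⟨g, hg, c1, c2⟩ := hH x w x' w' h1 a1 a2 h2 b1 b2
    exact ⟨g, hg, c1, fun v => by
      rcases all h1 a1 a2 v with rfl | rfl | rfl | rfl <;> simp [c1, c2, a3, b3, e]⟩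
  · exact absurd (LinearMap.ext fun v => by
      rcases all h1 h2 h3 v with rfl | rfl | rfl | rfl <;> simp [e1, e2]) h7

/-- **Cameron–Kantor for `q = 2`.** -/
theorem ck2 : CK2.{u} := ck2_of mgt

theorem tlin : TLin.{u} := tlin_of ck2

end Cfsg.Lib.Known.CK
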