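import Cfsg.Agent.Chev.EvalMod
import Cfsg.Agent.Chev.InvEval
import Cfsg.Agent.Chev.StructMat

/-!
# Kernel computation of the order of a word with integer arguments in characteristic `p`
-/

set_option autoImplicit false

namespace Cfsg.Lib.Known

open Cfsg.Lie Cfsg.Lie.ChevalleyDatum Cfsg.Lib.Chev Cfsg.Lib.Chev.Core
open scoped Matrix

noncomputable section

/-- The coefficient of a basis vector at `t = u = 1`. -/
def vcoef (a : ℕ) (v : Vec) : ℤ := (v.map fun e => if a = e.1 then e.2.2.2 else 0).sum

/-- The word moves some basis vector in characteristic `p`. -/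
def wordNeMod (T : Tab) (p : ℕ) (w : List (ℕ × ℤ)) : Bool :=
  (List.range (T.n + T.l)).any fun b =>
    let v := applyWMod T p (constW w) [(b, 0, 0, 1)]
    (List.range (T.n + T.l)).any fun a => (vcoef a v - if a = b then 1 else 0) % (p : ℤ) != 0

/-- The `k`-th power of a word. -/
def repW {α : Type*} (k : ℕ) (w : List α) : List α := (List.replicate k w).flatten

/-- The word has order `n` in characteristic `p`. -/
def ordMod (T : Tab) (p : ℕ) (w : List (ℕ × ℤ)) (n : ℕ) : Bool :=
  decide (0 < n) && wordEqMod T p (constW (repW n w)) (constW []) &&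
    (List.range n).all fun d => d == 0 || n % d != 0 || wordNeMod T p (repW d w)

end

theorem vcoef_eq_1' : type_of% @vcoef.eq_1 := @vcoef.eq_1
theorem wordNeMod_eq_1' : type_of% @wordNeMod.eq_1 := @wordNeMod.eq_1
theorem repW_eq_1' : type_of% @repW.eq_1 := @repW.eq_1
theorem ordMod_eq_1' : type_of% @ordMod.eq_1 := @ordMod.eq_1

variable {F : Type*} [Field F] {D : ChevalleyDatum}

theorem eB_apply' (b : ℕ) (a : D.Idx) : eB D F b a = if idxCode D a = b then 1 else 0 :=
  eB_apply b a

theorem evalV_one_apply (v : Vec) (a : D.Idx) :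
    evalV D (1 : F) 1 v a = (vcoef (idxCode D a) v : F) := by
  induction v with
  | nil => simp [vcoef]
  | cons e v ih =>
    rw [evalV_cons, Pi.add_apply, ih, Pi.smul_apply, eB_apply']
    simp only [vcoef, List.map_cons, List.sum_cons]
    split_ifs <;> simp

theorem word_repW {G : Type*} [Monoid G] (x : ℕ → F → G) (k : ℕ) (w : List (ℕ × ℤ)) :
    word x (intWord F (repW k w)) = word x (intWord F w) ^ k := by
  induction k with
  | zero => simp [repW, intWord]
  | succ k ih =>
    rw [pow_succ', ← ih, ← word_append]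
    simp [repW, intWord, List.replicate_succ]

variable (C : Cert D) (R : RootData D) {p : ℕ} [CharP F p]
include C R

theorem word_ne_one_of_mod {w : List (ℕ × ℤ)} (h : wordNeMod C.T p w = true) :
    word (xGL D F) (intWord F w) ≠ 1 := by
  intro e
  simp only [wordNeMod, List.any_eq_true, List.mem_range, bne_iff_ne] at h
  obtain ⟨b, -, a, ha, h⟩ := h
  obtain ⟨a, rfl⟩ := exists_idxCode (D := D) (k := a) (by rwa [C.lk.n_eq, C.lk.l_eq])
  have h1 := applyWMod_sound (p := p) (1 : F) 1 C.lk (C.tbl R).even (constW w) [(b, 0, 0, 1)]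
  rw [evalW_constW, ← C.coe_word R, e, Units.val_one, Matrix.one_mulVec, evalV_basis] at h1
  have h2 := congrFun h1 a
  rw [evalV_one_apply, eB_apply'] at h2
  refine h (Int.emod_eq_zero_of_dvd ((CharP.intCast_eq_zero_iff F p _).1 ?_))
  rw [Int.cast_sub, h2]
  split_ifs <;> simp

theorem orderOf_word_of_mod {w : List (ℕ × ℤ)} {n : ℕ} (h : ordMod C.T p w n = true) :
    orderOf (word (xGL D F) (intWord F w)) = n := by
  simp only [ordMod, Bool.and_eq_true, decide_eq_true_eq, List.all_eq_true, List.mem_range,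
    Bool.or_eq_true, beq_iff_eq, bne_iff_ne] at h
  obtain ⟨⟨h0, h1⟩, h2⟩ := h
  have h3 := C.intWord_eq_of_mod (F := F) R h1
  rw [word_repW] at h3
  have h4 := orderOf_dvd_of_pow_eq_one (h3.trans (word_nil _))
  by_contra hne
  rcases h2 _ (lt_of_le_of_ne (Nat.le_of_dvd h0 h4) hne) with (h | h) | h
  · rw [h, zero_dvd_iff] at h4; omega
  · exact h (Nat.mod_eq_zero_of_dvd h4)
  · exact word_ne_one_of_mod (F := F) C R h (by rw [word_repW, pow_orderOf_eq_one])

variable (F) in
theorem exists_orderOf_of_mod (p : ℕ) [CharP F p] {w : List (ℕ × ℤ)} {n : ℕ}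
    (h : ordMod C.T p w n = true) : ∃ g : D.group F, orderOf g = n :=
  ⟨⟨_, word_mem _ fun a _ => C.xGL_mem_group R a.1 a.2⟩, by
    rw [Subgroup.orderOf_mk, orderOf_word_of_mod C R h]⟩

end Cfsg.Lib.Known
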