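import Cfsg.Agent.Known.GLDet
import Cfsg.Agent.Class.TvConj

/-!
# Groups covered by the conjugates of two proper subgroups: generalities and `PSL_n`, `n ≤ 4`
-/

set_option autoImplicit false

namespace Cfsg.Lib.Known

open Polynomial Module Matrix

universe u v w

/-- `G` is the union of the conjugates of two proper subgroups. -/
def Cover2 (G : Type*) [Group G] : Prop :=
  ∃ H K : Subgroup G, H ≠ ⊤ ∧ K ≠ ⊤ ∧ ∀ g : G, ∃ x : G, x * g * x⁻¹ ∈ H ∨ x * g * x⁻¹ ∈ K

/-- `G` is the union of the conjugates of two proper subgroups containing the centre. -/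
def Cover2Z (G : Type*) [Group G] : Prop :=
  ∃ H K : Subgroup G, H ≠ ⊤ ∧ K ≠ ⊤ ∧ Subgroup.center G ≤ H ∧ Subgroup.center G ≤ K ∧
    ∀ g : G, ∃ x : G, x * g * x⁻¹ ∈ H ∨ x * g * x⁻¹ ∈ K

section Group

variable {G G' : Type*} [Group G] [Group G']

theorem comap_ne_top_of_mulEquiv (e : G ≃* G') {H : Subgroup G'} (hH : H ≠ ⊤) :
    H.comap e.toMonoidHom ≠ ⊤ := fun h => hH <| eq_top_iff.2 fun y _ => by
  have : e.symm y ∈ H.comap e.toMonoidHom := h ▸ Subgroup.mem_top _
  simpa using this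

theorem Cover2.of_mulEquiv (e : G ≃* G') (h : Cover2 G') : Cover2 G := by
  obtain ⟨H, K, hH, hK, h⟩ := h
  refine ⟨H.comap e.toMonoidHom, K.comap e.toMonoidHom, comap_ne_top_of_mulEquiv e hH,
    comap_ne_top_of_mulEquiv e hK, fun g => ?_⟩
  obtain ⟨x, hx⟩ := h (e g)
  exact ⟨e.symm x, by simpa using hx⟩

theorem Cover2Z.of_mulEquiv (e : G ≃* G') (h : Cover2Z G') : Cover2Z G := by
  obtain ⟨H, K, hH, hK, hZH, hZK, h⟩ := h
  have hz : ∀ z ∈ Subgroup.center G, e z ∈ Subgroup.center G' := fun z hz =>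
    Subgroup.mem_center_iff.2 fun y => by
      have := congrArg e (Subgroup.mem_center_iff.1 hz (e.symm y))
      simpa using this
  refine ⟨H.comap e.toMonoidHom, K.comap e.toMonoidHom, comap_ne_top_of_mulEquiv e hH,
    comap_ne_top_of_mulEquiv e hK, fun z h => hZH (hz z h), fun z h => hZK (hz z h), fun g => ?_⟩
  obtain ⟨x, hx⟩ := h (e g)
  exact ⟨e.symm x, by simpa using hx⟩

theorem map_mk'_ne_top {N H : Subgroup G} [N.Normal] (hN : N ≤ H) (hH : H ≠ ⊤) :
    H.map (QuotientGroup.mk' N) ≠ ⊤ := fun h => hH <| by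
  have := Subgroup.comap_map_eq_self (f := QuotientGroup.mk' N) (H := H)
    (by rwa [QuotientGroup.ker_mk'])
  rw [← this, h, Subgroup.comap_top]

theorem Cover2Z.quotient (h : Cover2Z G) : Cover2 (G ⧸ Subgroup.center G) := by
  obtain ⟨H, K, hH, hK, hZH, hZK, h⟩ := h
  refine ⟨H.map (QuotientGroup.mk' _), K.map (QuotientGroup.mk' _), map_mk'_ne_top hZH hH,
    map_mk'_ne_top hZK hK, fun g => ?_⟩
  obtain ⟨g, rfl⟩ := QuotientGroup.mk'_surjective _ g
  obtain ⟨x, hx⟩ := h g
  refine ⟨QuotientGroup.mk' _ x, ?_⟩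
  rw [← map_inv, ← map_mul, ← map_mul]
  exact hx.imp (Subgroup.mem_map_of_mem _) (Subgroup.mem_map_of_mem _)

end Group

section Lin

variable {F V W : Type*} [Field F] [AddCommGroup V] [Module F V] [AddCommGroup W] [Module F W]

/-- A functional vanishing on the kernel of `f` factors through `f`. -/
theorem exists_dual_comp_eq (f : V →ₗ[F] W) (l : Dual F V) (h : ∀ v, f v = 0 → l v = 0) :
    ∃ ψ : Dual F W, ∀ v, ψ (f v) = l v := by
  have : l ∈ LinearMap.range f.dualMap := by
    rw [LinearMap.range_dualMap_eq_dualAnnihilator_ker, Submodule.mem_dualAnnihilator]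
    exact fun v hv => h v hv
  obtain ⟨ψ, hψ⟩ := this
  exact ⟨ψ, fun v => by rw [← hψ]; rfl⟩

theorem eq_zero_of_aeval_coprime {J : End F V} {μ r : F[X]} (hμ : aeval J μ = 0)
    (hc : IsCoprime μ r) {v : V} (hv : aeval J r v = 0) : v = 0 := by
  obtain ⟨a, b, hab⟩ := hc
  have := congrArg (fun p => aeval J p v) hab
  simpa [hμ, hv] using this.symm

end Lin

section Poly

variable {F : Type*} [Field F] [Finite F]

theorem exists_monic_irreducible_natDegree (F : Type*) [Field F] [Finite F] {d : ℕ} (hd : d ≠ 0) :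
    ∃ μ : F[X], μ.Monic ∧ Irreducible μ ∧ μ.natDegree = d := by
  obtain ⟨p, hp⟩ := CharP.exists F
  have : Fact p.Prime := ⟨CharP.char_is_prime F p⟩
  have : NeZero d := ⟨hd⟩
  let b := Field.powerBasisOfFiniteOfSeparable F (FiniteField.Extension F p d)
  refine ⟨minpoly F b.gen, minpoly.monic b.isIntegral_gen, minpoly.irreducible b.isIntegral_gen, ?_⟩
  rw [b.natDegree_minpoly, ← b.finrank, FiniteField.finrank_extension]

theorem exists_dvd_comp_irreducible {μ f : F[X]} (hμ : Irreducible μ) (hf : Irreducible f)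
    (hd : μ.natDegree ∣ f.natDegree) : ∃ h : F[X], f ∣ μ.comp h := by
  have := Fact.mk hμ
  have := Fact.mk hf
  have : Module.Finite F (AdjoinRoot f) := (AdjoinRoot.powerBasis hf.ne_zero).finite
  have : Finite (AdjoinRoot f) := Module.finite_of_finite F
  obtain ⟨φ⟩ := FiniteField.nonempty_algHom_of_finrank_dvd (F := F) (K := AdjoinRoot μ)
    (L := AdjoinRoot f) (by
      rwa [(AdjoinRoot.powerBasis hμ.ne_zero).finrank, (AdjoinRoot.powerBasis hf.ne_zero).finrank,
        AdjoinRoot.powerBasis_dim, AdjoinRoot.powerBasis_dim])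
  obtain ⟨h, hh⟩ := AdjoinRoot.mk_surjective (φ (AdjoinRoot.root μ))
  refine ⟨h, AdjoinRoot.mk_eq_zero.1 ?_⟩
  rw [← AdjoinRoot.aeval_eq, aeval_comp, AdjoinRoot.aeval_eq, hh, aeval_algHom_apply,
    AdjoinRoot.aeval_eq, AdjoinRoot.mk_self, map_zero]

theorem exists_dvd_comp {μ : F[X]} (hμ : Irreducible μ) (m : F[X]) : m ≠ 0 →
    (∀ f, Irreducible f → f ∣ m → μ.natDegree ∣ f.natDegree) → ∃ h : F[X], m ∣ μ.comp h := by
  classical
  induction m using UniqueFactorizationMonoid.induction_on_coprime with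
  | h0 => exact fun h => (h rfl).elim
  | h1 hx => exact fun _ _ => ⟨0, hx.dvd⟩
  | @hpr f i hf =>
    intro _ hd
    rcases i with _ | i
    · exact ⟨0, by simp⟩
    obtain ⟨h, hh⟩ := exists_dvd_comp_irreducible hμ hf.irreducible
      (hd f hf.irreducible (dvd_pow_self f i.succ_ne_zero))
    clear hd
    let _ := Fintype.ofFinite F
    have h2 : 2 ≤ Fintype.card F := Fintype.one_lt_card
    induction i with
    | zero => exact ⟨h, by simpa using hh⟩
    | succ i ih =>
      obtain ⟨k, hk⟩ := ih (pow_ne_zero _ hf.ne_zero)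
      refine ⟨k ^ Fintype.card F, ?_⟩
      have e : μ.comp (k ^ Fintype.card F) = (μ.comp k) ^ Fintype.card F := by
        rw [comp_eq_aeval, comp_eq_aeval, ← expand_aeval, FiniteField.expand_card, map_pow]
      rw [e]
      refine dvd_trans ?_ (pow_dvd_pow_of_dvd hk _)
      rw [← pow_mul]
      exact pow_dvd_pow _ (by nlinarith)
  | @hcp x y hxy hx hy =>
    intro h0 hd
    obtain ⟨h1, hh1⟩ := hx (left_ne_zero_of_mul h0) fun f hf h => hd f hf (h.mul_right _)
    obtain ⟨h2, hh2⟩ := hy (right_ne_zero_of_mul h0) fun f hf h => hd f hf (h.mul_left _)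
    obtain ⟨a, b, hab⟩ := hxy.isCoprime
    have key : ∀ s t : F[X], s - t ∣ μ.comp s - μ.comp t := fun s t => by
      have := (μ.map C).sub_dvd_eval_sub s t
      rwa [eval_map, eval_map] at this
    refine ⟨h1 * (b * y) + h2 * (a * x), hxy.isCoprime.mul_dvd ?_ ?_⟩
    · have : x ∣ h1 * (b * y) + h2 * (a * x) - h1 :=
        ⟨(h2 - h1) * a, by linear_combination h1 * hab⟩
      simpa using (this.trans (key _ _)).add hh1
    · have : y ∣ h1 * (b * y) + h2 * (a * x) - h2 :=
        ⟨(h1 - h2) * b, by linear_combination h2 * hab⟩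
      simpa using (this.trans (key _ _)).add hh2

omit [Finite F] in
/-- Degrees of irreducible factors of a rootless polynomial of degree at most four. -/
theorem dvd_natDegree_of_rootless {m f : F[X]} (hm : m ≠ 0) (hr : ∀ c, ¬ m.IsRoot c)
    (hf : Irreducible f) (hfm : f ∣ m) {d : ℕ}
    (hd : (m.natDegree = 3 ∧ d = 3) ∨ ((m.natDegree = 2 ∨ m.natDegree = 4) ∧ d = 2)) :
    d ∣ f.natDegree := by
  obtain ⟨r, rfl⟩ := hfm
  have hr0 : r ≠ 0 := right_ne_zero_of_mul hm
  have h1 : ∀ s : F[X], s ∣ f * r → s.natDegree ≠ 1 := fun s hs h => by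
    obtain ⟨c, hc⟩ := exists_root_of_degree_eq_one (p := s)
      ((degree_eq_iff_natDegree_eq_of_pos one_pos).2 h)
    exact hr c (hc.dvd hs)
  have hf1 := h1 f (dvd_mul_right _ _)
  have hr1 := h1 r (dvd_mul_left _ _)
  have hf0 := hf.natDegree_pos
  rw [natDegree_mul hf.ne_zero hr0] at hd
  rcases hd with ⟨h, rfl⟩ | ⟨h, rfl⟩ <;> omega

end Poly

section End

variable {F : Type u} {V : Type v} {W : Type w} [Field F] [AddCommGroup V] [Module F V]
  [AddCommGroup W] [Module F W] [FiniteDimensional F V] [FiniteDimensional F W]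

theorem elDiv_of_aeval_irreducible {J : End F V} {μ : F[X]} (hm : μ.Monic) (hμ : Irreducible μ)
    (hJ : aeval J μ = 0) : ∀ x ∈ elDiv J, x = (μ, 1) := fun x hx => by
  obtain ⟨h1, h2⟩ := elDiv_fst_eq_of_pow (f := J) hm hμ (N := 1) (by simpa using hJ) x hx
  have h3 := (isElDivs_elDiv J x hx).2.2
  exact Prod.ext h1 (by simp only; omega)

theorem sim_of_aeval_irreducible {J : End F V} {J' : End F W} {μ : F[X]} (hm : μ.Monic)
    (hμ : Irreducible μ) (hJ : aeval J μ = 0) (hJ' : aeval J' μ = 0)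
    (hd : finrank F V = finrank F W) : Sim J J' := by
  refine sim_of_elDiv_eq ?_
  have e1 := Multiset.eq_replicate_card.2 (elDiv_of_aeval_irreducible hm hμ hJ)
  have e2 := Multiset.eq_replicate_card.2 (elDiv_of_aeval_irreducible hm hμ hJ')
  rw [finrank_eq_elDeg J, finrank_eq_elDeg J', e1, e2] at hd
  simp only [elDeg, Multiset.map_replicate, Multiset.sum_replicate, smul_eq_mul, mul_one] at hd
  rw [e1, e2, Nat.eq_of_mul_eq_mul_right hμ.natDegree_pos hd]

/-- An endomorphism without eigenvectors in dimension at most four commutes with a structure of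
vector space over an extension field. -/
theorem exists_aeval_root [Finite F] (g : End F V) (hg : ∀ (c : F) (v : V), g v = c • v → v = 0)
    {μ : F[X]} (hμ : Irreducible μ)
    (hd : (finrank F V = 3 ∧ μ.natDegree = 3) ∨
      ((finrank F V = 2 ∨ finrank F V = 4) ∧ μ.natDegree = 2)) :
    ∃ h : F[X], aeval (aeval g h) μ = 0 := by
  have hr : ∀ c, ¬ g.charpoly.IsRoot c := fun c hc => by
    obtain ⟨v, hv⟩ := ((End.hasEigenvalue_iff_isRoot_charpoly g c).2 hc).exists_hasEigenvector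
    exact hv.2 (hg c v hv.apply_eq_smul)
  obtain ⟨h, k, hk⟩ := exists_dvd_comp hμ g.charpoly g.charpoly_monic.ne_zero fun f hf hfm =>
    dvd_natDegree_of_rootless g.charpoly_monic.ne_zero hr hf hfm
      (by rwa [LinearMap.charpoly_natDegree])
  exact ⟨h, by rw [← aeval_comp, hk, map_mul, LinearMap.aeval_self_charpoly, zero_mul]⟩

end End

section SL

variable {F : Type} [Field F] [Finite F] {n : ℕ}

theorem cover2Z_SL (hn : n = 2 ∨ n = 3 ∨ n = 4) : Cover2Z (Matrix.SpecialLinearGroup (Fin n) F) := by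
  classical
  have hn2 : 2 ≤ n := by omega
  obtain ⟨μ, hm, hμ, hd⟩ := exists_monic_irreducible_natDegree F (d := if n = 3 then 3 else 2)
    (by split_ifs <;> omega)
  have hd2 : 2 ≤ μ.natDegree := by rw [hd]; split_ifs <;> omega
  let i0 : Fin n := ⟨0, by omega⟩
  let i1 : Fin n := ⟨1, by omega⟩
  have h01 : i1 ≠ i0 := by simp [i0, i1, Fin.ext_iff]
  let e : Fin n → F := Pi.single i0 1
  have he : e ≠ 0 := fun h => by simpa [e] using congrFun h i0
  let H : Subgroup (Matrix.SpecialLinearGroup (Fin n) F) :=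
    { carrier := {g | ∃ c : F, (g : Matrix (Fin n) (Fin n) F) *ᵥ e = c • e}
      one_mem' := ⟨1, by simp⟩
      mul_mem' := by
        rintro a b ⟨c, hc⟩ ⟨d, hd⟩
        exact ⟨d * c, by
          rw [Matrix.SpecialLinearGroup.coe_mul, ← mulVec_mulVec, hd, mulVec_smul, hc, smul_smul]⟩
      inv_mem' := by
        rintro a ⟨c, hc⟩
        have h1 : ((a⁻¹ : Matrix.SpecialLinearGroup (Fin n) F) : Matrix (Fin n) (Fin n) F) *ᵥ
            ((a : Matrix (Fin n) (Fin n) F) *ᵥ e) = e := by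
          rw [mulVec_mulVec, ← Matrix.SpecialLinearGroup.coe_mul, inv_mul_cancel]; simp
        rw [hc, mulVec_smul] at h1
        have hc0 : c ≠ 0 := by rintro rfl; exact he (by simpa using h1.symm)
        exact ⟨c⁻¹, by rw [eq_inv_smul_iff₀ hc0, h1]⟩ }
  have toSL : ∀ g : GL (Fin n) F, GeneralLinearGroup.det g = 1 →
      ∃ s : Matrix.SpecialLinearGroup (Fin n) F, (s : Matrix (Fin n) (Fin n) F) = g := fun g hg =>
    ⟨⟨g, by simpa using congrArg Units.val hg⟩, rfl⟩
  have hHtop : H ≠ ⊤ := fun h => by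
    obtain ⟨g, hg, hge⟩ := Class.exists_SL_mulVec_eq (ι := Fin n) (F := F) (by simpa using hn2)
      he (v' := Pi.single i1 1) (fun h => by simpa using congrFun h i1)
    obtain ⟨s, hs⟩ := toSL g hg
    obtain ⟨c, hc⟩ : s ∈ H := h ▸ Subgroup.mem_top _
    rw [hs, hge] at hc
    simpa [e, h01] using congrFun hc i1
  have hZH : Subgroup.center _ ≤ H := fun z hz => by
    obtain ⟨r, -, hr⟩ := Matrix.SpecialLinearGroup.mem_center_iff.1 hz
    exact ⟨r, by rw [← hr, scalar_apply, ← smul_one_eq_diagonal, smul_mulVec, one_mulVec]⟩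
  have hfix : ∀ (g : Matrix.SpecialLinearGroup (Fin n) F) (c : F) (v : Fin n → F), v ≠ 0 →
      (g : Matrix (Fin n) (Fin n) F) *ᵥ v = c • v → ∃ x, x * g * x⁻¹ ∈ H := by
    intro g c v hv hgv
    obtain ⟨x, hx, hxe⟩ := Class.exists_SL_mulVec_eq (ι := Fin n) (F := F) (by simpa using hn2)
      he hv
    obtain ⟨s, hs⟩ := toSL x hx
    refine ⟨s⁻¹, c, ?_⟩
    rw [inv_inv, Matrix.SpecialLinearGroup.coe_mul, Matrix.SpecialLinearGroup.coe_mul, ← mulVec_mulVec,
      ← mulVec_mulVec, hs, hxe, hgv, mulVec_smul, ← hxe, ← hs, mulVec_mulVec,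
      ← Matrix.SpecialLinearGroup.coe_mul, inv_mul_cancel]
    simp
  by_cases hJ : ∃ J : Matrix (Fin n) (Fin n) F, aeval J μ = 0
  swap
  · refine ⟨H, H, hHtop, hHtop, hZH, hZH, fun g => ?_⟩
    by_contra hcon
    obtain ⟨h, hh⟩ := exists_aeval_root (toLin' (g : Matrix (Fin n) (Fin n) F))
      (fun c v hv => by
        by_contra hv0
        obtain ⟨x, hx⟩ := hfix g c v hv0 (by simpa using hv)
        exact hcon ⟨x, Or.inl hx⟩) hμ (by
          rw [hd, Module.finrank_fin_fun]; split_ifs <;> omega)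
    refine hJ ⟨aeval (g : Matrix (Fin n) (Fin n) F) h, toLin'.injective ?_⟩
    rw [toLin'_aeval, toLin'_aeval, hh, map_zero]
  obtain ⟨J0, hJ0⟩ := hJ
  have hJ0' : aeval (toLin' J0) μ = 0 := by rw [← toLin'_aeval, hJ0, map_zero]
  let K : Subgroup (Matrix.SpecialLinearGroup (Fin n) F) :=
    { carrier := {g | Commute (g : Matrix (Fin n) (Fin n) F) J0}
      one_mem' := by simp
      mul_mem' := fun {a b} ha hb => by
        simpa using Commute.mul_left ha hb
      inv_mem' := fun {a} ha => by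
        have := Commute.units_inv_left (u := Matrix.SpecialLinearGroup.toGL a) (a := J0) ha
        rw [← map_inv] at this
        exact this }
  have hKtop : K ≠ ⊤ := fun h => by
    have hall : ∀ s : Matrix.SpecialLinearGroup (Fin n) F, Commute (s : Matrix (Fin n) (Fin n) F) J0 :=
      fun s => (h ▸ Subgroup.mem_top s : s ∈ K)
    obtain ⟨r, hr⟩ := mem_range_scalar_of_commute_transvectionStruct (M := J0) fun t =>
      hall ⟨t.toMatrix, t.det⟩
    have h1 : aeval (toLin' J0) (X - C r) e = 0 := by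
      simp [← hr, scalar_apply, ← smul_one_eq_diagonal, Module.algebraMap_end_apply]
    refine he (eq_zero_of_aeval_coprime hJ0' ?_ h1)
    refine (hμ.coprime_iff_not_dvd).2 fun hdvd => ?_
    have := natDegree_le_of_dvd hdvd (X_sub_C_ne_zero r)
    rw [natDegree_X_sub_C] at this
    omega
  have hZK : Subgroup.center _ ≤ K := fun z hz => by
    obtain ⟨r, -, hr⟩ := Matrix.SpecialLinearGroup.mem_center_iff.1 hz
    change Commute (z : Matrix (Fin n) (Fin n) F) J0
    rw [← hr]
    exact scalar_commute _ (fun _ => Commute.all _ _) _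
  refine ⟨H, K, hHtop, hKtop, hZH, hZK, fun g => ?_⟩
  by_contra hcon
  obtain ⟨h, hh⟩ := exists_aeval_root (toLin' (g : Matrix (Fin n) (Fin n) F))
    (fun c v hv => by
      by_contra hv0
      obtain ⟨x, hx⟩ := hfix g c v hv0 (by simpa using hv)
      exact hcon ⟨x, Or.inl hx⟩) hμ (by
        rw [hd, Module.finrank_fin_fun]; split_ifs <;> omega)
  rw [← toLin'_aeval] at hh
  set J := aeval (g : Matrix (Fin n) (Fin n) F) h with hJ
  have hgJ : Commute (g : Matrix (Fin n) (Fin n) F) J := by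
    rw [hJ]
    simpa using (Commute.all X h).map (aeval (g : Matrix (Fin n) (Fin n) F))
  obtain ⟨P, hP⟩ := sim_toLin'_iff.1 (sim_of_aeval_irreducible hm hμ hh hJ0' rfl)
  have hne : elDiv (toLin' J0) ≠ 0 := by
    rw [Ne, elDiv_eq_zero_iff, Module.finrank_fin_fun]; omega
  obtain ⟨x, hx⟩ := Multiset.exists_mem_of_ne_zero hne
  obtain ⟨z, hz, hzd⟩ := exists_GL_commute_det_pow J0 hx (GeneralLinearGroup.det P)⁻¹
  rw [elDiv_of_aeval_irreducible hm hμ hJ0' x hx, pow_one] at hzd
  obtain ⟨s, hs⟩ := toSL (z * P) (by simp [hzd])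
  have hsJ : (s : Matrix (Fin n) (Fin n) F) * J = J0 * s := by
    rw [hs, Units.val_mul, mul_assoc, hP.eq, ← mul_assoc, hz.eq, mul_assoc]
  have hsJ' : ((s⁻¹ : Matrix.SpecialLinearGroup (Fin n) F) : Matrix (Fin n) (Fin n) F) * J0 =
      J * (s⁻¹ : Matrix.SpecialLinearGroup (Fin n) F) := by
    have := SemiconjBy.units_inv_symm_left (a := Matrix.SpecialLinearGroup.toGL s) (x := J) (y := J0) hsJ
    rw [← map_inv] at this
    exact this
  refine hcon ⟨s, Or.inr ?_⟩
  change _ * _ = _ * _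
  rw [Matrix.SpecialLinearGroup.coe_mul, Matrix.SpecialLinearGroup.coe_mul, mul_assoc, hsJ', ← mul_assoc,
    mul_assoc _ _ J, hgJ.eq, ← mul_assoc, hsJ]
  simp only [mul_assoc]

theorem cover2_PSL (hn : n = 2 ∨ n = 3 ∨ n = 4) :
    Cover2 (ProjectiveSpecialLinearGroup (Fin n) F) := (cover2Z_SL hn).quotient

end SL

end Cfsg.Lib.Known
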