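import Cfsg.Agent.Known.Cov2Base
import Cfsg.Agent.Class.HermTransv
import Cfsg.Agent.Char.ZornOrd

/-!
# Dye's theorem: `Sp₂ₘ(q)` and `G₂(q)`, `q` even, are covered by two classes of subgroups
-/

set_option autoImplicit false

namespace Cfsg.Lib.Known

open Module Cfsg.Lib.Class Cfsg.Lib.Class.Form

section AS

variable {F : Type*} [Field F] [Finite F] [CharP F 2]

/-- The Artin–Schreier subgroup has index at most two. -/
theorem exists_sq_add_eq_add {a b : F} (ha : ∀ x, x ^ 2 + x ≠ a) (hb : ∀ x, x ^ 2 + x ≠ b) :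
    ∃ x, x ^ 2 + x = a + b := by
  classical
  let f : F →+ F :=
    { toFun := fun x => x ^ 2 + x
      map_zero' := by simp
      map_add' := fun x y => by rw [CharTwo.add_sq]; ring }
  have hk : Nat.card f.ker = 2 := by
    rw [Nat.card_eq_two_iff]
    refine ⟨⟨0, by simp [f]⟩, ⟨1, by simp [f, CharTwo.add_self_eq_zero]⟩, by simp, ?_⟩
    refine Set.eq_univ_of_forall fun ⟨x, hx⟩ => ?_
    have : x * (x + 1) = 0 := by
      have : x ^ 2 + x = 0 := hx
      linear_combination this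
    rcases mul_eq_zero.1 this with h | h
    · left; exact Subtype.ext h
    · right; exact Subtype.ext (by
        have := CharTwo.add_self_eq_zero (1 : F)
        simp only; linear_combination h - this)
  have hi : f.range.index = 2 := by rw [AddSubgroup.index_range, hk]
  have := (AddSubgroup.add_mem_iff_of_index_two hi (a := a) (b := b)).2
    (iff_of_false (fun ⟨x, hx⟩ => ha x hx) (fun ⟨x, hx⟩ => hb x hx))
  exact this

theorem exists_sq_eq_two (a : F) : ∃ x : F, x ^ 2 = a :=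
  (bijective_frobenius F 2).2 a

end AS

section Sp

variable {F V : Type*} [Field F] [AddCommGroup V] [Module F V] {B : LinearMap.BilinForm F V}

theorem exists_smul_of_mem_center [FiniteDimensional F V] (hB : B.Nondegenerate) (hA : B.IsAlt)
    {z : isomGroup (σ := RingHom.id F) B} (hz : z ∈ Subgroup.center _) :
    ∃ c : F, ∀ v, (z : V ≃ₗ[F] V) v = c • v := by
  have h := good_of_isAlt B hB hA
  obtain ⟨c, hc⟩ := LinearMap.exists_eq_smul_id_of_forall_notLinearIndependent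
    (f := ((z : V ≃ₗ[F] V) : V →ₗ[F] V)) fun v hv => by
      have hv0 : v ≠ 0 := hv.ne_zero 0
      obtain ⟨x, hx⟩ := h.exists_ne hv0
      have := congrArg (fun g : isomGroup (σ := RingHom.id F) B => (g : V ≃ₗ[F] V) x)
        (Subgroup.mem_center_iff.1 hz (h.refl v 1 (by simp [hA v])))
      simp only [isom_mul_apply, h.refl_apply, one_mul, map_add, map_smul, add_right_inj] at this
      rw [LinearIndependent.pair_iff' hv0] at hv
      refine hv ((B v x)⁻¹ * B v ((z : V ≃ₗ[F] V) x)) ?_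
      rw [mul_smul, this, smul_smul, inv_mul_cancel₀ hx, one_smul]
      rfl
  exact ⟨c, fun v => by simpa using LinearMap.congr_fun hc v⟩

/-- A quadratic form polarising to `B`. -/
structure IsQuadFor (B : LinearMap.BilinForm F V) (Q : V → F) : Prop where
  add : ∀ x y, Q (x + y) = Q x + Q y + B x y
  smul : ∀ (c : F) x, Q (c • x) = c ^ 2 * Q x

variable [CharP F 2] {Q : V → F}

theorem IsQuadFor.shift (h : IsQuadFor B Q) (a : V) : IsQuadFor B fun x => Q x + B a x ^ 2 where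
  add x y := by rw [h.add, map_add, CharTwo.add_sq]; ring
  smul c x := by rw [h.smul, map_smul, smul_eq_mul]; ring

theorem IsQuadFor.refl (h : IsQuadFor B Q) (hA : B.IsAlt) (v x : V) (l : F) :
    Q (x + (l * B v x) • v) = Q x + B v x ^ 2 * (l ^ 2 * Q v + l) := by
  rw [h.add, h.smul, map_smul, smul_eq_mul, ← hA.neg_eq v x, CharTwo.neg_eq]; ring

theorem IsQuadFor.exists_move (h : IsQuadFor B Q) (hB : B.Nondegenerate) (hA : B.IsAlt) {v : V}
    {μ : F} (hv : μ ^ 2 + μ = Q v) :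
    ∃ t : isomGroup (σ := RingHom.id F) B, ∀ x, Q ((t : V ≃ₗ[F] V) x) = Q x + B v x ^ 2 := by
  have hg := good_of_isAlt B hB hA
  obtain ⟨l, hl⟩ : ∃ l : F, l ^ 2 * Q v + l = 1 := by
    by_cases h0 : Q v = 0
    · exact ⟨1, by simp [h0]⟩
    · exact ⟨μ / Q v, by field_simp; linear_combination hv⟩
  exact ⟨hg.refl v l (by simp [hA v]), fun x => by
    rw [hg.refl_apply, h.refl hA, hl, mul_one]⟩

/-- Dye's lemma: every symplectic element fixes a quadratic form. -/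
theorem IsQuadFor.exists_fixed [Finite F] [FiniteDimensional F V] (h : IsQuadFor B Q)
    (hB : B.Nondegenerate) (hA : B.IsAlt) (g : isomGroup (σ := RingHom.id F) B) :
    ∃ a, ∀ x, Q ((g : V ≃ₗ[F] V) x) + B a ((g : V ≃ₗ[F] V) x) ^ 2 = Q x + B a x ^ 2 := by
  have hg := good_of_isAlt B hB hA
  let s : F ≃+* F := RingEquiv.ofBijective (frobenius F 2) (bijective_frobenius F 2)
  have hs : ∀ x, (s.symm x) ^ 2 = x := fun x => s.apply_symm_apply x
  have hs' : ∀ x, s.symm (x ^ 2) = x := fun x => s.symm_apply_apply x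
  let l : Dual F V :=
    { toFun := fun x => s.symm (Q ((g : V ≃ₗ[F] V) x) + Q x)
      map_add' := fun x y => by
        rw [← map_add s.symm, map_add (g : V ≃ₗ[F] V), h.add, h.add, isom_apply]
        congr 1
        linear_combination CharTwo.add_self_eq_zero (B x y)
      map_smul' := fun c x => by
        rw [map_smul, h.smul, h.smul, ← mul_add, map_mul, hs']; rfl }
  obtain ⟨ψ, hψ⟩ := exists_dual_comp_eq (((g : V ≃ₗ[F] V) : V →ₗ[F] V) - LinearMap.id) l
    fun v hv => by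
      have : (g : V ≃ₗ[F] V) v = v := by simpa [sub_eq_zero] using hv
      change s.symm _ = 0
      rw [this, CharTwo.add_self_eq_zero, map_zero]
  obtain ⟨a, ha⟩ := hg.exists_eq_dual ψ
  refine ⟨a, fun x => ?_⟩
  have h1 := congrArg (· ^ 2) (hψ x)
  rw [← ha] at h1
  change _ = (s.symm _) ^ 2 at h1
  simp only [hs, LinearMap.sub_apply, LinearEquiv.coe_coe, LinearMap.id_coe, id_eq, map_sub,
    CharTwo.sub_eq_add, CharTwo.add_sq] at h1
  linear_combination h1 + CharTwo.add_self_eq_zero (Q ((g : V ≃ₗ[F] V) x)) -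
    CharTwo.add_self_eq_zero (B a x ^ 2)

theorem IsQuadFor.stab_ne_top [Finite F] (h : IsQuadFor B Q) (hB : B.Nondegenerate) (hA : B.IsAlt)
    {e f : V} (hef : LinearIndependent F ![e, f]) (h0 : B e f = 0) :
    (QIsom (F := F) Q).subgroupOf (isomGroup (σ := RingHom.id F) B) ≠ ⊤ := fun htop => by
  have hg := good_of_isAlt B hB hA
  obtain ⟨v, hv0, hv⟩ : ∃ v, v ≠ 0 ∧ Q v = 0 := by
    by_cases he : Q e = 0
    · exact ⟨e, hef.ne_zero 0, he⟩
    · obtain ⟨s, hs⟩ := exists_sq_eq_two (Q f / Q e)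
      refine ⟨s • e + f, fun h' => ?_, ?_⟩
      · have := (LinearIndependent.pair_iff.1 hef s 1 (by simpa using h')).2
        exact one_ne_zero this
      · rw [h.add, h.smul, map_smul, LinearMap.smul_apply, h0, hs, smul_zero, add_zero,
          div_mul_cancel₀ _ he, CharTwo.add_self_eq_zero]
  obtain ⟨t, ht⟩ := h.exists_move hB hA (v := v) (μ := 0) (by simp [hv])
  obtain ⟨x, hx⟩ := hg.exists_ne hv0
  have h1 : t ∈ (QIsom (F := F) Q).subgroupOf (isomGroup (σ := RingHom.id F) B) :=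
    htop ▸ Subgroup.mem_top _
  have h2 := mem_QIsom.1 (Subgroup.mem_subgroupOf.1 h1) x
  rw [ht] at h2
  exact pow_ne_zero 2 hx (by simpa using h2)

omit [CharP F 2] in
theorem IsQuadFor.center_le [FiniteDimensional F V] (h : IsQuadFor B Q) (hB : B.Nondegenerate)
    (hA : B.IsAlt) :
    Subgroup.center _ ≤ (QIsom (F := F) Q).subgroupOf (isomGroup (σ := RingHom.id F) B) := by
  intro z hz
  obtain ⟨c, hc⟩ := exists_smul_of_mem_center hB hA hz
  refine Subgroup.mem_subgroupOf.2 (mem_QIsom.2 fun v => ?_)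
  by_cases hv : v = 0
  · simp [hv]
  obtain ⟨x, hx⟩ := (good_of_isAlt B hB hA).exists_ne hv
  have := isom_apply z v x
  rw [hc, hc, map_smul, map_smul, LinearMap.smul_apply, smul_eq_mul, smul_eq_mul] at this
  have hc2 : c ^ 2 = 1 := mul_right_cancel₀ hx (by linear_combination this)
  rw [hc, h.smul, hc2, one_mul]

omit [CharP F 2] in
theorem conj_mem_QIsom {Q' : V → F} {t g : isomGroup (σ := RingHom.id F) B}
    (ht : ∀ x, Q ((t : V ≃ₗ[F] V) x) = Q' x) (hg : ∀ x, Q' ((g : V ≃ₗ[F] V) x) = Q' x) :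
    t * g * t⁻¹ ∈ (QIsom (F := F) Q).subgroupOf (isomGroup (σ := RingHom.id F) B) :=
  Subgroup.mem_subgroupOf.2 (mem_QIsom.2 fun v => by
    rw [isom_mul_apply, isom_mul_apply, ht, hg, ← ht, isom_apply_inv])

theorem IsQuadFor.cover2Z [Finite F] [FiniteDimensional F V] (h : IsQuadFor B Q)
    (hB : B.Nondegenerate) (hA : B.IsAlt) {e f : V} (hef : LinearIndependent F ![e, f])
    (h0 : B e f = 0) : Cover2Z (isomGroup (σ := RingHom.id F) B) := by
  by_cases hall : ∀ a, ∃ μ : F, μ ^ 2 + μ = Q a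
  · refine ⟨_, _, h.stab_ne_top hB hA hef h0, h.stab_ne_top hB hA hef h0, h.center_le hB hA,
      h.center_le hB hA, fun g => ?_⟩
    obtain ⟨a, ha⟩ := h.exists_fixed hB hA g
    obtain ⟨μ, hμ⟩ := hall a
    obtain ⟨t, ht⟩ := h.exists_move hB hA hμ
    exact ⟨t, Or.inl (conj_mem_QIsom ht ha)⟩
  push Not at hall
  obtain ⟨b, hb⟩ := hall
  refine ⟨_, _, h.stab_ne_top hB hA hef h0, (h.shift b).stab_ne_top hB hA hef h0,
    h.center_le hB hA, (h.shift b).center_le hB hA, fun g => ?_⟩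
  obtain ⟨a, ha⟩ := h.exists_fixed hB hA g
  by_cases hμ : ∃ μ : F, μ ^ 2 + μ = Q a
  · obtain ⟨μ, hμ⟩ := hμ
    obtain ⟨t, ht⟩ := h.exists_move hB hA hμ
    exact ⟨t, Or.inl (conj_mem_QIsom ht ha)⟩
  push Not at hμ
  obtain ⟨μ, hμ'⟩ := exists_sq_add_eq_add hμ hb
  obtain ⟨t, ht⟩ := (h.shift b).exists_move hB hA (v := a + b) (μ := μ + B a b) (by
    rw [h.add, map_add, hA b, add_zero, CharTwo.add_sq, ← hA.neg_eq a b, CharTwo.neg_eq]
    linear_combination hμ')
  refine ⟨t, Or.inr (conj_mem_QIsom (Q' := fun x => Q x + B a x ^ 2) (fun x => ?_) ha)⟩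
  rw [ht, map_add, LinearMap.add_apply, CharTwo.add_sq]
  linear_combination CharTwo.add_self_eq_zero (B b x ^ 2)

end Sp

theorem charP_two_of_not_odd {F : Type*} [Field F] [Fintype F] (h : ¬ Odd (Fintype.card F)) :
    CharP F 2 := by
  have : (2 : F) = 0 := by
    by_contra h2
    exact h (odd_card_of_two_ne_zero h2)
  exact (CharP.charP_iff_prime_eq_zero Nat.prime_two).2 (by simpa using this)

theorem cover2_PSp_even {F : Type} [Field F] [Fintype F] {m : ℕ} (hm : 2 ≤ m)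
    (hF : ¬ Odd (Fintype.card F)) : Cover2 (PSp m F) := by
  classical
  have := charP_two_of_not_odd hF
  let i0 : Fin m := ⟨0, by omega⟩
  let i1 : Fin m := ⟨1, by omega⟩
  have h01 : i1 ≠ i0 := by simp [i0, i1, Fin.ext_iff]
  have hQ : IsQuadFor (sympBilin m F) fun v => ∑ i, v (Sum.inl i) * v (Sum.inr i) :=
    { add := fun x y => by
        rw [sympBilin_apply, sympForm_eq, ← Finset.sum_add_distrib, ← Finset.sum_add_distrib]
        refine Finset.sum_congr rfl fun i _ => ?_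
        rw [CharTwo.sub_eq_add]
        simp only [Pi.add_apply]; ring
      smul := fun c x => by
        rw [Finset.mul_sum]
        refine Finset.sum_congr rfl fun i _ => ?_
        simp only [Pi.smul_apply, smul_eq_mul]; ring }
  have h := hQ.cover2Z (sympBilin_nondegenerate m) (sympBilin_isAlt m)
    (e := Pi.single (Sum.inl i0) 1) (f := Pi.single (Sum.inl i1) 1)
    (LinearIndependent.pair_iff.2 fun s t hst => by
      have a0 := congrFun hst (Sum.inl i0)
      have a1 := congrFun hst (Sum.inl i1)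
      simp [h01, h01.symm] at a0 a1
      exact ⟨a0, a1⟩)
    (by rw [sympBilin_apply, sympForm_single_inl]; simp)
  exact (Cover2Z.of_mulEquiv ((spEquivIsom m F).trans
    (MulEquiv.subgroupCongr (Isom_sympBilin m).symm)) h).quotient

section G2

open Cfsg.Lie Cfsg.Lib.Char.Zorn

variable {F : Type*} [Field F]

/-- The norm of the Zorn algebra. -/
def zNrm (x : Fin 8 → F) : F := x 0 * x 7 - (x 1 * x 4 + x 2 * x 5 + x 3 * x 6)

/-- The polar form of the norm of the Zorn algebra. -/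
def zBil (F : Type*) [Field F] : LinearMap.BilinForm F (Fin 8 → F) :=
  LinearMap.mk₂ F (fun x y => x 0 * y 7 + x 7 * y 0 -
    (x 1 * y 4 + x 4 * y 1 + x 2 * y 5 + x 5 * y 2 + x 3 * y 6 + x 6 * y 3))
    (fun _ _ _ => by simp only [Pi.add_apply]; ring)
    (fun _ _ _ => by simp only [Pi.smul_apply, smul_eq_mul]; ring)
    (fun _ _ _ => by simp only [Pi.add_apply]; ring)
    (fun _ _ _ => by simp only [Pi.smul_apply, smul_eq_mul]; ring)

theorem zBil_apply (x y : Fin 8 → F) : zBil F x y = x 0 * y 7 + x 7 * y 0 -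
    (x 1 * y 4 + x 4 * y 1 + x 2 * y 5 + x 5 * y 2 + x 3 * y 6 + x 6 * y 3) := rfl

theorem zNrm_add (x y : Fin 8 → F) : zNrm (x + y) = zNrm x + zNrm y + zBil F x y := by
  simp only [zNrm, zBil_apply, Pi.add_apply]; ring

theorem zBil_sep (x : Fin 8 → F) (h : ∀ y, zBil F x y = 0) : x = 0 := by
  have h0 := h (Pi.single 7 1)
  have h1 := h (Pi.single 4 1)
  have h2 := h (Pi.single 5 1)
  have h3 := h (Pi.single 6 1)
  have h4 := h (Pi.single 1 1)
  have h5 := h (Pi.single 2 1)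
  have h6 := h (Pi.single 3 1)
  have h7 := h (Pi.single 0 1)
  simp [zBil_apply] at h0 h1 h2 h3 h4 h5 h6 h7
  exact vec_ext h0 h1 h2 h3 h4 h5 h6 h7

theorem zorn_sq (x : Fin 8 → F) : zornMul x x = (x 0 + x 7) • x - zNrm x • uno F := by
  apply vec_ext <;> simp [zm_eq, zNrm, uno] <;> ring

theorem map_tr_nrm {g : (Fin 8 → F) ≃ₗ[F] (Fin 8 → F)} (hg : g ∈ AutZ F) (x : Fin 8 → F) :
    g x 0 + g x 7 = x 0 + x 7 ∧ zNrm (g x) = zNrm x := by
  have h := mem_AutZ.1 hg x x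
  rw [zorn_sq, zorn_sq, map_sub, map_smul, map_smul, map_uno hg] at h
  have h1 : (x 0 + x 7 - (g x 0 + g x 7)) • g x = (zNrm x - zNrm (g x)) • uno F := by
    rw [sub_smul, sub_smul]; linear_combination (exp := 1) h
  by_cases h0 : x 0 + x 7 - (g x 0 + g x 7) = 0
  · rw [h0, zero_smul] at h1
    have := congrFun h1 0
    simp [uno] at this
    exact ⟨by linear_combination -h0, by linear_combination this⟩
  · have h2 : g x = ((x 0 + x 7 - (g x 0 + g x 7))⁻¹ * (zNrm x - zNrm (g x))) • uno F := by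
      rw [mul_smul, ← h1, smul_smul, inv_mul_cancel₀ h0, one_smul]
    have h3 : g x = x := by
      apply g.injective
      conv_lhs => rw [h2, map_smul, map_uno hg, ← h2]
    rw [h3]; exact ⟨rfl, rfl⟩

theorem map_zBil {g : (Fin 8 → F) ≃ₗ[F] (Fin 8 → F)} (hg : g ∈ AutZ F) (x y : Fin 8 → F) :
    zBil F (g x) (g y) = zBil F x y := by
  have h := (map_tr_nrm hg (x + y)).2
  rw [map_add, zNrm_add, zNrm_add, (map_tr_nrm hg x).2, (map_tr_nrm hg y).2] at h
  linear_combination h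

/-- The stabiliser of the quadratic subalgebra generated by `w`. -/
def zSt (w : Fin 8 → F) : Subgroup (AutZ F) where
  carrier := {g | ∃ d : F, (g : (Fin 8 → F) ≃ₗ[F] (Fin 8 → F)) w = w + d • uno F}
  one_mem' := ⟨0, by simp⟩
  mul_mem' := by
    rintro a b ⟨c, hc⟩ ⟨d, hd⟩
    refine ⟨c + d, ?_⟩
    change (a : (Fin 8 → F) ≃ₗ[F] (Fin 8 → F)) ((b : (Fin 8 → F) ≃ₗ[F] (Fin 8 → F)) w) = _
    rw [hd, map_add, map_smul, map_uno a.2, hc, add_smul, add_assoc]
  inv_mem' := by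
    rintro a ⟨c, hc⟩
    refine ⟨-c, ?_⟩
    change (a : (Fin 8 → F) ≃ₗ[F] (Fin 8 → F)).symm w = _
    rw [LinearEquiv.symm_apply_eq, map_add, map_smul, map_uno a.2, hc, neg_smul,
      add_neg_cancel_right]

theorem conj_mem_zSt {w w' : Fin 8 → F} {x g : AutZ F} {d : F}
    (hx : (x : (Fin 8 → F) ≃ₗ[F] (Fin 8 → F)) w = w' + d • uno F) (hg : g ∈ zSt w') :
    x⁻¹ * g * x⁻¹⁻¹ ∈ zSt w := by
  obtain ⟨c, hc⟩ := hg
  refine ⟨c, ?_⟩
  rw [inv_inv]
  change (x : (Fin 8 → F) ≃ₗ[F] (Fin 8 → F)).symm ((g : (Fin 8 → F) ≃ₗ[F] (Fin 8 → F))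
    ((x : (Fin 8 → F) ≃ₗ[F] (Fin 8 → F)) w)) = _
  rw [LinearEquiv.symm_apply_eq, map_add, map_smul, map_uno x.2, hx, map_add, map_smul,
    map_uno g.2, hc, add_right_comm]

theorem exists_mem_zSt [CharP F 2] (g : AutZ F) : ∃ w, w 0 + w 7 = 1 ∧ g ∈ zSt w := by
  by_contra hcon
  push Not at hcon
  have hg : Good (σ := RingHom.id F) (zBil F) (-1) := good_of_isAlt _
    ⟨zBil_sep, fun y h => zBil_sep y fun x => by
      rw [← h x, zBil_apply, zBil_apply]; ring⟩ (fun x => by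
      rw [zBil_apply]
      linear_combination CharTwo.add_self_eq_zero
        (x 0 * x 7 - (x 1 * x 4 + x 2 * x 5 + x 3 * x 6)))
  set G := (g : (Fin 8 → F) ≃ₗ[F] (Fin 8 → F)) with hG
  obtain ⟨ψ, hψ⟩ := exists_dual_comp_eq ((Submodule.span F {uno F}).mkQ ∘ₗ
    ((G : (Fin 8 → F) →ₗ[F] (Fin 8 → F)) - LinearMap.id)) (zBil F (uno F)) fun v hv => by
      by_contra h0
      have ht : zBil F (uno F) v = v 0 + v 7 := by simp [zBil_apply, uno]; ring
      rw [ht] at h0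
      simp only [LinearMap.comp_apply, Submodule.mkQ_apply, Submodule.Quotient.mk_eq_zero,
        Submodule.mem_span_singleton, LinearMap.sub_apply, LinearEquiv.coe_coe,
        LinearMap.id_apply] at hv
      obtain ⟨d, hd⟩ := hv
      refine hcon ((v 0 + v 7)⁻¹ • v) (by
        simp only [Pi.smul_apply, smul_eq_mul]; field_simp) ⟨(v 0 + v 7)⁻¹ * d, ?_⟩
      rw [map_smul, mul_smul, hd, ← smul_add]; simp [hG]
  obtain ⟨x, hx⟩ := hg.exists_eq_dual (ψ ∘ₗ (Submodule.span F {uno F}).mkQ)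
  have h1 : zBil F x (uno F) = 0 := by
    rw [hx]
    simp only [LinearMap.comp_apply, Submodule.mkQ_apply]
    rw [(Submodule.Quotient.mk_eq_zero _).2 (Submodule.mem_span_singleton_self _), map_zero]
  have h2 : G.symm x = x + uno F := by
    rw [← sub_eq_zero]
    refine zBil_sep _ fun y => ?_
    have e1 := hx (G y - y)
    have e2 := hψ y
    have e3 := map_zBil g.2 (G.symm x) y
    simp only [LinearMap.comp_apply, LinearMap.sub_apply, LinearEquiv.coe_coe,
      LinearMap.id_apply] at e1 e2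
    rw [← hG, G.apply_symm_apply] at e3
    rw [e2, map_sub] at e1
    simp only [map_sub, map_add, LinearMap.sub_apply, LinearMap.add_apply]
    linear_combination e1 - e3
  have h3 := (map_tr_nrm g.2 (G.symm x)).2
  rw [← hG, G.apply_symm_apply, h2, zNrm_add, h1] at h3
  simp [zNrm, uno] at h3

/-- The automorphisms of the Zorn algebra coming from `SL₃`. -/
def sFun (p q r : Fin 3 → F) : (Fin 8 → F) →ₗ[F] (Fin 8 → F) where
  toFun x := ![x 0, x 1 * p 0 + x 2 * q 0 + x 3 * r 0, x 1 * p 1 + x 2 * q 1 + x 3 * r 1,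
    x 1 * p 2 + x 2 * q 2 + x 3 * r 2,
    x 4 * (q 1 * r 2 - q 2 * r 1) + x 5 * (r 1 * p 2 - r 2 * p 1) + x 6 * (p 1 * q 2 - p 2 * q 1),
    x 4 * (q 2 * r 0 - q 0 * r 2) + x 5 * (r 2 * p 0 - r 0 * p 2) + x 6 * (p 2 * q 0 - p 0 * q 2),
    x 4 * (q 0 * r 1 - q 1 * r 0) + x 5 * (r 0 * p 1 - r 1 * p 0) + x 6 * (p 0 * q 1 - p 1 * q 0),
    x 7]
  map_add' x y := by apply vec_ext <;> simp <;> ring
  map_smul' c x := by apply vec_ext <;> simp <;> ring

theorem sFun_apply (p q r : Fin 3 → F) (x : Fin 8 → F) : sFun p q r x =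
    ![x 0, x 1 * p 0 + x 2 * q 0 + x 3 * r 0, x 1 * p 1 + x 2 * q 1 + x 3 * r 1,
    x 1 * p 2 + x 2 * q 2 + x 3 * r 2,
    x 4 * (q 1 * r 2 - q 2 * r 1) + x 5 * (r 1 * p 2 - r 2 * p 1) + x 6 * (p 1 * q 2 - p 2 * q 1),
    x 4 * (q 2 * r 0 - q 0 * r 2) + x 5 * (r 2 * p 0 - r 0 * p 2) + x 6 * (p 2 * q 0 - p 0 * q 2),
    x 4 * (q 0 * r 1 - q 1 * r 0) + x 5 * (r 0 * p 1 - r 1 * p 0) + x 6 * (p 0 * q 1 - p 1 * q 0),
    x 7] := rfl

theorem exists_sFun_mem {p q r : Fin 3 → F} (h : p 0 * (q 1 * r 2 - q 2 * r 1) +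
    p 1 * (q 2 * r 0 - q 0 * r 2) + p 2 * (q 0 * r 1 - q 1 * r 0) = 1) :
    ∃ g : AutZ F, ∀ x, (g : (Fin 8 → F) ≃ₗ[F] (Fin 8 → F)) x = sFun p q r x := by
  have hinj : Function.Injective (sFun p q r) := by
    refine (injective_iff_map_eq_zero _).2 fun x hx => ?_
    have k0 := congrFun hx 0
    have k1 := congrFun hx 1
    have k2 := congrFun hx 2
    have k3 := congrFun hx 3
    have k4 := congrFun hx 4
    have k5 := congrFun hx 5
    have k6 := congrFun hx 6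
    have k7 := congrFun hx 7
    simp [sFun_apply] at k0 k1 k2 k3 k4 k5 k6 k7
    refine vec_ext k0 ?_ ?_ ?_ ?_ ?_ ?_ k7 <;> simp only [Pi.zero_apply]
    · linear_combination (q 1 * r 2 - q 2 * r 1) * k1 + (q 2 * r 0 - q 0 * r 2) * k2 +
        (q 0 * r 1 - q 1 * r 0) * k3 - x 1 * h
    · linear_combination (r 1 * p 2 - r 2 * p 1) * k1 + (r 2 * p 0 - r 0 * p 2) * k2 +
        (r 0 * p 1 - r 1 * p 0) * k3 - x 2 * h
    · linear_combination (p 1 * q 2 - p 2 * q 1) * k1 + (p 2 * q 0 - p 0 * q 2) * k2 +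
        (p 0 * q 1 - p 1 * q 0) * k3 - x 3 * h
    · linear_combination p 0 * k4 + p 1 * k5 + p 2 * k6 - x 4 * h
    · linear_combination q 0 * k4 + q 1 * k5 + q 2 * k6 - x 5 * h
    · linear_combination r 0 * k4 + r 1 * k5 + r 2 * k6 - x 6 * h
  refine ⟨⟨LinearEquiv.ofInjectiveEndo _ hinj, mem_AutZ.2 fun x y => ?_⟩, fun _ => rfl⟩
  change sFun p q r _ = zornMul (sFun p q r x) (sFun p q r y)
  apply vec_ext <;> simp [sFun_apply, zm_eq]
  · linear_combination (-(x 1 * y 4 + x 2 * y 5 + x 3 * y 6)) * h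
  · linear_combination ((x 5 * y 6 - x 6 * y 5) * p 0 + (x 6 * y 4 - x 4 * y 6) * q 0 +
      (x 4 * y 5 - x 5 * y 4) * r 0) * h
  · linear_combination ((x 5 * y 6 - x 6 * y 5) * p 1 + (x 6 * y 4 - x 4 * y 6) * q 1 +
      (x 4 * y 5 - x 5 * y 4) * r 1) * h
  · linear_combination ((x 5 * y 6 - x 6 * y 5) * p 2 + (x 6 * y 4 - x 4 * y 6) * q 2 +
      (x 4 * y 5 - x 5 * y 4) * r 2) * h
  · ring
  · ring
  · ring
  · linear_combination (-(x 4 * y 1 + x 5 * y 2 + x 6 * y 3)) * h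

theorem exists_cross_eq {b0 b1 b2 : F} (hb : b0 ≠ 0 ∨ b1 ≠ 0 ∨ b2 ≠ 0) :
    ∃ q r : Fin 3 → F, q 1 * r 2 - q 2 * r 1 = b0 ∧ q 2 * r 0 - q 0 * r 2 = b1 ∧
      q 0 * r 1 - q 1 * r 0 = b2 := by
  rcases hb with h | h | h
  · refine ⟨![-b1, b0, 0], ![-b2 / b0, 0, 1], ?_, ?_, ?_⟩ <;> simp
    field_simp
  · refine ⟨![0, -b2, b1], ![1, -b0 / b1, 0], ?_, ?_, ?_⟩ <;> simp
    field_simp
  · refine ⟨![b2, 0, -b0], ![0, 1, -b1 / b2], ?_, ?_, ?_⟩ <;> simp
    field_simp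

theorem exists_map_nonsplit {c : F} (hc : ∀ x : F, x * (1 - x) ≠ c) {w : Fin 8 → F}
    (h1 : w 0 + w 7 = 1) (h2 : zNrm w = c) :
    ∃ g : AutZ F, (g : (Fin 8 → F) ≃ₗ[F] (Fin 8 → F)) ![0, -c, 0, 0, 1, 0, 0, 1] = w := by
  have hc0 : c ≠ 0 := fun h => hc 0 (by simp [h])
  have key : ∀ w : Fin 8 → F, w 0 = 0 → w 7 = 1 → zNrm w = c →
      ∃ g : AutZ F, (g : (Fin 8 → F) ≃ₗ[F] (Fin 8 → F)) ![0, -c, 0, 0, 1, 0, 0, 1] = w := by
    intro w h0 h7 hn
    rw [zNrm, h0] at hn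
    obtain ⟨q, r, e0, e1, e2⟩ := exists_cross_eq (b0 := w 4) (b1 := w 5) (b2 := w 6) (by
      by_contra h
      push Not at h
      rw [h.1, h.2.1, h.2.2] at hn
      exact hc0 (by linear_combination -hn))
    obtain ⟨g, hg⟩ := exists_sFun_mem (p := ![-w 1 / c, -w 2 / c, -w 3 / c]) (q := q) (r := r) (by
      rw [e0, e1, e2]; simp; field_simp; linear_combination hn)
    refine ⟨g, ?_⟩
    rw [hg]
    apply vec_ext <;> simp [sFun_apply, h0, h7, e0, e1, e2] <;> field_simp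
  obtain ⟨u, hu⟩ : ∃ u : Fin 3 → F, w 0 + (u 0 * w 4 + u 1 * w 5 + u 2 * w 6) = 0 := by
    by_cases h4 : w 4 = 0
    · by_cases h5 : w 5 = 0
      · by_cases h6 : w 6 = 0
        · refine (hc (w 0) ?_).elim
          rw [← h2, zNrm, h4, h5, h6, ← h1]; ring
        · exact ⟨![0, 0, -w 0 / w 6], by simp; field_simp; ring⟩
      · exact ⟨![0, -w 0 / w 5, 0], by simp; field_simp; ring⟩
    · exact ⟨![-w 0 / w 4, 0, 0], by simp; field_simp; ring⟩
  have h0 : eLin u w 0 = 0 := hu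
  obtain ⟨g, hg⟩ := key (eLin u w) h0 (by
    have := (map_tr_nrm (eLin_mem u) w).1
    rw [h0, h1] at this; simpa using this) ((map_tr_nrm (eLin_mem u) w).2.trans h2)
  refine ⟨(⟨eLin u, eLin_mem u⟩ : AutZ F)⁻¹ * g, ?_⟩
  change (eLin u).symm ((g : (Fin 8 → F) ≃ₗ[F] (Fin 8 → F)) _) = w
  rw [hg, LinearEquiv.symm_apply_apply]

theorem cover2_AutZ [Finite F] [CharP F 2] : Cover2 (AutZ F) := by
  have hH : zSt (e1 F) ≠ ⊤ := fun h => by
    obtain ⟨d, hd⟩ : (⟨eLin ![1, 0, 0], eLin_mem _⟩ : AutZ F) ∈ zSt (e1 F) :=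
      h ▸ Subgroup.mem_top _
    have := congrFun hd 1
    change eFun _ _ 1 = _ at this
    simp [eFun, e1, uno] at this
  have hn : ∀ (w : Fin 8 → F) (d : F), w 0 + w 7 = 1 →
      (w + d • uno F) 0 + (w + d • uno F) 7 = 1 ∧ zNrm (w + d • uno F) = zNrm w + (d ^ 2 + d) :=
    fun w d hw => by
      simp only [zNrm, uno, Pi.add_apply, Pi.smul_apply, smul_eq_mul]
      simp
      exact ⟨by linear_combination hw + CharTwo.add_self_eq_zero d,
        by linear_combination d * hw⟩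
  have hsplit : ∀ (g : AutZ F) (w : Fin 8 → F) (d : F), w 0 + w 7 = 1 → g ∈ zSt w →
      d ^ 2 + d = zNrm w → ∃ x, x * g * x⁻¹ ∈ zSt (e1 F) := fun g w d hw hg hd => by
    obtain ⟨x, hx, hxe⟩ := (mem_idem_iff (w + d • uno F)).1 ⟨(hn w d hw).1, by
      have := (hn w d hw).2
      rw [hd, CharTwo.add_self_eq_zero, zNrm] at this
      linear_combination this⟩
    exact ⟨_, conj_mem_zSt (x := ⟨x, hx⟩) hxe hg⟩
  by_cases hall : ∀ c : F, ∃ d, d ^ 2 + d = c
  · refine ⟨_, _, hH, hH, fun g => ?_⟩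
    obtain ⟨w, hw, hg⟩ := exists_mem_zSt g
    obtain ⟨d, hd⟩ := hall (zNrm w)
    obtain ⟨x, hx⟩ := hsplit g w d hw hg hd
    exact ⟨x, Or.inl hx⟩
  push Not at hall
  obtain ⟨c, hc⟩ := hall
  have hK : zSt ![0, -c, 0, 0, 1, 0, 0, 1] ≠ ⊤ := fun h => by
    obtain ⟨d, hd⟩ : (⟨eLin ![0, 1, 0], eLin_mem _⟩ : AutZ F) ∈ zSt ![0, -c, 0, 0, 1, 0, 0, 1] :=
      h ▸ Subgroup.mem_top _
    have := congrFun hd 2
    change eFun _ _ 2 = _ at this
    simp [eFun, uno] at this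
  refine ⟨_, _, hH, hK, fun g => ?_⟩
  obtain ⟨w, hw, hg⟩ := exists_mem_zSt g
  by_cases hd : ∃ d, d ^ 2 + d = zNrm w
  · obtain ⟨d, hd⟩ := hd
    obtain ⟨x, hx⟩ := hsplit g w d hw hg hd
    exact ⟨x, Or.inl hx⟩
  push Not at hd
  obtain ⟨d, hd'⟩ := exists_sq_add_eq_add hd hc
  obtain ⟨x, hx⟩ := exists_map_nonsplit (c := c) (fun y hy => hc y (by
    rw [← hy, CharTwo.sub_eq_add]; ring)) (hn w d hw).1 (by
      rw [(hn w d hw).2, hd', ← add_assoc, CharTwo.add_self_eq_zero, zero_add])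
  exact ⟨_, Or.inr (conj_mem_zSt hx hg)⟩

theorem cover2_G2 [Finite F] [CharP F 2] : Cover2 (G2 F) :=
  Cover2.of_mulEquiv (g2Equiv F) cover2_AutZ

end G2

end Cfsg.Lib.Known
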