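import Mathlib
import Cfsg.Agent.Class.SpCore
import Cfsg.Agent.Class.AltBasis
import Cfsg.Agent.Class.StdForms

/-!
# Lower bounds for representations in cross characteristic

An elementary abelian `p`-group `A` mapped into `G` and acting non-trivially in a representation
over an algebraically closed field of characteristic `≠ p` has a common eigenvector with a
non-trivial character `χ`; the conjugates of `χ` under `G` give linearly independent eigenvectors.
Applied to the root groups of `Sp₂(qⁿ) ≤ Sp₂ₙ(q)` and to transvection groups of `SLₙ(q)`.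
-/

namespace Cfsg.Lib.Known
open Module Cfsg.Lib.Class
open scoped MatrixGroups

section Core
variable {K W : Type*} [Field K] [AddCommGroup W] [Module K W] [FiniteDimensional K W]

theorem cc_exists_common_eigenvector [IsAlgClosed K] {A : Type*} (T : A → Module.End K W)
    (hT : ∀ x y, Commute (T x) (T y)) (n : ℕ) : ∀ U : Submodule K W, finrank K U = n → U ≠ ⊥ →
      (∀ x, ∀ v ∈ U, T x v ∈ U) → ∃ v ∈ U, v ≠ 0 ∧ ∀ x, ∃ c : K, T x v = c • v := by
  induction n using Nat.strong_induction_on with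
  | _ n ih =>
  intro U hn hU hinv
  by_cases h : ∀ x, ∃ c : K, ∀ v ∈ U, T x v = c • v
  · obtain ⟨v, hv, hv0⟩ := (Submodule.ne_bot_iff U).1 hU
    exact ⟨v, hv, hv0, fun x => (h x).imp fun c hc => hc v hv⟩
  push Not at h
  obtain ⟨x, hx⟩ := h
  have : Nontrivial U := Submodule.nontrivial_iff_ne_bot.2 hU
  obtain ⟨μ, hμ⟩ := Module.End.exists_eigenvalue ((T x).restrict (hinv x))
  obtain ⟨u, hu⟩ := hμ.exists_hasEigenvector
  have hu1 : T x u = μ • (u : W) := by
    have := congrArg Subtype.val hu.apply_eq_smul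
    simpa using this
  let U' := U ⊓ (T x).eigenspace μ
  have hlt : U' < U := by
    refine lt_of_le_of_ne inf_le_left fun e => ?_
    obtain ⟨v, hv, hv'⟩ := hx μ
    rw [← e] at hv
    exact hv' (Module.End.mem_eigenspace_iff.1 hv.2)
  obtain ⟨v, hv, hv0, hv1⟩ := ih (finrank K U') (hn ▸ Submodule.finrank_lt_finrank_of_lt hlt) U' rfl
    ((Submodule.ne_bot_iff _).2 ⟨u, ⟨u.2, Module.End.mem_eigenspace_iff.2 hu1⟩,
      fun e => hu.2 (Subtype.ext e)⟩) (fun y v hv => ⟨hinv y v hv.1, by
        have h1 := Module.End.mem_eigenspace_iff.1 hv.2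
        refine Module.End.mem_eigenspace_iff.2 ?_
        rw [← Module.End.mul_apply, (hT x y).eq, Module.End.mul_apply, h1, map_smul]⟩)
  exact ⟨v, hv.1, hv0, hv1⟩

theorem cc_exists_addChar_eigenvector [IsAlgClosed K] {A : Type*} [AddCommGroup A]
    (T : A → Module.End K W) (h0 : T 0 = 1) (hadd : ∀ x y, T (x + y) = T x * T y) {p : ℕ}
    (hp : (p : K) ≠ 0) (hA : ∀ x : A, p • x = 0) (hne : ∃ x, T x ≠ 1) :
    ∃ χ : AddChar A K, χ ≠ 1 ∧ ∃ v : W, v ≠ 0 ∧ ∀ x, T x v = χ x • v := by
  obtain ⟨x0, hx0⟩ := hne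
  have hT : ∀ x y, Commute (T x) (T y) := fun x y => by
    rw [Commute, SemiconjBy, ← hadd, ← hadd, add_comm]
  have hpow : ∀ (k : ℕ) x, T (k • x) = T x ^ k := fun k x => by
    induction k with
    | zero => simpa using h0
    | succ k ih => rw [succ_nsmul, hadd, ih, pow_succ]
  have hS : T x0 ^ p = 1 := by rw [← hpow, hA, h0]
  obtain ⟨v, ⟨w, hw⟩, hv0, hv⟩ := cc_exists_common_eigenvector T hT _
    (LinearMap.range (T x0 - 1)) rfl
    (fun e => hx0 (sub_eq_zero.1 (LinearMap.range_eq_bot.1 e))) (by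
      rintro y _ ⟨w, rfl⟩
      refine ⟨T y w, ?_⟩
      rw [← Module.End.mul_apply, ← Module.End.mul_apply,
        (((hT x0 y).sub_left (Commute.one_left _))).eq])
  choose c hc using hv
  have huniq : ∀ a b : K, a • v = b • v → a = b := fun a b e => smul_left_injective K hv0 e
  let χ : AddChar A K :=
    { toFun := c
      map_zero_eq_one' := huniq _ _ (by rw [← hc, h0, one_smul]; rfl)
      map_add_eq_mul' := fun x y => huniq _ _ (by
        rw [← hc, hadd, Module.End.mul_apply, hc y, map_smul, hc x, smul_smul, mul_comm]) }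
  refine ⟨χ, fun e => ?_, v, hv0, hc⟩
  have h1 : c x0 = 1 := DFunLike.congr_fun e x0
  have h2 : T x0 v = v := by rw [hc, h1, one_smul]
  have h3 : ∀ i : ℕ, (T x0 ^ i) v = v := fun i => by
    induction i with
    | zero => rfl
    | succ i ih => rw [pow_succ, Module.End.mul_apply, h2, ih]
  have h4 := geom_sum_mul (T x0) p
  rw [hS, sub_self] at h4
  have h5 := LinearMap.congr_fun h4 w
  rw [Module.End.mul_apply, hw, LinearMap.sum_apply] at h5
  simp only [h3, Finset.sum_const, Finset.card_range, LinearMap.zero_apply] at h5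
  rw [← Nat.cast_smul_eq_nsmul K] at h5
  exact hv0 ((smul_eq_zero.1 h5).resolve_left hp)

omit [FiniteDimensional K W] in
theorem cc_addChar_linearIndependent {A : Type*} [AddCommGroup A] {ι : Type*}
    (χ : ι → AddChar A K) (hχ : Function.Injective χ) :
    LinearIndependent K (fun i => (χ i : A → K)) :=
  (linearIndependent_monoidHom (Multiplicative A) K).comp (fun i => (χ i).toMonoidHom)
    (fun _ _ e => hχ (AddChar.toMonoidHomEquiv.injective e))

theorem cc_card_le_finrank {A : Type*} [AddCommGroup A] (T : A → Module.End K W) {ι : Type*}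
    [Fintype ι] (χ : ι → AddChar A K) (hχ : Function.Injective χ) (v : ι → W)
    (hv : ∀ i, v i ≠ 0) (h : ∀ i x, T x (v i) = χ i x • v i) :
    Fintype.card ι ≤ finrank K W := by
  refine LinearIndependent.fintype_card_le_finrank (b := v) ?_
  rw [Fintype.linearIndependent_iff]
  intro g hg i
  obtain ⟨φ, hφ⟩ := Module.Projective.exists_dual_ne_zero K (hv i)
  have hli := Fintype.linearIndependent_iff.1 (cc_addChar_linearIndependent χ hχ)
    (fun j => g j * φ (v j)) (by
      funext x
      have := congrArg (fun w => φ (T x w)) hg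
      simp only [map_sum, map_smul, h, map_zero, smul_eq_mul] at this
      simp only [Finset.sum_apply, Pi.smul_apply, smul_eq_mul, Pi.zero_apply]
      rw [← this]
      exact Finset.sum_congr rfl fun j _ => by ring) i
  exact (mul_eq_zero.1 hli).resolve_right hφ

/-- The basic cross-characteristic bound: the orbit of a non-trivial character of `A`. -/
theorem exists_addChar_orbit [IsAlgClosed K] {G : Type*} [Group G] (ρ : G →* Module.End K W)
    {A : Type*} [AddCommGroup A] (a : A → G) (ha : ∀ x y, a (x + y) = a x * a y) {p : ℕ}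
    (hp : (p : K) ≠ 0) (hA : ∀ x : A, p • x = 0) (hne : ∃ x, ρ (a x) ≠ 1) :
    ∃ χ : AddChar A K, χ ≠ 1 ∧ ∀ (ι : Type) [Fintype ι] (ψ : ι → AddChar A K),
      (∀ i, ∃ (h : G) (s : A → A), (∀ x, a x * h = h * a (s x)) ∧ ∀ x, ψ i x = χ (s x)) →
      Function.Injective ψ → Fintype.card ι ≤ finrank K W := by
  have h0 : a 0 = 1 := by
    have := ha 0 0
    rw [add_zero] at this
    exact (mul_eq_left.1 this.symm)
  obtain ⟨χ, hχ, v, hv0, hv⟩ := cc_exists_addChar_eigenvector (fun x => ρ (a x))
    (by simp [h0]) (fun x y => by simp only [ha, map_mul]) hp hA hne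
  refine ⟨χ, hχ, fun ι _ ψ hψ hinj => ?_⟩
  choose h s hs hψ using hψ
  refine cc_card_le_finrank (fun x => ρ (a x)) ψ hinj (fun i => ρ (h i) v) (fun i e => hv0 ?_)
    fun i x => ?_
  · have := congrArg (ρ (h i)⁻¹) e
    rwa [← Module.End.mul_apply, ← map_mul, inv_mul_cancel, map_one, map_zero] at this
  · rw [← Module.End.mul_apply, ← map_mul, hs, map_mul, Module.End.mul_apply, hv, map_smul, hψ]

end Core

theorem exists_rep_algClosure {G K : Type*} [Group G] [Field K] {d : ℕ}
    (ρ : G →* GL (Fin d) K) :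
    ∃ ρ' : G →* Module.End (AlgebraicClosure K) (Fin d → AlgebraicClosure K),
      ∀ g, ρ' g = 1 → ρ g = 1 := by
  let f : Matrix (Fin d) (Fin d) K →+* Matrix (Fin d) (Fin d) (AlgebraicClosure K) :=
    (algebraMap K (AlgebraicClosure K)).mapMatrix
  refine ⟨(Matrix.toLinAlgEquiv' (R := AlgebraicClosure K) (n := Fin d)).toMonoidHom.comp
    (f.toMonoidHom.comp ((Units.coeHom _).comp ρ)), fun g hg => ?_⟩
  have h1 : Matrix.toLinAlgEquiv' (f (ρ g : Matrix (Fin d) (Fin d) K)) = 1 := hg
  rw [← map_one (Matrix.toLinAlgEquiv' (R := AlgebraicClosure K) (n := Fin d))] at h1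
  have h2 := (Matrix.toLinAlgEquiv' (R := AlgebraicClosure K) (n := Fin d)).injective h1
  rw [← map_one f] at h2
  have hf : Function.Injective f := fun M N e => by
    ext i j
    exact (algebraMap K (AlgebraicClosure K)).injective (congrFun (congrFun e i) j)
  exact Units.ext (hf h2)

theorem natCast_ringChar_ne_zero {F K : Type*} [Field F] [Finite F] [Field K]
    (hK : ringChar K ≠ ringChar F) : ((ringChar F : ℕ) : K) ≠ 0 := by
  intro h
  have hp : (ringChar F).Prime := CharP.char_is_prime F _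
  rw [ringChar.spec] at h
  rcases (Nat.dvd_prime hp).1 h with h1 | h1
  · exact CharP.ringChar_ne_one h1
  · exact hK h1

/-- Restriction of scalars embeds `Sp(V, B)` over `L` into `Sp₂ₘ(F)`. -/
theorem exists_spB_embed {F L V : Type*} [Field F] [Field L] [Algebra F L] [AddCommGroup V]
    [Module L V] [Module F V] [IsScalarTower F L V] [FiniteDimensional F V]
    {B : LinearMap.BilinForm L V} (hB : B.Nondegenerate) (hA : B.IsAlt) {m : ℕ}
    (hm : finrank F V = 2 * m) :
    ∃ Ψ : SpB B →* Matrix.symplecticGroup (Fin m) F, Function.Injective Ψ := by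
  obtain ⟨τ, hτ⟩ := Module.Projective.exists_dual_ne_zero F (one_ne_zero : (1 : L) ≠ 0)
  let B' : LinearMap.BilinForm F V := LinearMap.mk₂ F (fun x y => τ (B x y))
    (fun x x' y => by simp) (fun c x y => by
      rw [← algebraMap_smul L c x, map_smul, LinearMap.smul_apply, algebraMap_smul, map_smul])
    (fun x y y' => by simp) (fun c x y => by
      rw [← algebraMap_smul L c y, map_smul, algebraMap_smul, map_smul])
  have hB'a : ∀ x y, B' x y = τ (B x y) := fun _ _ => rfl
  have hA' : B'.IsAlt := fun x => by rw [hB'a, hA.self_eq_zero, map_zero]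
  have hsep : ∀ x, (∀ y, B' x y = 0) → x = 0 := fun x hx => by
    by_contra h0
    obtain ⟨y, hy⟩ := exists_alt_eq_one hB h0
    exact hτ (by rw [← hy, ← hB'a, hx])
  have hB' : B'.Nondegenerate := ⟨hsep, fun y hy => hsep y fun x => by
    rw [← hA'.neg_eq, hy, neg_zero]⟩
  obtain ⟨g, hg⟩ := exists_equiv_sympForm hB' hA' hm
  let Ψ0 : SpB B →* SpB B' :=
    { toFun := fun x => ⟨(x : V ≃ₗ[L] V).restrictScalars F, fun u v => by
        change τ (B ((x : V ≃ₗ[L] V) u) ((x : V ≃ₗ[L] V) v)) = τ (B u v)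
        rw [mem_SpB.1 x.2]⟩
      map_one' := Subtype.ext (LinearEquiv.ext fun _ => rfl)
      map_mul' := fun _ _ => Subtype.ext (LinearEquiv.ext fun _ => rfl) }
  have h0 : Function.Injective Ψ0 := fun x y e => Subtype.ext (LinearEquiv.ext fun v =>
    congrArg (fun z : SpB B' => (z : V ≃ₗ[F] V) v) e)
  let e : SpB B' ≃* Matrix.symplecticGroup (Fin m) F :=
    (isomCongr (f := sympForm m F) (f' := fun u v => B' u v) g hg).symm.trans
      (spEquivIsom m F).symm
  exact ⟨e.toMonoidHom.comp Ψ0, e.injective.comp h0⟩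

/-- Landazuri–Seitz bound for `Sp₂ₙ(q)`, `q` odd. -/
theorem sp_cross_lower {F : Type*} [Field F] [Fintype F] (hodd : Odd (Fintype.card F)) {n : ℕ}
    (hn : 1 ≤ n) {K W : Type*} [Field K] [IsAlgClosed K] [AddCommGroup W] [Module K W]
    [FiniteDimensional K W] (hK : ringChar K ≠ ringChar F)
    (ρ : Matrix.symplecticGroup (Fin n) F →* Module.End K W)
    (hker : ∀ g, ρ g = 1 → g ∈ Subgroup.center (Matrix.symplecticGroup (Fin n) F)) :
    (Fintype.card F ^ n - 1) / 2 ≤ finrank K W := by
  classical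
  have hp : Fact (ringChar F).Prime := ⟨CharP.char_is_prime F _⟩
  have : NeZero n := ⟨by omega⟩
  let L := FiniteField.Extension F (ringChar F) n
  have hLc : Nat.card L = Fintype.card F ^ n := by
    rw [FiniteField.natCard_extension, Nat.card_eq_fintype_card]
  have hLr : finrank F L = n := FiniteField.finrank_extension F _ n
  have h2F : (2 : F) ≠ 0 := two_ne_zero_of_odd_card hodd
  have h2L : (2 : L) ≠ 0 := by
    rw [show (2 : L) = algebraMap F L 2 by rw [map_ofNat]]
    exact (map_ne_zero _).2 h2F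
  have hm : finrank F (Fin 1 ⊕ Fin 1 → L) = 2 * n := by
    rw [← Module.finrank_mul_finrank F L, hLr, finrank_symp_space]; ring
  have hB := sympBilin_nondegenerate (F := L) 1
  have hA := sympBilin_isAlt (F := L) 1
  obtain ⟨Ψ, hΨ⟩ := exists_spB_embed (F := F) hB hA hm
  let w : Fin 1 ⊕ Fin 1 → L := fun _ => 1
  have hw : w ≠ 0 := fun e => one_ne_zero (congrFun e (Sum.inl 0))
  have : CharP L (ringChar F) := charP_of_injective_algebraMap (algebraMap F L).injective _
  obtain ⟨χ, hχ, H⟩ := exists_addChar_orbit ρ (fun c : L => Ψ (spT hA w c))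
    (fun x y => by rw [← map_mul, spT_mul]) (natCast_ringChar_ne_zero hK)
    (fun x => by rw [nsmul_eq_mul, CharP.cast_eq_zero, zero_mul]) ⟨1, fun e => by
      have h1 := hker _ e
      have h2 : spT hA w 1 ∈ Subgroup.center (SpB (sympBilin 1 L)) :=
        Subgroup.mem_center_iff.2 fun g => hΨ (by
          rw [map_mul, map_mul]; exact Subgroup.mem_center_iff.1 h1 _)
      rcases (mem_center_SpB_iff hB hA _).1 h2 with h3 | h3
      · obtain ⟨y, hy⟩ := exists_alt_eq_one hB hw
        have h4 := h3 y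
        rw [coe_spT, altTEquiv_apply', add_eq_left, ← hA.neg_eq, hy] at h4
        simp [hw] at h4
      · have h4 := h3 w
        rw [coe_spT, altTEquiv_apply', hA.self_eq_zero, mul_zero, zero_smul, add_zero,
          eq_neg_iff_add_eq_zero, ← two_smul L] at h4
        exact hw ((smul_eq_zero.1 h4).resolve_left h2L)⟩
  let S := (powMonoidHom 2 : Lˣ →* Lˣ).range
  have : Fintype S := Fintype.ofFinite _
  have hcard := H S (fun u => χ.mulShift ((u : Lˣ) : L)) (fun u => by
    obtain ⟨_, t, rfl⟩ := u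
    obtain ⟨g, hg, hgw⟩ := SpB_exists_apply_eq hB hA hw
      (smul_ne_zero (inv_ne_zero t.ne_zero) hw)
    refine ⟨Ψ ⟨g, hg⟩, fun x => (t : L) ^ 2 * x, fun x => ?_, fun x => by simp⟩
    rw [← map_mul, ← map_mul]
    congr 1
    rw [← eq_mul_inv_iff_mul_eq, spT_conj]
    change _ = spT hA (g w) ((t : L) ^ 2 * x)
    rw [hgw, spT_smul, ← mul_assoc, ← mul_pow, inv_mul_cancel₀ t.ne_zero, one_pow, one_mul])
    (fun u u' e => Subtype.ext (Units.ext
      (AddChar.to_mulShift_inj_of_isPrimitive (AddChar.IsPrimitive.of_ne_one hχ) e)))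
  refine le_trans ?_ hcard
  rw [← Nat.card_eq_fintype_card (α := S), IsCyclic.card_powMonoidHom_range, Nat.card_units, hLc]
  exact Nat.div_le_div_left (Nat.gcd_le_right _ two_pos) (Nat.gcd_pos_of_pos_right _ two_pos)

/-- Landazuri–Seitz bound for `SLₙ(q)`, `n ≥ 3`. -/
theorem sl_cross_lower {F : Type*} [Field F] [Fintype F] {n : ℕ}
    (hn : 3 ≤ n) {K W : Type*} [Field K] [IsAlgClosed K] [AddCommGroup W] [Module K W]
    [FiniteDimensional K W] (hK : ringChar K ≠ ringChar F)
    (ρ : Matrix.SpecialLinearGroup (Fin n) F →* Module.End K W)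
    (hker : ∀ g, ρ g = 1 → g ∈ Subgroup.center (Matrix.SpecialLinearGroup (Fin n) F)) :
    Fintype.card F ^ (n - 1) - 1 ≤ finrank K W := by
  classical
  have hp : Fact (ringChar F).Prime := ⟨CharP.char_is_prime F _⟩
  have : NeZero (n - 1) := ⟨by omega⟩
  let L := FiniteField.Extension F (ringChar F) (n - 1)
  have hLc : Nat.card L = Fintype.card F ^ (n - 1) := by
    rw [FiniteField.natCard_extension, Nat.card_eq_fintype_card]
  have hLr : finrank F L = n - 1 := FiniteField.finrank_extension F _ _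
  have hV : finrank F (L × F) = n := by
    rw [Module.finrank_prod, hLr, Module.finrank_self]; omega
  let e := (Matrix.SpecialLinearGroup.toLin_equiv (Module.finBasisOfFinrankEq F (L × F) hV)).symm
  let t : L → SpecialLinearGroup F (L × F) := fun x =>
    ⟨LinearEquiv.transvection (f := LinearMap.snd F L F) (v := (x, 0)) rfl,
      LinearEquiv.transvection.det_eq_one _⟩
  have ht : ∀ x (y : L × F), (t x : (L × F) ≃ₗ[F] (L × F)) y = (y.1 + y.2 • x, y.2) :=
    fun x y => by
      change y + y.2 • ((x, 0) : L × F) = _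
      ext <;> simp
  have : CharP L (ringChar F) := charP_of_injective_algebraMap (algebraMap F L).injective _
  obtain ⟨χ, hχ, H⟩ := exists_addChar_orbit ρ (fun c : L => e (t c))
    (fun x y => by
      rw [← map_mul]
      congr 1
      refine Subtype.ext (LinearEquiv.ext fun z => ?_)
      change (t (x + y) : (L × F) ≃ₗ[F] (L × F)) z =
        (t x : (L × F) ≃ₗ[F] (L × F)) ((t y : (L × F) ≃ₗ[F] (L × F)) z)
      rw [ht, ht, ht]
      ext
      · simp only [smul_add]; abel
      · rfl) (natCast_ringChar_ne_zero hK)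
    (fun x => by rw [nsmul_eq_mul, CharP.cast_eq_zero, zero_mul]) ⟨1, fun h => by
      have h1 := (MulEquivClass.apply_mem_center_iff e).1 (hker _ h)
      obtain ⟨r, -, hr⟩ := SpecialLinearGroup.mem_center_iff.1 h1
      have h2 : (t 1 : (L × F) ≃ₗ[F] (L × F)) (0, 1) = r • (0, 1) := LinearMap.congr_fun hr (0, 1)
      rw [ht] at h2
      simpa using congrArg Prod.fst h2⟩
  -- a line in the kernel of `χ`
  obtain ⟨v0, hv0, hχ0⟩ : ∃ v0 : L, v0 ≠ 0 ∧ ∀ c : F, χ (c • v0) = 1 := by
    let Φ : L → AddChar F K := fun v =>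
      χ.compAddMonoidHom (LinearMap.toSpanSingleton F L v).toAddMonoidHom
    have hΦ : ∀ v c, Φ v c = χ (c • v) := fun _ _ => rfl
    have hni : ¬ Function.Injective Φ := fun hinj => by
      have : Fintype L := Fintype.ofFinite L
      have h1 := (cc_addChar_linearIndependent Φ hinj).fintype_card_le_finrank
      rw [Module.finrank_fintype_fun_eq_card, ← Nat.card_eq_fintype_card, hLc] at h1
      have h2 : Fintype.card F ^ 1 < Fintype.card F ^ (n - 1) :=
        Nat.pow_lt_pow_right Fintype.one_lt_card (by omega)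
      rw [pow_one] at h2
      omega
    obtain ⟨v1, v2, h12, hne⟩ := Function.not_injective_iff.1 hni
    refine ⟨v1 - v2, sub_ne_zero.2 hne, fun c => ?_⟩
    have h1 : χ (c • v1) = χ (c • v2) := by rw [← hΦ, ← hΦ, h12]
    rw [smul_sub, AddChar.map_sub_eq_div, h1, div_self]
    exact ((χ.val_isUnit _).ne_zero)
  obtain ⟨φ, hφ⟩ := Module.Projective.exists_dual_eq_one F hv0
  have : Fintype Lˣ := Fintype.ofFinite _
  have hcard := H Lˣ (fun u => χ.mulShift (u : L)) (fun u => by
    let m : L ≃ₗ[F] L := (LinearEquiv.smulOfUnit u).restrictScalars F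
    have hm : ∀ x, m x = u * x := fun _ => rfl
    let δ : Fˣ := (LinearEquiv.det m)⁻¹
    have hδ : 1 + (((δ : F) - 1) • φ) v0 = δ := by simp [hφ]
    let D : L ≃ₗ[F] L := LinearEquiv.dilatransvection (f := ((δ : F) - 1) • φ) (v := v0)
      (by rw [hδ]; exact δ.isUnit)
    have hD : LinearEquiv.det D = δ := by
      refine Units.ext ?_
      rw [LinearEquiv.coe_det, LinearEquiv.dilatransvection.coe_toLinearMap,
        LinearMap.transvection.det, hδ]
    have hDχ : ∀ x, χ (D x) = χ x := fun x => by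
      rw [LinearEquiv.dilatransvection.apply, AddChar.map_add_eq_mul, hχ0, mul_one]
    let M : L ≃ₗ[F] L := D * m
    have hM : LinearEquiv.det M = 1 := by
      rw [map_mul, hD, inv_mul_cancel]
    let h : SpecialLinearGroup F (L × F) := ⟨M⁻¹.prodCongr (LinearEquiv.refl F F), by
      refine Units.ext ?_
      rw [LinearEquiv.coe_det, LinearEquiv.coe_prodCongr, LinearMap.det_prodMap,
        ← LinearEquiv.coe_det, ← LinearEquiv.coe_det, map_inv, hM]
      simp⟩
    have hh : ∀ y : L × F, (h : (L × F) ≃ₗ[F] (L × F)) y = (M⁻¹ y.1, y.2) := fun _ => rfl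
    refine ⟨e h, fun x => M x, fun x => ?_, fun x => ?_⟩
    · rw [← map_mul, ← map_mul]
      congr 1
      refine Subtype.ext (LinearEquiv.ext fun z => ?_)
      change (t x : (L × F) ≃ₗ[F] (L × F)) ((h : (L × F) ≃ₗ[F] (L × F)) z) =
        (h : (L × F) ≃ₗ[F] (L × F)) ((t (M x) : (L × F) ≃ₗ[F] (L × F)) z)
      rw [ht, ht, hh, hh]
      have : M⁻¹ (M x) = x := M.symm_apply_apply x
      simp only [map_add, map_smul, this]
    · change _ = χ (D (m x))
      rw [hDχ, hm, AddChar.mulShift_apply])
    (fun u u' e => Units.ext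
      (AddChar.to_mulShift_inj_of_isPrimitive (AddChar.IsPrimitive.of_ne_one hχ) e))
  rwa [← Nat.card_eq_fintype_card, Nat.card_units, hLc] at hcard

end Cfsg.Lib.Known
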