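import Mathlib
import Cfsg.Agent.Known.ElusDec

/-!
Elements of prime order of `PGL` which permute a decomposition into subspaces of equal dimension.
-/

namespace Cfsg.Lib.Known

open Module Polynomial Cfsg.Lib.Class

universe u

variable {F : Type u} [Field F]

theorem elDiv_cycX_elProd {s : Multiset (F[X] × ℕ)} (hs : IsElDivs s) (h1 : ∀ x ∈ s, x.2 = 1)
    (hsq : Squarefree (elProd s)) : elDiv (cycX (elProd s)) = s := by
  have := finite_cyc hs.monic_elProd.ne_zero
  rw [(isElDivs_elDiv _).eq_map_normalizedFactors (elDiv_snd_eq_one_of_squarefree hsq (by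
    rw [aeval_cycX, cycMul_eq_zero_iff])), ← charpoly_eq_elProd, charpoly_cycX hs.monic_elProd,
    ← hs.eq_map_normalizedFactors h1]

theorem exists_map_eq_of_iSupIndep {V : Type*} [AddCommGroup V] [Module F V]
    [FiniteDimensional F V] {ι : Type*} {D D' : ι → Submodule F V} (hi : iSupIndep D)
    (hs : iSup D = ⊤) (hi' : iSupIndep D') (hs' : iSup D' = ⊤) (e : ∀ j, D j ≃ₗ[F] D' j) :
    ∃ g : V ≃ₗ[F] V, ∀ j (v : D j), g v = e j v := by
  classical
  let a := LinearEquiv.ofBijective (DirectSum.coeLinearMap D)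
    (DirectSum.isInternal_submodule_of_iSupIndep_of_iSup_eq_top hi hs)
  let b := LinearEquiv.ofBijective (DirectSum.coeLinearMap D')
    (DirectSum.isInternal_submodule_of_iSupIndep_of_iSup_eq_top hi' hs')
  refine ⟨a.symm.trans ((DirectSum.congrLinearEquiv e).trans b), fun j v => ?_⟩
  have : a.symm v = DirectSum.lof F ι (fun j => D j) j v :=
    a.symm_apply_eq.mpr (DirectSum.coeLinearMap_lof D j v).symm
  simp only [LinearEquiv.trans_apply, this]
  rw [show DirectSum.congrLinearEquiv e (DirectSum.lof F ι (fun j => D j) j v) =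
    DirectSum.lof F ι (fun j => D' j) j (e j v) from DirectSum.lmap_lof _ _ _]
  exact DirectSum.coeLinearMap_lof D' j _

theorem map_eq_of_forall_coe {V : Type*} [AddCommGroup V] [Module F V] {U U' : Submodule F V}
    {g : V →ₗ[F] V} (e : U ≃ₗ[F] U') (h : ∀ v : U, g v = e v) : U.map g = U' := by
  ext w
  constructor
  · rintro ⟨v, hv, rfl⟩
    rw [h ⟨v, hv⟩]
    exact (e _).2
  · intro hw
    exact ⟨_, (e.symm ⟨w, hw⟩).2, by rw [h, e.apply_symm_apply]⟩

theorem exists_eq_add_replicate {α : Type*} {s : Multiset α} (P : α → Prop)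
    (h : ∀ x ∈ s, ∀ y ∈ s, ¬ P x → ¬ P y → x = y) [Nonempty α] :
    ∃ (s₁ : Multiset α) (j : ℕ) (y : α), s = s₁ + Multiset.replicate j y ∧ (∀ x ∈ s₁, P x) ∧
      (j ≠ 0 → ¬ P y) := by
  classical
  by_cases h1 : ∃ y ∈ s, ¬ P y
  · obtain ⟨y, hy, h2⟩ := h1
    refine ⟨s.filter P, (s.filter fun x => ¬ P x).card, y, ?_, fun x hx =>
      (Multiset.mem_filter.mp hx).2, fun _ => h2⟩
    rw [← Multiset.eq_replicate_card.mpr fun x hx => h x (Multiset.mem_filter.mp hx).1 y hy
      (Multiset.mem_filter.mp hx).2 h2, Multiset.filter_add_not]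
  · push Not at h1
    exact ⟨s, 0, Classical.arbitrary α, by simp, h1, fun h => absurd rfl h⟩

theorem sq_arith {a t k j : ℕ} (h : k + 2 * j = a * t) (hj : ¬ j ≤ t * (a / 2)) :
    ∃ u j' t', j = j' + u * a ∧ t = t' + u * 2 ∧ k + 2 * j' = a * t' ∧ j' ≤ t' * (a / 2) := by
  obtain ⟨b, rfl | rfl⟩ := Nat.even_or_odd' a
  · rw [Nat.mul_div_cancel_left _ two_pos] at hj
    nlinarith
  rw [show (2 * b + 1) / 2 = b by omega] at hj ⊢
  obtain ⟨u, rfl⟩ := Nat.exists_eq_add_of_le (not_le.mp hj).le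
  obtain ⟨t', rfl⟩ := Nat.exists_eq_add_of_le' (show u * 2 ≤ t by nlinarith)
  exact ⟨u, t' * b, t', by ring, rfl, by nlinarith, le_rfl⟩

theorem eq_of_pow_dvd_of_natDegree {P : F[X]} (hP : P.Monic) {x : F[X] × ℕ} (h0 : x.1.Monic)
    (h : x.1 ^ x.2 ∣ P) (hd : P.natDegree ≤ x.1.natDegree * x.2) : P = x.1 ^ x.2 :=
  eq_of_monic_of_dvd_of_natDegree_le (h0.pow _) hP h (by rwa [h0.natDegree_pow, mul_comm])

theorem sq_split {z : F} {s : Multiset (F[X] × ℕ)} (hs : IsElDivs s)
    (h : ∀ x ∈ s, x.1 ^ x.2 ∣ X ^ 2 - C z) :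
    ∃ (s₁ : Multiset (F[X] × ℕ)) (j : ℕ) (y : F[X] × ℕ), s = s₁ + Multiset.replicate j y ∧
      (∀ x ∈ s₁, x.1.natDegree * x.2 = 1) ∧
      (j ≠ 0 → y.1.natDegree * y.2 = 2 ∧ elDiv (cycX (X ^ 2 - C z : F[X])) = {y}) := by
  have hm := monic_X_pow_sub_C z two_ne_zero
  have key : ∀ x ∈ s, x.1.natDegree * x.2 ≠ 1 →
      x.1.natDegree * x.2 = 2 ∧ elDiv (cycX (X ^ 2 - C z : F[X])) = {x} := by
    intro x hx h1
    obtain ⟨h2, h3, h4⟩ := hs x hx
    have h5 := natDegree_le_of_dvd (h x hx) hm.ne_zero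
    rw [h2.natDegree_pow, natDegree_X_pow_sub_C, mul_comm] at h5
    have h6 := Nat.mul_pos h3.natDegree_pos h4
    have h7 : x.1.natDegree * x.2 = 2 := by omega
    refine ⟨h7, ?_⟩
    rw [eq_of_pow_dvd_of_natDegree hm h2 (h x hx) (by rw [natDegree_X_pow_sub_C, h7]),
      elDiv_cycX_pow h2 h3 h4]
  obtain ⟨s₁, j, y, rfl, h1, h2⟩ := exists_eq_add_replicate (s := s)
    (fun x => x.1.natDegree * x.2 = 1) fun x hx y hy h1 h2 =>
      Multiset.singleton_inj.mp ((key x hx h1).2.symm.trans (key y hy h2).2)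
  exact ⟨s₁, j, y, rfl, h1, fun hj => key y (by simp [Multiset.mem_replicate, hj]) (h2 hj)⟩

theorem map_deg_eq {s₁ : Multiset (F[X] × ℕ)} (h : ∀ x ∈ s₁, x.1.natDegree * x.2 = 1) {j i : ℕ}
    {y : F[X] × ℕ} (hy : j ≠ 0 → y.1.natDegree * y.2 = i) :
    ((s₁ + Multiset.replicate j y).map fun x => x.1.natDegree * x.2) =
      Multiset.replicate s₁.card 1 + Multiset.replicate j i := by
  rw [Multiset.map_add, Multiset.map_replicate, Multiset.eq_replicate.mpr ⟨Multiset.card_map _ _,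
    fun b hb => by obtain ⟨x, hx, rfl⟩ := Multiset.mem_map.mp hb; exact h x hx⟩]
  by_cases hj : j = 0
  · simp [hj]
  · rw [hy hj]

theorem elDeg_of_map_eq {s : Multiset (F[X] × ℕ)} {k j i : ℕ}
    (h : (s.map fun x => x.1.natDegree * x.2) = Multiset.replicate k 1 + Multiset.replicate j i) :
    elDeg s = k + i * j := by
  rw [elDeg, h]
  simp [mul_comm]

theorem PDT.of_sq {z : F} (hz : z ≠ 0) {s : Multiset (F[X] × ℕ)} (hs : IsElDivs s)
    (h : ∀ x ∈ s, x.1 ^ x.2 ∣ X ^ 2 - C z) {a t : ℕ} (hd : elDeg s = a * t) : PDT s a t := by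
  obtain ⟨s₁, j, y, rfl, h1, h2⟩ := sq_split hs h
  have h3 := map_deg_eq h1 fun hj => (h2 hj).1
  rw [elDeg_of_map_eq h3] at hd
  by_cases hj : j ≤ t * (a / 2)
  · exact PDT.of_map_eq t h3 hd hj (Or.inl two_ne_zero)
  obtain ⟨h4, h5⟩ := h2 (by omega)
  obtain ⟨u, j', t', rfl, rfl, h6, h7⟩ := sq_arith hd hj
  rw [Multiset.replicate_add, ← add_assoc, ← Multiset.nsmul_singleton y (u * a), mul_nsmul', ← h5]
  exact (PDT.of_map_eq t' (map_deg_eq h1 fun _ => h4) h6 h7 (Or.inl two_ne_zero)).add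
    ((PDT.cyc two_ne_zero hz a).nsmul u)

theorem div_eq_of_mod_eq {n a t c : ℕ} (hc : 0 < c) (hn : n = a * t) (h : n % c = t * (a % c)) :
    n / c = t * (a / c) := by
  have h1 := Nat.mod_add_div n c
  have h2 := congrArg (t * ·) (Nat.mod_add_div a c)
  simp only [mul_add] at h2
  rw [mul_comm t a, ← hn, ← h, mul_left_comm] at h2
  exact Nat.eq_of_mul_eq_mul_left hc (by omega)

theorem mod_eq_of_sum {c t a n k : ℕ} {κ μ : Fin t → ℕ} (h : ∀ j, κ j + c * μ j = a)
    (hk : ∑ j, κ j = k) (hn : n = a * t) (hc : k < c) : n % c = t * (a % c) := by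
  have h1 : t * (a % c) ≤ k := by
    rw [← hk]
    calc t * (a % c) = ∑ _j : Fin t, a % c := by simp
      _ ≤ _ := Finset.sum_le_sum fun j _ => by
        rw [← h j, Nat.add_mul_mod_self_left]; exact Nat.mod_le _ _
  rw [hn, mul_comm, Nat.mul_mod, ← Nat.mod_eq_of_lt (h1.trans_lt hc), Nat.mul_mod t (a % c),
    Nat.mod_mod]

section
variable {V : Type*} [AddCommGroup V] [Module F V]

theorem pow_apply_of_eq_smul {g : End F V} {v : V} {c : F} (h : g v = c • v) (k : ℕ) :
    (g ^ k) v = c ^ k • v := by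
  induction k with
  | zero => simp
  | succ k ih => rw [pow_succ', End.mul_apply, ih, map_smul, h, smul_smul, pow_succ]

theorem ne_bot_of_finrank {D : Submodule F V} {a : ℕ} (h : finrank F D = a) (ha : 0 < a) :
    D ≠ ⊥ := fun hj => by
  rw [hj, finrank_bot] at h
  omega

open Classical in
theorem finrank_ker_of_two [FiniteDimensional F V] {g : End F V} {k j : ℕ} {x y : F[X] × ℕ}
    (h : elDiv g = Multiset.replicate k x + Multiset.replicate j y) {R : F[X]} (h1 : R.Monic)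
    (h2 : Irreducible R) : finrank F (LinearMap.ker (aeval g R)) =
      ((if x.1 = R then k else 0) + if y.1 = R then j else 0) * R.natDegree := by
  rw [finrank_ker_aeval_irreducible g h1 h2, h, Multiset.filter_add, Multiset.card_add,
    ← Multiset.nsmul_singleton, ← Multiset.nsmul_singleton, Multiset.filter_nsmul,
    Multiset.filter_nsmul, Multiset.filter_singleton, Multiset.filter_singleton]
  split_ifs <;> simp

end

variable [Fintype F] (p : ℕ) [Fact p.Prime] [CharP F p] {r : ℕ} [Fact r.Prime]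

theorem PDT.of_not_pow (hrp : r ≠ p) {z : F} (hz : ∀ b : F, b ^ r ≠ z) {s : Multiset (F[X] × ℕ)}
    (hs : IsElDivs s) (h : ∀ x ∈ s, x.1 ^ x.2 ∣ X ^ r - C z) {a t : ℕ} (hd : elDeg s = a * t) :
    PDT s a t := by
  have hr := (Fact.out : r.Prime)
  have hz0 : z ≠ 0 := fun h => hz 0 (by rw [h, zero_pow hr.ne_zero])
  obtain ⟨j, hj⟩ : ∃ j, s = Multiset.replicate j (X ^ r - C z, 1) := ⟨_,
    Multiset.eq_replicate_card.mpr fun x hx =>
      eq_of_dvd_of_not_pow p hrp hz (hs x hx).1 (hs x hx).2.1 (hs x hx).2.2 (h x hx)⟩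
  have h1 : (s.map fun x => x.1.natDegree * x.2) =
      Multiset.replicate 0 1 + Multiset.replicate j r := by simp [hj]
  rw [elDeg_of_map_eq h1] at hd
  rcases (hr.dvd_mul (m := a) (n := t)).mp ⟨j, by omega⟩ with ⟨b, rfl⟩ | ⟨b, rfl⟩
  · refine PDT.of_map_eq t h1 hd ?_ (Or.inl hr.ne_zero)
    rw [Nat.mul_div_cancel_left _ hr.pos]
    exact Nat.le_of_mul_le_mul_left (by nlinarith) hr.pos
  · obtain rfl : j = b * a := Nat.eq_of_mul_eq_mul_left hr.pos (by nlinarith)
    by_cases h0 : b * a = 0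
    · exact PDT.of_map_eq _ h1 hd (by omega) (Or.inl hr.ne_zero)
    have h2 := hs (X ^ r - C z, 1) (by simp [hj, Multiset.mem_replicate, h0])
    have h3 := elDiv_cycX_pow h2.1 h2.2.1 one_pos
    rw [pow_one] at h3
    rw [hj, ← Multiset.nsmul_singleton, mul_nsmul', ← h3, mul_comm r]
    exact (PDT.cyc hr.ne_zero hz0 a).nsmul b

theorem PDT.of_pow (hrp : r ≠ p) {z : F} (hz : z ≠ 0) {s : Multiset (F[X] × ℕ)}
    (hs : IsElDivs s) (h : ∀ x ∈ s, x.1 ^ x.2 ∣ X ^ r - C z) {a t c : ℕ} (hd : elDeg s = a * t)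
    (hc : c = orderOf (Fintype.card F : ZMod r))
    (H : (a = 1 ∧ 1 < c ∧ c = r - 1 ∧ a * t ≤ (a * t % c) * r) ∨ a * t % c = t * (a % c)) :
    PDT s a t := by
  have hr := (Fact.out : r.Prime)
  by_cases hb : ∀ b : F, b ^ r ≠ z
  · exact PDT.of_not_pow p hrp hb hs h hd
  push Not at hb
  obtain ⟨b, rfl⟩ := hb
  have hb : b ≠ 0 := fun h => hz (by rw [h, zero_pow hr.ne_zero])
  have hc0 : 0 < c := hc ▸ orderOf_card_pos p hrp
  have h1 := fun x hx => mem_cases_of_dvd_pow p hrp hb (hs x hx).1 (hs x hx).2.1 (hs x hx).2.2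
    (h x hx)
  rw [← hc] at h1
  rcases H with ⟨rfl, h2, h3, h4⟩ | H
  swap
  · obtain ⟨k, j, h2⟩ := eq_replicate_add_replicate (a := 1) (b := c)
      (ν := s.map fun x => x.1.natDegree * x.2) fun d hd => by
        obtain ⟨x, hx, rfl⟩ := Multiset.mem_map.mp hd
        rcases h1 x hx with rfl | h2
        · simp
        · simp [h2]
    rw [elDeg_of_map_eq h2] at hd
    refine PDT.of_map_eq t h2 hd ?_ (Or.inl hc0.ne')
    rw [← div_eq_of_mod_eq hc0 rfl H, Nat.le_div_iff_mul_le hc0]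
    nlinarith
  have hm := monic_X_pow_sub_C (b ^ r) hr.ne_zero
  have key : ∀ x ∈ s, x ≠ (X - C b, 1) →
      elDiv (cycX (X ^ r - C (b ^ r) : F[X])) = {(X - C b, 1), x} := by
    intro x hx h5
    obtain ⟨h6, h7⟩ := (h1 x hx).resolve_left h5
    obtain ⟨h8, h9, -⟩ := hs x hx
    have h10 : elProd {(X - C b, 1), x} = X ^ r - C (b ^ r) := by
      have h10 := h x hx
      rw [h6, pow_one] at h10
      simp only [elProd, Multiset.insert_eq_cons, Multiset.map_cons, Multiset.map_singleton,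
        Multiset.prod_cons, Multiset.prod_singleton, h6, pow_one]
      refine (eq_of_monic_of_dvd_of_natDegree_le ((monic_X_sub_C b).mul h8) hm
        (IsCoprime.mul_dvd ((irreducible_X_sub_C b).coprime_iff_not_dvd.mpr fun h11 => ?_)
          (dvd_iff_isRoot.mpr (by simp)) h10) ?_).symm
      · have := natDegree_eq_of_degree_eq (degree_eq_degree_of_associated
          ((irreducible_X_sub_C b).associated_of_dvd h9 h11))
        rw [natDegree_X_sub_C] at this
        omega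
      · rw [(monic_X_sub_C b).natDegree_mul h8, natDegree_X_pow_sub_C, natDegree_X_sub_C]
        omega
    rw [← h10]
    refine elDiv_cycX_elProd (isElDivs_cons.mpr ⟨⟨monic_X_sub_C b, irreducible_X_sub_C b, one_pos⟩,
      fun y hy => Multiset.mem_singleton.mp hy ▸ hs x hx⟩) (by simp [h6]) ?_
    rw [h10]
    exact (separable_X_pow_sub_C _ (natCast_prime_ne_zero p hrp) hz).squarefree
  obtain ⟨s₁, j, y, rfl, h5, h6⟩ := exists_eq_add_replicate (s := s) (fun x => x = (X - C b, 1))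
    fun x hx y hy h5 h6 => Multiset.singleton_inj.mp ((Multiset.cons_inj_right _).mp
      ((key x hx h5).symm.trans (key y hy h6)))
  have h7 : j ≠ 0 → y ∈ s₁ + Multiset.replicate j y := fun hj => by
    simp [Multiset.mem_replicate, hj]
  have h8 := map_deg_eq (s₁ := s₁) (fun x hx => by simp [h5 x hx]) (j := j) (i := c) (y := y)
    fun hj => by simp [(h1 y (h7 hj)).resolve_left (h6 hj)]
  rw [elDeg_of_map_eq h8] at hd
  by_cases hj : j = 0
  · exact PDT.of_map_eq t h8 hd (by omega) (Or.inr hj)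
  obtain ⟨k, rfl⟩ : ∃ k, s₁ = Multiset.replicate k (X - C b, 1) :=
    ⟨_, Multiset.eq_replicate_card.mpr h5⟩
  rw [Multiset.card_replicate] at hd
  have h9 : j ≤ k := by
    rw [← hd, Nat.add_mul_mod_self_left, show r = c + 1 by omega] at h4
    have := Nat.mul_le_mul_right (c + 1) (Nat.mod_le k c)
    exact Nat.le_of_mul_le_mul_left (by nlinarith) hc0
  obtain ⟨k, rfl⟩ := Nat.exists_eq_add_of_le' h9
  have h10 : Multiset.replicate (k + j) ((X - C b : F[X]), 1) + Multiset.replicate j y =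
      (Multiset.replicate k (X - C b, 1) + Multiset.replicate 0 y) +
        j • 1 • elDiv (cycX (X ^ r - C (b ^ r) : F[X])) := by
    rw [key y (h7 hj) (h6 hj), one_nsmul, Multiset.insert_eq_cons, ← Multiset.singleton_add,
      nsmul_add, Multiset.nsmul_singleton, Multiset.nsmul_singleton, Multiset.replicate_add]
    simp [add_assoc]
  rw [h10, show t = k + j * r by rw [show r = c + 1 by omega]; nlinarith]
  exact (PDT.of_map_eq k (i := 1) (map_deg_eq (fun x hx => by
    simp [Multiset.eq_of_mem_replicate hx]) fun h => absurd rfl h) (by simp) (by omega)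
    (Or.inr rfl)).add ((PDT.cyc hr.ne_zero hz 1).nsmul j)

end Cfsg.Lib.Known
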