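import Mathlib
import Cfsg.Agent.Known.ElusDecSL
import Cfsg.Agent.Known.SpLayer
import Cfsg.Agent.Class.HermParab

/-!
Invariant non-degenerate and totally isotropic subspaces of an isometry whose class is determined
by its elementary divisors.
-/

namespace Cfsg.Lib.Known

open Module Polynomial Cfsg.Lib.Class Cfsg.Lib.Class.Form

universe u

variable {F : Type u} [Field F] {σ : F →+* F} {V W : Type*} [AddCommGroup V] [Module F V]
  [AddCommGroup W] [Module F W] {B : V →ₛₗ[σ] V →ₗ[F] F} {ε : F} {g : End F V}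

/-- Isometries of `ε`-hermitian forms of type `s` are determined by `s`. -/
def Rig (σ : F →+* F) (ε : F) (s : Multiset (F[X] × ℕ)) : Prop :=
  (σ ≠ RingHom.id F ∧ ε = 1) ∨
    (σ = RingHom.id F ∧ ε * ε = 1 ∧ ∀ x ∈ s, ∀ l : F, l * l = 1 → x.1 ≠ X - C l)

theorem Rig.mono {s t : Multiset (F[X] × ℕ)} (h : Rig σ ε t) (hs : s ≤ t) : Rig σ ε s :=
  h.imp id fun h => ⟨h.1, h.2.1, fun x hx => h.2.2 x (Multiset.mem_of_le hs hx)⟩

theorem Rig.eps {s : Multiset (F[X] × ℕ)} (h : Rig σ ε s) : ε * σ ε = 1 := by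
  rcases h with ⟨-, rfl⟩ | ⟨rfl, h, -⟩
  · simp
  · exact h

theorem mem_sup_elim {U U' : Submodule F V} {P : V → Prop}
    (h : ∀ u ∈ U, ∀ u' ∈ U', P (u + u')) : ∀ v ∈ U ⊔ U', P v := fun v hv => by
  obtain ⟨u, hu, u', hu', rfl⟩ := Submodule.mem_sup.mp hv
  exact h u hu u' hu'

theorem inv_sup {U U' : Submodule F V} (hU : ∀ v ∈ U, g v ∈ U) (hU' : ∀ v ∈ U', g v ∈ U') :
    ∀ v ∈ U ⊔ U', g v ∈ U ⊔ U' :=
  mem_sup_elim fun u hu u' hu' => by rw [map_add]; exact Submodule.add_mem_sup (hU u hu) (hU' u' hu')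

theorem inv_inf {U U' : Submodule F V} (hU : ∀ v ∈ U, g v ∈ U) (hU' : ∀ v ∈ U', g v ∈ U') :
    ∀ v ∈ U ⊓ U', g v ∈ U ⊓ U' := fun v hv => ⟨hU v hv.1, hU' v hv.2⟩

theorem totIso_sup {U U' : Submodule F V} (hU : TotIso B U) (hU' : TotIso B U')
    (h : ∀ u ∈ U, ∀ v ∈ U', B u v = 0) (h' : ∀ u ∈ U, ∀ v ∈ U', B v u = 0) : TotIso B (U ⊔ U') :=
  mem_sup_elim fun a ha a' ha' => mem_sup_elim fun b hb b' hb' => by
    simp [hU a ha b hb, hU' a' ha' b' hb', h a ha b' hb', h' b hb a' ha']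

theorem nondegOn_sup {U U' : Submodule F V} (hU : NondegOn B U) (hU' : NondegOn B U')
    (h : ∀ u ∈ U, ∀ v ∈ U', B u v = 0) (h' : ∀ u ∈ U, ∀ v ∈ U', B v u = 0) :
    NondegOn B (U ⊔ U') :=
  mem_sup_elim fun a ha a' ha' h1 => by
    rw [hU a ha fun v hv => by simpa [h' v hv a' ha'] using h1 v (Submodule.mem_sup_left hv),
      hU' a' ha' fun v hv => by simpa [h a ha v hv] using h1 v (Submodule.mem_sup_right hv),
      add_zero]

theorem disjoint_of_nondegOn {U U' : Submodule F V} (hU : NondegOn B U)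
    (h' : ∀ u ∈ U, ∀ v ∈ U', B v u = 0) : Disjoint U U' :=
  Submodule.disjoint_def.mpr fun v hv hv' => hU v hv fun u hu => h' u hu v hv'

theorem nondegOn_map_subtype {U : Submodule F V} {T : Submodule F U}
    (h : NondegOn (restr B U) T) : NondegOn B (T.map U.subtype) := by
  rintro _ ⟨u, hu, rfl⟩ h1
  rw [h u hu fun v hv => h1 v ⟨v, hv, rfl⟩, map_zero]

theorem totIso_map_subtype {U : Submodule F V} {T : Submodule F U}
    (h : TotIso (restr B U) T) : TotIso B (T.map U.subtype) := by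
  rintro _ ⟨u, hu, rfl⟩ _ ⟨v, hv, rfl⟩
  exact h u hu v hv

theorem nondegOn_range {C : W →ₛₗ[σ] W →ₗ[F] F} (h : HForm C ε) (e : W →ₗ[F] V)
    (he : ∀ u v, B (e u) (e v) = C u v) : NondegOn B (LinearMap.range e) := by
  rintro _ ⟨u, rfl⟩ h1
  rw [h.sep u fun v => (he u v).symm.trans (h1 _ ⟨v, rfl⟩), map_zero]

theorem finrank_sup_of_disjoint [FiniteDimensional F V] {U U' : Submodule F V}
    (h : Disjoint U U') : finrank F ↥(U ⊔ U') = finrank F U + finrank F U' := by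
  rw [← Submodule.finrank_sup_add_finrank_inf_eq, h.eq_bot, finrank_bot, add_zero]

variable [FiniteDimensional F V]

theorem HForm.ne_X (h : HForm B ε) (hg : ∀ u v, B (g u) (g v) = B u v) :
    ∀ x ∈ elDiv g, x.1 ≠ X :=
  (injective_iff_elDiv g).mp (injective_of_isometry h hg)

theorem HForm.elDiv_eq_add (h : HForm B ε) (hg : ∀ u v, B (g u) (g v) = B u v)
    {U : Submodule F V} (hU : ∀ v ∈ U, g v ∈ U) (hn : NondegOn B U) :
    elDiv g = elDiv (g.restrict hU) + elDiv (g.restrict (h.mem_orth_of_isometry hg hU)) :=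
  elDiv_eq_add_of_isCompl (h.isCompl_orth hn) _ _

theorem HForm.restrict_map_dualED (h : HForm B ε) (hg : ∀ u v, B (g u) (g v) = B u v)
    {U : Submodule F V} (hU : ∀ v ∈ U, g v ∈ U) (hn : NondegOn B U) :
    (elDiv (g.restrict hU)).map (dualED σ) = elDiv (g.restrict hU) :=
  (h.restrict hn).elDiv_map_dualED fun _ _ => hg _ _

/-- Two invariant subspaces in perfect duality have dual types. -/
theorem HForm.elDiv_of_pairing (h : HForm B ε) (hg : ∀ u v, B (g u) (g v) = B u v)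
    {U U' : Submodule F V} (hU : ∀ v ∈ U, g v ∈ U) (hU' : ∀ v ∈ U', g v ∈ U')
    (hd : finrank F U' = finrank F U) (hs : ∀ v ∈ U', (∀ u ∈ U, B v u = 0) → v = 0) :
    elDiv (g.restrict hU') = (elDiv (g.restrict hU)).map (dualED σ) := by
  obtain ⟨B₀, h₀⟩ := exists_hform_one (V := U) h.invol
  obtain ⟨a, ha⟩ := h₀.exists_adj (C := B.domRestrict₁₂ U' U)
  have hinj : Function.Injective a := (injective_iff_map_eq_zero _).mpr fun v hv =>
    Subtype.ext (hs v v.2 fun u hu => by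
      have := ha v ⟨u, hu⟩
      rw [hv, map_zero] at this
      exact this.symm)
  let e := LinearEquiv.ofBijective a ⟨hinj,
    (LinearMap.injective_iff_surjective_of_finrank_eq_finrank hd).mp hinj⟩
  obtain ⟨g', hg'⟩ := h₀.exists_inv_adj (g := g.restrict hU) fun u v huv =>
    Subtype.ext (injective_of_isometry h hg (congrArg Subtype.val huv))
  rw [← h₀.elDiv_inv_adj hg']
  refine Sim.elDiv_eq ⟨e, fun v => ?_⟩
  have : h₀.adj (g.restrict hU) (a (g.restrict hU' v)) = a v := h₀.ext_left fun u => by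
    rw [h₀.adj_left, ha, ha]
    exact hg _ _
  rw [show e v = a v from rfl, ← this, ← End.mul_apply, hg']
  rfl

theorem HForm.add_dual_le (h : HForm B ε) (hg : ∀ u v, B (g u) (g v) = B u v)
    (hs : g.IsSemisimple) {U : Submodule F V} (hU : ∀ v ∈ U, g v ∈ U) (ht : TotIso B U) :
    elDiv (g.restrict hU) + (elDiv (g.restrict hU)).map (dualED σ) ≤ elDiv g := by
  have hO := h.mem_orth_of_isometry hg hU
  obtain ⟨U', hc, hU'⟩ := exists_isCompl_of_isSemisimple hs hO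
  have h1 := h.finrank_orth U
  have h2 := Submodule.finrank_add_eq_of_isCompl hc
  rw [elDiv_eq_add_of_isCompl hc hO hU', h.elDiv_of_pairing hg hU hU' (by omega) fun v hv h3 =>
    Submodule.disjoint_def.mp hc.disjoint v (h.mem_orth'.mpr h3) hv]
  exact add_le_add (elDiv_restrict_mono hs ht.le_orth hU hO) le_rfl

theorem HForm.elDiv_of_isCompl_totIso (h : HForm B ε) (hg : ∀ u v, B (g u) (g v) = B u v)
    {U U' : Submodule F V} (hc : IsCompl U U') (hU : ∀ v ∈ U, g v ∈ U) (hU' : ∀ v ∈ U', g v ∈ U')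
    (ht : TotIso B U) (ht' : TotIso B U') :
    elDiv g = elDiv (g.restrict hU) + (elDiv (g.restrict hU)).map (dualED σ) := by
  have h1 := h.finrank_orth U
  have h2 := h.finrank_orth U'
  have h3 := Submodule.finrank_mono ht.le_orth
  have h4 := Submodule.finrank_mono ht'.le_orth
  have h5 := Submodule.finrank_add_eq_of_isCompl hc
  rw [elDiv_eq_add_of_isCompl hc hU hU', h.elDiv_of_pairing hg hU hU' (by omega)
    fun v hv h6 => h.sep v fun w => ?_]
  exact mem_sup_elim (P := fun w => B v w = 0)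
    (fun u hu u' hu' => by simp [h6 u hu, ht' v hv u' hu']) w (hc.sup_eq_top ▸ Submodule.mem_top)

variable [Finite F]

theorem Rig.exists_isometry [FiniteDimensional F W] {B' : W →ₛₗ[σ] W →ₗ[F] F} {g' : End F W}
    (hr : Rig σ ε (elDiv g)) (h : HForm B ε) (h' : HForm B' ε) (hg : ∀ u v, B (g u) (g v) = B u v)
    (hg' : ∀ u v, B' (g' u) (g' v) = B' u v) (he : elDiv g = elDiv g') :
    ∃ y : V ≃ₗ[F] W, (∀ u v, B' (y u) (y v) = B u v) ∧ ∀ v, y (g v) = g' (y v) := by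
  rcases hr with ⟨h1, rfl⟩ | ⟨-, -, h1⟩
  · exact herm_exists_isometry_of_elDiv (herm_iff_hform.mpr ⟨h, h1⟩) (herm_iff_hform.mpr ⟨h', h1⟩)
      hg hg' he
  obtain ⟨x, hx⟩ := sim_of_elDiv_eq he
  exact EquivEq.exists_isometry x hx (equivEq_of_injective_sq h (h'.comp x) hg
    (fun u v => by simp only [pullForm_apply, LinearEquiv.coe_coe, hx, hg'])
    (eq_zero_of_sq_of_elDiv h1))

theorem Rig.exists_form {s : Multiset (F[X] × ℕ)} (hr : Rig σ ε s) (hσ : ∀ a, σ (σ a) = a)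
    (hs : IsElDivs s) (hX : ∀ x ∈ s, x.1 ≠ X) (hd : s.map (dualED σ) = s) :
    ∃ (H : (Fin (elDeg s) → F) →ₛₗ[σ] (Fin (elDeg s) → F) →ₗ[F] F)
      (f : End F (Fin (elDeg s) → F)), HForm H ε ∧ (∀ x y, H (f x) (f y) = H x y) ∧ elDiv f = s := by
  obtain ⟨f, hf⟩ := hs.exists_End
  obtain ⟨P, hP, hPf⟩ := exists_sesq_of_elDiv hσ ((injective_iff_elDiv f).mpr (by rwa [hf]))
    (by rwa [hf])
  rcases hr with ⟨h1, rfl⟩ | ⟨rfl, h1, h2⟩
  · obtain ⟨H, h2, h3⟩ := exists_hform_of_ne_id hσ h1 hP (ε := 1) (by simp)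
    exact ⟨H, f, h2, h3 f hPf, hf⟩
  obtain ⟨c, h3, h4⟩ := exists_hform_symForm_of_sq hP hPf
    (eq_zero_of_sq_of_elDiv (by rwa [hf])) h1
  exact ⟨_, f, h3, symForm_isom _ hPf (h4 f hPf (Commute.refl f)), hf⟩

/-- Transport of a model `(C₁, f₁) ⊥ (C₂, f₂)`. -/
theorem Rig.exists_embed [FiniteDimensional F W] (hr : Rig σ ε (elDiv g)) (h : HForm B ε)
    (hg : ∀ u v, B (g u) (g v) = B u v) {C : W →ₛₗ[σ] W →ₗ[F] F} {f : End F W} (hC : HForm C ε)
    (hf : ∀ u v, C (f u) (f v) = C u v) (hle : elDiv f ≤ elDiv g) :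
    ∃ e : W →ₗ[F] V, Function.Injective e ∧ (∀ u v, B (e u) (e v) = C u v) ∧
      ∀ v, e (f v) = g (e v) := by
  obtain ⟨t, ht⟩ := Multiset.le_iff_exists_add.mp hle
  have h1 : t ≤ elDiv g := ht ▸ Multiset.le_add_left _ _
  have h2 := h.elDiv_map_dualED hg
  rw [ht, Multiset.map_add, hC.elDiv_map_dualED hf, add_right_inj] at h2
  obtain ⟨H, f', h3, h4, h5⟩ := (hr.mono h1).exists_form h.invol ((isElDivs_elDiv g).of_le h1)
    (fun x hx => h.ne_X hg x (Multiset.mem_of_le h1 hx)) h2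
  obtain ⟨y, hy, hy'⟩ := hr.exists_isometry h (hC.prod h3) hg (prodForm_isom hf h4)
    (by rw [elDiv_prodMap, h5, ht])
  refine ⟨y.symm.toLinearMap ∘ₗ LinearMap.inl F _ _, y.symm.injective.comp LinearMap.inl_injective,
    fun u v => by simp [← hy], fun v => y.injective ?_⟩
  simp [hy']

theorem Rig.exists_nondeg (hr : Rig σ ε (elDiv g)) (h : HForm B ε)
    (hg : ∀ u v, B (g u) (g v) = B u v) {s : Multiset (F[X] × ℕ)} (hle : s ≤ elDiv g)
    (hd : s.map (dualED σ) = s) :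
    ∃ (U : Submodule F V) (hU : ∀ v ∈ U, g v ∈ U), NondegOn B U ∧ elDiv (g.restrict hU) = s := by
  obtain ⟨H, f, h1, h2, h3⟩ := (hr.mono hle).exists_form h.invol ((isElDivs_elDiv g).of_le hle)
    (fun x hx => h.ne_X hg x (Multiset.mem_of_le hle hx)) hd
  obtain ⟨e, he, he1, he2⟩ := hr.exists_embed h hg h1 h2 (h3.trans_le hle)
  exact ⟨_, inv_range_of_intertwine e he2, nondegOn_range h1 e he1,
    (sim_restrict_of_injective e he he2 _).elDiv_eq.symm.trans h3⟩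

theorem Rig.exists_totIso (hr : Rig σ ε (elDiv g)) (h : HForm B ε)
    (hg : ∀ u v, B (g u) (g v) = B u v) {s : Multiset (F[X] × ℕ)}
    (hle : s + s.map (dualED σ) ≤ elDiv g) :
    ∃ (U U' : Submodule F V) (hU : ∀ v ∈ U, g v ∈ U), (∀ v ∈ U', g v ∈ U') ∧ TotIso B U ∧
      TotIso B U' ∧ Disjoint U U' ∧ finrank F U' = finrank F U ∧ elDiv (g.restrict hU) = s := by
  have h0 := (Multiset.le_add_right _ _).trans hle
  obtain ⟨f, hf⟩ := ((isElDivs_elDiv g).of_le h0).exists_End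
  obtain ⟨B₀, h₀⟩ := exists_hform_one (V := Fin (elDeg s) → F) h.invol
  obtain ⟨f', hf'⟩ := h₀.exists_inv_adj (g := f) ((injective_iff_elDiv f).mpr fun x hx =>
    h.ne_X hg x (Multiset.mem_of_le h0 (hf ▸ hx)))
  obtain ⟨e, he, he1, he2⟩ := hr.exists_embed h hg (h₀.hyp hr.eps) (hypForm_isom h₀ _ hf')
    (by rwa [elDiv_prodMap, h₀.elDiv_inv_adj hf', hf])
  have h1 : ∀ v, (e ∘ₗ LinearMap.inl F _ _) (f v) = g ((e ∘ₗ LinearMap.inl F _ _) v) :=
    fun v => by simp [← he2]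
  have h2 : ∀ v, (e ∘ₗ LinearMap.inr F _ _) (f' v) = g ((e ∘ₗ LinearMap.inr F _ _) v) :=
    fun v => by simp [← he2]
  have h3 : Function.Injective (e ∘ₗ LinearMap.inl F _ _) := he.comp LinearMap.inl_injective
  have h4 : Function.Injective (e ∘ₗ LinearMap.inr F _ _) := he.comp LinearMap.inr_injective
  refine ⟨_, _, inv_range_of_intertwine _ h1, inv_range_of_intertwine _ h2, ?_, ?_, ?_, ?_,
    (sim_restrict_of_injective _ h3 h1 _).elDiv_eq.symm.trans hf⟩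
  · rintro _ ⟨u, rfl⟩ _ ⟨v, rfl⟩
    simp [he1]
  · rintro _ ⟨u, rfl⟩ _ ⟨v, rfl⟩
    simp [he1]
  · refine Submodule.disjoint_def.mpr ?_
    rintro _ ⟨u, rfl⟩ ⟨v, hv⟩
    rw [show u = 0 from (congrArg Prod.fst (he hv)).symm, map_zero]
  · rw [LinearMap.finrank_range_of_inj h3, LinearMap.finrank_range_of_inj h4]

theorem Rig.exists_isCompl_totIso (hr : Rig σ ε (elDiv g)) (h : HForm B ε)
    (hg : ∀ u v, B (g u) (g v) = B u v) {s : Multiset (F[X] × ℕ)}
    (he : elDiv g = s + s.map (dualED σ)) :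
    ∃ U U' : Submodule F V, IsCompl U U' ∧ TotIso B U ∧ TotIso B U' ∧ (∀ v ∈ U, g v ∈ U) ∧
      (∀ v ∈ U', g v ∈ U') ∧ finrank F U' = finrank F U := by
  obtain ⟨U, U', hU, hU', h1, h2, h3, h4, h5⟩ := hr.exists_totIso h hg he.ge
  refine ⟨U, U', ⟨h3, codisjoint_iff.mpr (Submodule.eq_top_of_finrank_eq ?_)⟩, h1, h2, hU, hU', h4⟩
  have h6 : s ≤ elDiv g := he ▸ Multiset.le_add_right _ _
  rw [finrank_sup_of_disjoint h3, h4, finrank_eq_elDeg_restrict hU, h5, finrank_eq_elDeg g, he,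
    elDeg_add, ((isElDivs_elDiv g).of_le h6).elDeg_map_dualED
      fun x hx => h.ne_X hg x (Multiset.mem_of_le h6 hx)]

end Cfsg.Lib.Known
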