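import Mathlib
import Cfsg.Agent.Known.ElusForm
import Cfsg.Agent.Known.OPrime

/-!
Invariant subspaces of isometries of prime order `r ≠ p`: the decomposition `V = C_V(g) ⊥ [V, g]`.
-/

namespace Cfsg.Lib.Known

open Module Polynomial Cfsg.Lib.Class Cfsg.Lib.Class.Form

universe u

theorem exists_half_of_free {α : Type*} {τ : α → α} {s : Multiset α} (hs : s.map τ = s)
    (h : ∀ x ∈ s, τ x ≠ x ∧ τ (τ x) = x) : ∃ w, s = w + w.map τ := by
  classical
  induction hn : s.card using Nat.strong_induction_on generalizing s with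
  | _ n ih =>
    rcases s.empty_or_exists_mem with rfl | ⟨x, hx⟩
    · exact ⟨0, rfl⟩
    obtain ⟨t, rfl⟩ := Multiset.exists_cons_of_mem hx
    have h1 : τ x ∈ t := (Multiset.mem_cons.mp (hs ▸ Multiset.mem_map_of_mem τ hx)).resolve_left
      (h x hx).1
    obtain ⟨t, rfl⟩ := Multiset.exists_cons_of_mem h1
    rw [Multiset.map_cons, Multiset.map_cons, (h x hx).2, Multiset.cons_swap] at hs
    obtain ⟨w, hw⟩ := ih _ (by simp [← hn]) ((Multiset.cons_inj_right _).mp
      ((Multiset.cons_inj_right _).mp hs)) (fun y hy => h y (by simp [hy])) rfl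
    exact ⟨x ::ₘ w, by rw [hw]; simp [Multiset.cons_swap]⟩

theorem exists_half_nodup {α : Type*} (s : Multiset α) : ∃ u o, s = u + u + o ∧ o.Nodup := by
  induction s using Multiset.induction_on with
  | empty => exact ⟨0, 0, rfl, Multiset.nodup_zero⟩
  | cons x s ih =>
    obtain ⟨u, o, rfl, ho⟩ := ih
    by_cases hx : x ∈ o
    · obtain ⟨o, rfl⟩ := Multiset.exists_cons_of_mem hx
      exact ⟨x ::ₘ u, o, by simp, (Multiset.nodup_cons.mp ho).2⟩
    · exact ⟨u, x ::ₘ o, by simp, Multiset.nodup_cons.mpr ⟨hx, ho⟩⟩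

theorem le_of_add_self_le {α : Type*} {s u o : Multiset α} (ho : o.Nodup) (h : s + s ≤ u + u + o) :
    s ≤ u := by
  classical
  refine Multiset.le_iff_count.mpr fun x => ?_
  have h1 := Multiset.le_iff_count.mp h x
  have h2 := Multiset.nodup_iff_count_le_one.mp ho x
  simp only [Multiset.count_add] at h1
  omega

theorem exists_le_card_eq {α : Type*} (s : Multiset α) {k : ℕ} (h : k ≤ s.card) :
    ∃ t ≤ s, t.card = k := by
  obtain ⟨t, h1, h2⟩ := exists_le_map_eq (f := fun _ => ()) (s := s)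
    (ν := Multiset.replicate k ()) (by simpa [Multiset.replicate_le_replicate] using h)
  exact ⟨t, h1, by simpa using congrArg Multiset.card h2⟩

variable {F : Type u} [Field F] {σ : F →+* F} {V W : Type*} [AddCommGroup V] [Module F V]
  [AddCommGroup W] [Module F W] {B : V →ₛₗ[σ] V →ₗ[F] F} {ε : F} {g : End F V}

/-- Degrees of isotropic and of self-dual parts of a type. -/
structure MD (σ : F →+* F) (b c : ℕ) (m : Multiset (F[X] × ℕ)) (j h : ℕ) : Prop where
  deg : elDeg m = c * j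
  dual : m.map (dualED σ) = m
  ts_of : ∀ s, s + s.map (dualED σ) ≤ m → ∃ j' ≤ h, elDeg s = b * j'
  ts_ex : ∀ j' ≤ h, ∃ s, s + s.map (dualED σ) ≤ m ∧ elDeg s = b * j'
  nd_of : ∀ s ≤ m, s.map (dualED σ) = s → ∃ j' ≤ j, elDeg s = c * j'
  nd_ex : ∀ j' ≤ j, ∃ s ≤ m, s.map (dualED σ) = s ∧ elDeg s = c * j'

theorem map_eq_self_of_forall {α : Type*} {τ : α → α} {s : Multiset α} (h : ∀ x ∈ s, τ x = x) :
    s.map τ = s := (Multiset.map_congr rfl h).trans (Multiset.map_id' s)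

theorem MD.fixed {b : ℕ} {u o : Multiset (F[X] × ℕ)} (ho : o.Nodup)
    (h : ∀ x ∈ u + u + o, x.1.natDegree * x.2 = b ∧ dualED σ x = x) :
    MD σ b b (u + u + o) (2 * u.card + o.card) u.card := by
  have h1 : ∀ s ≤ u + u + o, elDeg s = b * s.card := fun s hs =>
    elDeg_of_forall fun x hx => (h x (Multiset.mem_of_le hs hx)).1
  have h2 : ∀ s ≤ u + u + o, s.map (dualED σ) = s := fun s hs =>
    map_eq_self_of_forall fun x hx => (h x (Multiset.mem_of_le hs hx)).2
  have h3 : (u + u + o).card = 2 * u.card + o.card := by simp [two_mul]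
  refine ⟨by rw [h1 _ le_rfl, h3], h2 _ le_rfl, fun s hs => ?_, fun j' hj => ?_,
    fun s hs _ => ⟨_, h3 ▸ Multiset.card_le_card hs, h1 s hs⟩, fun j' hj => ?_⟩
  · have h4 := (Multiset.le_add_right _ _).trans hs
    rw [h2 s h4] at hs
    exact ⟨_, Multiset.card_le_card (le_of_add_self_le ho hs), h1 s h4⟩
  · obtain ⟨s, hs, rfl⟩ := exists_le_card_eq u hj
    have h4 : s + s ≤ u + u + o := (add_le_add hs hs).trans (Multiset.le_add_right _ _)
    have h5 := (Multiset.le_add_right _ _).trans h4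
    exact ⟨s, by rwa [h2 s h5], h1 s h5⟩
  · obtain ⟨s, hs, rfl⟩ := exists_le_card_eq _ (hj.trans_eq h3.symm)
    exact ⟨s, hs, h2 s hs, h1 s hs⟩

theorem MD.free {b : ℕ} {u : Multiset (F[X] × ℕ)}
    (h : ∀ x ∈ u + u.map (dualED σ),
      x.1.natDegree * x.2 = b ∧ dualED σ x ≠ x ∧ dualED σ (dualED σ x) = x) :
    MD σ b (2 * b) (u + u.map (dualED σ)) u.card u.card := by
  have h1 : ∀ s ≤ u + u.map (dualED σ), elDeg s = b * s.card := fun s hs =>
    elDeg_of_forall fun x hx => (h x (Multiset.mem_of_le hs hx)).1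
  have h2 : ∀ s, s + s.map (dualED σ) ≤ u + u.map (dualED σ) →
      (s + s.map (dualED σ)).map (dualED σ) = s + s.map (dualED σ) ∧ s.card ≤ u.card ∧
      elDeg (s + s.map (dualED σ)) = 2 * b * s.card := fun s hs => by
    refine ⟨?_, by have := Multiset.card_le_card hs; simp at this; omega,
      by rw [h1 _ hs]; simp; ring⟩
    rw [Multiset.map_add, Multiset.map_map, add_comm, map_eq_self_of_forall (τ := dualED σ ∘ dualED σ)
      fun x hx => (h x (Multiset.mem_of_le hs (Multiset.mem_add.mpr (Or.inl hx)))).2.2]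
  refine ⟨(h2 u le_rfl).2.2, (h2 u le_rfl).1, fun s hs =>
    ⟨_, (h2 s hs).2.1, h1 s ((Multiset.le_add_right _ _).trans hs)⟩, fun j' hj => ?_,
    fun s hs hd => ?_, fun j' hj => ?_⟩
  · obtain ⟨s, hs, rfl⟩ := exists_le_card_eq u hj
    exact ⟨s, add_le_add hs (Multiset.map_le_map hs), h1 s (hs.trans (Multiset.le_add_right _ _))⟩
  · obtain ⟨w, rfl⟩ := exists_half_of_free hd fun x hx => (h x (Multiset.mem_of_le hs hx)).2
    exact ⟨_, (h2 w hs).2.1, (h2 w hs).2.2⟩
  · obtain ⟨s, hs, rfl⟩ := exists_le_card_eq u hj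
    have h3 := add_le_add hs (Multiset.map_le_map (f := dualED σ) hs)
    exact ⟨_, h3, (h2 s h3).1, (h2 s h3).2.2⟩

/-- The decomposition of `V` into the fixed space and the commutator space of `g`. -/
structure FixSp (B : V →ₛₗ[σ] V →ₗ[F] F) (g : End F V) (A C : Submodule F V) : Prop where
  isCompl : IsCompl A C
  mem : ∀ v, v ∈ A ↔ g v = v
  sub_mem : ∀ v, g v - v ∈ C
  orth : ∀ u ∈ A, ∀ v ∈ C, B u v = 0
  orth' : ∀ u ∈ A, ∀ v ∈ C, B v u = 0
  split : ∀ W : Submodule F V, (∀ v ∈ W, g v ∈ W) → ∀ w ∈ W, ∃ a ∈ W, ∃ u ∈ W,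
    a ∈ A ∧ w = a + (g u - u)

namespace FixSp

variable {A C U : Submodule F V}

theorem inv (h : FixSp B g A C) : ∀ v ∈ C, g v ∈ C := fun v hv => by
  simpa using C.add_mem (h.sub_mem v) hv

theorem inv_of_le (h : FixSp B g A C) (hU : U ≤ A) : ∀ v ∈ U, g v ∈ U := fun v hv => by
  rwa [(h.mem v).mp (hU hv)]

theorem free (h : FixSp B g A C) : ∀ v ∈ C, g v = v → v = 0 := fun v hv h1 =>
  Submodule.disjoint_def.mp h.isCompl.disjoint v ((h.mem v).mpr h1) hv

theorem inf_sup (h : FixSp B g A C) (hU : ∀ v ∈ U, g v ∈ U) : U ⊓ A ⊔ U ⊓ C = U :=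
  le_antisymm (sup_le inf_le_left inf_le_left) fun w hw => by
    obtain ⟨a, ha, u, hu, h1, rfl⟩ := h.split U hU w hw
    exact Submodule.add_mem_sup ⟨ha, h1⟩ ⟨U.sub_mem (hU u hu) hu, h.sub_mem u⟩

theorem exists_sub (h : FixSp B g A C) (hU : ∀ v ∈ U, g v ∈ U) (hC : U ≤ C) :
    ∀ w ∈ U, ∃ u ∈ U, w = g u - u := fun w hw => by
  obtain ⟨a, ha, u, hu, h1, rfl⟩ := h.split U hU w hw
  exact ⟨u, hu, by rw [Submodule.disjoint_def.mp h.isCompl.disjoint a h1 (hC ha), zero_add]⟩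

theorem finrank_sup [FiniteDimensional F V] (h : FixSp B g A C) {U' : Submodule F V} (hU : U ≤ A)
    (hU' : U' ≤ C) : finrank F ↥(U ⊔ U') = finrank F U + finrank F U' :=
  finrank_sup_of_disjoint (h.isCompl.disjoint.mono hU hU')

theorem finrank_inf [FiniteDimensional F V] (h : FixSp B g A C) (hU : ∀ v ∈ U, g v ∈ U) :
    finrank F ↥(U ⊓ A) + finrank F ↥(U ⊓ C) = finrank F U := by
  rw [← h.finrank_sup inf_le_right inf_le_right, h.inf_sup hU]

theorem nondegOn_inf (h : FixSp B g A C) (hU : ∀ v ∈ U, g v ∈ U) (hn : NondegOn B U) :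
    NondegOn B (U ⊓ A) ∧ NondegOn B (U ⊓ C) :=
  ⟨fun u hu h1 => hn u hu.1 fun v hv => mem_sup_elim (P := fun v => B u v = 0)
    (fun a ha c hc => by rw [map_add, h1 a ha, h.orth u hu.2 c hc.2, add_zero]) v
      ((h.inf_sup hU).ge hv),
   fun u hu h1 => hn u hu.1 fun v hv => mem_sup_elim (P := fun v => B u v = 0)
    (fun a ha c hc => by rw [map_add, h1 c hc, h.orth' a ha.2 u hu.2, add_zero]) v
      ((h.inf_sup hU).ge hv)⟩

theorem nondegOn (h : FixSp B g A C) (hB : HForm B ε) : NondegOn B A ∧ NondegOn B C := by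
  simpa using h.nondegOn_inf (U := ⊤) (fun _ _ => trivial)
    fun u _ hu => hB.sep u fun v => hu v trivial

theorem nondegOn_sup (h : FixSp B g A C) {U' : Submodule F V} (hU : U ≤ A) (hU' : U' ≤ C)
    (h1 : NondegOn B U) (h2 : NondegOn B U') : NondegOn B (U ⊔ U') :=
  Known.nondegOn_sup h1 h2 (fun u hu v hv => h.orth u (hU hu) v (hU' hv))
    fun u hu v hv => h.orth' u (hU hu) v (hU' hv)

theorem totIso_sup (h : FixSp B g A C) {U' : Submodule F V} (hU : U ≤ A) (hU' : U' ≤ C)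
    (h1 : TotIso B U) (h2 : TotIso B U') : TotIso B (U ⊔ U') :=
  Known.totIso_sup h1 h2 (fun u hu v hv => h.orth u (hU hu) v (hU' hv))
    fun u hu v hv => h.orth' u (hU hu) v (hU' hv)

theorem finrank_add [FiniteDimensional F V] (h : FixSp B g A C) :
    finrank F A + finrank F C = finrank F V :=
  Submodule.finrank_add_eq_of_isCompl h.isCompl

theorem elDiv_eq [FiniteDimensional F V] (h : FixSp B g A C) {k : ℕ} {m : Multiset (F[X] × ℕ)}
    (he : elDiv g = Multiset.replicate k (X - 1, 1) + m) (hm : (X - 1, 1) ∉ m) :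
    finrank F A = k ∧ elDiv (g.restrict h.inv) = m := by
  classical
  have h1 : g.restrict (h.inv_of_le le_rfl) = 1 :=
    LinearMap.ext fun v => Subtype.ext ((h.mem v).mp v.2)
  have h2 : (X - 1, 1) ∉ elDiv (g.restrict h.inv) := fun h2 =>
    (injective_aeval_iff_elDiv (g.restrict h.inv) (X - 1)).mp
      ((injective_iff_map_eq_zero _).mpr fun v hv => Subtype.ext (h.free v v.2 (by
        simpa [sub_eq_zero, Subtype.ext_iff] using hv))) _ h2 dvd_rfl
  rw [elDiv_eq_add_of_isCompl h.isCompl (h.inv_of_le le_rfl) h.inv, h1, elDiv_one] at he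
  have h3 := congrArg (Multiset.count (X - 1, 1)) he
  simp only [Multiset.count_add, Multiset.count_replicate_self, Multiset.count_eq_zero.mpr h2,
    Multiset.count_eq_zero.mpr hm, add_zero] at h3
  rw [h3] at he
  exact ⟨h3, add_left_cancel he⟩

end FixSp

variable [FiniteDimensional F V]

theorem exists_fixSp (h : HForm B ε) (hg : ∀ u v, B (g u) (g v) = B u v) (hs : SSAt g 1) :
    ∃ A C, FixSp B g A C := by
  have h1 := eigen_orth_range hg (l := 1) (by simp)
  refine ⟨_, _, hs.isCompl, fun v => by simp [sub_eq_zero], fun v => ⟨v, by simp⟩, h1,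
    fun u hu v hv => h.eq_zero_comm.mp (h1 u hu v hv), fun W hW w hw => ?_⟩
  obtain ⟨a, ha, _, ⟨u, rfl⟩, h2⟩ := Submodule.mem_sup.mp
    ((hs.restrict hW).isCompl.sup_eq_top.ge (Submodule.mem_top (x := ⟨w, hw⟩)))
  exact ⟨a, a.2, u, u.2, by simpa [Subtype.ext_iff] using ha,
    by simpa [Subtype.ext_iff] using h2.symm⟩

/-- Invariant subspaces of the commutator space. -/
structure OrdR (B : V →ₛₗ[σ] V →ₗ[F] F) (g : End F V) (b c : ℕ) (A C : Submodule F V) (j h : ℕ) :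
    Prop extends FixSp B g A C where
  rank : finrank F C = c * j
  ts_of : ∀ U ≤ C, (∀ v ∈ U, g v ∈ U) → TotIso B U → ∃ j' ≤ h, finrank F U = b * j'
  ts_ex : ∀ j' ≤ h, ∃ U ≤ C, (∀ v ∈ U, g v ∈ U) ∧ TotIso B U ∧ finrank F U = b * j'
  nd_of : ∀ U ≤ C, (∀ v ∈ U, g v ∈ U) → NondegOn B U → ∃ j' ≤ j, finrank F U = c * j'
  nd_ex : ∀ j' ≤ j, ∃ U ≤ C, (∀ v ∈ U, g v ∈ U) ∧ NondegOn B U ∧ finrank F U = c * j'

theorem FixSp.ordR [Finite F] {A C : Submodule F V} (hA : FixSp B g A C) (h : HForm B ε)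
    (hg : ∀ u v, B (g u) (g v) = B u v) (hs : g.IsSemisimple) {b c j k : ℕ}
    (hr : Rig σ ε (elDiv (g.restrict hA.inv))) (hm : MD σ b c (elDiv (g.restrict hA.inv)) j k) :
    OrdR B g b c A C j k := by
  have hC := h.restrict (hA.nondegOn h).2
  have hg' : ∀ u v, restr B C (g.restrict hA.inv u) (g.restrict hA.inv v) = restr B C u v :=
    fun _ _ => hg _ _
  refine ⟨hA, by rw [finrank_eq_elDeg_restrict hA.inv, hm.deg], fun U hU h1 h2 => ?_,
    fun j' hj => ?_, fun U hU h1 h2 => ?_, fun j' hj => ?_⟩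
  · have h3 : ∀ v ∈ U.comap C.subtype, g.restrict hA.inv v ∈ U.comap C.subtype :=
      fun v hv => h1 v hv
    have h4 := hC.add_dual_le hg' (hs.restrict hA.inv) h3 fun u hu v hv => h2 u hu v hv
    rw [elDiv_restrict_restrict hU h1] at h4
    rw [finrank_eq_elDeg_restrict h1]
    exact hm.ts_of _ h4
  · obtain ⟨s, h1, h2⟩ := hm.ts_ex j' hj
    obtain ⟨U, -, h3, -, h4, -, -, -, h5⟩ := hr.exists_totIso hC hg' h1
    obtain ⟨h6, -⟩ := elDiv_restrict_map_subtype hA.inv h3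
    exact ⟨_, Submodule.map_subtype_le _ _, h6, totIso_map_subtype h4, by
      rw [Submodule.finrank_map_subtype_eq, finrank_eq_elDeg_restrict h3, h5, h2]⟩
  · rw [finrank_eq_elDeg_restrict h1]
    exact hm.nd_of _ (elDiv_restrict_mono hs hU h1 _) (h.restrict_map_dualED hg h1 h2)
  · obtain ⟨s, h0, h1, h2⟩ := hm.nd_ex j' hj
    obtain ⟨U, h3, h4, h5⟩ := hr.exists_nondeg hC hg' h0 h1
    obtain ⟨h6, -⟩ := elDiv_restrict_map_subtype hA.inv h3
    exact ⟨_, Submodule.map_subtype_le _ _, h6, nondegOn_map_subtype h4, by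
      rw [Submodule.finrank_map_subtype_eq, finrank_eq_elDeg_restrict h3, h5, h2]⟩

/-- Admissible numbers of blocks and of isotropic blocks. -/
def Adm (fx : Prop) (N j h : ℕ) : Prop := (fx → 2 * h ≤ j ∧ j ≤ 2 * h + N) ∧ (¬ fx → h = j)

/-- The duality on the factors of the cyclotomic polynomial is trivial or fixed point free. -/
structure CycD (σ : F →+* F) (ε : F) (r : ℕ) (fx : Prop) (b c : ℕ) : Prop where
  invol : ∀ a, σ (σ a) = a
  kind : (σ ≠ RingHom.id F ∧ ε = 1) ∨ (σ = RingHom.id F ∧ ε * ε = 1)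
  ne_two : r ≠ 2
  deg : ∀ x ∈ cycFactors F r, x.1.natDegree * x.2 = b
  fix : ∀ x ∈ cycFactors F r, dualED σ x = x ↔ fx
  pos : fx → c = b
  neg : ¬ fx → c = 2 * b

variable [Fintype F] (p : ℕ) [Fact p.Prime] [CharP F p] {r : ℕ} [Fact r.Prime] {fx : Prop}
  {b c : ℕ}

omit [FiniteDimensional F V] in
theorem CycD.rig (hD : CycD σ ε r fx b c) (hrp : r ≠ p) {m : Multiset (F[X] × ℕ)}
    (hm : ∀ x ∈ m, x ∈ cycFactors F r) : Rig σ ε m :=
  hD.kind.imp id fun h => ⟨h.1, h.2, PrimeOrdType.no_pm p hrp hD.ne_two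
    (isElDivs_of_mem_cycFactors hm) (fun x hx => dvd_of_mem_cycFactors (hm x hx))
    fun h => cycFactors_ne p hrp (hm _ h) rfl⟩

omit [FiniteDimensional F V] in
theorem CycD.exists_md (hD : CycD σ ε r fx b c) (hrp : r ≠ p) {m : Multiset (F[X] × ℕ)}
    (hm : ∀ x ∈ m, x ∈ cycFactors F r) (hd : m.map (dualED σ) = m) :
    ∃ j h, Adm fx (cycFactors F r).card j h ∧ MD σ b c m j h := by
  by_cases hf : fx
  · obtain ⟨u, o, rfl, ho⟩ := exists_half_nodup m
    obtain rfl := hD.pos hf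
    exact ⟨_, _, ⟨fun _ => ⟨by omega, Nat.add_le_add_left (Multiset.card_le_card
      ((Multiset.le_iff_subset ho).mpr fun x hx => hm x (by simp [hx]))) _⟩, fun h => absurd hf h⟩,
      MD.fixed ho fun x hx => ⟨hD.deg x (hm x hx), (hD.fix x (hm x hx)).mpr hf⟩⟩
  · have h1 := fun x hx => And.intro (mt (hD.fix x (hm x hx)).mp hf)
      (dualED_mem_cycFactors p hrp hD.invol (hm x hx)).2
    obtain ⟨u, rfl⟩ := exists_half_of_free hd h1
    exact ⟨_, _, ⟨fun h => absurd h hf, fun _ => rfl⟩,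
      hD.neg hf ▸ MD.free fun x hx => ⟨hD.deg x (hm x hx), h1 x hx⟩⟩

omit [FiniteDimensional F V] in
theorem CycD.exists_of_adm (hD : CycD σ ε r fx b c) (hrp : r ≠ p) {j h : ℕ}
    (ha : Adm fx (cycFactors F r).card j h) :
    ∃ m : Multiset (F[X] × ℕ), (∀ x ∈ m, x ∈ cycFactors F r) ∧ MD σ b c m j h := by
  obtain ⟨f, hf⟩ := cycFactors_nonempty (F := F) p hrp
  by_cases hx : fx
  · obtain ⟨h1, h2⟩ := ha.1 hx
    obtain ⟨o, ho, h3⟩ := exists_le_card_eq (cycFactors F r).val (k := j - 2 * h) (by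
      rw [← Finset.card_def]; omega)
    have h4 : ∀ x ∈ Multiset.replicate h f + Multiset.replicate h f + o, x ∈ cycFactors F r := by
      intro x hx
      simp only [Multiset.mem_add, or_self] at hx
      exact hx.elim (fun hx => Multiset.eq_of_mem_replicate hx ▸ hf) (Multiset.mem_of_le ho)
    have := MD.fixed (σ := σ) (Multiset.nodup_of_le ho (cycFactors F r).nodup)
      fun x hx' => ⟨hD.deg x (h4 x hx'), (hD.fix x (h4 x hx')).mpr hx⟩
    rw [Multiset.card_replicate, h3, show 2 * h + (j - 2 * h) = j by omega] at this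
    exact ⟨_, h4, hD.pos hx ▸ this⟩
  · obtain rfl := ha.2 hx
    have h4 : ∀ x ∈ Multiset.replicate h f + (Multiset.replicate h f).map (dualED σ),
        x ∈ cycFactors F r := by
      intro x hx
      rw [Multiset.map_replicate, Multiset.mem_add] at hx
      exact hx.elim (fun hx => Multiset.eq_of_mem_replicate hx ▸ hf) fun hx =>
        Multiset.eq_of_mem_replicate hx ▸ (dualED_mem_cycFactors p hrp hD.invol hf).1
    have := MD.free (σ := σ) fun x hx' => ⟨hD.deg x (h4 x hx'), mt (hD.fix x (h4 x hx')).mp hx,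
      (dualED_mem_cycFactors p hrp hD.invol (h4 x hx')).2⟩
    rw [Multiset.card_replicate] at this
    exact ⟨_, h4, hD.neg hx ▸ this⟩

omit [Fintype F] in
theorem elDiv_of_pow_eq_one (hrp : r ≠ p) (hr : g ^ r = 1) : ∃ k m,
    elDiv g = Multiset.replicate k (X - 1, 1) + m ∧ ∀ x ∈ m, x ∈ cycFactors F r := by
  classical
  refine ⟨((elDiv g).filter fun x => x = (X - 1, 1)).card, (elDiv g).filter fun x => x ≠ (X - 1, 1),
    ?_, fun x hx => ?_⟩
  · rw [← Multiset.eq_replicate_card.mpr fun x hx => (Multiset.mem_filter.mp hx).2,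
      Multiset.filter_add_not]
  obtain ⟨h1, h2⟩ := Multiset.mem_filter.mp hx
  obtain ⟨h3, h4, h5⟩ := isElDivs_elDiv g x h1
  have h6 := forall_dvd_of_pow_eq_smul (c := 1) (by rw [hr, one_smul]) x h1
  have h7 : x.2 = 1 := elDiv_snd_eq_one_of_squarefree
    (separable_X_pow_sub_C 1 (natCast_prime_ne_zero p hrp) one_ne_zero).squarefree
    (by simp [hr]) x h1
  rw [h7, pow_one, C_1, ← cyclotomic_prime_mul_X_sub_one] at h6
  exact mem_cycFactors.mpr ⟨h3, h4, (h4.prime.dvd_or_dvd h6).resolve_right fun h8 => h2 (Prod.ext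
    (eq_of_monic_of_associated h3 monic_X_sub_one
      (h4.associated_of_dvd irreducible_X_sub_one h8)) h7), h7⟩

theorem CycD.ordR_of_md (hD : CycD σ ε r fx b c) (hrp : r ≠ p) (h : HForm B ε)
    (hg : ∀ u v, B (g u) (g v) = B u v) {k j l : ℕ} {m : Multiset (F[X] × ℕ)}
    (he : elDiv g = Multiset.replicate k (X - 1, 1) + m) (hm : ∀ x ∈ m, x ∈ cycFactors F r)
    (hd : MD σ b c m j l) : g ^ r = 1 ∧ ∃ A C, OrdR B g b c A C j l ∧ finrank F A = k := by
  have hr : g ^ r = (1 : F) • 1 := pow_eq_smul_of_forall_dvd fun x hx => by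
    rcases Multiset.mem_add.mp (he ▸ hx) with hx | hx
    · simpa [Multiset.eq_of_mem_replicate hx] using sub_one_dvd_pow_sub_one (X : F[X]) r
    · simpa using dvd_of_mem_cycFactors (hm x hx)
  have h0 := natCast_prime_ne_zero (K := F) p hrp
  have hs := isSemisimple_of_pow_eq_smul h0 one_ne_zero hr
  rw [one_smul] at hr
  obtain ⟨A, C, hA⟩ := exists_fixSp h hg (ssAt_of_pow_eq_one h0 hr 1)
  obtain ⟨h1, h2⟩ := hA.elDiv_eq he fun h => cycFactors_ne p hrp (hm _ h) rfl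
  exact ⟨hr, A, C, hA.ordR h hg hs (h2 ▸ hD.rig p hrp hm) (h2 ▸ hd), h1⟩

theorem CycD.exists_ordR (hD : CycD σ ε r fx b c) (hrp : r ≠ p) (h : HForm B ε)
    (hg : ∀ u v, B (g u) (g v) = B u v) (hr : g ^ r = 1) :
    ∃ A C j l, OrdR B g b c A C j l ∧ Adm fx (cycFactors F r).card j l := by
  obtain ⟨k, m, he, hm⟩ := elDiv_of_pow_eq_one p hrp hr
  have h1 := h.elDiv_map_dualED hg
  rw [he, add_comm, map_dualED_add_replicate] at h1
  obtain ⟨j, l, h2, h3⟩ := hD.exists_md p hrp hm h1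
  obtain ⟨-, A, C, h4, -⟩ := hD.ordR_of_md p hrp h hg he hm h3
  exact ⟨A, C, j, l, h4, h2⟩

omit [FiniteDimensional F V] in
theorem cycD_id (hrp : r ≠ p) (hr2 : r ≠ 2) {ε : F} (hε : ε * ε = 1) {i c : ℕ}
    (hi : i = orderOf (Fintype.card F : ZMod r)) (hc : c = if Even i then i else 2 * i) :
    CycD (RingHom.id F) ε r (Even i) i c := by
  refine ⟨fun _ => rfl, Or.inr ⟨rfl, hε⟩, hr2,
    fun x hx => hi ▸ natDegree_of_mem_cycFactors p hrp hx, fun x hx => ?_,
    fun h => by rw [hc, if_pos h], fun h => by rw [hc, if_neg h]⟩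
  obtain ⟨h1, h2, h3, h4⟩ := mem_cycFactors.mp hx
  rw [hi, ← exists_dvd_pow_add_one_iff hr2 (orderOf_card_pos p hrp).ne', dualED, Prod.ext_iff,
    and_iff_left rfl, dualPoly_eq_self_iff_of_dvd_cyclotomic p 0 (by simp)
      (natCast_prime_ne_zero p hrp) h1 h2 h3]
  simp

end Cfsg.Lib.Known
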