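import Cfsg.Agent.Spor.FmCyc
import Cfsg.Agent.Spor.FmTu2

/-! Fischer model kit: normal abelian subgroups of a group normalising a base of transpositions. -/

set_option autoImplicit false

namespace Cfsg.Lib.Known

open Cfsg.Lib.Spor.Bulk Cfsg.Lib.Spor.Fm

/-- five-bit digits -/
def dg5 (c i : ℕ) : ℕ := Nat.land (Nat.shiftRight c (Nat.mul 5 i)) 31

/-- the composite code (only a hint) -/
noncomputable def cmp5 (m c a : ℕ) : ℕ :=
  Nat.rec 0 (fun i r => Nat.lor r (Nat.shiftLeft (dg5 c (dg5 a i)) (Nat.mul 5 i))) m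

noncomputable def gen5 (C : Cx) (b : ℕ → ℕ) (m : ℕ) (P U : List ℕ) (c : ℕ) : Bool :=
  band (allR (fun i => band (Nat.blt (dg5 c i) m) (Nat.beq (C.ev U (b i)) (b (dg5 c i)))) 0 m)
    (allL (fun a => frc (cmp5 m c a) fun e =>
      band (memL e P) (allR (fun i => Nat.beq (dg5 e i) (dg5 c (dg5 a i))) 0 m)) P)

noncomputable def genL5 (C : Cx) (b : ℕ → ℕ) (m : ℕ) (P : List ℕ) (Ws : List (List ℕ)) : List (ℕ × ℕ) → Bool :=
  List.rec (fun _ => true) (fun W _ r E => List.rec false (fun e E' _ =>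
    band (band (gen5 C b m P W e.1) (gen5 C b m P W.reverse e.2)) (r E')) E) Ws

theorem of_gen5 {C : Cx} {b : ℕ → ℕ} {m : ℕ} {P U : List ℕ} {c : ℕ} (h : gen5 C b m P U c = true) :
    (∀ i < m, dg5 c i < m ∧ C.ev U (b i) = b (dg5 c i)) ∧
      ∀ a ∈ P, ∃ e ∈ P, ∀ i < m, dg5 e i = dg5 c (dg5 a i) := by
  refine ⟨fun i hi => ?_, fun a ha => ?_⟩
  · simpa using allR_zero_iff.1 (band_left h) i hi
  · have h1 : band (memL (cmp5 m c a) P) _ = true := allL_iff.1 (band_right h) a ha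
    exact ⟨_, memL_iff.1 (band_left h1), fun i hi => Nat.eq_of_beq_eq_true (allR_zero_iff.1 (band_right h1) i hi)⟩

theorem of_genL5 {C : Cx} {b : ℕ → ℕ} {m : ℕ} {P : List ℕ} {Ws : List (List ℕ)} {E : List (ℕ × ℕ)}
    (h : genL5 C b m P Ws E = true) : ∀ W ∈ Ws, ∀ U ∈ [W, W.reverse], ∃ c,
      (∀ i < m, dg5 c i < m ∧ C.ev U (b i) = b (dg5 c i)) ∧
        ∀ a ∈ P, ∃ e ∈ P, ∀ i < m, dg5 e i = dg5 c (dg5 a i) := by
  induction Ws generalizing E with
  | nil => exact forall_mem_nil'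
  | cons W Ws ih =>
    cases E with
    | nil => exact absurd h (by simp [genL5])
    | cons e E =>
      exact forall_mem_cons' (forall_mem_cons' ⟨_, of_gen5 (band_left (band_left h))⟩
        (forall_mem_cons' ⟨_, of_gen5 (band_right (band_left h))⟩ forall_mem_nil')) (ih (band_right h))

noncomputable def pair5 (m c0 : ℕ) (P : List ℕ) : Bool :=
  allL (fun a => Bool.rec (allL (fun c => Bool.rec true (Bool.rec (Nat.beq c a) true (Nat.beq c c0))
    (allR (fun j => frc (dg5 a j) fun x => Bool.rec (frc (dg5 c j) fun y =>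
      Bool.rec (Nat.beq y j) true (Nat.beq y x)) true (Nat.beq x j)) 0 m)) P) true (Nat.beq a c0)) P

theorem of_pair5 {m c0 : ℕ} {P : List ℕ} (h : pair5 m c0 P = true) {a : ℕ} (ha : a ∈ P) (h0 : a ≠ c0) {c : ℕ}
    (hc : c ∈ P) (h1 : ∀ j < m, dg5 a j = j ∨ dg5 c j = dg5 a j ∨ dg5 c j = j) : c = c0 ∨ c = a := by
  have h2 := allL_iff.1 h a ha
  rw [show Nat.beq a c0 = false from Bool.eq_false_iff.2 fun e => h0 (Nat.eq_of_beq_eq_true e)] at h2
  have h3 := allL_iff.1 h2 c hc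
  rw [allR_zero_iff.2 fun j hj => ?_] at h3
  · cases e : Nat.beq c c0
    · rw [e] at h3; exact Or.inr (Nat.eq_of_beq_eq_true h3)
    · exact Or.inl (Nat.eq_of_beq_eq_true e)
  · show Bool.rec (motive := fun _ => Bool) (Bool.rec (motive := fun _ => Bool) (Nat.beq (dg5 c j) j) true
      (Nat.beq (dg5 c j) (dg5 a j))) true (Nat.beq (dg5 a j) j) = true
    cases e1 : Nat.beq (dg5 a j) j
    · cases e2 : Nat.beq (dg5 c j) (dg5 a j)
      · rcases h1 j hj with e | e | e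
        · exact absurd e (Nat.ne_of_beq_eq_false e1)
        · exact absurd e (Nat.ne_of_beq_eq_false e2)
        · exact Nat.beq_eq ▸ e
      · rfl
    · rfl

variable {G : Type*} [Group G] {D : Set G} {C : Cx} (M : Mdl G D C)

/-- `x` permutes the listed points as the code says -/
def Cod5 (b : ℕ → ℕ) (m : ℕ) (x : G) (c : ℕ) : Prop := ∀ i < m, dg5 c i < m ∧ M.act x (b i) = b (dg5 c i)

theorem cod5_of_gW {b : ℕ → ℕ} {m : ℕ} {P : List ℕ} {Ws : List (List ℕ)} (hb : ∀ i < m, b i < C.n)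
    (h0 : ∃ c ∈ P, ∀ i < m, dg5 c i = i)
    {E : List (ℕ × ℕ)} (h : genL5 C b m P Ws E = true) {x : G} (hx : x ∈ gW M.g Ws) :
    ∃ c ∈ P, Cod5 M b m x c := by
  have step : ∀ W ∈ Ws, ∀ U ∈ [W, W.reverse], ∀ y : G, (∃ c ∈ P, Cod5 M b m y c) →
      ∃ c ∈ P, Cod5 M b m (M.el U * y) c := by
    rintro W hW U hU y ⟨a, ha, h1⟩
    obtain ⟨c, h2, h3⟩ := of_genL5 h W hW U hU
    obtain ⟨e, he, h4⟩ := h3 a ha
    refine ⟨e, he, fun i hi => ?_⟩
    obtain ⟨h5, h6⟩ := h1 i hi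
    rw [h4 i hi, M.act_mul, h6, M.act_el U (hb _ h5)]
    exact h2 _ h5
  induction hx using Subgroup.closure_induction_left with
  | one =>
    obtain ⟨c, hc, h1⟩ := h0
    exact ⟨c, hc, fun i hi => by simp [h1 i hi, hi]⟩
  | mul_left x hx y _ ih =>
    obtain ⟨W, hW, rfl⟩ := hx
    exact step W hW W (by simp) y ih
  | inv_mul_cancel x hx y _ ih =>
    obtain ⟨W, hW, rfl⟩ := hx
    have := step W hW W.reverse (by simp) y ih
    rwa [M.el_reverse] at this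

theorem card_le_two_mul [Finite G] {A Z : Subgroup G} {a : G} (h : ∀ x ∈ A, x ∈ Z ∨ a⁻¹ * x ∈ Z) :
    Nat.card A ≤ 2 * Nat.card Z := by
  have : Nat.card A ≤ Nat.card (Z ⊕ Z) := by
    classical
    refine Nat.card_le_card_of_injective (fun x => if hx : x.1 ∈ Z then Sum.inl ⟨x.1, hx⟩ else
      Sum.inr ⟨a⁻¹ * x.1, (h x.1 x.2).resolve_left hx⟩) fun x y e => ?_
    by_cases hx : x.1 ∈ Z <;> by_cases hy : y.1 ∈ Z <;> simp [hx, hy] at e <;> exact Subtype.ext (by simpa using e)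
  rw [Nat.card_sum] at this
  omega

theorem three_mul_card_le [Finite G] {V Z : Subgroup G} (hZ : Z ≤ V) {u v : G} (hu : u ∈ V) (hv : v ∈ V)
    (h1 : u ∉ Z) (h2 : v ∉ Z) (h3 : u⁻¹ * v ∉ Z) : 3 * Nat.card Z ≤ Nat.card V := by
  have : Nat.card (Z ⊕ Z ⊕ Z) ≤ Nat.card V := by
    refine Nat.card_le_card_of_injective (Sum.elim (fun z => ⟨z.1, hZ z.2⟩) (Sum.elim
      (fun z => ⟨u * z.1, mul_mem hu (hZ z.2)⟩) (fun z => ⟨v * z.1, mul_mem hv (hZ z.2)⟩))) ?_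
    have k1 : ∀ w : G, w ∉ Z → ∀ x y : Z, x.1 ≠ w * y.1 := fun w hw x y e =>
      hw (by rw [show w = x.1 * y.1⁻¹ by rw [e]; group]; exact mul_mem x.2 (inv_mem y.2))
    have k2 : ∀ x y : Z, u * x.1 ≠ v * y.1 := fun x y e => k1 _ h3 x y (by rw [mul_assoc, ← e]; group)
    rintro (x | x | x) (y | y | y) e <;> simp only [Sum.elim_inl, Sum.elim_inr, Subtype.mk.injEq] at e
    · rw [Subtype.ext e]
    · exact absurd e (k1 _ h1 _ _)
    · exact absurd e (k1 _ h2 _ _)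
    · exact absurd e.symm (k1 _ h1 _ _)
    · rw [Subtype.ext (mul_left_cancel e)]
    · exact absurd e (k2 _ _)
    · exact absurd e.symm (k1 _ h2 _ _)
    · exact absurd e.symm (k2 _ _)
    · rw [Subtype.ext (mul_left_cancel e)]
  rw [Nat.card_sum, Nat.card_sum] at this
  omega

theorem fm_pair (hU : UF D 2) {p q r s : ℕ} (hp : p < C.n) (hq : q < C.n) (hr : r < C.n) (hs : s < C.n)
    (h1 : p ≠ q) (h2 : r ≠ s) (c1 : Commute (M.t p) (M.t q)) (c2 : Commute (M.t r) (M.t s))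
    (e : M.t p * M.t q = M.t r * M.t s) : q = r ∨ q = s := by
  have := (hU.mem_iff hU (CT.two (M.t_mem hp) (M.t_mem hq) (fun e => h1 (M.t_inj _ hp _ hq e)) c1)
    (CT.two (M.t_mem hr) (M.t_mem hs) (fun e => h2 (M.t_inj _ hr _ hs e)) c2) (by simpa using e) (M.t q)).1
    (by simp)
  simp only [List.mem_cons, List.not_mem_nil, or_false] at this
  exact this.imp (M.t_inj _ hq _ hr) (M.t_inj _ hq _ hs)

theorem fm_syl (hU : UF D 2) {b : ℕ → ℕ} {m : ℕ} {P : List ℕ} {T V : Subgroup G} (hb : ∀ i < m, b i < C.n)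
    (hi : ∀ i < m, ∀ j < m, b i = b j → i = j) (hV : ∀ x, x ∈ V ↔ ∀ i < m, M.act x (b i) = b i)
    (ht : ∀ i < m, M.t (b i) ∈ V) (hVT : V ≤ T) (hT : ∀ x ∈ T, ∃ c ∈ P, Cod5 M b m x c)
    {c0 : ℕ} (h0 : ∀ i < m, dg5 c0 i = i)
    (hP : ∀ a ∈ P, a = c0 ∨ ∃ i < m, dg5 a i ≠ i ∧ ∃ j < m, dg5 a j ≠ j ∧ j ≠ i ∧ j ≠ dg5 a i)
    (hP' : pair5 m c0 P = true)
    {A : Subgroup G} (hA : A ≤ T) (hn : (A.subgroupOf T).Normal) (hc : IsMulCommutative A) (h : ¬ A ≤ V) :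
    3 * Nat.card A ≤ 2 * Nat.card V := by
  have := M.fin
  obtain ⟨a, ha, haV⟩ := SetLike.not_le_iff_exists.1 h
  obtain ⟨ca, hca, ea⟩ := hT a (hA ha)
  have com : ∀ i < m, ∀ j < m, Commute (M.t (b i)) (M.t (b j)) := fun i h1 j h2 =>
    (M.act_eq_self_iff (hb j h2)).1 ((hV _).1 (ht i h1) j h2)
  have cA : ∀ x ∈ A, ∀ y ∈ A, x * y = y * x := fun x hx y hy =>
    congrArg Subtype.val (hc.1.1 ⟨x, hx⟩ ⟨y, hy⟩)
  have hca0 : ca ≠ c0 := fun e => haV ((hV a).2 fun i h1 => by rw [(ea i h1).2, e, h0 i h1])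
  obtain ⟨i, i1, i2, j, j1, j2, j3, j4⟩ := (hP ca hca).resolve_left hca0
  have k1 : ∀ x ∈ A, x ∈ V ⊓ Subgroup.centralizer {a} ∨ a⁻¹ * x ∈ V ⊓ Subgroup.centralizer {a} := by
    intro x hx
    obtain ⟨c, hc, ec⟩ := hT x (hA hx)
    have hx1 : ∀ y ∈ A, y ∈ Subgroup.centralizer {a} := fun y hy =>
      Subgroup.mem_centralizer_singleton_iff.2 (cA y hy a ha)
    refine (of_pair5 hP' hca hca0 hc fun k k1 => ?_).imp
      (fun h2 => ⟨(hV x).2 fun k k1 => by rw [(ec k k1).2, h2, h0 k k1], hx1 x hx⟩) fun h2 => ⟨(hV _).2 fun k k1 => ?_, hx1 _ (mul_mem (inv_mem ha) hx)⟩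
    · by_cases k2 : dg5 ca k = k
      · exact Or.inl k2
      right
      obtain ⟨k3, k4⟩ := ea k k1
      have u1 : M.t (b (dg5 ca k)) * M.t (b k) ∈ A := by
        have := hn.conj_mem ⟨a⁻¹, hA (inv_mem ha)⟩ (inv_mem ha) ⟨_, hVT (ht k k1)⟩
        have h5 := mul_mem ha (Subgroup.mem_subgroupOf.1 this)
        rw [← k4, M.t_act a _ (hb k k1)]
        simpa [mul_assoc, M.t_inv (hb k k1)] using h5
      have u2 : M.t (b (dg5 c (dg5 ca k))) * M.t (b (dg5 c k)) = M.t (b (dg5 ca k)) * M.t (b k) := by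
        rw [← (ec _ k3).2, ← (ec k k1).2, M.t_act x _ (hb _ k3), M.t_act x _ (hb k k1)]
        have := cA x hx _ u1
        calc _ = x * (M.t (b (dg5 ca k)) * M.t (b k)) * x⁻¹ := by group
          _ = _ := by rw [this]; group
      have u3 : b (dg5 ca k) ≠ b k := fun e => k2 (hi _ k3 _ k1 e)
      have u4 : b (dg5 c (dg5 ca k)) ≠ b (dg5 c k) := by
        rw [← (ec _ k3).2, ← (ec k k1).2]
        exact fun e => u3 ((M.act x).injective e)
      exact (fm_pair M hU (hb _ (ec _ k3).1) (hb _ (ec k k1).1) (hb _ k3) (hb k k1) u4 u3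
        (com _ (ec _ k3).1 _ (ec k k1).1) (com _ k3 _ k1) u2).imp (hi _ (ec k k1).1 _ k3) (hi _ (ec k k1).1 _ k1)
    · rw [M.act_mul, (ec k k1).2, h2, ← (ea k k1).2, M.act_inv_act]
  have k2 : ∀ k < m, dg5 ca k ≠ k → M.t (b k) ∉ V ⊓ Subgroup.centralizer {a} := fun k k1 k2 k3 => by
    have : Commute a (M.t (b k)) := (Subgroup.mem_centralizer_singleton_iff.1 k3.2).symm
    rw [← M.act_eq_self_iff (hb k k1), (ea k k1).2] at this
    exact k2 (hi _ (ea k k1).1 _ k1 this)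
  have k3 : (M.t (b i))⁻¹ * M.t (b j) ∉ V ⊓ Subgroup.centralizer {a} := fun k3 => by
    have h5 := Subgroup.mem_centralizer_singleton_iff.1 k3.2
    rw [M.t_inv (hb i i1)] at h5
    have u2 : M.t (b i) * M.t (b j) = M.t (b (dg5 ca i)) * M.t (b (dg5 ca j)) := by
      rw [← (ea i i1).2, ← (ea j j1).2, M.t_act a _ (hb i i1), M.t_act a _ (hb j j1)]
      calc _ = (M.t (b i) * M.t (b j) * a) * a⁻¹ := by group
        _ = _ := by rw [h5]; group
    have u3 : b i ≠ b j := fun e => j3 (hi _ i1 _ j1 e).symm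
    have u4 : b (dg5 ca i) ≠ b (dg5 ca j) := by
      rw [← (ea i i1).2, ← (ea j j1).2]
      exact fun e => u3 ((M.act a).injective e)
    rcases fm_pair M hU (hb i i1) (hb j j1) (hb _ (ea i i1).1) (hb _ (ea j j1).1) u3 u4 (com i i1 j j1)
      (com _ (ea i i1).1 _ (ea j j1).1) u2 with e | e
    · exact j4 (hi _ j1 _ (ea i i1).1 e)
    · exact j2 (hi _ j1 _ (ea j j1).1 e).symm
  have e1 := card_le_two_mul k1
  have e2 := three_mul_card_le inf_le_left (ht i i1) (ht j j1) (k2 i i1 i2) (k2 j j1 j2) k3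
  omega

theorem fm_syl_normal {b : ℕ → ℕ} {m : ℕ} {P : List ℕ} {T V : Subgroup G}
    (hV : ∀ x, x ∈ V ↔ ∀ i < m, M.act x (b i) = b i) (hT : ∀ x ∈ T, ∃ c ∈ P, Cod5 M b m x c) :
    (V.subgroupOf T).Normal := ⟨fun v hv x => Subgroup.mem_subgroupOf.2 ((hV _).2 fun i h1 => by
  obtain ⟨c, -, ec⟩ := hT x⁻¹ (inv_mem x.2)
  simp only [Subgroup.coe_mul, Subgroup.coe_inv]
  rw [M.act_mul, M.act_mul, (ec i h1).2, (hV _).1 (Subgroup.mem_subgroupOf.1 hv) _ (ec i h1).1, ← (ec i h1).2,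
    M.act_act_inv])⟩

end Cfsg.Lib.Known
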