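import Mathlib
import Cfsg.Prelude.Def_Solvable

/-!
# Semidirect products with a fixed point free action
-/

set_option autoImplicit false

namespace Cfsg.Lib.Known

open SemidirectProduct Polynomial

section General

variable {A K : Type*} [Group A]

theorem isFrobeniusComplement_range_inr [Group K] [Nontrivial A] [Nontrivial K]
    (φ : A →* MulAut K) (h : ∀ a, a ≠ 1 → ∀ k, φ a k = k → k = 1) :
    IsFrobeniusComplement (inr : A →* K ⋊[φ] A).range := by
  refine ⟨fun h => ?_, fun h => ?_, fun g hg => ?_⟩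
  · obtain ⟨a, ha⟩ := exists_ne (1 : A)
    exact ha (inr_injective ((Subgroup.eq_bot_iff_forall _).1 h _ ⟨a, rfl⟩ |>.trans (map_one _).symm))
  · obtain ⟨k, hk⟩ := exists_ne (1 : K)
    obtain ⟨a, ha⟩ : (inl k : K ⋊[φ] A) ∈ (inr : A →* K ⋊[φ] A).range := h ▸ Subgroup.mem_top _
    exact hk (congrArg left ha).symm
  · rw [eq_bot_iff]
    rintro _ ⟨⟨b, rfl⟩, _, ⟨c, rfl⟩, e⟩
    have e' : g * inr c = inr b * g := by rw [← e]; simp
    by_contra hb
    have h1 := congrArg left e'
    simp only [mul_left, left_inr, map_one, mul_one, right_inr, one_mul] at h1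
    exact hg ⟨g.right, SemidirectProduct.ext (h b (fun h' => hb (by simp [h'])) _ h1.symm).symm rfl⟩

theorem range_orderOf_semidirect [CommGroup K] [Finite A] (φ : A →* MulAut K)
    (h : ∀ a, a ≠ 1 → ∀ k, φ a k = k → k = 1) :
    Set.range (orderOf : K ⋊[φ] A → ℕ) =
      Set.range (orderOf : K → ℕ) ∪ Set.range (orderOf : A → ℕ) := by
  ext n
  constructor
  · rintro ⟨g, rfl⟩
    by_cases hg : g.right = 1
    · exact Or.inl ⟨g.left, by
        rw [← orderOf_injective (inl : K →* K ⋊[φ] A) inl_injective]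
        exact congrArg orderOf (SemidirectProduct.ext rfl hg.symm)⟩
    · refine Or.inr ⟨g.right, Nat.dvd_antisymm (orderOf_map_dvd rightHom g)
        (orderOf_dvd_of_pow_eq_one ?_)⟩
      have h1 : (g ^ orderOf g.right).right = 1 := by
        rw [← rightHom_eq_right, map_pow, rightHom_eq_right, pow_orderOf_eq_one]
      have h2 := congrArg left (pow_mul_comm' g (orderOf g.right))
      rw [mul_left, mul_left, h1, map_one, MulAut.one_apply, mul_comm, mul_right_inj] at h2
      exact SemidirectProduct.ext (h _ hg _ h2.symm) h1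
  · rintro (⟨k, rfl⟩ | ⟨a, rfl⟩)
    · exact ⟨inl k, orderOf_injective _ inl_injective k⟩
    · exact ⟨inr a, orderOf_injective _ inr_injective a⟩

theorem isSolvable_semidirect [Group K] [Group.IsSolvable K] [Group.IsSolvable A]
    (φ : A →* MulAut K) : Group.IsSolvable (K ⋊[φ] A) :=
  Group.isSolvable_of_ker_le_range (inl : K →* K ⋊[φ] A) rightHom range_inl_eq_ker_rightHom.ge

theorem range_orderOf_eq_of_exponent {G : Type*} [Group G] [Finite G] {g : G}
    (h : ∀ x : G, x ^ orderOf g = 1) : Set.range (orderOf : G → ℕ) = {n | n ∣ orderOf g} := by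
  ext n
  refine ⟨?_, fun hn => ⟨g ^ (orderOf g / n), orderOf_pow_orderOf_div (orderOf_pos g).ne' hn⟩⟩
  rintro ⟨x, rfl⟩
  exact orderOf_dvd_of_pow_eq_one (h x)

theorem range_orderOf_prod {G H : Type*} [Group G] [Group H] :
    Set.range (orderOf : G × H → ℕ) = {n | ∃ a ∈ Set.range (orderOf : G → ℕ),
      ∃ b ∈ Set.range (orderOf : H → ℕ), n = Nat.lcm a b} := by
  ext n
  constructor
  · rintro ⟨x, rfl⟩
    exact ⟨_, ⟨x.1, rfl⟩, _, ⟨x.2, rfl⟩, Prod.orderOf x⟩
  · rintro ⟨_, ⟨a, rfl⟩, _, ⟨b, rfl⟩, rfl⟩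
    exact ⟨(a, b), Prod.orderOf_mk⟩

end General

/-- Multiplication by units as automorphisms of the additive group. -/
def unitsMulAut (R : Type*) [Ring R] : Rˣ →* MulAut (Multiplicative R) :=
  MonoidHom.mk' (fun u => AddEquiv.toMultiplicative (DistribMulAction.toAddEquiv R u)) (by
    intro g h
    ext v
    simp [mul_smul])

theorem unitsMulAut_apply {R : Type*} [Ring R] (u : Rˣ) (v : Multiplicative R) :
    unitsMulAut R u v = Multiplicative.ofAdd (u * v.toAdd) := rfl

theorem cyclotomic_dvd_sum {R : Type*} [CommRing R] {d m : ℕ} (hd : d ≠ 0) (hm : 1 < m) :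
    cyclotomic (d * m) R ∣ ∑ i ∈ Finset.range m, (X ^ d) ^ i := by
  have h := X_pow_sub_one_mul_cyclotomic_dvd_X_pow_sub_one_of_dvd R (d := d) (n := d * m)
    (Nat.mem_properDivisors.2 ⟨dvd_mul_right d m, by nlinarith [Nat.pos_of_ne_zero hd]⟩)
  rw [pow_mul, ← mul_geom_sum (X ^ d) m] at h
  obtain ⟨c, hc⟩ := h
  exact ⟨c, (monic_X_pow_sub_C (1 : R) hd).isRegular.left (by
    simpa only [mul_assoc, C_1] using hc)⟩

/-- A solvable group whose element orders are the divisors of two given coprime numbers. -/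
theorem exists_solvable_range_orderOf {r s : ℕ} (hr : r ≠ 0) (hs : 1 < s) (h : r.Coprime s) :
    ∃ (H : Type) (_ : Group H) (_ : Finite H), Group.IsSolvable H ∧
      Set.range (orderOf : H → ℕ) = {n | n ∣ s} ∪ {n | n ∣ r} := by
  have : Fact (1 < s) := ⟨hs⟩
  have : NeZero s := ⟨by omega⟩
  let f := cyclotomic r (ZMod s)
  have hf : f.Monic := cyclotomic.monic r _
  let R := AdjoinRoot f
  have : Module.Finite (ZMod s) R := hf.finite_adjoinRoot
  have : Module.Free (ZMod s) R := hf.free_adjoinRoot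
  have : Finite R := Module.finite_of_finite (ZMod s)
  have : Nontrivial R := Ideal.Quotient.nontrivial_iff.2 (by
    rw [Ne, Ideal.span_singleton_eq_top, hf.isUnit_iff]
    intro h'
    have := natDegree_cyclotomic r (ZMod s)
    rw [show cyclotomic r (ZMod s) = 1 from h', natDegree_one] at this
    exact (Nat.totient_pos.2 (Nat.pos_of_ne_zero hr)).ne this)
  have : CharP R s := charP_of_injective_algebraMap (FaithfulSMul.algebraMap_injective (ZMod s) R) s
  have h0 : aeval (AdjoinRoot.root f) f = 0 := by rw [AdjoinRoot.aeval_eq, AdjoinRoot.mk_self]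
  have h1 : AdjoinRoot.root f ^ r = 1 := by
    have := aeval_eq_zero_of_dvd_aeval_eq_zero (cyclotomic.dvd_X_pow_sub_one r (ZMod s)) h0
    simpa [sub_eq_zero] using this
  let ζ : Rˣ := Units.ofPowEqOne _ r h1 hr
  have hζ : ζ ^ r = 1 := Units.pow_ofPowEqOne _ _
  have key : ∀ d : ℕ, d ∣ r → d ≠ r → ∀ v : R, (ζ ^ d : Rˣ) * v = v → v = 0 := by
    rintro d ⟨m, rfl⟩ hd v hv
    have hm : 1 < m := by
      rcases m with _ | _ | m
      · simp at hr
      · simp at hd
      · omega
    have h2 := aeval_eq_zero_of_dvd_aeval_eq_zero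
      (cyclotomic_dvd_sum (R := ZMod s) (left_ne_zero_of_mul hr) hm) h0
    have h3 : ∀ i : ℕ, (AdjoinRoot.root f ^ d) ^ i * v = v := fun i => by
      induction i with
      | zero => simp
      | succ i ih => rw [pow_succ, mul_assoc, show AdjoinRoot.root f ^ d * v = v from hv, ih]
    have h4 : (m : R) * v = 0 := by
      simp only [map_sum, map_pow, aeval_X] at h2
      rw [← zero_mul v, ← h2, Finset.sum_mul, Finset.sum_congr rfl fun i _ => h3 i]
      simp
    have h5 : IsUnit (m : R) := by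
      simpa using ((ZMod.isUnit_iff_coprime m s).2 (Nat.Coprime.coprime_mul_left h)).map
        (algebraMap (ZMod s) R)
    exact h5.mul_right_eq_zero.1 h4
  have ho : orderOf ζ = r := by
    by_contra h'
    exact one_ne_zero (key _ (orderOf_dvd_of_pow_eq_one hζ) h' 1 (by simp))
  refine ⟨Multiplicative R ⋊[(unitsMulAut R).comp (Subgroup.zpowers ζ).subtype] Subgroup.zpowers ζ,
    inferInstance, Finite.of_equiv _ equivProd.symm, isSolvable_semidirect _, ?_⟩
  have e1 : orderOf (Multiplicative.ofAdd (1 : R)) = s := by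
    rw [orderOf_ofAdd_eq_addOrderOf]
    exact CharP.eq R (CharP.addOrderOf_one R) ‹_›
  have e2 : orderOf (⟨ζ, Subgroup.mem_zpowers ζ⟩ : Subgroup.zpowers ζ) = r := by
    rw [← ho, ← Subgroup.orderOf_coe]
  rw [range_orderOf_semidirect, range_orderOf_eq_of_exponent (g := Multiplicative.ofAdd (1 : R)),
    range_orderOf_eq_of_exponent (g := (⟨ζ, Subgroup.mem_zpowers ζ⟩ : Subgroup.zpowers ζ)), e1, e2]
  · intro x
    rw [e2, ← ho, ← Nat.card_zpowers, pow_card_eq_one']
  · intro x
    rw [e1]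
    exact Multiplicative.toAdd.injective (by simp)
  · rintro ⟨a, ha⟩ ha1 k hk
    obtain ⟨n, rfl⟩ := mem_powers_iff_mem_zpowers.2 ha
    refine key (Nat.gcd n r) (Nat.gcd_dvd_right _ _) (fun h' => ha1 (Subtype.ext ?_)) k.toAdd ?_
    · exact orderOf_dvd_iff_pow_eq_one.1 (ho ▸ h' ▸ Nat.gcd_dvd_left n r)
    · have h6 : (ζ ^ Nat.gcd n r : Rˣ) ∈ MulAction.stabilizer Rˣ k.toAdd := by
        rw [← zpow_natCast, Nat.gcd_eq_gcd_ab, zpow_add, zpow_mul, zpow_mul, zpow_natCast,
          zpow_natCast, hζ, one_zpow, mul_one]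
        exact Subgroup.zpow_mem _ (congrArg Multiplicative.toAdd hk) _
      exact h6

end Cfsg.Lib.Known
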