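import Cfsg.Agent.Known.ChevSpec
import Cfsg.Agent.Known.ChevOrd
import Cfsg.Agent.Chev.RepG2

/-!
# The element orders of `G₂(q)`
-/

set_option autoImplicit false
set_option linter.unusedSectionVars false

namespace Cfsg.Lib.Known

open Cfsg.Lie Cfsg.Lie.ChevalleyDatum Cfsg.Lib.Chev Cfsg.Lib.Chev.Core

universe u

section alg
variable {V : Type*} [AddCommGroup V] {x : Fin 3 → V} {q ε : ℤ} {σ : Equiv.Perm (Fin 3)}

theorem g2_sum3 (hs : x 0 + x 1 + x 2 = 0) (i j k : Fin 3) (h1 : i ≠ j) (h2 : i ≠ k) (h3 : j ≠ k) :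
    x i + x j + x k = 0 := by
  have key : ∀ i j k : Fin 3, i ≠ j → i ≠ k → j ≠ k → Finset.univ = ({i, j, k} : Finset (Fin 3)) := by
    decide
  rw [← hs, ← Fin.sum_univ_three, key i j k h1 h2 h3, Finset.sum_insert (by simp [h1, h2]),
    Finset.sum_pair h3, add_assoc]

theorem g2_third : ∀ i j : Fin 3, i ≠ j → ∃ k, i ≠ k ∧ j ≠ k ∧ ∀ l, l = i ∨ l = j ∨ l = k := by
  decide

theorem g2_alg1 (hs : x 0 + x 1 + x 2 = 0) (hε : ε = 1 ∨ ε = -1)
    (h : ∀ i, q • x i = ε • x (σ i)) : (∀ i, (q ^ 2 - 1) • x i = 0) ∨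
      (∀ i, (q ^ 2 + q + 1) • x i = 0) ∨ ∀ i, (q ^ 2 - q + 1) • x i = 0 := by
  have key : ∀ σ : Equiv.Perm (Fin 3), (∀ i, σ (σ i) = i) ∨
      ∀ i, i ≠ σ i ∧ i ≠ σ (σ i) ∧ σ i ≠ σ (σ i) := by decide
  rcases key σ with k | k
  · refine .inl fun i => ?_
    have h1 := h i
    have h2 := h (σ i)
    rw [k] at h2
    rcases hε with rfl | rfl
    · linear_combination (norm := module) q • h1 + h2
    · linear_combination (norm := module) q • h1 - h2
  · have h3 := fun i => g2_sum3 hs _ _ _ (k i).1 (k i).2.1 (k i).2.2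
    rcases hε with rfl | rfl
    · exact .inr (.inl fun i => by
        linear_combination (norm := module) (q + 1) • h i + h (σ i) + h3 i)
    · exact .inr (.inr fun i => by
        linear_combination (norm := module) (q - 1) • h i - h (σ i) + h3 i)

theorem g2_alg2 (hs : x 0 + x 1 + x 2 = 0) (hε : ε = 1 ∨ ε = -1)
    (h : ∀ i, q • x i = ε • x (σ i)) {i : Fin 3} (h0 : x i = 0) :
    (∀ l, (q - 1) • x l = 0) ∨ ∀ l, (q + 1) • x l = 0 := by
  obtain ⟨j, hj⟩ := exists_ne i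
  obtain ⟨k, h1, h2, h3⟩ := g2_third i j hj.symm
  have h4 := g2_sum3 hs i j k hj.symm h1 h2
  have key : ∀ n : ℤ, n • x j = 0 → ∀ l, n • x l = 0 := fun n hn l => by
    rcases h3 l with rfl | rfl | rfl
    · rw [h0, smul_zero]
    · exact hn
    · linear_combination (norm := module) n • h4 - hn - n • h0
  have h5 := h j
  rcases h3 (σ j) with e | e | e
  · have h6 : x (σ i) = 0 := by
      rcases hε with rfl | rfl
      · linear_combination (norm := module) q • h0 - h i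
      · linear_combination (norm := module) h i - q • h0
    refine .inl (key _ ?_)
    rcases h3 (σ i) with e' | e' | e'
    · exact absurd (σ.injective (e.trans e'.symm)) hj
    · rw [← e', h6, smul_zero]
    · rw [e'] at h6
      linear_combination (norm := module) (q - 1) • (h4 - h6 - h0)
  · rw [e] at h5
    rcases hε with rfl | rfl
    · exact .inl (key _ (by linear_combination (norm := module) h5))
    · exact .inr (key _ (by linear_combination (norm := module) h5))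
  · rw [e] at h5
    rcases hε with rfl | rfl
    · exact .inr (key _ (by linear_combination (norm := module) h5 + h4 - h0))
    · exact .inl (key _ (by linear_combination (norm := module) h5 - h4 + h0))

theorem g2_alg3 (hs : x 0 + x 1 + x 2 = 0) (hε : ε = 1 ∨ ε = -1)
    (h : ∀ i, q • x i = ε • x (σ i)) {i j : Fin 3} (hij : i ≠ j) (h0 : x i = x j) :
    (∀ l, (q - 1) • x l = 0) ∨ ∀ l, (q + 1) • x l = 0 := by
  obtain ⟨k, h1, h2, h3⟩ := g2_third i j hij
  have h4 := g2_sum3 hs i j k hij h1 h2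
  have key : ∀ n : ℤ, n • x i = 0 → ∀ l, n • x l = 0 := fun n hn l => by
    rcases h3 l with rfl | rfl | rfl
    · exact hn
    · rwa [← h0]
    · linear_combination (norm := module) n • h4 - (2 : ℤ) • hn + n • h0
  have h5 : q • x i = ε • x i := by
    rcases h3 (σ i) with e | e | e
    · rw [h, e]
    · rw [h, e, h0]
    · rcases h3 (σ j) with e' | e' | e'
      · rw [h0, h, e', h0]
      · rw [h0, h, e']
      · exact absurd (σ.injective (e.trans e'.symm)) hij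
  rcases hε with rfl | rfl
  · exact .inl (key _ (by linear_combination (norm := module) h5))
  · exact .inr (key _ (by linear_combination (norm := module) h5))

end alg

section tor
variable {M : Type*} [CommGroup M]

/-- The Weyl data of type `G₂` indexed by `Fin 2`. -/
noncomputable def wG2 : WeylData (Fin 2) ℕ := rootG2.weyl

theorem wG2_eq_1' : type_of% @wG2.eq_1 := @wG2.eq_1

/-- First coordinates of the roots. -/
def g2a (r : ℕ) : ℤ := [-3, -3, -2, -1, -1, 0, 0, 1, 1, 2, 3, 3].getD r 0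
/-- Second coordinates of the roots. -/
def g2b (r : ℕ) : ℤ := [-2, -1, -1, -1, 0, -1, 1, 0, 1, 1, 1, 2].getD r 0

theorem g2a_eq_1' : type_of% @g2a.eq_1 := @g2a.eq_1
theorem g2b_eq_1' : type_of% @g2b.eq_1 := @g2b.eq_1

theorem chr_rcG2 (c : Fin 2 → M) {r : ℕ} (hr : r < 12) :
    chr c (wG2.rc r) = c 0 ^ g2a r * c 1 ^ g2b r := by
  have : ∀ r < 12, wG2.rc r 0 = g2a r ∧ wG2.rc r 1 = g2b r := by
    decide +kernel
  rw [← (this r hr).1, ← (this r hr).2]
  exact Fin.prod_univ_two _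

theorem torG2_s0 (c : Fin 2 → M) :
    wG2.tor M (wG2.s (0 : Fin 2)) c = ![(c 0)⁻¹, c 0 ^ 3 * c 1] := by
  have h0 : wG2.C (0 : Fin 2) (0 : Fin 2) = 2 := by decide +kernel
  have h1 : wG2.C (0 : Fin 2) (1 : Fin 2) = -3 := by decide +kernel
  have : ∀ j : Fin 2, wG2.tor M (wG2.s (0 : Fin 2)) c j =
      ![(c 0)⁻¹, c 0 ^ 3 * c 1] j := Fin.forall_fin_two.2 ⟨by
    rw [WeylData.tor_s, h0]; show c 0 * c 0 ^ _ = (c 0)⁻¹; group, by
    rw [WeylData.tor_s, h1, mul_comm]; exact congrArg (· * c 1) (zpow_ofNat (c 0) 3)⟩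
  exact funext this

theorem torG2_s1 (c : Fin 2 → M) :
    wG2.tor M (wG2.s (1 : Fin 2)) c = ![c 0 * c 1, (c 1)⁻¹] := by
  have h0 : wG2.C (1 : Fin 2) (0 : Fin 2) = -1 := by decide +kernel
  have h1 : wG2.C (1 : Fin 2) (1 : Fin 2) = 2 := by decide +kernel
  have : ∀ j : Fin 2, wG2.tor M (wG2.s (1 : Fin 2)) c j =
      ![c 0 * c 1, (c 1)⁻¹] j := Fin.forall_fin_two.2 ⟨by
    rw [WeylData.tor_s, h0]; exact congrArg (c 0 * ·) (zpow_one (c 1)), by
    rw [WeylData.tor_s, h1]; show c 1 * c 1 ^ _ = (c 1)⁻¹; group⟩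
  exact funext this

/-- The values of three short roots with sum zero. -/
def g2X (c : Fin 2 → M) : Fin 3 → Additive M :=
  ![.ofMul (c 0), .ofMul (c 0) + .ofMul (c 1), -((2 : ℤ) • .ofMul (c 0) + .ofMul (c 1))]

theorem g2X_eq_1' : type_of% @g2X.eq_1 := @g2X.eq_1

theorem g2X_sum (c : Fin 2 → M) : g2X c 0 + g2X c 1 + g2X c 2 = 0 := by
  simp only [g2X, Matrix.cons_val]; module

theorem g2X_pow (c : Fin 2 → M) (n : ℕ) (i : Fin 3) : g2X (c ^ n) i = (n : ℤ) • g2X c i := by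
  fin_cases i <;> simp only [g2X, Pi.pow_apply, ofMul_pow, Fin.zero_eta, Fin.mk_one, Fin.reduceFinMk,
    Matrix.cons_val] <;> module

theorem orderOf_dvd_of_g2X {c : Fin 2 → M} {n : ℕ} (h : ∀ i, (n : ℤ) • g2X c i = 0) :
    orderOf c ∣ n := by
  have h0 := h 0
  have h1 := h 1
  rw [← g2X_pow] at h0 h1
  simp only [g2X, Matrix.cons_val] at h0 h1
  rw [h0, zero_add] at h1
  exact orderOf_dvd_of_pow_eq_one (funext (Fin.forall_fin_two.2 ⟨h0, h1⟩))

theorem exists_g2X_tor (w : wG2.W) : ∃ ε : ℤ, (ε = 1 ∨ ε = -1) ∧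
    ∃ σ : Equiv.Perm (Fin 3), ∀ (c : Fin 2 → M) i, g2X (wG2.tor M w c) i = ε • g2X c (σ i) := by
  induction w using wG2.induction_left with
  | h1 => exact ⟨1, .inl rfl, 1, fun c i => by rw [WeylData.tor_one, one_smul]; rfl⟩
  | hs i w ih =>
    obtain ⟨ε, hε, σ, h⟩ := ih
    have h0 : ∀ (c : Fin 2 → M) j, g2X (wG2.tor M (wG2.s (0 : Fin 2)) c) j =
        -g2X c (Equiv.swap 1 2 j) := fun c j => by
      rw [torG2_s0]
      fin_cases j <;> simp [g2X, Equiv.swap_apply_def, ofMul_pow] <;> module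
    have h1 : ∀ (c : Fin 2 → M) j, g2X (wG2.tor M (wG2.s (1 : Fin 2)) c) j =
        g2X c (Equiv.swap 0 1 j) := fun c j => by
      rw [torG2_s1]
      fin_cases j <;> simp [g2X, Equiv.swap_apply_def]
      module
    revert i
    refine Fin.forall_fin_two.2 ⟨⟨-ε, by omega, σ * Equiv.swap 1 2, fun c j => ?_⟩,
      ⟨ε, hε, σ * Equiv.swap 0 1, fun c j => ?_⟩⟩
    · rw [WeylData.tor_mul]; exact (h0 _ j).trans (by rw [h, neg_smul]; rfl)
    · rw [WeylData.tor_mul]; exact (h1 _ j).trans (by rw [h]; rfl)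

variable {c : Fin 2 → M} {q : ℕ} {w : wG2.W}

theorem orderOf_torG2 (hq : 1 ≤ q) (hw : wG2.tor M w c = c ^ q) :
    orderOf c ∣ q ^ 2 - 1 ∨ orderOf c ∣ q ^ 2 + q + 1 ∨ orderOf c ∣ q ^ 2 - q + 1 := by
  obtain ⟨ε, hε, σ, h⟩ := exists_g2X_tor (M := M) w
  have h1 : 1 ≤ q ^ 2 := Nat.one_le_pow _ _ hq
  have h2 : q ≤ q ^ 2 := Nat.le_self_pow two_ne_zero _
  exact (g2_alg1 (g2X_sum c) hε (q := q) fun i => by rw [← h, hw, g2X_pow]).imp
    (fun h => orderOf_dvd_of_g2X (by push_cast [h1]; exact h))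
    (.imp (fun h => orderOf_dvd_of_g2X (by push_cast; exact h))
      fun h => orderOf_dvd_of_g2X (by push_cast [h2]; exact h))

theorem ofMul_chr_rcG2 {r : ℕ} (hr : r < 12)
    (h : chr c (wG2.rc r) = 1) :
    g2a r • Additive.ofMul (c 0) + g2b r • Additive.ofMul (c 1) = 0 := by
  rw [chr_rcG2 c hr] at h
  exact congrArg Additive.ofMul h

theorem orderOf_torG2_of_root (hq : 1 ≤ q) (hw : wG2.tor M w c = c ^ q) {r : ℕ}
    (h6 : 6 ≤ r) (hr : r < 12) (h : chr c (wG2.rc r) = 1) :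
    orderOf c ∣ q - 1 ∨ orderOf c ∣ q + 1 := by
  obtain ⟨ε, hε, σ, h1⟩ := exists_g2X_tor (M := M) w
  have h2 : ∀ i, (q : ℤ) • g2X c i = ε • g2X c (σ i) := fun i => by rw [← h1, hw, g2X_pow]
  have h3 := ofMul_chr_rcG2 hr h
  refine Or.imp (fun h => orderOf_dvd_of_g2X (by push_cast [hq]; exact h))
    (fun h => orderOf_dvd_of_g2X (by push_cast; exact h))
    (?_ : (∀ l, ((q : ℤ) - 1) • g2X c l = 0) ∨ ∀ l, ((q : ℤ) + 1) • g2X c l = 0)
  interval_cases r <;> simp only [g2a, g2b, List.getD_cons_succ, List.getD_cons_zero] at h3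
  · exact g2_alg3 (g2X_sum c) hε h2 (i := 0) (j := 1) (by decide)
      (by simp only [g2X, Matrix.cons_val]; linear_combination (norm := module) -h3)
  · exact g2_alg2 (g2X_sum c) hε h2 (i := 0)
      (by simp only [g2X, Matrix.cons_val]; linear_combination (norm := module) h3)
  · exact g2_alg2 (g2X_sum c) hε h2 (i := 1)
      (by simp only [g2X, Matrix.cons_val]; linear_combination (norm := module) h3)
  · exact g2_alg2 (g2X_sum c) hε h2 (i := 2)
      (by simp only [g2X, Matrix.cons_val]; linear_combination (norm := module) -h3)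
  · exact g2_alg3 (g2X_sum c) hε h2 (i := 0) (j := 2) (by decide)
      (by simp only [g2X, Matrix.cons_val]; linear_combination (norm := module) h3)
  · exact g2_alg3 (g2X_sum c) hε h2 (i := 1) (j := 2) (by decide)
      (by simp only [g2X, Matrix.cons_val]; linear_combination (norm := module) h3)

theorem orderOf_dvd_of_two_rootsG2 {r s : ℕ} (hr : r < 12) (hs : s < 12)
    (h1 : chr c (wG2.rc r) = 1)
    (h2 : chr c (wG2.rc s) = 1) {n : ℕ}
    (hn : g2a r * g2b s - g2a s * g2b r ∣ n) : orderOf c ∣ n := by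
  have h3 := ofMul_chr_rcG2 hr h1
  have h4 := ofMul_chr_rcG2 hs h2
  obtain ⟨m, hm⟩ := hn
  have h5 : (n : ℤ) • Additive.ofMul (c 0) = 0 := by
    rw [hm]; linear_combination (norm := module) (m * g2b s) • h3 - (m * g2b r) • h4
  have h6 : (n : ℤ) • Additive.ofMul (c 1) = 0 := by
    rw [hm]; linear_combination (norm := module) (m * g2a r) • h4 - (m * g2a s) • h3
  rw [natCast_zsmul] at h5 h6
  exact orderOf_dvd_of_pow_eq_one (funext (Fin.forall_fin_two.2 ⟨h5, h6⟩))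

end tor

section unip
variable {K : Type u} [Field K] (p : ℕ) [Fact p.Prime] [CharP K p] {S : Set ℕ}
  {u : GL chevG2.Idx K} {j : ℕ}

theorem unipG2_pow7 (hS : ∀ r ∈ S, 6 ≤ r ∧ r < 12) (hj : 7 ≤ p ^ j)
    (hu : u ∈ spanX (xSub (xGL chevG2 K)) S) : u ^ p ^ j = 1 := by
  have h1 : ∀ r < 12, 6 ≤ r → ∀ b < repG2.P.d, ∀ e ∈ (repG2.P.col r b).tail,
    [0, 2, 1, -3, -2, -1, 3, 0].getD b (0 : ℤ) + 1 ≤ [0, 2, 1, -3, -2, -1, 3, 0].getD e.1 0 := by
    decide +kernel
  exact pow_eq_one_of_rep certG2 rootG2 K p repG2 repG2.P.finCoding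
    (fun b => [0, 2, 1, -3, -2, -1, 3, 0].getD b 0) (n := 7)
    (fun r hr => ⟨(hS r hr).2, h1 r (hS r hr).2 (hS r hr).1⟩) (by decide +kernel) hj hu

theorem unipG2_pow3 (hS : (∀ r ∈ S, r ∈ [6, 8, 9, 10, 11]) ∨ ∀ r ∈ S, r ∈ [7, 11]) (hj : 3 ≤ p ^ j)
    (hu : u ∈ spanX (xSub (xGL chevG2 K)) S) : u ^ p ^ j = 1 := by
  rcases hS with hS | hS
  · have h1 : ∀ r ∈ [6, 8, 9, 10, 11], r < chevG2.nroots ∧ ∀ b < repG2.P.d,
        ∀ e ∈ (repG2.P.col r b).tail, [0, 1, 0, -1, -1, 0, 1, 0].getD b (0 : ℤ) + 1 ≤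
          [0, 1, 0, -1, -1, 0, 1, 0].getD e.1 0 := by decide +kernel
    exact pow_eq_one_of_rep certG2 rootG2 K p repG2 repG2.P.finCoding
      (fun b => [0, 1, 0, -1, -1, 0, 1, 0].getD b 0) (n := 3)
      (fun r hr => h1 r (hS r hr)) (by decide +kernel) hj hu
  · have h1 : ∀ r ∈ [7, 11], r < chevG2.nroots ∧ ∀ b < repG2.P.d,
        ∀ e ∈ (repG2.P.col r b).tail, [0, 0, 1, -1, 0, -1, 1, 0].getD b (0 : ℤ) + 1 ≤
          [0, 0, 1, -1, 0, -1, 1, 0].getD e.1 0 := by decide +kernel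
    exact pow_eq_one_of_rep certG2 rootG2 K p repG2 repG2.P.finCoding
      (fun b => [0, 0, 1, -1, 0, -1, 1, 0].getD b 0) (n := 3)
      (fun r hr => h1 r (hS r hr)) (by decide +kernel) hj hu

end unip

variable (F : Type u) [Field F] [Fintype F] (p : ℕ) [hp : Fact p.Prime] [CharP F p]

theorem snfG2 : ∃ d, CartanSNF chevG2 d ∧ ∀ i, 0 < d.getD i 1 := snf_of_mem (by simp)

/-- Every element order of `G₂(q)` divides one of the listed numbers. -/
theorem orderOf_G2_dvd (g : chevG2.group F) :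
    orderOf g ∣ Fintype.card F ^ 2 - 1 ∨ orderOf g ∣ Fintype.card F ^ 2 + Fintype.card F + 1 ∨
    orderOf g ∣ Fintype.card F ^ 2 - Fintype.card F + 1 ∨ orderOf g ∣ p * (Fintype.card F - 1) ∨
    orderOf g ∣ p * (Fintype.card F + 1) ∨ (p = 2 ∧ (orderOf g ∣ 8 ∨ orderOf g ∣ 12)) ∨
    ((p = 3 ∨ p = 5) ∧ orderOf g ∣ p ^ 2) := by
  obtain ⟨c, u, hu, ⟨w, hw⟩, hpc, -, ho⟩ := exists_jordan certG2 rootG2 F p snfG2 g
  have hq : 1 ≤ Fintype.card F := Fintype.card_pos
  rw [ho]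
  set S := {r | rootG2.weyl.Pos r} ∩ rootG2.weyl.psi {c}
  have hS : ∀ r ∈ S, (6 ≤ r ∧ r < 12) ∧ chr c (wG2.rc r) = 1 := fun r hr =>
    ⟨(rootG2.pos_iff r).1 (rootG2.weyl_pos.1 hr.1), hr.2.2 c rfl⟩
  rcases S.eq_empty_or_nonempty with h0 | ⟨r, hr⟩
  · rw [h0, spanX_empty, Subgroup.mem_bot] at hu
    rw [hu, orderOf_one, mul_one]
    exact (orderOf_torG2 hq hw).imp_right (Or.imp_right Or.inl)
  have h1 := orderOf_torG2_of_root hq hw (hS r hr).1.1 (hS r hr).1.2 (hS r hr).2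
  have key : u ^ p ^ 1 = 1 → orderOf c * orderOf u ∣ p * (Fintype.card F - 1) ∨
      orderOf c * orderOf u ∣ p * (Fintype.card F + 1) := fun h => by
    rw [pow_one] at h
    rw [mul_comm]
    exact h1.imp (Nat.mul_dvd_mul (orderOf_dvd_of_pow_eq_one h))
      (Nat.mul_dvd_mul (orderOf_dvd_of_pow_eq_one h))
  have h2 := fun j hj => unipG2_pow7 p (j := j) (fun r hr => (hS r hr).1) hj hu
  refine .inr (.inr (.inr (or_assoc.1 ?_)))
  by_cases hc : orderOf c = 1
  · by_cases h7 : 7 ≤ p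
    · exact .inl (key (h2 1 (by simpa)))
    rw [hc, one_mul]
    have := hp.out.two_le
    have h4 : p ≠ 4 := by rintro rfl; exact absurd hp.out (by decide)
    have h6 : p ≠ 6 := by rintro rfl; exact absurd hp.out (by decide)
    obtain rfl | rfl | rfl : p = 2 ∨ p = 3 ∨ p = 5 := by omega
    · exact .inr (.inl ⟨rfl, .inl (orderOf_dvd_of_pow_eq_one (h2 3 (by norm_num)))⟩)
    · exact .inr (.inr ⟨.inl rfl, orderOf_dvd_of_pow_eq_one (h2 2 (by norm_num))⟩)
    · exact .inr (.inr ⟨.inr rfl, orderOf_dvd_of_pow_eq_one (h2 2 (by norm_num))⟩)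
  have h3 : (∀ r ∈ S, r ∈ [6, 8, 9, 10, 11]) ∨ ∀ r ∈ S, r ∈ [7, 11] := by
    by_cases h7 : 7 ∈ S
    · refine .inr fun s hs => by_contra fun h => hc (Nat.dvd_one.1 (orderOf_dvd_of_two_rootsG2
        (by norm_num) (hS s hs).1.2 (hS 7 h7).2 (hS s hs).2 ?_))
      have : ∀ s < 12, 6 ≤ s → s ∉ [7, 11] → g2a 7 * g2b s - g2a s * g2b 7 ∣ (1 : ℕ) := by decide
      exact this s (hS s hs).1.2 (hS s hs).1.1 h
    · refine .inl fun s hs => ?_
      have : ∀ s < 12, 6 ≤ s → s ≠ 7 → s ∈ [6, 8, 9, 10, 11] := by decide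
      exact this s (hS s hs).1.2 (hS s hs).1.1 (by rintro rfl; exact h7 hs)
  by_cases h2 : p = 2
  · subst h2
    by_cases h4 : S ⊆ {r}
    · have := spanX_mono _ h4 hu
      rw [spanX_singleton] at this
      exact .inl (key (certG2.xSub_pow_char rootG2 2 r hr.2.1 u this))
    obtain ⟨s, hs, hsr⟩ := Set.not_subset.1 h4
    have h5 : ∀ r < 12, 6 ≤ r → ∀ s < 12, 6 ≤ s → s ≠ r → g2a r * g2b s - g2a s * g2b r ∣ (6 : ℕ) := by
      decide
    have h6 := orderOf_dvd_of_two_rootsG2 (hS r hr).1.2 (hS s hs).1.2 (hS r hr).2 (hS s hs).2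
      (h5 r (hS r hr).1.2 (hS r hr).1.1 s (hS s hs).1.2 (hS s hs).1.1 hsr)
    have h7 : orderOf c ∣ 3 := Nat.Coprime.dvd_of_dvd_mul_left
      ((Nat.Prime.coprime_iff_not_dvd Nat.prime_two).2 hpc).symm h6
    exact .inr (.inl ⟨rfl, .inr (Nat.mul_dvd_mul h7
      (orderOf_dvd_of_pow_eq_one (unipG2_pow3 2 (j := 2) h3 (by norm_num) hu)))⟩)
  · exact .inl (key (unipG2_pow3 p h3 (by have := hp.out.two_le; rw [pow_one]; omega) hu))

theorem surjG2 : Function.Surjective (cartanHom chevG2 Fˣ) :=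
  cartanSNF_G2.surjective _ fun i a => ⟨a, by
    have : ∀ i : Fin 2, [1, 1].getD i 1 = 1 := by decide
    rw [this i, pow_one]⟩

theorem exists_unit_order_nat {n : ℕ} (hn : ¬ p ∣ n) :
    ∃ z : (AlgebraicClosure F)ˣ, orderOf z = n := by
  obtain ⟨z, hz, -⟩ := exists_unit_order (AlgebraicClosure F) (n := n)
    (by rwa [Int.cast_natCast, Ne, CharP.cast_eq_zero_iff _ p])
  exact ⟨z, hz⟩

theorem orderOf_vec2 {M : Type*} [CommGroup M] (z : M) (k : ℤ) :
    orderOf (![z, z ^ k] : Fin 2 → M) = orderOf z := by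
  refine orderOf_eq_orderOf_iff.2 fun n => ⟨fun h => congrFun h 0, fun h => ?_⟩
  refine funext (Fin.forall_fin_two.2 ⟨h, ?_⟩)
  show (z ^ k) ^ n = 1
  rw [← zpow_natCast, ← zpow_mul, mul_comm, zpow_mul, zpow_natCast, h, one_zpow]

theorem vec2_ext {M : Type*} [CommGroup M] {c c' : Fin 2 → M} {n : ℕ}
    (h0 : Additive.ofMul (c 0) = n • .ofMul (c' 0)) (h1 : Additive.ofMul (c 1) = n • .ofMul (c' 1)) :
    c = c' ^ n := funext (Fin.forall_fin_two.2 ⟨h0, h1⟩)

theorem zsmul_ofMul_eq_zero {M : Type*} [CommGroup M] {z : M} {n : ℕ} (h : orderOf z = n) :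
    (n : ℤ) • Additive.ofMul z = 0 := by
  rw [natCast_zsmul, ← ofMul_pow, ← h, pow_orderOf_eq_one, ofMul_one]

theorem p_dvd_card : p ∣ Fintype.card F := (CharP.cast_eq_zero_iff F p _).1 (by simp)

include hp in
theorem not_dvd_of_eq {a n : ℕ} (ha : p ∣ a) (h : n + 1 = a ∨ n = a + 1) : ¬ p ∣ n := fun hn => by
  rcases h with rfl | rfl
  · exact hp.out.not_dvd_one ((Nat.dvd_add_right hn).1 ha)
  · exact hp.out.not_dvd_one ((Nat.dvd_add_right ha).1 hn)

include p in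
theorem exists_orderOf_G2_sq : ∃ g : chevG2.group F, orderOf g = Fintype.card F ^ 2 - 1 := by
  have h1 : 1 ≤ Fintype.card F ^ 2 := Nat.one_le_pow _ _ Fintype.card_pos
  obtain ⟨z, hz⟩ := exists_unit_order_nat F p (n := Fintype.card F ^ 2 - 1)
    (not_dvd_of_eq p (dvd_pow (p_dvd_card F p) two_ne_zero) (.inl (Nat.sub_add_cancel h1)))
  have h := zsmul_ofMul_eq_zero hz
  push_cast [h1] at h
  rw [← hz, ← orderOf_vec2 z (Fintype.card F - 1)]
  refine exists_orderOf_tor certG2 rootG2 F p snfG2 (surjG2 F) (w := wG2.s 1)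
    ((torG2_s1 _).trans (vec2_ext ?_ ?_)) <;>
    simp only [Matrix.cons_val, ofMul_mul, ofMul_zpow, ofMul_inv]
  · module
  · linear_combination (norm := module) -h

include p in
theorem exists_orderOf_G2_minus :
    ∃ g : chevG2.group F, orderOf g = Fintype.card F ^ 2 - Fintype.card F + 1 := by
  have h1 : Fintype.card F ≤ Fintype.card F ^ 2 := Nat.le_self_pow two_ne_zero _
  obtain ⟨z, hz⟩ := exists_unit_order_nat F p (n := Fintype.card F ^ 2 - Fintype.card F + 1)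
    (not_dvd_of_eq p (Nat.dvd_sub (dvd_pow (p_dvd_card F p) two_ne_zero) (p_dvd_card F p))
      (.inr rfl))
  have h := zsmul_ofMul_eq_zero hz
  push_cast [h1] at h
  rw [← hz, ← orderOf_vec2 z (-(Fintype.card F + 1))]
  refine exists_orderOf_tor certG2 rootG2 F p snfG2 (surjG2 F) (w := wG2.s 0 * wG2.s 1)
    ((wG2.tor_mul _ _ _).trans ?_)
  rw [torG2_s1, torG2_s0]
  refine vec2_ext ?_ ?_ <;>
    simp only [Matrix.cons_val, ofMul_mul, ofMul_pow, ofMul_zpow, ofMul_inv]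
  · module
  · linear_combination (norm := module) h

include p in
theorem exists_orderOf_G2_plus :
    ∃ g : chevG2.group F, orderOf g = Fintype.card F ^ 2 + Fintype.card F + 1 := by
  obtain ⟨z, hz⟩ := exists_unit_order_nat F p (n := Fintype.card F ^ 2 + Fintype.card F + 1)
    (not_dvd_of_eq p (Nat.dvd_add (dvd_pow (p_dvd_card F p) two_ne_zero) (p_dvd_card F p))
      (.inr rfl))
  have h := zsmul_ofMul_eq_zero hz
  push_cast at h
  rw [← hz, ← orderOf_vec2 z (-(Fintype.card F + 2))]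
  refine exists_orderOf_tor certG2 rootG2 F p snfG2 (surjG2 F)
    (w := wG2.s 0 * (wG2.s 1 * (wG2.s 0 * wG2.s 1))) ((wG2.tor_mul _ _ _).trans ?_)
  rw [wG2.tor_mul, wG2.tor_mul, torG2_s1, torG2_s0, torG2_s1, torG2_s0]
  refine vec2_ext ?_ ?_ <;>
    simp only [Matrix.cons_val, ofMul_mul, ofMul_pow, ofMul_zpow, ofMul_inv]
  · module
  · linear_combination (norm := module) h

theorem exists_orderOf_G2_mul_sub :
    ∃ g : chevG2.group F, orderOf g = p * (Fintype.card F - 1) := by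
  have h1 : 1 ≤ Fintype.card F := Fintype.card_pos
  have hn : ¬ p ∣ Fintype.card F - 1 :=
    not_dvd_of_eq p (p_dvd_card F p) (.inl (Nat.sub_add_cancel h1))
  obtain ⟨z, hz⟩ := exists_unit_order_nat F p hn
  have h := zsmul_ofMul_eq_zero hz
  push_cast [h1] at h
  rw [← hz, ← orderOf_vec2 z 0] at hn ⊢
  rw [mul_comm]
  refine exists_orderOf_tor_mul certG2 rootG2 F p snfG2 (surjG2 F) (w := 1)
    ((wG2.tor_one _).trans (vec2_ext ?_ ?_)) hn (r := 6) (by decide) (one_smul _ _)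
    ((chr_rcG2 _ (by norm_num)).trans (by simp [g2a, g2b])) <;>
    simp only [Matrix.cons_val, ofMul_zpow]
  · linear_combination (norm := module) -h
  · module

theorem exists_orderOf_G2_mul_add :
    ∃ g : chevG2.group F, orderOf g = p * (Fintype.card F + 1) := by
  have hn : ¬ p ∣ Fintype.card F + 1 := not_dvd_of_eq p (p_dvd_card F p) (.inr rfl)
  obtain ⟨z, hz⟩ := exists_unit_order_nat F p hn
  have h := zsmul_ofMul_eq_zero hz
  push_cast at h
  rw [← hz, ← orderOf_vec2 z 0] at hn ⊢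
  rw [mul_comm]
  have hw : (wG2.s 0 * (wG2.s 1 * (wG2.s 0 * (wG2.s 1 * wG2.s 0)))) • 6 = 6 := by
    have e : ∀ i, ∀ r < 12, wG2.s i • r = wG2.σ i r := fun i r hr =>
      wG2.s_smul i (Finset.mem_range.2 hr)
    have e1 : wG2.σ 0 6 = 10 ∧ wG2.σ 1 10 = 11 ∧ wG2.σ 0 11 = 11 ∧ wG2.σ 1 11 = 10 ∧
      wG2.σ 0 10 = 6 := by decide +kernel
    simp only [mul_smul]
    rw [e 0 6 (by norm_num), e1.1, e 1 10 (by norm_num), e1.2.1, e 0 11 (by norm_num), e1.2.2.1,
      e 1 11 (by norm_num), e1.2.2.2.1, e 0 10 (by norm_num), e1.2.2.2.2]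
  refine exists_orderOf_tor_mul certG2 rootG2 F p snfG2 (surjG2 F)
    (w := wG2.s 0 * (wG2.s 1 * (wG2.s 0 * (wG2.s 1 * wG2.s 0))))
    ((wG2.tor_mul _ _ _).trans ?_) hn (r := 6) (by decide) hw
    ((chr_rcG2 _ (by norm_num)).trans (by simp [g2a, g2b]))
  rw [wG2.tor_mul, wG2.tor_mul, wG2.tor_mul, torG2_s0, torG2_s1, torG2_s0, torG2_s1, torG2_s0]
  refine vec2_ext ?_ ?_ <;>
    simp only [Matrix.cons_val, ofMul_mul, ofMul_pow, ofMul_zpow, ofMul_inv]
  · linear_combination (norm := module) -h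
  · module

omit [Fintype F] in
theorem exists_orderOf_G2_eight [CharP F 2] : ∃ g : chevG2.group F, orderOf g = 8 :=
  exists_orderOf_of_mod F certG2 rootG2 2 (w := [(7, 1), (6, 1)]) (by decide +kernel)

omit [Fintype F] in
theorem exists_orderOf_G2_twelve [CharP F 2] : ∃ g : chevG2.group F, orderOf g = 12 :=
  exists_orderOf_of_mod F certG2 rootG2 2 (w := [(7, 1), (6, 1), (4, 1)]) (by decide +kernel)

omit [Fintype F] in
theorem exists_orderOf_G2_sq_char (h : p = 3 ∨ p = 5) : ∃ g : chevG2.group F, orderOf g = p ^ 2 := by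
  rcases h with rfl | rfl
  · exact exists_orderOf_of_mod F certG2 rootG2 3 (w := [(7, 1), (6, 1)]) (by decide +kernel)
  · exact exists_orderOf_of_mod F certG2 rootG2 5 (w := [(7, 1), (6, 1)]) (by decide +kernel)

end Cfsg.Lib.Known
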