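import Cfsg.Agent.Known.RUSU

/-!
`SU₃(q)` is generated by two conjugate regular unipotent elements.
-/

set_option autoImplicit false

namespace Cfsg.Lib.Known.RU

open Module Cfsg.Lib.Class Cfsg.Lib.Class.Form

variable {F V : Type*} [Field F] [AddCommGroup V] [Module F V] {σ : F →+* F}
  {B : V →ₛₗ[σ] V →ₗ[F] F} {M : Subgroup (isomGroup B)}

/-- The action of a word in two opposite Eichler elements on coordinates. -/
def evW (σ : F →+* F) (β γ δ : F) : List Bool → F × F × F → F × F × F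
  | [], p => p
  | true :: L, p => evW σ β γ δ L (p.1 - p.2.1 - β * p.2.2, p.2.1 + p.2.2, p.2.2)
  | false :: L, p => evW σ β γ δ L (p.1, p.2.1 + γ * p.1, p.2.2 - σ γ * p.2.1 - δ * p.1)

/-- The numerical data needed for two-generation. -/
def Su3Data (σ : F →+* F) : Prop := ∃ (β b γ δ l η : F) (L : List Bool), β + σ β = 1 ∧ b ≠ 0 ∧
  γ * b ^ 2 = σ b ∧ δ + σ δ = γ * σ γ ∧ evW σ β γ δ L (1, 0, 0) = (l, 0, 0) ∧
  (evW σ β γ δ L (0, 1, 0)).2.1 = η ∧ ∀ R : Subring F, σ l * η ∈ R → R = ⊤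

theorem su3_two_gen [Finite F] [FiniteDimensional F V] (h : Herm B) (hn : finrank F V = 3)
    (hex : ∃ a : F, σ a = a ∧ a ≠ 0 ∧ a ≠ 1) (hd : Su3Data σ) :
    ∃ u ∈ sIsom B, Reg 3 u.1 ∧ ∃ g ∈ sIsom B, ∀ M : Subgroup (isomGroup B), u ∈ M →
      g * u * g⁻¹ ∈ M → sIsom B ≤ M := by
  obtain ⟨β, b, γ, δ, l, η, L, hβ, hb, hγ, hδ, hL, hL', hgen⟩ := hd
  obtain ⟨x, w, y, xx, xw, xy, ww, yw, yy⟩ : ∃ x w y, B x x = 0 ∧ B x w = 0 ∧ B x y = 1 ∧
      B w w = 1 ∧ B y w = 0 ∧ B y y = 0 := by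
    obtain ⟨e, he⟩ := h.exists_orthonormal_fin 3 hn.ge
    obtain ⟨s, hs⟩ := h.exists_norm_eq (μ := -1) (by simp)
    have h1 : B (e 0 + s • e 1) (e 0 + s • e 1) = 0 := by
      simp [map_smulₛₗ, he]; linear_combination hs
    obtain ⟨c, h2, h3⟩ := h.exists_partner h1 (w := e 0) (by simp [map_smulₛₗ, he])
    exact ⟨_, e 2, _, h1, by simp [map_smulₛₗ, he], h3, by simp [he], by simp [map_smulₛₗ, he], h2⟩
  have wx := h.eq_zero_comm.1 xw
  have wy := h.eq_zero_comm.1 yw
  have yx : B y x = 1 := by rw [← h.conj, xy, map_one]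
  have hb' : σ b ≠ 0 := by simpa using hb
  have hγ0 : γ ≠ 0 := by rintro rfl; exact hb' (by rw [← hγ, zero_mul])
  have dec : ∀ z, B x z = 0 → z = B y z • x + B w z • w := fun z hz => by
    have li : LinearIndependent F ![x, w, y] := by
      rw [Fintype.linearIndependent_iff]
      intro c hc
      have k0 := congrArg (B y) hc
      have k1 := congrArg (B w) hc
      have k2 := congrArg (B x) hc
      simp [Fin.sum_univ_three, xx, xw, xy, ww, yw, yy, wx, wy, yx] at k0 k1 k2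
      intro i; fin_cases i <;> assumption
    obtain ⟨c, rfl⟩ := (Submodule.mem_span_range_iff_exists_fun F).1
      (li.span_eq_top_of_card_eq_finrank' (by simp [hn]) ▸ Submodule.mem_top (x := z))
    simp [Fin.sum_univ_three, xx, xw, xy] at hz
    simp [Fin.sum_univ_three, *]
  set u := h.eich xx xw β (hβ.trans ww.symm)
  have eu : ∀ z, u.1 z = z + B x z • w - (B w z + β * B x z) • x := h.eich_apply _ _ _ _
  refine ⟨u, h.eich_mem_sIsom .., ⟨⟨3, LinearMap.ext fun z => ?_⟩, fun e => ?_⟩, ?_⟩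
  · simp [pow_succ, eu, xx, xw, wx, ww]
  · have := congrArg (B y) (LinearMap.congr_fun e y)
    simp [pow_succ, eu, xx, xw, wx, ww, xy, yx] at this
  obtain ⟨a, ha⟩ := h.exists_norm_eq (μ := b + σ b) (by rw [map_add, h.invol, add_comm])
  obtain ⟨D, hD⟩ : ∃ D, D = δ - β / (b * σ b) := ⟨_, rfl⟩
  have hγ' : γ = σ b / b ^ 2 := eq_div_of_mul_eq (pow_ne_zero 2 hb) hγ
  have hD' : σ D = -D := by
    rw [hγ', map_div₀, map_pow, h.invol] at hδ
    rw [hD, map_sub, map_div₀, map_mul, h.invol]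
    field_simp at hδ ⊢
    linear_combination hδ - hβ
  obtain ⟨t, ht⟩ : ∃ t, σ t = σ b * (b * D * β + σ a / b) := ⟨σ _, h.invol _⟩
  obtain ⟨c, hc⟩ := h.exists_trace_eq (h.conj (t • w) (t • w))
  set g := h.eich (w := a • w) xx (by simp [xw]) b (by simp [map_smulₛₗ, ww, ← ha, mul_comm]) *
    h.eich (w := (a / σ b) • w) yy (by simp [yw]) (σ b)⁻¹ (by
      simp only [map_smulₛₗ, ww, map_div₀, map_inv₀, h.invol, LinearMap.smul_apply, smul_eq_mul,
        RingHom.id_apply]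
      field_simp
      linear_combination -ha) * h.eich xx (by simp [xw]) c hc with hg
  have g1 : g.1 x = -(σ b)⁻¹ • y := by
    simp only [hg, isom_mul_apply, Herm.eich_apply, map_add, map_sub, map_smulₛₗ, xx, xw, xy, ww,
      wx, wy, yx, LinearMap.smul_apply, smul_eq_mul, RingHom.id_apply, map_div₀, h.invol]
    match_scalars <;> field_simp
    · linear_combination -b * ha
    · ring
    · ring
  have g2 : g.1 w = -(σ b / b) • w + (b * D * β) • y := by
    simp only [hg, isom_mul_apply, Herm.eich_apply, map_add, map_sub, map_smulₛₗ, xx, xw, xy, ww,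
      wx, wy, yx, yw, LinearMap.smul_apply, smul_eq_mul, RingHom.id_apply, map_div₀, h.invol, ht]
    match_scalars <;> field_simp
    · linear_combination -b * σ b * ha
    · linear_combination b * σ b * (b ^ 2 * D * β + σ a) * ha
    · ring
  refine ⟨g, mul_mem (mul_mem (h.eich_mem_sIsom ..) (h.eich_mem_sIsom ..)) (h.eich_mem_sIsom ..),
    fun M m1 m2 => ?_⟩
  have hv : HE M y (γ • w) δ := by
    have k1 : HE M (g.1 x) (g.1 w) β := ⟨by rw [isom_apply, xw], _, m2, fun z => by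
      obtain ⟨z, rfl⟩ := g.1.surjective z
      simp [eu, isom_apply]⟩
    rw [g1, g2] at k1
    have k2 := k1.scale h (by simpa using hb)
    rw [smul_add, smul_smul, smul_smul] at k2
    convert k2.absorb yy using 1
    · rw [hγ']; simp only [map_neg, map_inv₀, h.invol]; field_simp
    · simp only [map_neg, map_inv₀, h.invol, map_mul, hD']
      rw [show δ = D + β / (b * σ b) by rw [hD]; ring]
      field_simp
      linear_combination -D * b * σ b * hβ
  obtain ⟨-, v, m3, ev⟩ := hv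
  obtain ⟨W, m4, eW⟩ : ∃ W ∈ M, ∀ p : F × F × F, W.1 (p.1 • x + p.2.1 • w + p.2.2 • y) =
      (evW σ β γ δ L p).1 • x + (evW σ β γ δ L p).2.1 • w + (evW σ β γ δ L p).2.2 • y := by
    clear hL hL'
    induction L with
    | nil => exact ⟨1, M.one_mem, fun _ => rfl⟩
    | cons i L ih =>
      obtain ⟨W, m4, eW⟩ := ih
      cases i
      · refine ⟨W * v, M.mul_mem m4 m3, fun p => ?_⟩
        rw [evW, ← eW, isom_mul_apply, ev]
        congr 1
        simp only [map_add, map_smulₛₗ, ww, wx, wy, yx, yw, yy, LinearMap.smul_apply, smul_eq_mul,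
          RingHom.id_apply]
        module
      · refine ⟨W * u, M.mul_mem m4 m1, fun p => ?_⟩
        rw [evW, ← eW, isom_mul_apply, eu]
        congr 1
        simp only [map_add, map_smulₛₗ, ww, wx, wy, xx, xw, xy, smul_eq_mul, RingHom.id_apply]
        module
  have w1 : W.1 x = l • x := by simpa [hL] using eW (1, 0, 0)
  have hl : l ≠ 0 := by
    rintro rfl
    rw [← isom_apply W, w1] at xy
    simp at xy
  have w2 : B w (W.1 w) = η := by
    have := congrArg (B w) (eW (0, 1, 0))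
    simpa [wx, ww, wy, hL'] using this
  have w3 := dec (W.1 w) (by
    have := isom_apply W x w
    rw [w1, xw] at this
    simpa [map_smulₛₗ, hl] using this)
  have r := mem_heFull h xx one_ne_zero (y := w) ⟨β, by simpa using xw, u, m1, by simpa using eu⟩
    (hgen _ fun β' ⟨c', k⟩ => by
      have k1 := k.conj m4
      rw [w1, map_smul, w3, w2] at k1
      have k2 := k1.scale h hl
      rw [smul_add, smul_add, add_comm, smul_smul, smul_smul, smul_smul, smul_smul] at k2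
      exact ⟨_, by convert k2.absorb xx using 2; ring⟩)
  refine sIsom_le_of_radical h hn.ge (fun _ => hex) xx (fun z hz => ?_) m3 ?_
  · obtain ⟨c', k⟩ := r (B w z)
    rw [dec z hz, add_comm]
    exact ⟨_, HE.absorb xx (t := -B y z) (by simpa using k)⟩
  · have : δ ≠ 0 := by rintro rfl; simp [hγ0] at hδ
    simp [ev, xx, xw, xy, yx, wx, map_smulₛₗ, this]

theorem subring_eq_top_or [Fintype F] (R : Subring F) : R = ⊤ ∨
    ∃ r k : ℕ, 2 ≤ r ∧ 2 ≤ k ∧ r ^ k = Fintype.card F ∧ ∀ a ∈ R, a ^ r = a := by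
  classical
  let K : Subfield F := { R with inv_mem' := fun _ => inv_mem_of_finite R }
  have h1 := Module.card_eq_pow_finrank (K := K) (V := F)
  by_cases h : finrank K F = 1
  · left
    rw [h, pow_one] at h1
    exact SetLike.coe_injective (Set.eq_univ_iff_forall.2 fun a =>
      ((Fintype.bijective_iff_injective_and_card K.subtype).2 ⟨K.subtype.injective, h1.symm⟩).2 a
        |>.elim fun b e => e ▸ b.2)
  · refine Or.inr ⟨_, _, Fintype.one_lt_card, ?_, h1.symm, fun a ha => ?_⟩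
    · have := Module.finrank_pos (R := K) (M := F); omega
    · exact congrArg Subtype.val (FiniteField.pow_card (⟨a, ha⟩ : K))

theorem exists_order [Fintype F] {m : ℕ} (hm : m ∣ Fintype.card F - 1) :
    ∃ l : F, ∀ k, l ^ k = 1 ↔ m ∣ k := by
  obtain ⟨g, hg⟩ := IsCyclic.exists_ofOrder_eq_natCard (α := Fˣ)
  rw [Nat.card_units, Nat.card_eq_fintype_card] at hg
  have h0 : orderOf g ≠ 0 := (orderOf_pos g).ne'
  refine ⟨((g ^ (orderOf g / m) : Fˣ) : F), fun k => ?_⟩
  rw [← Units.val_pow_eq_pow_val, Units.val_eq_one, ← orderOf_dvd_iff_pow_eq_one,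
    orderOf_pow_orderOf_div h0 (hg ▸ hm)]

theorem su3Data_gen [Fintype F] {q : ℕ} (hF : Fintype.card F = q ^ 2) (hσ : ∀ a, σ a = a ^ q)
    (hq : 3 ≤ q) (h5 : q ≠ 5) (h8 : q ≠ 8) : Su3Data σ := by
  obtain ⟨l, hl⟩ := exists_order (F := F) (m := q + 1) (by
    rw [hF]; exact (Nat.sq_sub_sq q 1 ▸ Dvd.intro _ rfl : q + 1 ∣ q ^ 2 - 1 ^ 2))
  have h1 := (hl _).2 dvd_rfl
  have h0 : l ≠ 0 := by rintro rfl; simp at h1
  have h2 : σ l = l⁻¹ := by rw [hσ]; exact eq_inv_of_mul_eq_one_left (by rw [← pow_succ, h1])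
  have h3 : 1 + l ≠ 0 := fun e => by
    have := Nat.le_of_dvd two_pos ((hl 2).1 (by linear_combination (l - 1) * e))
    omega
  have h3' : l + 1 ≠ 0 := by rwa [add_comm]
  refine ⟨(2 * l ^ 2 + l + 1) / (1 + l) ^ 3, l / (1 + l) ^ 2, (1 + l) ^ 2 / l, (1 + l) ^ 3 / l, l,
    (l ^ 2)⁻¹, [false, true, false], ?_, by simp [h0, h3], ?_, ?_, ?_, ?_, fun R hR => ?_⟩
  · simp [h2, map_ofNat]; field_simp; ring
  · simp [h2]; field_simp; ring
  · simp [h2]; field_simp; ring
  · simp [h2, evW]; refine ⟨?_, ?_, ?_⟩ <;> field_simp <;> ring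
  · simp [h2, evW]; field_simp; ring
  · refine (subring_eq_top_or R).resolve_right ?_
    rintro ⟨r, k, hr, hk, e, h4⟩
    have h6 := h4 _ (inv_mem_of_finite R hR)
    rw [h2, show (l⁻¹ * (l ^ 2)⁻¹)⁻¹ = l ^ 3 by field_simp] at h6
    obtain ⟨s, rfl⟩ : ∃ s, r = s + 1 := ⟨r - 1, by omega⟩
    rw [pow_succ, mul_left_eq_self₀, ← pow_mul, hl, or_iff_left (pow_ne_zero _ h0)] at h6
    rw [hF] at e
    by_cases h7 : k = 2
    · subst h7
      obtain rfl : s + 1 = q := Nat.pow_left_injective two_ne_zero e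
      have h9 : s + 1 + 1 ∣ 6 := (Nat.dvd_add_right h6).1 ⟨3, by ring⟩
      have := Nat.le_of_dvd (by omega) h9
      have : s ≤ 4 := by omega
      interval_cases s <;> omega
    · have h9 := Nat.le_of_dvd (by omega) h6
      have h10 : (s + 1) ^ 3 ≤ q ^ 2 := e ▸ Nat.pow_le_pow_right (by omega) (by omega)
      have h11 : (q + 4) ^ 3 ≤ (3 * (s + 1)) ^ 3 := Nat.pow_le_pow_left (by omega) 3
      have h12 : (0 : ℤ) < ((q : ℤ) - 8) ^ 2 := by
        have : (q : ℤ) - 8 ≠ 0 := by omega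
        positivity
      zify at h10 h11
      nlinarith

theorem su3Data_five [Fintype F] (hF : Fintype.card F = 5 ^ 2) (hσ : ∀ a, σ a = a ^ 5) :
    Su3Data σ := by
  obtain ⟨l, hl⟩ := exists_order (F := F) (m := 3) (by rw [hF]; norm_num)
  have h1 : l ^ 2 + l + 1 = 0 := by
    have : l - 1 ≠ 0 := fun e => by simpa [sub_eq_zero.1 e] using hl 1
    exact mul_left_cancel₀ this (by linear_combination (hl 3).2 dvd_rfl)
  have h5 : (5 : F) = 0 := by
    have := FiniteField.cast_card_eq_zero F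
    rw [hF] at this
    exact pow_eq_zero_iff two_ne_zero |>.1 (by exact_mod_cast this)
  have : CharP F 5 := (CharP.charP_iff_prime_eq_zero (by norm_num)).2 (by exact_mod_cast h5)
  have h2 : σ l = -1 - l := by rw [hσ]; grind
  refine ⟨2 + 3 * l, 4 + l, 3 + l, 3 * l, 4 + l, 1 + l, [false, true, false, false], ?_, ?_, ?_, ?_,
    ?_, ?_, fun R hR => ?_⟩
  · simp [h2, map_ofNat]; grind
  · grind
  · simp [h2, map_ofNat]; grind
  · simp [h2, map_ofNat]; grind
  · simp [h2, map_ofNat, evW]; grind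
  · simp [h2, map_ofNat, evW]; grind
  · refine (subring_eq_top_or R).resolve_right ?_
    rintro ⟨r, k, hr, hk, e, h4⟩
    have h6 := h4 _ hR
    rw [hF] at e
    obtain rfl : r = 5 := by
      have : r ^ 2 ≤ 5 ^ 2 := e ▸ Nat.pow_le_pow_right (by omega) hk
      have h7 : r ∣ 5 ^ 2 := e ▸ dvd_pow_self r (by omega)
      have : r ≤ 5 := by nlinarith
      interval_cases r <;> omega
    simp [h2, map_ofNat] at h6
    grind

theorem su3Data_eight [Fintype F] (hF : Fintype.card F = 8 ^ 2) (hσ : ∀ a, σ a = a ^ 8) :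
    Su3Data σ := by
  obtain ⟨l, hl⟩ := exists_order (F := F) (m := 9) (by rw [hF]; norm_num)
  have h1 : l ^ 6 + l ^ 3 + 1 = 0 := by
    have : l ^ 3 - 1 ≠ 0 := fun e => by simpa [sub_eq_zero.1 e] using hl 3
    exact mul_left_cancel₀ this (by linear_combination (hl 9).2 dvd_rfl)
  have h5 : (2 : F) = 0 := by
    have := FiniteField.cast_card_eq_zero F
    rw [hF] at this
    exact pow_eq_zero_iff (n := 6) (by norm_num) |>.1 (by push_cast at this; linear_combination this)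
  have : CharP F 2 := (CharP.charP_iff_prime_eq_zero (by norm_num)).2 (by exact_mod_cast h5)
  have h2 : σ l = l ^ 5 + l ^ 2 := by rw [hσ]; grind
  refine ⟨1 + l ^ 3 + l ^ 4 + l ^ 5, 1 + l ^ 2 + l ^ 4, l ^ 2 + l ^ 4, l ^ 2, l ^ 3 + l ^ 4, l ^ 2,
    [false, true, true, false, true, false], ?_, ?_, ?_, ?_, ?_, ?_, fun R hR => ?_⟩
  · simp [h2]; grind
  · grind
  · simp [h2]; grind
  · simp [h2]; grind
  · simp [h2, evW]; grind
  · simp [h2, evW]; grind
  · refine (subring_eq_top_or R).resolve_right ?_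
    rintro ⟨r, k, hr, hk, e, h4⟩
    have h6 := h4 _ hR
    rw [hF] at e
    have : r ^ 2 ≤ 8 ^ 2 := e ▸ Nat.pow_le_pow_right (by omega) hk
    have h7 : r ∣ 8 ^ 2 := e ▸ dvd_pow_self r (by omega)
    have : r ≤ 8 := by nlinarith
    rw [show σ (l ^ 3 + l ^ 4) * l ^ 2 = l + l ^ 2 + l ^ 4 + l ^ 5 by simp [h2]; grind] at h6
    interval_cases r <;> first | omega | grind

theorem su3Data [Fintype F] {q : ℕ} (hF : Fintype.card F = q ^ 2) (hq : 3 ≤ q) :
    Su3Data (frobq hF) := by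
  by_cases h5 : q = 5
  · subst h5; exact su3Data_five hF (frobq_apply hF)
  by_cases h8 : q = 8
  · subst h8; exact su3Data_eight hF (frobq_apply hF)
  exact su3Data_gen hF (frobq_apply hF) hq h5 h8

/-- Transfer of a generation statement to the standard special unitary group. -/
theorem su_transfer [Fintype F] {q : ℕ} (hF : Fintype.card F = q ^ 2) [FiniteDimensional F V]
    {B : V →ₛₗ[frobq hF] V →ₗ[F] F} (hB : Herm B) {n : ℕ} (hn : finrank F V = n)
    {u g h : isomGroup B} (hu : u ∈ sIsom B) (hg : g ∈ sIsom B) (hh : h ∈ sIsom B) (hr : Reg n u.1)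
    (H : ∀ M : Subgroup (isomGroup B), u ∈ M → g * u * g⁻¹ ∈ M → h * u * h⁻¹ ∈ M → sIsom B ≤ M) :
    ∃ u g h' : SU n F q, (IsNilpotent (((u : Matrix.SpecialLinearGroup (Fin n) F) :
      Matrix (Fin n) (Fin n) F) - 1) ∧ (((u : Matrix.SpecialLinearGroup (Fin n) F) :
      Matrix (Fin n) (Fin n) F) - 1) ^ (n - 1) ≠ 0) ∧ (h = 1 → h' = 1) ∧
      Subgroup.closure ({u, g * u * g⁻¹, h' * u * h'⁻¹} : Set (SU n F q)) = ⊤ := by
  obtain ⟨e, he⟩ := hB.exists_isometry_std hF hn
  let Φ : SU n F q ≃* sIsom B := (suEquivSIsom hF n).trans (sIsomCongr e he).symm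
  have hΦ : ∀ A z, (Φ A).1.1 (e.symm z) = e.symm (A.1.1.mulVec z) := fun A z => by
    have : ((sIsomCongr e he (Φ A)).1.1 z) = A.1.1.mulVec z := by simp [Φ, suEquivSIsom_apply]
    rw [← this]
    exact (e.symm_apply_apply _).symm
  obtain ⟨u', hu'⟩ := Φ.surjective ⟨u, hu⟩
  obtain ⟨g', hg'⟩ := Φ.surjective ⟨g, hg⟩
  obtain ⟨h', hh'⟩ := Φ.surjective ⟨h, hh⟩
  refine ⟨u', g', h', reg_of_intertwine e.symm (hΦ u') (by rw [hu']; exact hr), fun e' => ?_,
    eq_top_iff.2 fun A _ => ?_⟩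
  · exact Φ.injective (by rw [hh', map_one]; exact Subtype.ext e')
  obtain ⟨A', hA', e'⟩ := H ((Subgroup.closure {u', g' * u' * g'⁻¹, h' * u' * h'⁻¹}).map
    ((sIsom B).subtype.comp Φ.toMonoidHom)) ⟨u', Subgroup.subset_closure (by simp), by simp [hu']⟩
    ⟨g' * u' * g'⁻¹, Subgroup.subset_closure (by simp), by simp [hu', hg']⟩
    ⟨h' * u' * h'⁻¹, Subgroup.subset_closure (by simp), by simp [hu', hh']⟩ (Φ A).2
  rwa [← Φ.injective (Subtype.ext e')]

theorem su3_std [Fintype F] {q : ℕ} (hF : Fintype.card F = q ^ 2) (hq : 3 ≤ q) :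
    ∃ u g : SU 3 F q, (IsNilpotent (((u : Matrix.SpecialLinearGroup (Fin 3) F) :
      Matrix (Fin 3) (Fin 3) F) - 1) ∧ (((u : Matrix.SpecialLinearGroup (Fin 3) F) :
      Matrix (Fin 3) (Fin 3) F) - 1) ^ (3 - 1) ≠ 0) ∧
      Subgroup.closure ({u, g * u * g⁻¹} : Set (SU 3 F q)) = ⊤ := by
  obtain ⟨u, hu, hr, g, hg, H⟩ := su3_two_gen (herm_hermSesq hF 3) (by simp)
    (exists_fixed_ne_of_ne_two hF (by omega)) (su3Data hF hq)
  obtain ⟨u, g, h, r, e, H⟩ := su_transfer hF (herm_hermSesq hF 3) (by simp) hu hg (one_mem _) hr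
    fun M m1 m2 _ => H M m1 m2
  refine ⟨u, g, r, ?_⟩
  rw [← H, e rfl]
  congr 1
  ext; simp; tauto

end Cfsg.Lib.Known.RU
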