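import Cfsg.Agent.Known.GenESD2
import Cfsg.Agent.Chev.MultSU
import Cfsg.Agent.S2283
import Cfsg.Agent.S2411
import Cfsg.Agent.S0301

/-!
Generation of the unitary and orthogonal groups by two elements.
-/

set_option autoImplicit false
set_option linter.unusedSectionVars false

namespace Cfsg.Lib.Known

open Cfsg.Lib.Chev Cfsg.Lib.Class Cfsg.Lib.Class.Form Cfsg.Lib.Class.Orth Matrix Function ESD ESD.Pair QuadraticMap

variable {F : Type*} [Field F]

theorem two_eq_zero_of_natCard_two [Finite F] (h : Nat.card F = 2) : (2 : F) = 0 := by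
  have := Fintype.ofFinite F
  simpa [← Nat.card_eq_fintype_card, h] using FiniteField.cast_card_eq_zero F

theorem typeB_pos {m : ℕ} (i : Fin m) : 0 < (typeB m).α i i := by simp [typeB_α, evE]

theorem typeD_pos {m : ℕ} (hm : 2 ≤ m) (i : Fin m) : 0 < (typeD m hm).α i i := by
  rw [typeD_α]
  split_ifs <;> simp [evE]
  split_ifs <;> omega

section orth

variable [Finite F] {I : Type} [Fintype I] [DecidableEq I] {Q : QuadraticForm F (I → F)}

theorem o_two_gen {k : ℕ} (hQ : (polarBilin Q).Nondegenerate) (hn : 5 ≤ Fintype.card I) (P : (oESD Q).Frame (k + 3))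
    (gen : ∀ i, Gen (P.P i)) {v w : I → F} (hv : v ∈ P.W (k + 3)) (hw : w ∈ P.W (k + 3)) (h1 : Q v ≠ 0)
    (h2 : Nat.card F ≠ 2 → Q w ≠ 0) (h3 : (2 : F) = 0 → polar Q v w ≠ 0)
    (hW : ∀ L : Submodule F (I → F), v ∈ L → w ∈ L → P.W (k + 3) ≤ L) :
    ∃ a b : POmega F Q, Subgroup.closure {a, b} = ⊤ := by
  have hx : ¬ Exc Q := not_exc_of_finrank (by simp; omega)
  have hc := commutator_eq_EG hQ hx (by simp; omega)
  let e := ((pomegaEquiv Q).trans (Class.quotCenterEquiv (MulEquiv.subgroupCongr hc))).symm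
  refine two_gen_of_surj (e.toMonoidHom.comp (QuotientGroup.mk' _)) (e.surjective.comp (QuotientGroup.mk'_surjective _)) ?_
  have hm : ∀ l : (oESD Q).Par, l.v = 0 → ∃ s, l = (oESD Q).lam s := fun l hl =>
    ⟨0, (oESD_lam l hl).trans (oESD_lam _ rfl).symm⟩
  by_cases hK : Nat.card F = 2
  · exact frame_two_gen_of_eq hK P hm gen (a := ⟨v, _, rfl⟩) (b := ⟨w, _, rfl⟩) hv hw h1 (h3 (two_eq_zero_of_natCard_two hK)) hW
  refine frame_two_gen_of_ne hK P hm gen (a := ⟨v, _, rfl⟩) (b := ⟨w, _, rfl⟩) hv hw h1 (h2 hK) (by simp [oESD]) ?_ hW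
  by_cases h : (2 : F) = 0
  · exact .inl (h3 h)
  · exact .inr (.inl (by simpa [oESD, h] using h2 hK))

theorem two_gen_odd (h2 : (2 : F) ≠ 0) (k : ℕ) :
    ∃ a b : POmega F (quadFormOdd (k + 3) F), Subgroup.closure {a, b} = ⊤ := by
  obtain ⟨p, hp⟩ := CharP.exists F
  have := Fact.mk (CharP.char_is_prime F p)
  have hQ := quadOdd_nondegenerate h2 (k + 3)
  have hn : 5 ≤ Fintype.card (Unit ⊕ Fin (k + 3) ⊕ Fin (k + 3)) := by simp; omega
  have hv : Pi.single (.inl ()) 1 ∈ (frameOdd (k + 3) F).mf.frame.W (k + 3) := (OFrame.mem_W _).2 (by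
    rintro (a | a) h
    exacts [absurd rfl h, by simp])
  rw [← coe_quadOdd]
  refine o_two_gen hQ hn _ (gen_of_hasGRD (fits_odd.hasGRD hQ hn p) typeB_pos) hv hv (by simp [quadFormOdd])
    (by simp [quadFormOdd]) (fun h => absurd h h2) fun L l1 _ x hx => ?_
  convert L.smul_mem (x (.inl ())) l1
  funext a
  rcases a with a | a
  exacts [by simp, by simpa using (OFrame.mem_W _).1 hx (.inr a) (wtH_ne_zero a)]

theorem two_gen_minus {a b : F} (hab : ∀ z₁ z₂ : F, z₁ ^ 2 + a * z₁ * z₂ + b * z₂ ^ 2 = 0 → z₁ = 0 ∧ z₂ = 0) (k : ℕ) :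
    ∃ g h : POmega F (quadFormMinus (k + 3) F a b), Subgroup.closure {g, h} = ⊤ := by
  obtain ⟨p, hp⟩ := CharP.exists F
  have := Fact.mk (CharP.char_is_prime F p)
  have hQ := quadMinus_nondegenerate (F := F) (k + 3) hab
  have hn : 5 ≤ Fintype.card ((Fin (k + 3) ⊕ Fin (k + 3)) ⊕ Fin 2) := by simp; omega
  have hv : ∀ i, Pi.single (.inr i) 1 ∈ (frameMinus (k + 3) F hab).mf.frame.W (k + 3) := fun i => (OFrame.mem_W _).2 (by
    rintro (a | a) h
    exacts [by simp, absurd rfl h])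
  rw [← coe_quadMinus]
  refine o_two_gen hQ hn _ (gen_of_hasGRD ((fits_minus hab).hasGRD hQ hn p) typeB_pos) (hv 0) (hv 1)
    (by simp [quadFormMinus]) (fun _ => ?_) (fun h2 => ?_) fun L l1 l2 x hx => ?_
  · simpa [quadFormMinus] using fun e => by simpa [e] using hab 0 1
  · obtain ⟨c, rfl⟩ := isSquare_of_char_two h2 b
    have : a ≠ 0 := by rintro rfl; simpa using (hab c 1 (by linear_combination c ^ 2 * h2)).2
    rw [coe_quadMinus, polar_quadFormMinus]
    simpa
  convert add_mem (L.smul_mem (x (.inr 0)) l1) (L.smul_mem (x (.inr 1)) l2)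
  funext a
  rcases a with a | a
  · simpa using (OFrame.mem_W _).1 hx (.inl a) (wtH_ne_zero a)
  · fin_cases a <;> simp

theorem two_gen_plus (k : ℕ) : ∃ a b : POmega F (quadFormPlus (k + 4) F), Subgroup.closure {a, b} = ⊤ := by
  obtain ⟨p, hp⟩ := CharP.exists F
  have := Fact.mk (CharP.char_is_prime F p)
  have hQ := quadPlus_nondegenerate (F := F) (k + 4)
  have hn : 5 ≤ Fintype.card (Fin (k + 4) ⊕ Fin (k + 4)) := by simp; omega
  have gen := gen_of_hasGRD ((fits_plus (by omega)).hasGRD hQ hn p) (typeD_pos _)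
  have h0 : ∀ z ∈ (framePlus (k + 4) F).mf.frame.W (k + 4), z = 0 := fun z hz =>
    funext fun a => (OFrame.mem_W _).1 hz a (wtH_ne_zero a)
  generalize (framePlus (k + 4) F).mf.frame = M at gen h0
  rw [← coe_quadPlus]
  generalize quadPlus (k + 4) F = Q at *
  obtain ⟨c, c1, c2⟩ : ∃ c : F, c ≠ 1 ∧ (Nat.card F ≠ 2 → c ≠ 0) := by
    by_cases h : Nat.card F = 2
    · exact ⟨0, zero_ne_one, fun e => absurd h e⟩
    have := Finite.one_lt_card (α := F)
    have := Fintype.ofFinite F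
    classical
    obtain ⟨c, hc⟩ := Finset.exists_mem_notMem_of_card_lt_card (s := {(0 : F), 1}) (t := Finset.univ)
      (Finset.card_le_two.trans_lt (by rw [Finset.card_univ, ← Nat.card_eq_fintype_card]; omega))
    simp only [Finset.mem_insert, Finset.mem_singleton, not_or] at hc
    exact ⟨c, hc.2.2, fun _ => hc.2.1⟩
  let P : (oESD Q).Frame (k + 3) := ⟨fun i => M.P i.castSucc, fun h => M.orth (by simpa)⟩
  have o := fun i : Fin (k + 3) => M.orth (Fin.castSucc_ne_last i)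
  have hz : ∀ z ∈ P.W (k + 3), z ∈ (M.P (Fin.last _)).perp → z = 0 := fun z h1 h2 => h0 z (Frame.mem_W.2 fun i _ => by
    induction i using Fin.lastCases with
    | last => exact h2
    | cast i => exact Frame.mem_W.1 h1 i i.2)
  generalize M.P (Fin.last _) = R at o hz
  have u1 : R.u ∈ P.W (k + 3) := Frame.mem_W.2 fun i _ => (o i).u
  have u2 : R.u' ∈ P.W (k + 3) := Frame.mem_W.2 fun i _ => (o i).u'
  have q1 : Q R.u = 0 := R.iso.symm
  have q2 : Q R.u' = 0 := R.iso'.symm
  have q3 : polar Q R.u R.u' = 1 := R.one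
  refine o_two_gen hQ hn P (fun i => gen _) (add_mem u1 u2) (add_mem u1 (Submodule.smul_mem _ c u2))
    (by simp [QuadraticMap.map_add Q, q1, q2, q3]) (fun h => ?_) (fun h2 => ?_) fun L l1 l2 x hx => ?_
  · simpa [QuadraticMap.map_add Q, QuadraticMap.map_smul, q1, q2, q3] using c2 h
  · simp only [polar_add_left, polar_add_right, polar_smul_right, polar_self, polar_comm Q R.u' R.u, q1, q2, q3]
    exact fun e => c1 (by simp only [smul_eq_mul, nsmul_eq_mul] at e; linear_combination e - h2)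
  have l3 : R.u' ∈ L := by
    rw [← L.smul_mem_iff (sub_ne_zero.2 c1)]
    convert sub_mem l2 l1 using 1
    module
  have l4 := (L.add_mem_iff_left l3).1 l1
  obtain ⟨z, h1, e⟩ := R.exists_eq_add x
  obtain rfl := hz z (by
    rw [add_right_comm, ← sub_eq_iff_eq_add'] at e
    exact e ▸ sub_mem hx (add_mem (Submodule.smul_mem _ _ u1) (Submodule.smul_mem _ _ u2))) h1
  exact e ▸ add_mem (add_mem (L.smul_mem _ l4) (zero_mem _)) (L.smul_mem _ l3)

end orth

section unitary

variable [Fintype F] {q : ℕ} (hF : Fintype.card F = q ^ 2) {n : ℕ}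
include hF

theorem two_gen_SU (hn : 3 ≤ n) (h3 : n = 3 → q ≠ 2) : ∃ a b : SU n F q, Subgroup.closure {a, b} = ⊤ := by
  have hq := two_le_of_card_sq hF
  by_cases h : n = 3
  · subst h
    obtain ⟨u, g, -, h⟩ := Agent.S2283.result q (by have := h3 rfl; omega) hF
    exact ⟨_, _, h⟩
  obtain ⟨n, rfl⟩ : ∃ k, n = k + 1 := ⟨n - 1, by omega⟩
  obtain ⟨p, hp⟩ := CharP.exists F
  have := Fact.mk (CharP.char_is_prime F p)
  obtain ⟨e, he⟩ := exists_suTw_equiv hF (n := n)
  have H : (suFrame hF he).HasGRD p (typeB _).α := ESD.MFrame.hasGRD (slGr n F) _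
    (le_antisymm (RGD.Twist.G1_le_F _) (suTw_F_le hF (by omega))) (Fin.castLE (by omega)) (fun i => by
      have := i.2
      simp only [symA_orb, Set.mem_insert_iff, Set.mem_singleton_iff, Fin.ext_iff, Fin.val_rev, Fin.val_castLE]
      by_cases h : i.val < (n + 1) / 2
      exacts [⟨⟨i, h⟩, .inl rfl⟩, ⟨⟨n - (i + 1), by omega⟩, .inr (by simp only; omega)⟩]) _ (foldA _)
    (fun _ => rfl) (fun _ => rfl) (fun k j hj => by
      have := k.2
      simp only [symA_orb, Set.mem_insert_iff, Set.mem_singleton_iff, Fin.ext_iff, Fin.val_rev, Fin.val_castLE] at hj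
      refine ⟨if 2 * (k + 1) = n + 1 then 2 else 1, by split_ifs <;> omega, funext fun i => ?_⟩
      have := i.2
      simp only [typeA_α, typeB_α, map_sub, Pi.sub_apply, foldA_evE, Pi.smul_apply, evE, smul_eq_mul]
      split_ifs <;> omega)
    fun g hg e => Subtype.ext ((slGr n F).eq_one_of_pow slGr_wt_injective p g hg (congrArg Subtype.val e))
  have gen := gen_of_hasGRD H typeB_pos
  have hm := fun l : (hermESD (herm_antiForm hF) e).Par => (herm_tame (herm_antiForm hF (k := n + 1))).exists_lam (l := l)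
  obtain ⟨l, l1, l2⟩ := hermESD_lam (herm_antiForm hF) e
  obtain ⟨v, v1, v2, v3⟩ : ∃ v ∈ (suFrame hF he).frame.W ((n + 1) / 2), (v = 0 ∨ antiForm hF (n + 1) v v ≠ 0) ∧
      ∀ L : Submodule F _, v ∈ L → (suFrame hF he).frame.W ((n + 1) / 2) ≤ L := by
    let c : Fin (n + 1) := ⟨(n + 1) / 2, by omega⟩
    have hW : ∀ v ∈ (suFrame hF he).frame.W ((n + 1) / 2), v = v c • Pi.single c 1 := fun v hv => funext fun a => by
      by_cases h0 : a = c
      · simp [h0]
      have := a.2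
      rw [Pi.smul_apply, Pi.single_eq_of_ne h0, smul_zero]
      by_cases h1 : a.val < (n + 1) / 2
      · exact MFrame.mem_W.1 hv (.inl ⟨a, h1⟩)
      · exact a.rev_rev ▸ MFrame.mem_W.1 hv (.inr ⟨a.rev, by simp [Fin.ext_iff, c] at h0 ⊢; omega⟩)
    rcases n.even_or_odd with ⟨k, hk⟩ | ⟨k, hk⟩
    · refine ⟨Pi.single c 1, MFrame.mem_W.2 fun x => Pi.single_eq_of_ne ?_ _, .inr ?_,
        fun L h v hv => hW v hv ▸ L.smul_mem _ h⟩
      · rcases x with i | i <;> have := i.2 <;> simp [Fin.ext_iff, suFrame, c] <;> omega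
      · have := antiForm_single hF c (Pi.single c 1)
        rw [show c.rev = c from Fin.ext (by simp [c]; omega)] at this
        simp [this]
    · refine ⟨0, zero_mem _, .inl rfl, fun L _ v hv => (hW v hv).trans (b := _) (c := 0) ?_ ▸ zero_mem _⟩
      rw [← c.rev_rev, show v c.rev.rev = 0 from MFrame.mem_W.1 hv (.inr ⟨c.rev, by simp [c]; omega⟩), zero_smul]
  obtain ⟨e'⟩ := nonempty_suTw_F_equiv hF (n := n)
  refine two_gen_of_surj e'.toMonoidHom e'.surjective ?_
  generalize (suFrame hF he).frame = P at gen v1 v3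
  generalize hk : (n + 1) / 2 = k at P
  obtain rfl | ⟨k, rfl⟩ : k = 2 ∨ ∃ j, k = j + 3 := (Nat.lt_or_ge k 3).imp (by omega) fun h => ⟨k - 3, by omega⟩
  · exact frame_two_gen_two (frobq_ne_id hF) P hm (gen 0) l1 l2 v1 v2 v3
  have hK : Nat.card F ≠ 2 := by rw [Nat.card_eq_fintype_card, hF]; nlinarith
  have l3 : l.v ∈ P.W (k + 3) := l1 ▸ zero_mem _
  rcases v2 with rfl | v2
  · exact frame_two_gen_of_ne hK P hm gen l3 l3 l2 l2 (by simp [l1, -frobq_apply]) (.inr (.inr l1)) fun L _ _ => v3 L (zero_mem _)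
  obtain ⟨a, rfl⟩ := exists_par (D := hermESD (herm_antiForm hF) e) v
  exact frame_two_gen_of_ne hK P hm gen v1 l3 (fun e => v2 (a.tr.trans (by simp [e, -frobq_apply]))) l2 (by simp [l1, -frobq_apply]) (.inr (.inr l1))
    fun L h _ => v3 L h

end unitary

end Cfsg.Lib.Known
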