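/-
A non-trivial word is not a law in a large Suzuki group: a degree argument on polynomial vectors.
-/
import Cfsg.Agent.Chev.SuzukiModel

set_option autoImplicit false

namespace Cfsg.Lib.Known.SzLaw

open Matrix Polynomial Cfsg.Lib.Chev

variable {F : Type*} [Field F]

/-- exponent attached to a letter -/
def ex (l : ℕ × Bool) : ℕ := 2 * l.1 + cond l.2 2 1

theorem ex_pos (l : ℕ × Bool) : 0 < ex l := by
  rcases l with ⟨i, _ | _⟩ <;> simp [ex]

theorem ex_le (l : ℕ × Bool) : ex l ≤ 2 * l.1 + 2 := by
  rcases l with ⟨i, _ | _⟩ <;> simp [ex]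

theorem ex_inj {l l' : ℕ × Bool} (h : ex l = ex l') : l = l' := by
  rcases l with ⟨i, _ | _⟩ <;> rcases l' with ⟨j, _ | _⟩ <;> simp [ex] at h ⊢ <;> omega

/-- the action of `T(0,s) w` on polynomial vectors -/
noncomputable def act (e : ℕ) (s : F[X]) (v : Fin 4 → F[X]) : Fin 4 → F[X] :=
  ![v 3 + s * v 1 + s ^ e * v 0, v 2 + s * v 0, v 1, v 0]

theorem act_good {e : ℕ} (he : 2 ≤ e) {s : F[X]} (hs : 1 ≤ s.natDegree) {v : Fin 4 → F[X]}
    (h0 : v 0 ≠ 0) (h : ∀ j, (v j).natDegree ≤ (v 0).natDegree) :
    (act e s v 0).natDegree = e * s.natDegree + (v 0).natDegree ∧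
      ∀ j, (act e s v j).natDegree ≤ (act e s v 0).natDegree := by
  have hs0 : s ≠ 0 := by
    rintro rfl
    simp at hs
  have h1 : (s ^ e * v 0).natDegree = e * s.natDegree + (v 0).natDegree := by
    rw [natDegree_mul (pow_ne_zero _ hs0) h0, natDegree_pow]
  have hes : s.natDegree < e * s.natDegree := by nlinarith
  have h2 : (v 3 + s * v 1).natDegree ≤ s.natDegree + (v 0).natDegree := by
    refine (natDegree_add_le _ _).trans (max_le ?_ ?_)
    · have := h 3
      omega
    · have := h 1
      exact natDegree_mul_le.trans (by omega)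
  have h3 : (act e s v 0).natDegree = e * s.natDegree + (v 0).natDegree := by
    show (v 3 + s * v 1 + s ^ e * v 0).natDegree = _
    rw [natDegree_add_eq_right_of_natDegree_lt (by omega), h1]
  refine ⟨h3, fun j => ?_⟩
  rw [h3]
  fin_cases j
  · exact h3.le
  · show (v 2 + s * v 0).natDegree ≤ _
    refine (natDegree_add_le _ _).trans (max_le ?_ ?_)
    · have := h 2
      omega
    · exact natDegree_mul_le.trans (by omega)
  · show (v 1).natDegree ≤ _
    have := h 1
    omega
  · show (v 0).natDegree ≤ _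
    omega

variable {τ : Tw F} {G : Type*} [Group G] (M : SzModel τ G)

/-- the substitution -/
noncomputable def sub (x : F) (i : ℕ) : G :=
  M.T 0 (x ^ ex (i, true)) * M.w * M.T 0 (x ^ ex (i, false))

theorem T0_mul (b d : F) : M.T 0 b * M.T 0 d = M.T 0 (b + d) := by
  rw [M.T_mul]
  simp

theorem T0_inv (b : F) : (M.T 0 b)⁻¹ = M.T 0 b := by
  rw [M.T_inv]
  simp

theorem letter (x : F) (l : ℕ × Bool) : cond l.2 (sub M x l.1) (sub M x l.1)⁻¹ =
    M.T 0 (x ^ ex l) * M.w * M.T 0 (x ^ ex (l.1, !l.2)) := by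
  rcases l with ⟨i, _ | _⟩
  · simp [sub, T0_inv, mul_assoc]
  · simp [sub]

theorem act_eval {e : ℕ} (hθ : ∀ x, τ.θ x = x ^ e) (x : F) (s : F[X]) (v : Fin 4 → F[X]) :
    M.ρ (M.T 0 (s.eval x) * M.w) *ᵥ (fun j => (v j).eval x) = fun j => (act e s v j).eval x := by
  rw [map_mul, ← Matrix.mulVec_mulVec, M.ρ_w, szJ_mulVec, M.ρ_T]
  ext j
  fin_cases j <;>
    simp [act, Tw.Tm, Tw.N, Matrix.mulVec, dotProduct, Fin.sum_univ_four, ← hθ]

/-- polynomial attached to the first letter -/
noncomputable def hd (F : Type*) [Field F] (L : List (ℕ × Bool)) : F[X] :=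
  (L.head?.map fun l => (X : F[X]) ^ ex l).getD 0

theorem key {e : ℕ} (he : 2 ≤ e) (hθ : ∀ x, τ.θ x = x ^ e) (L : List (ℕ × Bool))
    (hL : FreeGroup.IsReduced L) :
    ∃ D : Fin 4 → F[X], D 0 ≠ 0 ∧ (∀ j, (D j).natDegree ≤ (D 0).natDegree) ∧
      L.length ≤ (D 0).natDegree ∧
      (D 0).natDegree ≤ e * (L.map fun l => 4 * l.1 + 4).sum - e * (L.head?.map ex).getD 0 ∧
      ∀ x : F, M.ρ (FreeGroup.lift (sub M x) (FreeGroup.mk L)) *ᵥ ![0, 0, 0, 1] =
        fun j => (act e (hd F L) D j).eval x := by
  induction L with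
  | nil =>
    refine ⟨![1, 0, 0, 0], by simp, fun j => ?_, by simp, by simp, fun x => ?_⟩
    · fin_cases j <;> simp
    · ext j
      have he' : e ≠ 0 := by omega
      fin_cases j <;> simp [act, hd, he', FreeGroup.lift_mk]
  | cons l L ih =>
    obtain ⟨D, h0, h1, h2, h3, h4⟩ := ih (hL.infix ⟨[l], [], by simp⟩)
    set s : F[X] := X ^ ex (l.1, !l.2) + hd F L with hs
    have hsd : 1 ≤ s.natDegree ∧ s.natDegree ≤ 2 * l.1 + 2 + (L.head?.map ex).getD 0 := by
      have e1 := ex_pos (l.1, !l.2)
      have e2 := ex_le (l.1, !l.2)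
      cases L with
      | nil => simp [hs, hd]; omega
      | cons l' L' =>
        have hne : ex (l.1, !l.2) ≠ ex l' := by
          intro h
          have h' := ex_inj h
          have h5 : l.1 = l'.1 → l.2 = l'.2 := (List.isChain_cons_cons.mp hL).1
          rw [← h'] at h5
          simpa using h5 rfl
        have e3 := ex_pos l'
        simp only [hs, hd, List.head?_cons, Option.map_some, Option.getD_some]
        rcases lt_or_gt_of_ne hne with h | h
        · rw [natDegree_add_eq_right_of_natDegree_lt (by simpa using h)]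
          simp
          omega
        · rw [natDegree_add_eq_left_of_natDegree_lt (by simpa using h)]
          simp
          omega
    obtain ⟨g1, g2⟩ := act_good he hsd.1 h0 h1
    have hpos : 0 < e * s.natDegree := Nat.mul_pos (by omega) hsd.1
    refine ⟨act e s D, ?_, g2, ?_, ?_, fun x => ?_⟩
    · intro h
      rw [h] at g1
      simp only [natDegree_zero] at g1
      omega
    · rw [g1, List.length_cons]
      omega
    · rw [g1]
      have e2 := ex_le l
      have e4 : (L.head?.map ex).getD 0 ≤ (L.map fun l => 4 * l.1 + 4).sum := by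
        cases L with
        | nil => simp
        | cons l' L' =>
          have := ex_le l'
          simp
          omega
      have e5 := Nat.mul_le_mul_left e e4
      have e6 := Nat.mul_le_mul_left e hsd.2
      have e7 := Nat.mul_le_mul_left e e2
      simp only [List.map_cons, List.sum_cons, List.head?_cons, Option.map_some, Option.getD_some]
      have e8 : e * (4 * l.1 + 4) = 2 * (e * (2 * l.1 + 2)) := by ring
      rw [mul_add] at e6 ⊢
      omega
    · have hw : FreeGroup.lift (sub M x) (FreeGroup.mk (l :: L)) =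
          M.T 0 (x ^ ex l) * M.w * M.T 0 (x ^ ex (l.1, !l.2)) *
            FreeGroup.lift (sub M x) (FreeGroup.mk L) := by
        rw [FreeGroup.lift_mk, FreeGroup.lift_mk, List.map_cons, List.prod_cons, letter]
      rw [hw, map_mul, ← Matrix.mulVec_mulVec, h4, ← act_eval M hθ, Matrix.mulVec_mulVec, ← map_mul,
        ← act_eval M hθ, ← act_eval M hθ, Matrix.mulVec_mulVec, ← map_mul]
      congr 2
      have : M.T 0 (s.eval x) = M.T 0 (x ^ ex (l.1, !l.2)) * M.T 0 ((hd F L).eval x) := by
        rw [T0_mul, hs]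
        simp
      rw [this]
      simp [hd, mul_assoc]

include M in
/-- A non-trivial word has a non-trivial value as soon as the field is large. -/
theorem exists_ne_one [Fintype F] {e : ℕ} (he : 2 ≤ e) (hθ : ∀ x, τ.θ x = x ^ e) (w : FreeGroup ℕ)
    (hw : w ≠ 1) (hF : e * (w.toWord.map fun l => 4 * l.1 + 4).sum < Fintype.card F) :
    ∃ f : ℕ → G, FreeGroup.lift f w ≠ 1 := by
  obtain ⟨D, h0, -, h2, h3, h4⟩ := key M he hθ w.toWord FreeGroup.isReduced_toWord
  by_contra hcon
  push Not at hcon
  have hlen : 0 < w.toWord.length := by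
    rw [List.length_pos_iff]
    exact fun h => hw (FreeGroup.toWord_eq_nil_iff.mp h)
  have h5 : D 0 - 1 = 0 := by
    apply Polynomial.eq_zero_of_natDegree_lt_card_of_eval_eq_zero _ Function.injective_id
    · intro x
      have := congrFun (h4 x) 3
      rw [FreeGroup.mk_toWord, hcon] at this
      simp [act] at this
      simp [← this]
    · have : (D 0 - 1).natDegree ≤ (D 0).natDegree := by
        refine (natDegree_sub_le _ _).trans ?_
        simp
      omega
  rw [sub_eq_zero] at h5
  rw [h5] at h2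
  simp only [natDegree_one] at h2
  omega

end Cfsg.Lib.Known.SzLaw
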