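import Mathlib
import Cfsg.Agent.Known.SzLaw
import Cfsg.Agent.Known.SylHomo
import Cfsg.Agent.S0281
import Cfsg.Agent.S0248

/-!
A non-trivial word is not a law modulo the centre in `SL₂` over a large field, and consequences for
the classical groups.
-/

set_option autoImplicit false

namespace Cfsg.Lib.Known.Law

open Matrix Polynomial Cfsg.Lib.Known.SzLaw Cfsg.Lib.Known.SylH
open scoped MatrixGroups

/-- The generic letter. -/
noncomputable def gen (i : ℕ) : SL(2, ℤ[X]) :=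
  ⟨!![X ^ ex (i, true), -(X ^ ex (i, true) * X ^ ex (i, false)) - 1; 1, -X ^ ex (i, false)], by
    rw [det_fin_two_of]; ring⟩

theorem letter_eq (l : ℕ × Bool) : ∃ ε : ℤ[X], (ε = 1 ∨ ε = -1) ∧
    ((cond l.2 (gen l.1) (gen l.1)⁻¹ : SL(2, ℤ[X])) : Matrix (Fin 2) (Fin 2) ℤ[X]) =
      ε • !![X ^ ex l, -(X ^ ex l * X ^ ex (l.1, !l.2)) - 1; 1, -X ^ ex (l.1, !l.2)] := by
  rcases l with ⟨i, _ | _⟩
  · refine ⟨-1, Or.inr rfl, ?_⟩
    rw [cond_false, Matrix.SpecialLinearGroup.coe_inv, gen, adjugate_fin_two_of]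
    ext a b : 2
    fin_cases a <;> fin_cases b <;> simp [mul_comm]
  · exact ⟨1, Or.inl rfl, (one_smul _ _).symm⟩

theorem key (L : List (ℕ × Bool)) (l : ℕ × Bool) (hL : FreeGroup.IsReduced (l :: L)) :
    (FreeGroup.lift gen (FreeGroup.mk (l :: L)) 0 0 -
        X ^ ex l * FreeGroup.lift gen (FreeGroup.mk (l :: L)) 1 0).degree <
      (FreeGroup.lift gen (FreeGroup.mk (l :: L)) 1 0).degree ∧
    IsUnit (FreeGroup.lift gen (FreeGroup.mk (l :: L)) 1 0).leadingCoeff := by
  induction L generalizing l with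
  | nil =>
    obtain ⟨ε, h1, h2⟩ := letter_eq l
    rw [FreeGroup.lift_mk, List.map_singleton, List.prod_singleton, h2]
    rcases h1 with rfl | rfl <;> simp
  | cons l' L ih =>
    obtain ⟨h3, h4⟩ := ih l' (hL.infix ⟨[l], [], by simp⟩)
    obtain ⟨ε, h1, h2⟩ := letter_eq l
    rw [FreeGroup.lift_mk, List.map_cons, List.prod_cons, ← FreeGroup.lift_mk,
      Matrix.SpecialLinearGroup.coe_mul, h2]
    generalize (FreeGroup.lift gen (FreeGroup.mk (l' :: L)) : SL(2, ℤ[X])) = P at h3 h4 ⊢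
    have hne : ex l' ≠ ex (l.1, !l.2) := fun h => by
      have h5 : l.1 = l'.1 → l.2 = l'.2 := (List.isChain_cons_cons.mp hL).1
      rw [ex_inj h] at h5
      simpa using h5 rfl
    set s : ℤ[X] := X ^ ex l' - X ^ ex (l.1, !l.2) with hs
    have hsd : 0 < s.degree ∧ IsUnit s.leadingCoeff := by
      have e1 := ex_pos (l.1, !l.2)
      have e2 := ex_pos l'
      rcases lt_or_gt_of_ne hne with h | h
      · have h5 : (X ^ ex l' : ℤ[X]).degree < (X ^ ex (l.1, !l.2) : ℤ[X]).degree := by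
          simpa using h
        rw [hs, degree_sub_eq_right_of_degree_lt h5, leadingCoeff_sub_of_degree_lt' h5]
        simpa using e1
      · have h5 : (X ^ ex (l.1, !l.2) : ℤ[X]).degree < (X ^ ex l' : ℤ[X]).degree := by
          simpa using h
        rw [hs, degree_sub_eq_left_of_degree_lt h5, leadingCoeff_sub_of_degree_lt h5]
        simpa using e2
    have h0 : P 1 0 ≠ 0 := leadingCoeff_ne_zero.mp h4.ne_zero
    have h5 : (P 1 0).degree < (s * P 1 0).degree := by
      rw [mul_comm, degree_mul, degree_eq_natDegree h0]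
      nth_rw 1 [← add_zero ((P 1 0).natDegree : WithBot ℕ)]
      exact WithBot.add_lt_add_left (by simp) hsd.1
    have h6 : P 0 0 - X ^ ex (l.1, !l.2) * P 1 0 = (P 0 0 - X ^ ex l' * P 1 0) + s * P 1 0 := by
      rw [hs]; ring
    have h7 : (P 1 0).degree < (P 0 0 - X ^ ex (l.1, !l.2) * P 1 0).degree ∧
        IsUnit (P 0 0 - X ^ ex (l.1, !l.2) * P 1 0).leadingCoeff := by
      rw [h6, degree_add_eq_right_of_degree_lt (h3.trans h5),
        leadingCoeff_add_of_degree_lt (h3.trans h5), leadingCoeff_mul]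
      exact ⟨h5, hsd.2.mul h4⟩
    have h8 : ∀ M : Matrix (Fin 2) (Fin 2) ℤ[X], M = (ε • !![X ^ ex l,
        -(X ^ ex l * X ^ ex (l.1, !l.2)) - 1; 1, -X ^ ex (l.1, !l.2)]) * P.1 →
        M 1 0 = ε * (P 0 0 - X ^ ex (l.1, !l.2) * P 1 0) ∧
          M 0 0 - X ^ ex l * M 1 0 = -(ε * P 1 0) := by
      rintro _ rfl
      simp only [Matrix.mul_apply, Fin.sum_univ_two, Matrix.smul_apply, smul_eq_mul, of_apply,
        cons_val', cons_val_zero, cons_val_one, cons_val_fin_one]
      exact ⟨by ring, by ring⟩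
    rw [(h8 _ rfl).2, (h8 _ rfl).1]
    rcases h1 with rfl | rfl
    · rwa [one_mul, one_mul, degree_neg]
    · rw [neg_one_mul, neg_one_mul, neg_neg, degree_neg, leadingCoeff_neg, IsUnit.neg_iff]
      exact h7

/-- `w` is a law modulo the centre. -/
def LawZ (w : FreeGroup ℕ) (G : Type*) [Group G] : Prop :=
  ∀ f : ℕ → G, FreeGroup.lift f w ∈ Subgroup.center G

variable {w : FreeGroup ℕ} {G H : Type*} [Group G] [Group H]

theorem map_lift (φ : G →* H) (f : ℕ → G) (w : FreeGroup ℕ) :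
    φ (FreeGroup.lift f w) = FreeGroup.lift (fun i => φ (f i)) w :=
  DFunLike.congr_fun (show φ.comp (FreeGroup.lift f) = FreeGroup.lift fun i => φ (f i) from
    FreeGroup.ext_hom _ _ fun i => by simp) w

theorem LawZ.of_emb (h : LawZ w G) (e : Emb H G) : LawZ w H := fun f => by
  obtain ⟨φ, hφ⟩ := e
  refine Subgroup.mem_center_iff.mpr fun g => hφ ?_
  rw [map_mul, map_mul, map_lift]
  exact Subgroup.mem_center_iff.mp (h _) _

theorem lawZ_of_quot (e : G ≃* H ⧸ Subgroup.center H) (h : ∀ f : ℕ → G, FreeGroup.lift f w = 1) :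
    LawZ w H := fun f => by
  rw [← QuotientGroup.eq_one_iff, ← e.symm.map_eq_one_iff]
  exact (map_lift (e.symm.toMonoidHom.comp (QuotientGroup.mk' _)) f w).trans (h _)

theorem exists_bound_SL2 (hw : w ≠ 1) : ∃ N : ℕ, ∀ (F : Type*) [Field F] [Fintype F],
    LawZ w SL(2, F) → Fintype.card F < N := by
  refine ⟨(FreeGroup.lift gen w 1 0).natDegree + 1, fun F _ _ h => ?_⟩
  have h1 : IsUnit (FreeGroup.lift gen w 1 0).leadingCoeff := by
    obtain ⟨l, L, hL⟩ := List.exists_cons_of_ne_nil (mt FreeGroup.toWord_eq_nil_iff.mp hw)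
    rw [← FreeGroup.mk_toWord (x := w), hL]
    exact (key L l (hL ▸ FreeGroup.isReduced_toWord)).2
  by_contra h2
  refine (h1.map (Int.castRingHom F)).ne_zero ?_
  rw [← coeff_natDegree, ← coeff_map, eq_zero_of_natDegree_lt_card_of_eval_eq_zero
    ((FreeGroup.lift gen w 1 0).map (Int.castRingHom F)) (f := id) Function.injective_id
    (fun x => ?_) (natDegree_map_le.trans_lt (by omega)), coeff_zero]
  have h3 := h fun i => Matrix.SpecialLinearGroup.map (eval₂RingHom (Int.castRingHom F) x) (gen i)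
  rw [← map_lift, Matrix.SpecialLinearGroup.mem_center_iff] at h3
  obtain ⟨r, -, hr⟩ := h3
  simpa [eval_map] using (congrFun (congrFun hr 1) 0).symm

theorem Emb.commutator (h : Emb H G) (hH : commutator H = ⊤) : Emb H (commutator G) := by
  obtain ⟨φ, hφ⟩ := h
  exact ⟨φ.codRestrict _ fun x => Subgroup.map_le_iff_le_comap.mp
    ((Subgroup.map_commutator _ _ φ).le.trans (Subgroup.commutator_mono le_top le_top))
    (show x ∈ _root_.commutator H from hH ▸ trivial), fun x y h => hφ (Subtype.mk.inj h)⟩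

theorem map_eq_one_of_perfect {A : Type*} [CommGroup A] (hH : commutator H = ⊤) (φ : H →* A)
    (x : H) : φ x = 1 := Abelianization.commutator_subset_ker φ (hH ▸ trivial)

variable {F : Type*} [Field F] {ι κ κ' : Type*} [Fintype ι] [DecidableEq ι] [Fintype κ]
  [DecidableEq κ] [Fintype κ'] [DecidableEq κ']

/-- Extension of a matrix by an identity block. -/
noncomputable def blk (F : Type*) [Field F] (e : κ ⊕ κ' ≃ ι) : Matrix κ κ F →* Matrix ι ι F where
  toFun A := reindex e e (fromBlocks A 0 0 1)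
  map_one' := by simp
  map_mul' A B := by simp [fromBlocks_multiply]

theorem blk_mulVec (e : κ ⊕ κ' ≃ ι) (A : Matrix κ κ F) (v : ι → F) :
    (blk F e A *ᵥ v) ∘ e = Sum.elim (A *ᵥ (v ∘ e ∘ Sum.inl)) (v ∘ e ∘ Sum.inr) := by
  change (reindex e e (fromBlocks A 0 0 1) *ᵥ v) ∘ e = _
  rw [reindex_apply, submatrix_mulVec_equiv, fromBlocks_mulVec]
  ext i
  simp [Function.comp_assoc]

theorem blk_injective (e : κ ⊕ κ' ≃ ι) : Function.Injective (blk F e) := fun _ _ h =>
  (fromBlocks_inj.mp ((reindex e e).injective h)).1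

theorem det_blk (e : κ ⊕ κ' ≃ ι) (A : Matrix κ κ F) : (blk F e A).det = A.det := by
  change (reindex e e (fromBlocks A 0 0 1)).det = _
  simp

/-- The block embedding of special linear groups. -/
noncomputable def blkSL (F : Type*) [Field F] (e : κ ⊕ κ' ≃ ι) :
    Matrix.SpecialLinearGroup κ F →* Matrix.SpecialLinearGroup ι F where
  toFun A := ⟨blk F e A, (det_blk e _).trans A.2⟩
  map_one' := Subtype.ext (map_one (blk F e))
  map_mul' A B := Subtype.ext (map_mul (blk F e) A.1 B.1)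

theorem emb_SL_SL {k n : ℕ} (h : k ≤ n) : Emb SL(k, F) SL(n, F) :=
  ⟨blkSL F (finSumFinEquiv.trans (finCongr (Nat.add_sub_cancel' h))), fun _ _ h =>
    Subtype.ext (blk_injective _ (Subtype.mk.inj h))⟩

theorem emb_SL_GL : Emb (Matrix.SpecialLinearGroup ι F) (GL ι F) :=
  ⟨_, Matrix.SpecialLinearGroup.toGL_injective⟩

theorem emb_SU_SU {k n : ℕ} (q : ℕ) (h : k ≤ n) : Emb (SU k F q) (SU n F q) := by
  let e : Fin k ⊕ Fin (n - k) ≃ Fin n := finSumFinEquiv.trans (finCongr (Nat.add_sub_cancel' h))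
  refine ⟨((blkSL F e).comp (SU k F q).subtype).codRestrict _ fun A u v => ?_, fun _ _ h =>
    Subtype.ext (Subtype.ext (blk_injective _ (Subtype.mk.inj (Subtype.mk.inj h))))⟩
  have h1 : ∀ u v : Fin n → F, hermForm n F q u v = hermForm k F q (u ∘ e ∘ Sum.inl)
      (v ∘ e ∘ Sum.inl) + ∑ i, (u ∘ e ∘ Sum.inr) i * (v ∘ e ∘ Sum.inr) i ^ q := fun u v => by
    rw [hermForm, ← e.sum_comp, Fintype.sum_sum_type]; rfl
  change hermForm n F q (blk F e A.1.1 *ᵥ u) (blk F e A.1.1 *ᵥ v) = _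
  rw [h1, h1 u]
  simp only [← Function.comp_assoc, blk_mulVec, Sum.elim_comp_inl, Sum.elim_comp_inr]
  exact congrArg (· + _) (A.2 _ _)

theorem emb_GL_isometry {ι κ' : Type} [Fintype ι] [DecidableEq ι] [Fintype κ'] [DecidableEq κ']
    {m : ℕ} (e : (Fin m ⊕ Fin m) ⊕ κ' ≃ ι) (Q : (ι → F) → F) (R : (κ' → F) → F)
    (hQ : ∀ v, Q v = quadFormPlus m F (v ∘ e ∘ Sum.inl) + R (v ∘ e ∘ Sum.inr)) :
    Emb (GL (Fin m) F) (isometryGroup F Q) := by
  let φ : GL (Fin m) F →* Matrix (Fin m ⊕ Fin m) (Fin m ⊕ Fin m) F :=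
    { toFun := fun A => fromBlocks A 0 0 (A⁻¹ : GL (Fin m) F).1ᵀ
      map_one' := by simp
      map_mul' := fun A B => by simp [fromBlocks_multiply] }
  refine ⟨((blk F e).comp φ).toHomUnits.codRestrict _ fun A u _ => ?_, fun A B h => Units.ext
    (fromBlocks_inj.mp (blk_injective e (congrArg Units.val (Subtype.mk.inj h)))).1⟩
  change Q (blk F e (fromBlocks A 0 0 (A⁻¹ : GL (Fin m) F).1ᵀ) *ᵥ u) = Q u
  rw [hQ, hQ u]
  simp only [← Function.comp_assoc, blk_mulVec, Sum.elim_comp_inl, Sum.elim_comp_inr,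
    fromBlocks_mulVec, zero_mulVec, add_zero, zero_add]
  congr 1
  change (A.1 *ᵥ _) ⬝ᵥ (_ *ᵥ _) = _
  rw [mulVec_transpose, dotProduct_comm, ← dotProduct_mulVec, mulVec_mulVec, Units.inv_mul,
    one_mulVec, dotProduct_comm]
  rfl

theorem emb_perm [Finite H] {n : ℕ} (h : Nat.card H ≤ n) : Emb H (Equiv.Perm (Fin n)) :=
  ⟨(Equiv.Perm.viaEmbeddingHom ((Finite.equivFin H).toEmbedding.trans (Fin.castLEEmb h))).comp
    (MulAction.toPermHom H H), (Equiv.Perm.viaEmbeddingHom_injective _).comp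
      MulAction.toPerm_injective⟩

theorem emb_alt [Finite H] (hH : commutator H = ⊤) {n : ℕ} (h : Nat.card H ≤ n) :
    Emb H (alternatingGroup (Fin n)) := by
  obtain ⟨φ, hφ⟩ := emb_perm h
  exact ⟨φ.codRestrict _ fun x => Equiv.Perm.mem_alternatingGroup.mpr
    (map_eq_one_of_perfect hH (Equiv.Perm.sign.comp φ) x), fun x y h =>
    hφ (Subtype.mk.inj h)⟩

theorem emb_SU [Finite H] (hH : commutator H = ⊤) {n : ℕ} (h : Nat.card H ≤ n) (q : ℕ) :
    Emb H (SU n F q) := by
  obtain ⟨φ, hφ⟩ := emb_perm h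
  let ψ : H →* Matrix (Fin n) (Fin n) F := permMatrixHom.comp φ
  have h1 : ∀ x v, ψ x *ᵥ v = v ∘ ((φ x)⁻¹ : Equiv.Perm (Fin n)) := fun x v => permMatrix_mulVec _
  let χ : H →* SL(n, F) :=
    { toFun := fun x => ⟨ψ x, congrArg Units.val
        (map_eq_one_of_perfect hH (detMonoidHom.comp ψ).toHomUnits x)⟩
      map_one' := Subtype.ext (map_one ψ)
      map_mul' := fun x y => Subtype.ext (map_mul ψ x y) }
  refine ⟨χ.codRestrict _ fun x u v => ?_, fun x y h => hφ (inv_injective (Equiv.ext fun i => ?_))⟩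
  · change hermForm n F q (ψ x *ᵥ u) (ψ x *ᵥ v) = _
    rw [h1, h1]
    exact Equiv.sum_comp (φ x)⁻¹ fun i => u i * v i ^ q
  · have h2 := congrFun (h1 x (Pi.single ((φ x)⁻¹ i) 1)) i
    rw [show ψ x = ψ y from Subtype.mk.inj (Subtype.mk.inj h), h1] at h2
    by_contra h3
    rw [Function.comp_apply, Function.comp_apply, Pi.single_eq_same,
      Pi.single_eq_of_ne (Ne.symm h3)] at h2
    exact zero_ne_one h2

theorem card_le_of_emb [Fintype F] (h : Emb G (GL ι F)) :
    Nat.card (G ⧸ Subgroup.center G) ≤ Fintype.card F ^ (Fintype.card ι * Fintype.card ι) := by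
  obtain ⟨φ, hφ⟩ := h
  have := Finite.of_injective φ hφ
  refine (Nat.card_le_card_of_surjective _ (QuotientGroup.mk'_surjective _)).trans
    ((Nat.card_le_card_of_injective _ (Units.val_injective.comp hφ)).trans ?_)
  simp [Matrix, ← pow_mul]

/-- Groups in which a word is a law modulo the centre contain neither a large `SL₂` nor a fixed
perfect group. -/
theorem exists_bounds (hw : w ≠ 1) : ∃ N h : ℕ, 0 < N ∧
    (∀ (F : Type) [Field F] [Fintype F], LawZ w SL(2, F) → Fintype.card F < N) ∧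
    ∃ (H : Type) (_ : Group H) (_ : Finite H), commutator H = ⊤ ∧ Nat.card H = h ∧ ¬ LawZ w H := by
  obtain ⟨N, hN⟩ := exists_bound_SL2.{0} hw
  obtain ⟨p, h1, hp⟩ := Nat.exists_infinite_primes N
  have := Fact.mk hp
  refine ⟨N + 1, _, N.succ_pos, fun F _ _ h => (hN F h).trans (Nat.lt_succ_self N), SL(3, ZMod p),
    inferInstance, inferInstance, Cfsg.Agent.S0248.result 3 le_rfl, rfl, fun h => ?_⟩
  have := hN _ (h.of_emb (emb_SL_SL (k := 2) (by norm_num)))
  rw [ZMod.card] at this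
  omega

theorem emb_SL [Finite H] (hH : commutator H = ⊤) {n : ℕ} (h : Nat.card H ≤ n) :
    Emb H SL(n, F) := (emb_SU hH h 0).trans (Emb.subgroup _)

/-- Bounding the rank and the field from an embedded special linear group. -/
theorem bound_of_emb_SL {N h : ℕ}
    (hN : ∀ (F : Type) [Field F] [Fintype F], LawZ w SL(2, F) → Fintype.card F < N)
    [Finite H] (hH : commutator H = ⊤) (hh : Nat.card H = h) (hw : ¬ LawZ w H)
    {F : Type} [Field F] [Fintype F] {m : ℕ} (hm : 2 ≤ m) (e : Emb SL(m, F) G) (hG : LawZ w G) :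
    Fintype.card F < N ∧ m < h :=
  ⟨hN F (hG.of_emb ((emb_SL_SL hm).trans e)), lt_of_not_ge fun h1 =>
    hw (hG.of_emb ((emb_SL hH (hh ▸ h1)).trans e))⟩

end Cfsg.Lib.Known.Law
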