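import Cfsg.Agent.Known.SpDecomp
import Cfsg.Agent.Class.OrthTwo

/-!
Hyperbolic frames of an orthogonal space, Gauss decomposition with respect to the stabiliser of a
maximal totally singular subspace, and fixed-point-free action on its unipotent radical.
-/

set_option autoImplicit false

namespace Cfsg.Lib.Known.OC

open Module Polynomial QuadraticMap Cfsg.Lib.Class Cfsg.Lib.Class.Orth Cfsg.Lib.Known.SC

theorem exists_conj_of_fpf {G : Type*} [Group G] [Finite G] {H : Subgroup G} {y : G}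
    (hy : ∀ k ∈ H, y⁻¹ * k * y ∈ H) (h : ∀ k ∈ H, k * y = y * k → k = 1) {u : G} (hu : u ∈ H) :
    ∃ k ∈ H, y * u = k⁻¹ * y * k := by
  let f : H → H := fun k => ⟨y⁻¹ * k.1⁻¹ * y * k, mul_mem (hy _ (inv_mem k.2)) k.2⟩
  have hf : Function.Injective f := fun k k' e => by
    have : y⁻¹ * k.1⁻¹ * y * k = y⁻¹ * k'.1⁻¹ * y * k' := congrArg Subtype.val e
    refine Subtype.ext (mul_inv_eq_one.1 (h _ (mul_mem k'.2 (inv_mem k.2)) ?_)).symm
    calc _ = k'.1 * y * (y⁻¹ * k.1⁻¹ * y * k) * k.1⁻¹ := by group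
      _ = _ := by rw [this]; group
  obtain ⟨k, hk⟩ := Finite.surjective_of_injective hf ⟨u, hu⟩
  exact ⟨k, k.2, by rw [← show y⁻¹ * k.1⁻¹ * y * k = u from congrArg Subtype.val hk]; group⟩

variable {F V ι : Type*} [Field F] [AddCommGroup V] [Module F V] {Q : QuadraticForm F V}
  [Fintype ι] [DecidableEq ι]

theorem surj_of_inj [FiniteDimensional F V] {W : Submodule F V} {f : End F V}
    (hf : ∀ x ∈ W, f x ∈ W) (hi : ∀ x ∈ W, f x = 0 → x = 0) : ∀ z ∈ W, ∃ x ∈ W, f x = z := by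
  intro z hz
  obtain ⟨x, hx⟩ := LinearMap.injective_iff_surjective.1 ((injective_iff_map_eq_zero
    (f.restrict hf)).2 fun x hx => Subtype.ext (hi x x.2 (congrArg Subtype.val hx))) ⟨z, hz⟩
  exact ⟨x, x.2, congrArg Subtype.val hx⟩

theorem aeval_eig {f : End F V} {x : V} {c : F} (h : f x = c • x) (p : F[X]) :
    aeval f p x = p.eval c • x := by
  simpa using (intertwine_aeval (f := c • (1 : End F F)) (g := f) (LinearMap.toSpanSingleton F V x)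
    (fun v => by simp [h, smul_smul, mul_comm]) p 1).symm.trans (by
      rw [← Algebra.algebraMap_eq_smul_one, aeval_algebraMap_apply]; simp)

theorem cop {p : F[X]} (hp : IsCoprime p p.reverse) (y : V ≃ₗ[F] V) {v : V}
    (h : aeval y.toLinearMap p v = 0) (h' : aeval y.symm.toLinearMap p v = 0) : v = 0 := by
  refine eq_zero_of_coprime hp h ?_
  rw [← map_zero (y.toLinearMap ^ p.natDegree), ← h', aeval_eq_sum_range' (n := p.natDegree + 1)
    (p.reverse_natDegree_le.trans_lt (by omega)), aeval_eq_sum_range, ← Finset.sum_range_reflect,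
    LinearMap.sum_apply, LinearMap.sum_apply, map_sum]
  refine Finset.sum_congr rfl fun i hi => ?_
  obtain ⟨j, hj⟩ := Nat.exists_eq_add_of_le' (Nat.lt_succ_iff.1 (Finset.mem_range.1 hi))
  have : Commute y.toLinearMap y.symm.toLinearMap := by ext; simp
  rw [coeff_reverse, revAt_le (by omega), show p.natDegree - (p.natDegree + 1 - 1 - i) = i by omega,
    show p.natDegree + 1 - 1 - i = j by omega, hj, pow_add, LinearMap.smul_apply,
    LinearMap.smul_apply, map_smul, End.mul_apply, ← End.mul_apply (_ ^ i), ← this.mul_pow,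
    show y.toLinearMap * y.symm.toLinearMap = 1 by ext; simp, one_pow, End.one_apply]

/-- The transpose with respect to the dot product. -/
def tr (A : End F (ι → F)) : End F (ι → F) := Matrix.toLin' (LinearMap.toMatrix' A).transpose

theorem dot_tr (A : End F (ι → F)) (x y : ι → F) : x ⬝ᵥ tr A y = A x ⬝ᵥ y := by
  rw [tr, Matrix.toLin'_apply, Matrix.dotProduct_mulVec, Matrix.vecMul_transpose,
    LinearMap.toMatrix'_mulVec]

omit [DecidableEq ι] in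
theorem dot_ext {y y' : ι → F} (h : ∀ x, x ⬝ᵥ y = x ⬝ᵥ y') : y = y' :=
  dotProduct_eq _ _ fun x => by rw [dotProduct_comm, h, dotProduct_comm]

/-- The transpose of an automorphism. -/
def trE (A : (ι → F) ≃ₗ[F] ι → F) : (ι → F) ≃ₗ[F] ι → F :=
  LinearEquiv.ofLinearMap (tr A.toLinearMap) (tr A.symm.toLinearMap)
    (LinearMap.ext fun _ => dot_ext fun _ => by simp [dot_tr])
    (LinearMap.ext fun _ => dot_ext fun _ => by simp [dot_tr])

theorem dot_trE (A : (ι → F) ≃ₗ[F] ι → F) (x y : ι → F) : x ⬝ᵥ trE A y = A x ⬝ᵥ y := dot_tr _ x y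

theorem dot_trE_symm (A : (ι → F) ≃ₗ[F] ι → F) (x y : ι → F) :
    x ⬝ᵥ (trE A).symm y = A.symm x ⬝ᵥ y := dot_tr _ x y

omit [DecidableEq ι] in
theorem dot_aeval {f g : End F (ι → F)} (h : ∀ x y, x ⬝ᵥ g y = f x ⬝ᵥ y) (p : F[X]) (x y : ι → F) :
    x ⬝ᵥ aeval g p y = aeval f p x ⬝ᵥ y :=
  (adj_aeval (B := dotProductBilin F F) (fun x y => (h x y).symm) p x y).symm

/-- A hyperbolic frame whose orthogonal complement is anisotropic. -/
structure Fr (Q : QuadraticForm F V) (ι : Type*) [Fintype ι] where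
  E : (ι → F) →ₗ[F] V
  E' : (ι → F) →ₗ[F] V
  qE : ∀ x, Q (E x) = 0
  qE' : ∀ x, Q (E' x) = 0
  pol : ∀ x y, polar Q (E x) (E' y) = x ⬝ᵥ y
  an : ∀ n, (∀ x, polar Q (E x) n = 0) → (∀ x, polar Q (E' x) n = 0) → Q n = 0 → n = 0

theorem exists_O_of_linear [FiniteDimensional F V] (hQ : (polarBilin Q).Nondegenerate)
    (f : End F V) (h : ∀ v, Q (f v) = Q v) : ∃ g : O Q, ∀ v, g.1 v = f v :=
  ⟨⟨LinearEquiv.ofInjectiveEndo f ((injective_iff_map_eq_zero _).2 fun v hv => nondeg_left hQ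
    fun y => by rw [← polar_map_of_map f h, hv, polar_zero_left]), mem_O.2 h⟩, fun _ => rfl⟩

theorem witt_lin [FiniteDimensional F V] (hQ : (polarBilin Q).Nondegenerate) {W : Type*}
    [AddCommGroup W] [Module F W] {f f' : W →ₗ[F] V} (hf : Function.Injective f)
    (hf' : Function.Injective f') (h : ∀ x, Q (f' x) = Q (f x)) : ∃ g : O Q, ∀ x, g.1 (f x) = f' x := by
  obtain ⟨g, hg⟩ := witt hQ _ (f' ∘ₗ (LinearEquiv.ofInjective f hf).symm.toLinearMap)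
    (hf'.comp (LinearEquiv.injective _)) fun x => by
      obtain ⟨x, rfl⟩ := (LinearEquiv.ofInjective f hf).surjective x
      simp [h]
  exact ⟨g, fun x => by simpa using hg (LinearEquiv.ofInjective f hf x)⟩

namespace Fr

variable (φ : Fr Q ι)

/-- The opposite frame. -/
def symm : Fr Q ι := ⟨φ.E', φ.E, φ.qE', φ.qE, fun x y => by
  rw [polar_comm, φ.pol, dotProduct_comm], fun n a b => φ.an n b a⟩

/-- The image of a frame under an isometry. -/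
def map (g : O Q) : Fr Q ι := ⟨g.1.toLinearMap ∘ₗ φ.E, g.1.toLinearMap ∘ₗ φ.E',
  fun x => by simp [φ.qE], fun x => by simp [φ.qE'], fun x y => by simp [φ.pol], fun n a b c => by
    obtain ⟨n, rfl⟩ := g.1.surjective n
    simpa using φ.an n (by simpa using a) (by simpa using b) (by simpa using c)⟩

/-- Coordinates along the first half of the frame. -/
def c : V →ₗ[F] ι → F := LinearMap.pi fun i => polarBilin Q (φ.E' (Pi.single i 1))

/-- The anisotropic complement. -/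
def V₀ : Submodule F V := orth Q (LinearMap.range φ.E) ⊓ orth Q (LinearMap.range φ.E')

/-- Projection to the anisotropic complement. -/
def ρ : End F V := 1 - φ.E ∘ₗ φ.c - φ.E' ∘ₗ φ.symm.c

theorem dot_c (x : ι → F) (v : V) : x ⬝ᵥ φ.c v = polar Q (φ.E' x) v := by
  conv_rhs => rw [pi_eq_sum_univ' x, map_sum, polar_sum_left]
  simp [c, dotProduct]

theorem dot_c' (x : ι → F) (v : V) : x ⬝ᵥ φ.symm.c v = polar Q (φ.E x) v := φ.symm.dot_c x v

omit [DecidableEq ι] in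
@[simp] theorem pEE (x y : ι → F) : polar Q (φ.E x) (φ.E y) = 0 := by
  simp [polar, ← map_add, φ.qE]

omit [DecidableEq ι] in
@[simp] theorem pE'E' (x y : ι → F) : polar Q (φ.E' x) (φ.E' y) = 0 := φ.symm.pEE x y

omit [DecidableEq ι] in
theorem pol' (x y : ι → F) : polar Q (φ.E' x) (φ.E y) = x ⬝ᵥ y := φ.symm.pol x y

@[simp] theorem c_E (x : ι → F) : φ.c (φ.E x) = x := dot_ext fun y => by rw [dot_c, pol']

@[simp] theorem c_E' (x : ι → F) : φ.c (φ.E' x) = 0 := dot_ext fun y => by simp [dot_c]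

@[simp] theorem c'_E' (x : ι → F) : φ.symm.c (φ.E' x) = x := φ.symm.c_E x

@[simp] theorem c'_E (x : ι → F) : φ.symm.c (φ.E x) = 0 := φ.symm.c_E' x

theorem E_inj : Function.Injective φ.E := Function.LeftInverse.injective φ.c_E

omit [DecidableEq ι] in
theorem mem_V₀ {n : V} :
    n ∈ φ.V₀ ↔ (∀ x, polar Q (φ.E x) n = 0) ∧ ∀ x, polar Q (φ.E' x) n = 0 := by
  simp [V₀, mem_orth]

omit [DecidableEq ι] in
theorem symm_V₀ : φ.symm.V₀ = φ.V₀ := inf_comm _ _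

variable {φ}

theorem c_V₀ {n : V} (h : n ∈ φ.V₀) : φ.c n = 0 :=
  dot_ext fun y => by simp [dot_c, (φ.mem_V₀.1 h).2]

theorem c'_V₀ {n : V} (h : n ∈ φ.V₀) : φ.symm.c n = 0 := c_V₀ (φ.symm_V₀ ▸ h)

omit [DecidableEq ι] in
theorem an' {n : V} (h : n ∈ φ.V₀) (h0 : Q n = 0) : n = 0 :=
  φ.an n (φ.mem_V₀.1 h).1 (φ.mem_V₀.1 h).2 h0

theorem ρ_V₀ {n : V} (h : n ∈ φ.V₀) : φ.ρ n = n := by simp [ρ, c_V₀ h, c'_V₀ h]

variable (φ)

theorem dec (v : V) : φ.E (φ.c v) + φ.ρ v + φ.E' (φ.symm.c v) = v := by simp [ρ]; abel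

theorem ρ_mem (v : V) : φ.ρ v ∈ φ.V₀ := φ.mem_V₀.2 ⟨fun x => by
  simp [ρ, polar_sub_right, φ.pol, dot_c'], fun x => by simp [ρ, polar_sub_right, pol', dot_c]⟩

@[simp] theorem ρ_E (x : ι → F) : φ.ρ (φ.E x) = 0 := by simp [ρ]

@[simp] theorem ρ_E' (x : ι → F) : φ.ρ (φ.E' x) = 0 := by simp [ρ]

omit [DecidableEq ι] in
theorem Q_dec (x y : ι → F) {n : V} (h : n ∈ φ.V₀) : Q (φ.E x + n + φ.E' y) = x ⬝ᵥ y + Q n := by
  qsimp
  rw [φ.qE, φ.qE', φ.pol, (φ.mem_V₀.1 h).1, polar_comm Q n, (φ.mem_V₀.1 h).2]; ring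

theorem Q_eq (v : V) : Q v = φ.c v ⬝ᵥ φ.symm.c v + Q (φ.ρ v) := by
  rw [← φ.Q_dec _ _ (φ.ρ_mem v), dec]

theorem induction {P : V → Prop} (h : ∀ x y, ∀ n ∈ φ.V₀, P (φ.E x + n + φ.E' y)) (v : V) : P v :=
  φ.dec v ▸ h _ _ _ (φ.ρ_mem v)

theorem ext3 {g h : O Q} (h1 : ∀ x, g.1 (φ.E x) = h.1 (φ.E x))
    (h2 : ∀ x, g.1 (φ.E' x) = h.1 (φ.E' x)) (h3 : ∀ n ∈ φ.V₀, g.1 n = h.1 n) : g = h :=
  O_ext (φ.induction fun x y n hn => by simp [h1, h2, h3 n hn])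

theorem eq_E {v : V} (h : ∀ x, polar Q (φ.E x) v = 0) (h0 : Q v = 0) : v = φ.E (φ.c v) := by
  have h1 : φ.symm.c v = 0 := dot_ext fun x => by simp [dot_c', h]
  have := φ.dec v
  rw [an' (φ.ρ_mem v) (by simpa [h1, h0] using (φ.Q_eq v).symm), h1] at this
  simpa using this.symm

theorem nondeg_V₀ (hQ : (polarBilin Q).Nondegenerate) {n : V} (hn : n ∈ φ.V₀)
    (h : ∀ m ∈ φ.V₀, polar Q m n = 0) : n = 0 := nondeg_right hQ (φ.induction fun x y m hm => by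
  simp [polar_add_left, (φ.mem_V₀.1 hn).1, (φ.mem_V₀.1 hn).2, h m hm])

/-- The unipotent radical. -/
def U : Subgroup (O Q) where
  carrier := {k | (∀ x, k.1 (φ.E x) = φ.E x) ∧ ∀ n ∈ φ.V₀, ∃ x, k.1 n = n + φ.E x}
  one_mem' := ⟨fun _ => rfl, fun n _ => ⟨0, by simp⟩⟩
  mul_mem' {a b} ha hb := ⟨fun x => by simp [ha.1, hb.1], fun n hn => by
    obtain ⟨x, hx⟩ := ha.2 n hn
    obtain ⟨y, hy⟩ := hb.2 n hn
    exact ⟨x + y, by simp [hx, hy, ha.1, add_assoc]⟩⟩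
  inv_mem' {a} ha := ⟨fun x => O_inv_apply_of_eq (ha.1 x), fun n hn => by
    obtain ⟨x, hx⟩ := ha.2 n hn
    exact ⟨-x, O_inv_apply_of_eq (by simp [hx, ha.1])⟩⟩

/-- The isometries fixing the frame. -/
def M : Subgroup (O Q) := fixG Q (LinearMap.range φ.E ⊔ LinearMap.range φ.E')

omit [DecidableEq ι] in
theorem mem_M {h : O Q} :
    h ∈ φ.M ↔ (∀ x, h.1 (φ.E x) = φ.E x) ∧ ∀ x, h.1 (φ.E' x) = φ.E' x :=
  ⟨fun k => ⟨fun x => k _ (Submodule.mem_sup_left ⟨x, rfl⟩), fun x => k _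
    (Submodule.mem_sup_right ⟨x, rfl⟩)⟩, fun k _ hv => (sup_le (c := fixs h)
      (by rintro _ ⟨x, rfl⟩; exact k.1 x) (by rintro _ ⟨x, rfl⟩; exact k.2 x)) hv⟩

omit [DecidableEq ι] in
theorem symm_M : φ.symm.M = φ.M := congrArg (fixG Q) (sup_comm _ _)

omit [DecidableEq ι] in
theorem M_mem {h : O Q} (hh : h ∈ φ.M) {n : V} (hn : n ∈ φ.V₀) : h.1 n ∈ φ.V₀ :=
  φ.mem_V₀.2 ⟨fun x => by rw [← (φ.mem_M.1 hh).1, O_polar, (φ.mem_V₀.1 hn).1],
    fun x => by rw [← (φ.mem_M.1 hh).2, O_polar, (φ.mem_V₀.1 hn).2]⟩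

omit [DecidableEq ι] in
theorem refl_mem_M {n : V} (hn : n ∈ φ.V₀) : refl Q n ∈ φ.M :=
  φ.mem_M.2 ⟨fun x => refl_apply_of_orth ((φ.mem_V₀.1 hn).1 x),
    fun x => refl_apply_of_orth ((φ.mem_V₀.1 hn).2 x)⟩

variable [FiniteDimensional F V] (hQ : (polarBilin Q).Nondegenerate)
include hQ

theorem exists_levi (A A' : End F (ι → F)) (hA : ∀ x y, A x ⬝ᵥ A' y = x ⬝ᵥ y) (h : End F V)
    (hh : ∀ n ∈ φ.V₀, h n ∈ φ.V₀ ∧ Q (h n) = Q n) : ∃ m : O Q, (∀ x, m.1 (φ.E x) = φ.E (A x)) ∧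
      (∀ x, m.1 (φ.E' x) = φ.E' (A' x)) ∧ ∀ n ∈ φ.V₀, m.1 n = h n := by
  obtain ⟨m, hm⟩ := exists_O_of_linear hQ (φ.E ∘ₗ A ∘ₗ φ.c + h ∘ₗ φ.ρ + φ.E' ∘ₗ A' ∘ₗ φ.symm.c)
    fun v => (φ.Q_dec _ _ (hh _ (φ.ρ_mem v)).1).trans (by
      rw [φ.Q_eq v, ← (hh _ (φ.ρ_mem v)).2]; exact congrArg (· + _) (hA _ _))
  exact ⟨m, fun x => by simp [hm], fun x => by simp [hm], fun n hn => by
    simp [hm, c_V₀ hn, c'_V₀ hn, ρ_V₀ hn]⟩

theorem lev_aux (A : (ι → F) ≃ₗ[F] ι → F) : ∃ m : O Q, (∀ x, m.1 (φ.E x) = φ.E (A x)) ∧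
      (∀ x, m.1 (φ.E' x) = φ.E' ((trE A).symm x)) ∧ ∀ n ∈ φ.V₀, m.1 n = n :=
  φ.exists_levi hQ A.toLinearMap (trE A).symm.toLinearMap (fun x y => by simp [dot_trE_symm]) 1
    fun _ h => ⟨h, rfl⟩

/-- The general linear factor of the Levi subgroup. -/
noncomputable def lev : ((ι → F) ≃ₗ[F] ι → F) →* O Q :=
  MonoidHom.mk' (fun A => (φ.lev_aux hQ A).choose) fun A B => by
    have h := fun A => (φ.lev_aux hQ A).choose_spec
    refine φ.ext3 (fun x => by rw [O_mul_apply, (h _).1, (h _).1, (h _).1]; rfl) (fun x => ?_)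
      fun n hn => by rw [O_mul_apply, (h _).2.2 n hn, (h _).2.2 n hn, (h _).2.2 n hn]
    simp only [O_mul_apply, (h _).2.1]
    exact congrArg _ (dot_ext fun y => by simp [dot_trE_symm, LinearEquiv.mul_eq_trans])

theorem lev_E (A : (ι → F) ≃ₗ[F] ι → F) (x : ι → F) : (φ.lev hQ A).1 (φ.E x) = φ.E (A x) :=
  (φ.lev_aux hQ A).choose_spec.1 x

theorem lev_E' (A : (ι → F) ≃ₗ[F] ι → F) (x : ι → F) :
    (φ.lev hQ A).1 (φ.E' x) = φ.E' ((trE A).symm x) := (φ.lev_aux hQ A).choose_spec.2.1 x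

theorem lev_V₀ (A : (ι → F) ≃ₗ[F] ι → F) {n : V} (hn : n ∈ φ.V₀) : (φ.lev hQ A).1 n = n :=
  (φ.lev_aux hQ A).choose_spec.2.2 n hn

theorem lev_comm (A : (ι → F) ≃ₗ[F] ι → F) {h : O Q} (hh : h ∈ φ.M) : Commute (φ.lev hQ A) h :=
  φ.ext3 (fun x => by simp [lev_E, (φ.mem_M.1 hh).1]) (fun x => by simp [lev_E', (φ.mem_M.1 hh).2])
    fun n hn => by simp [φ.lev_V₀ hQ A hn, φ.lev_V₀ hQ A (φ.M_mem hh hn)]

theorem symm_lev (A : (ι → F) ≃ₗ[F] ι → F) : φ.symm.lev hQ (trE A) = (φ.lev hQ A)⁻¹ := by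
  rw [← map_inv]
  refine φ.ext3 (fun x => (φ.symm.lev_E' hQ _ x).trans ?_) (fun x => (φ.symm.lev_E hQ _ x).trans ?_)
    fun n hn => by rw [φ.lev_V₀ hQ _ hn, φ.symm.lev_V₀ hQ _ (φ.symm_V₀ ▸ hn)]
  · rw [lev_E]
    exact congrArg φ.E (dot_ext fun y => by
      rw [dot_trE_symm, dotProduct_comm, dot_trE_symm, dotProduct_comm]; rfl)
  · rw [lev_E']
    exact congrArg φ.E' (dot_ext fun y => by rw [dot_trE_symm, dot_trE]; rfl)

theorem split {p : O Q} (hp : ∀ x, p.1 (φ.E x) = φ.E x) : ∃ m ∈ φ.M, ∃ u ∈ φ.U, p = m * u := by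
  have k : ∀ n ∈ φ.V₀, φ.symm.c (p.1 n) = 0 := fun n hn => dot_ext fun x => by
    rw [dot_c', ← hp, O_polar, (φ.mem_V₀.1 hn).1, dotProduct_zero]
  obtain ⟨m, h1, h2, h3⟩ := φ.exists_levi hQ 1 1 (fun _ _ => rfl) (φ.ρ ∘ₗ p.1.toLinearMap)
    fun n hn => ⟨φ.ρ_mem _, by simpa [k n hn] using (φ.Q_eq (p.1 n)).symm⟩
  refine ⟨m, φ.mem_M.2 ⟨h1, h2⟩, m⁻¹ * p, ⟨fun x => ?_, fun n hn => ⟨φ.c (p.1 n), ?_⟩⟩, by group⟩
  · rw [O_mul_apply, hp]; exact O_inv_apply_of_eq (h1 x)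
  · refine O_inv_apply_of_eq ?_
    simpa [h1, h3 n hn, k n hn, add_comm] using φ.dec (p.1 n)

theorem decomp (g : O Q) (A : (ι → F) ≃ₗ[F] ι → F) (hA : ∀ x, φ.c (g.1 (φ.E x)) = A x) :
    ∃ u' ∈ φ.symm.U, ∃ h ∈ φ.M, ∃ u ∈ φ.U, g = u' * (φ.lev hQ A * h) * u := by
  have inj : ∀ f : (ι → F) →ₗ[F] V, (∀ x, φ.c (f x) = x) →
      Function.Injective (f.coprod φ.E') := fun f hf => (injective_iff_map_eq_zero _).2 fun z hz => by
    have h1 : z.1 = 0 := by simpa [hf] using congrArg φ.c hz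
    exact Prod.ext h1 (φ.symm.E_inj (by simpa [h1, symm] using hz))
  obtain ⟨w, hw⟩ := witt_lin hQ (inj φ.E φ.c_E) (inj (g.1.toLinearMap ∘ₗ φ.E ∘ₗ A.symm.toLinearMap)
    fun x => by simp [hA]) fun z => by
      simp [Q_add, φ.qE, φ.qE', φ.pol, polar_comm Q (g.1 _), ← dot_c, hA, dotProduct_comm]
  obtain ⟨m', hm', u', hu', e'⟩ := φ.symm.split hQ (p := w⁻¹) fun x =>
    O_inv_apply_of_eq (by simpa [symm] using hw (0, x))
  obtain ⟨m, hm, u, hu, e⟩ := φ.split hQ (p := (φ.lev hQ A)⁻¹ * w⁻¹ * g) fun x =>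
    O_inv_apply_of_eq (by rw [lev_E]; exact (O_inv_apply_of_eq (by simpa using hw (A x, 0))).symm)
  rw [symm_M] at hm'
  refine ⟨_, inv_mem hu', _, mul_mem (inv_mem hm') hm, u, hu, ?_⟩
  rw [← mul_assoc (φ.lev hQ A), (φ.lev_comm hQ A (inv_mem hm')).eq]
  calc g = (m' * u')⁻¹ * φ.lev hQ A * (m * u) := by rw [← e, ← e']; group
    _ = _ := by group

omit [FiniteDimensional F V] in
theorem fp_core {y : O Q} {p P : F[X]} {f : ι → F} (h0 : ∀ x, aeval y.1.toLinearMap P (φ.E x) = 0)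
    (h1 : ∀ n ∈ φ.V₀, ∃ n' ∈ φ.V₀, aeval y.1.toLinearMap P n' = n)
    (h2 : ∀ x, ∃ z, aeval y.1.toLinearMap p (φ.E' z) = φ.E' x)
    (h3 : ∀ x, ∃ c : F, aeval y⁻¹.1.toLinearMap p (φ.E' (x - c • f)) = 0)
    {k : O Q} (hk : k ∈ φ.U) (hc : k * y = y * k) : k = 1 := by
  have cm := comm_aeval (s := y.1.toLinearMap) (T := k.1.toLinearMap - 1) fun v => by
    simpa using congrArg (fun s : O Q => s.1 v) hc
  simp only [LinearMap.sub_apply, LinearEquiv.coe_coe, End.one_apply] at cm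
  have k0 : ∀ n ∈ φ.V₀, k.1 n = n := fun n hn => by
    obtain ⟨n', hn', rfl⟩ := h1 n hn
    obtain ⟨x, hx⟩ := hk.2 n' hn'
    rw [← sub_eq_zero, cm, hx, add_sub_cancel_left, h0]
  have a1 : ∀ x z, polar Q (φ.E z) (k.1 (φ.E' x) - φ.E' x) = 0 := fun x z => by
    rw [polar_sub_right, sub_eq_zero, ← O_polar k _ (φ.E' x), hk.1]
  have a2 : ∀ x, ∀ n ∈ φ.V₀, polar Q n (k.1 (φ.E' x) - φ.E' x) = 0 := fun x n hn => by
    rw [polar_sub_right, sub_eq_zero, ← O_polar k _ (φ.E' x), k0 n hn]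
  have alt : ∀ x, polar Q (k.1 (φ.E' x)) (φ.E' x) = 0 := fun x => by
    have e : φ.ρ (k.1 (φ.E' x) - φ.E' x) = 0 := φ.nondeg_V₀ hQ (φ.ρ_mem _) fun m hm => by
      have := a2 x m hm
      rw [← φ.dec (_ - _)] at this
      simpa [polar_add_right, polar_comm Q m, (φ.mem_V₀.1 hm).1, (φ.mem_V₀.1 hm).2] using this
    have e' : φ.symm.c (k.1 (φ.E' x)) = x := dot_ext fun z => by
      simpa [polar_sub_right, sub_eq_zero, φ.pol, dot_c'] using a1 x z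
    have := φ.Q_eq (k.1 (φ.E' x))
    rw [map_sub, ρ_E', sub_zero] at e
    rw [O_map, φ.qE', e, e', map_zero, add_zero, dotProduct_comm, dot_c, polar_comm] at this
    exact this.symm
  have rad : ∀ x z, aeval y⁻¹.1.toLinearMap p (φ.E' z) = 0 →
      polar Q (k.1 (φ.E' x)) (φ.E' z) = 0 := fun x z hz => by
    obtain ⟨x', e⟩ := h2 x
    have := adj_aeval (B := polarBilin Q) (f := y.1.toLinearMap) (f' := y⁻¹.1.toLinearMap)
      (O_polar_left y) p (k.1 (φ.E' x') - φ.E' x') (φ.E' z)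
    rw [hz, map_zero, ← cm, e] at this
    simpa [polar_sub_left] using this
  have skew : ∀ x z, polar Q (k.1 (φ.E' x)) (φ.E' z) = -polar Q (k.1 (φ.E' z)) (φ.E' x) :=
    fun x z => by
      have := alt (x + z)
      simp only [map_add, polar_add_left, polar_add_right, alt] at this
      linear_combination this
  refine φ.ext3 hk.1 (fun x => sub_eq_zero.1 (nondeg_right hQ (φ.induction fun a z n hn => ?_))) k0
  obtain ⟨c, hc⟩ := h3 z
  obtain ⟨d, hd⟩ := h3 x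
  have i1 := rad x _ hc
  have i2 := rad f _ hd
  simp only [map_sub, map_smul, polar_sub_right, polar_smul_right', alt, skew x f] at i1 i2
  rw [polar_add_left, polar_add_left, O_one_apply, a1, a2 x n hn, polar_sub_right, pE'E',
    polar_comm]
  linear_combination i1 - c * i2

end Fr

end Cfsg.Lib.Known.OC
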