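import Cfsg.Agent.Known.OCommBase
import Cfsg.Agent.Known.CycProd

/-!
Fixed-point-free Levi elements of orthogonal groups and factorisations in the Levi subgroup.
-/

set_option autoImplicit false

namespace Cfsg.Lib.Known.OC

open Module Polynomial QuadraticMap Cfsg.Lib.Class Cfsg.Lib.Class.Orth Cfsg.Lib.Known.SC

/-- `g` is a commutator of two elements of the derived subgroup. -/
def CmD {G : Type*} [Group G] (g : G) : Prop :=
  ∃ a ∈ commutator G, ∃ b ∈ commutator G, g = a * b * a⁻¹ * b⁻¹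

theorem cmD_of_fac {G : Type*} [Group G] {u u' y c k₁ k₂ z : G} (hy : y ∈ commutator G)
    (h1 : y⁻¹ * u'⁻¹ = k₁⁻¹ * y⁻¹ * k₁) (h2 : y⁻¹ * (c⁻¹ * u * c) = k₂⁻¹ * y⁻¹ * k₂)
    (hz : Commute z y) (hz' : k₁ * c * k₂⁻¹ * z ∈ commutator G) :
    CmD (u' * (y * (c * y⁻¹ * c⁻¹)) * u) := by
  have N : (commutator G).Normal := inferInstance
  refine ⟨_, N.conj_mem' _ hy k₁, _, N.conj_mem' _ hz' k₁, ?_⟩
  calc _ = (y⁻¹ * u'⁻¹)⁻¹ * c * (y⁻¹ * (c⁻¹ * u * c)) * c⁻¹ := by group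
    _ = k₁⁻¹ * y * k₁ * c * k₂⁻¹ * (z * y * z⁻¹)⁻¹ * k₂ * c⁻¹ := by
      rw [h1, h2, hz.eq]; group
    _ = _ := by group

variable {F V ι : Type*} [Field F] [AddCommGroup V] [Module F V] {Q : QuadraticForm F V}
  [Fintype ι] [DecidableEq ι]

/-- `A` is killed by `p` up to a possible simple eigenvalue `δ = ±1`, and no two roots of `p` are
mutually inverse. -/
structure Gd (A : (ι → F) ≃ₗ[F] ι → F) (p : F[X]) (δ : F) (e f : ι → F) : Prop where
  cp : IsCoprime p p.reverse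
  he : A e = δ • e
  hf : ∀ x, A x ⬝ᵥ f = δ * (x ⬝ᵥ f)
  hp : ∀ x, aeval A.toLinearMap p x = (p.eval δ * (x ⬝ᵥ f)) • e
  alt : δ * δ = 1 ∧ e ⬝ᵥ f = 1 ∨ δ = 0 ∧ e = 0 ∧ f = 0

namespace Gd

variable {A : (ι → F) ≃ₗ[F] ι → F} {p : F[X]} {δ : F} {e f : ι → F} (h : Gd A p δ e f)
include h

theorem tr : Gd (trE A) p δ f e :=
  ⟨h.cp, dot_ext fun x => by simp [dot_trE, h.hf], fun x => by
    rw [dotProduct_comm, dot_trE, h.he, smul_dotProduct, dotProduct_comm, smul_eq_mul],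
    fun x => dot_ext fun y => by
      rw [dot_aeval (f := A.toLinearMap) (dot_trE A), h.hp]
      simp [dotProduct_comm x]; ring,
    h.alt.imp (fun t => ⟨t.1, by rw [dotProduct_comm, t.2]⟩) fun t => ⟨t.1, t.2.2, t.2.1⟩⟩

theorem inj (x : ι → F) (hx : aeval A.symm.toLinearMap p x = 0) : x = 0 := by
  refine cop h.cp A ?_ hx
  rcases h.alt with ⟨h1, h2⟩ | ⟨-, h1, -⟩
  swap
  · simp [h.hp, h1]
  have := dot_aeval (f := A.symm.toLinearMap) (dot_trE_symm A) p x f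
  rw [hx, aeval_eig (c := δ) ((LinearEquiv.symm_apply_eq _).2 (by
    simp [h.tr.he, smul_smul, h1]))] at this
  simp [h.hp, show p.eval δ * (x ⬝ᵥ f) = 0 by simpa using this]

end Gd

theorem coprime_reverse {p : F[X]} (hp : p.Monic)
    (h : ∀ a : AlgebraicClosure F, a ≠ 0 → aeval a p = 0 → aeval a⁻¹ p ≠ 0) :
    IsCoprime p p.reverse :=
  (isCoprime_iff_aeval_ne_zero_of_isAlgClosed F (AlgebraicClosure F) _ _).2 fun a => by
    by_cases ha : a = 0
    · simp [ha, aeval_def, eval₂_at_zero, hp.leadingCoeff]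
    by_contra! k
    have := invertibleOfNonzero (inv_ne_zero ha)
    refine h a ha k.1 ((eval₂_reverse_eq_zero_iff _ a⁻¹ p).1 ?_)
    simpa [aeval_def] using k.2

theorem exists_gp [Fintype F] {m : ℕ} (hm : 2 ≤ m) (h2 : Fintype.card F = 2 → 3 ≤ m) :
    ∃ p : F[X], p.Monic ∧ p.natDegree = m ∧ IsCoprime p p.reverse ∧ p.eval 0 ≠ 0 ∧
      IsSquare (-((-1) ^ m * p.eval 0)) := by
  have key : ∀ (d : ℕ) (α β : F), 0 < d → d < m → β ≠ 0 → IsSquare (-((-1) ^ m * β)) →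
      (∀ a : AlgebraicClosure F, a ≠ 0 → a ^ m + algebraMap F _ α * a ^ d + algebraMap F _ β = 0 →
        a⁻¹ ^ m + algebraMap F _ α * a⁻¹ ^ d + algebraMap F _ β ≠ 0) → ∃ p : F[X], p.Monic ∧
      p.natDegree = m ∧ IsCoprime p p.reverse ∧ p.eval 0 ≠ 0 ∧ IsSquare (-((-1) ^ m * p.eval 0)) :=
    fun d α β h0 hd hβ hs k => by
      have t : (C α * X ^ d + C β).degree < (m : WithBot ℕ) := (degree_add_le _ _).trans_lt (max_lt
        ((degree_C_mul_X_pow_le _ _).trans_lt (by exact_mod_cast hd))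
        (degree_C_le.trans_lt (by exact_mod_cast h0.trans hd)))
      have e : (X ^ m + (C α * X ^ d + C β)).eval 0 = β := by simp [h0.ne', (h0.trans hd).ne']
      exact ⟨X ^ m + (C α * X ^ d + C β), monic_X_pow_add t, by
        rw [natDegree_add_eq_left_of_degree_lt (by rwa [degree_X_pow]), natDegree_X_pow],
        coprime_reverse (monic_X_pow_add t) (by simpa [add_assoc] using k), by rwa [e], by rwa [e]⟩
  by_cases c2 : (2 : F) = 0
  swap
  · refine key 1 2 (-(-1) ^ m) one_pos hm (by simp) (by simp [← mul_pow]) fun a ha k1 k2 => ?_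
    have t : (2 : AlgebraicClosure F) ≠ 0 := by
      rwa [← map_ofNat (algebraMap F _), _root_.map_ne_zero]
    simp only [map_ofNat, map_neg, map_pow, map_one, pow_one] at k1 k2
    have i : a ^ m * a⁻¹ ^ m = 1 := by rw [← mul_pow, mul_inv_cancel₀ ha, one_pow]
    have j : a * a⁻¹ = 1 := mul_inv_cancel₀ ha
    rcases m.even_or_odd with e | e <;> rw [e.neg_one_pow] at k1 k2
    · obtain rfl : a = 1 := sub_eq_zero.1 (pow_eq_zero_iff two_ne_zero |>.1 (mul_left_cancel₀ t (by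
        linear_combination (-a) * i + a * (a⁻¹ ^ m) * k1 + a * (1 - 2 * a) * k2 + (4 * a - 2) * j)))
      exact t (by simpa using k1)
    · obtain rfl : a = -1 := eq_neg_of_add_eq_zero_left (pow_eq_zero_iff two_ne_zero |>.1
        (mul_left_cancel₀ t (by
        linear_combination a * i - a * (a⁻¹ ^ m) * k1 + a * (1 + 2 * a) * k2 - (4 * a + 2) * j)))
      rw [e.neg_one_pow] at k1
      exact t (by linear_combination -k1)
  have t : (2 : AlgebraicClosure F) = 0 := by rw [← map_ofNat (algebraMap F _), c2, map_zero]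
  have sq := isSquare_of_char_two c2
  by_cases h3 : 3 ≤ m
  · have cube : ∀ a : AlgebraicClosure F, a ^ 2 + a + 1 = 0 → a ^ m = a ^ (m % 3) :=
      fun a ha => pow_eq_pow_mod m (by linear_combination (a - 1) * ha)
    have r : ∀ (d : ℕ) (a : AlgebraicClosure F), a ≠ 0 → a ^ m + a ^ d + 1 = 0 →
        a⁻¹ ^ m + a⁻¹ ^ d + 1 = 0 → (a ^ d) ^ 2 + a ^ d + 1 = 0 := fun d a ha k1 k2 => by
      have i : ∀ n, a ^ n * a⁻¹ ^ n = 1 := fun n => by rw [← mul_pow, mul_inv_cancel₀ ha, one_pow]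
      linear_combination a ^ d * i m - a ^ d * a⁻¹ ^ m * k1 + a ^ d * (a ^ d + 1) * k2 -
        (a ^ d + 1) * i d
    by_cases hm : m % 3 = 2
    · refine key 2 1 1 two_pos h3 one_ne_zero (sq _) fun a ha k1 k2 => ?_
      simp only [map_one, one_mul] at k1 k2
      have h' : a ^ 2 + a + 1 = 0 := pow_eq_zero_iff two_ne_zero |>.1 (by
        linear_combination r 2 a ha k1 k2 + (a ^ 3 + a ^ 2 + a) * t)
      rw [cube a h', hm] at k1
      exact one_ne_zero (by linear_combination k1 - a ^ 2 * t)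
    · refine key 1 1 1 one_pos (by omega) one_ne_zero (sq _) fun a ha k1 k2 => ?_
      simp only [map_one, one_mul] at k1 k2
      have h' := r 1 a ha k1 k2
      rw [pow_one] at h' k1
      rw [cube a h'] at k1
      rcases (by omega : m % 3 = 0 ∨ m % 3 = 1) with e | e <;> rw [e] at k1
      · exact ha (by linear_combination k1 - t)
      · exact one_ne_zero (by linear_combination k1 - a * t)
  obtain rfl : m = 2 := by omega
  classical
  have := Fintype.one_lt_card (α := F)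
  obtain ⟨c, -, hc⟩ := Finset.exists_mem_notMem_of_card_lt_card (s := ({0, 1} : Finset F))
    (t := Finset.univ) (lt_of_le_of_lt Finset.card_le_two (by rw [Finset.card_univ]; omega))
  simp only [Finset.mem_insert, Finset.mem_singleton, not_or] at hc
  refine key 1 0 (c ^ 2) one_pos hm (pow_ne_zero _ hc.1) (sq _) fun a ha k1 k2 => hc.2 ?_
  simp only [map_zero, zero_mul, add_zero, map_pow] at k1 k2
  have i : a ^ 2 * a⁻¹ ^ 2 = 1 := by rw [← mul_pow, mul_inv_cancel₀ ha, one_pow]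
  refine (algebraMap F (AlgebraicClosure F)).injective (sub_eq_zero.1 (pow_eq_zero_iff
    (n := 4) (by norm_num) |>.1 ?_))
  rw [map_one]
  generalize algebraMap F (AlgebraicClosure F) c = c at *
  linear_combination i - a⁻¹ ^ 2 * k1 + c ^ 2 * k2 + (1 - 2 * c + 3 * c ^ 2 - 2 * c ^ 3) * t

theorem exists_cyc' {q : F[X]} (hq : q.Monic) (h0 : q.eval 0 ≠ 0) {m : ℕ} (hm : q.natDegree = m) :
    ∃ (T : (Fin m → F) ≃ₗ[F] (Fin m → F)) (z : Fin m → F), CP.Cy T.toLinearMap z ∧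
      aeval T.toLinearMap q = 0 ∧ LinearMap.det T.toLinearMap = (-1) ^ m * q.eval 0 := by
  have := finite_cyc hq.ne_zero
  let e := LinearEquiv.ofFinrankEq (R := F) (Cyc q) (Fin m → F) (by simp [finrank_cyc, hm])
  have h1 : (e.conj (cycX q)).charpoly = q := by rw [e.charpoly_conj, charpoly_cycX hq]
  have h2 : LinearMap.det (e.conj (cycX q)) = (-1) ^ m * q.eval 0 := by
    rw [LinearMap.det_eq_sign_charpoly_coeff, h1, coeff_zero_eq_eval_zero, finrank_fin_fun]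
  refine ⟨LinearMap.equivOfIsUnitDet (f := e.conj (cycX q)) (by simp [h2, h0]), e 1,
    fun W w1 w2 => ?_, by simpa [h1] using (e.conj (cycX q)).aeval_self_charpoly, by simpa using h2⟩
  have := CP.cy_cycX q (W.comap e.toLinearMap) w1 fun a ha => by
    simpa [LinearEquiv.conj_apply] using w2 _ ha
  refine eq_top_iff.2 fun p _ => ?_
  obtain ⟨p, rfl⟩ := e.surjective p
  exact (this ▸ Submodule.mem_top : p ∈ W.comap e.toLinearMap)

theorem exists_gd_zero [Fintype F] {k : ℕ} (hk : 3 ≤ k) :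
    ∃ (A : (Fin k → F) ≃ₗ[F] Fin k → F) (p : F[X]), Gd A p 0 0 0 := by
  obtain ⟨p, h1, h2, h3, h4, -⟩ := exists_gp (F := F) (m := k) (by omega) fun _ => hk
  obtain ⟨T, -, -, h, -⟩ := exists_cyc' h1 h4 h2
  exact ⟨T, p, h3, by simp, by simp, by simp [h], .inr ⟨rfl, rfl, rfl⟩⟩

theorem exists_gd_fac {m : ℕ} (l : (Fin (m + 1) → F) ≃ₗ[F] Fin (m + 1) → F)
    (h1 : LinearMap.det l.toLinearMap = 1) (hl : ¬ ∃ c : F, ∀ x, l x = c • x) {p : F[X]}
    (hp : p.Monic) (hm : p.natDegree = m) (hc : IsCoprime p p.reverse) (h0 : p.eval 0 ≠ 0) {δ : F}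
    (hδ : δ * δ = 1) : ∃ A c e f, Gd A p δ e f ∧ e ⬝ᵥ f = 1 ∧ l = A * (c * A⁻¹ * c⁻¹) ∧
      LinearMap.det A.toLinearMap = δ * ((-1) ^ m * p.eval 0) := by
  obtain ⟨x, hx⟩ : ∃ x, ∀ c : F, l x ≠ c • x := by
    by_contra! hg
    obtain ⟨c, hc⟩ := LinearMap.exists_eq_smul_id_of_forall_notLinearIndependent
      (f := l.toLinearMap) fun v hv => by
        obtain ⟨c, hc⟩ := hg v
        exact one_ne_zero (LinearIndependent.pair_iff.1 hv (-c) 1 (by simp [hc])).2
    exact hl ⟨c, LinearMap.congr_fun hc⟩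
  obtain ⟨T, z, hT, h2, h3⟩ := exists_cyc' hp h0 hm
  have h4 : ∀ a, T a = δ • a → a = 0 := fun a ha => cop hc T (by simp [h2]) (by
    rw [aeval_eig (c := δ) ((LinearEquiv.symm_apply_eq _).2 (by simp [ha, smul_smul, hδ])),
      ← aeval_eig (f := T.toLinearMap) ha, h2, LinearMap.zero_apply])
  let A := (LinearEquiv.smulOfNeZero F F δ (left_ne_zero_of_mul_eq_one hδ)).prodCongr T
  have hA : A.toLinearMap = LinearMap.prodMap (δ • 1) T.toLinearMap := rfl
  have h6 : LinearMap.det A.toLinearMap = δ * LinearMap.det T.toLinearMap := by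
    rw [hA, LinearMap.det_prodMap]; simp
  have h7 : CP.Cy A.toLinearMap (1, z) := hA ▸ hT.prod (LinearMap.injective_iff_surjective.1
    ((injective_iff_map_eq_zero _).2 fun a ha => h4 a (by simpa [sub_eq_zero] using ha)))
  obtain ⟨e, e', he⟩ := CP.exists_fac_simple l hx T hT (by simp) A.symm h7.symm
    (by simp [add_comm]) (δ := δ) h4 (by rw [h1, ← h6, LinearEquiv.det_mul_det_symm])
  have hf : ∀ x, x ⬝ᵥ (fun i => (e (Pi.single i 1)).1) = (e x).1 := fun x => by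
    conv_rhs => rw [pi_eq_sum_univ' x, map_sum, Prod.fst_sum]
    simp [dotProduct]
  refine ⟨e.trans (A.trans e.symm), e.trans e'.symm, e.symm (1, 0), fun i => (e (Pi.single i 1)).1,
    ⟨hc, e.injective (by simp [A]), fun x => by simp [hf, A], fun x => e.injective ?_,
      .inl ⟨hδ, by simp [hf]⟩⟩, by simp [hf], LinearEquiv.ext fun x => e.injective ?_,
    h3 ▸ h6 ▸ Sim.det_eq ⟨e, fun _ => by simp⟩⟩
  · rw [show e _ = _ from intertwine_aeval (g := A.toLinearMap) e.toLinearMap (by simp) p x]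
    have a := intertwine_aeval (f := A.toLinearMap) (g := T.toLinearMap) (LinearMap.snd F F _)
      (fun _ => rfl) p (e x)
    have b := intertwine_aeval (f := A.toLinearMap) (g := δ • 1) (LinearMap.fst F F _)
      (fun _ => rfl) p (e x)
    rw [aeval_eig (f := δ • 1) (c := δ) rfl] at b
    exact Prod.ext (by simpa [hf] using b) (by simpa [h2] using a)
  · simpa [← hA] using he x

namespace Fr

variable (φ : Fr Q ι) [FiniteDimensional F V] (hQ : (polarBilin Q).Nondegenerate)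

omit [DecidableEq ι] in
theorem finrank_V₀ [Finite F] : finrank F φ.V₀ ≤ 2 :=
  finrank_le_two_of_anisotropic (Q.restrict φ.V₀) fun v hv => Subtype.ext (an' v.2 hv)

omit [DecidableEq ι] in
theorem span_pair [Finite F] {a b : V} (ha : a ∈ φ.V₀) (hb : b ∈ φ.V₀)
    (h : LinearIndependent F ![a, b]) : Submodule.span F {a, b} = φ.V₀ :=
  Submodule.eq_of_le_of_finrank_le (Submodule.span_le.2 (by rintro _ (rfl | rfl) <;> assumption))
    ((finrank_span_pair h).symm ▸ φ.finrank_V₀)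

include hQ

theorem inj_V₀ [Finite F] {y : O Q} (hy : ∀ n ∈ φ.V₀, y.1 n ∈ φ.V₀) {p : F[X]}
    (hp : IsCoprime p p.reverse) : ∀ n ∈ φ.V₀, aeval y.1.toLinearMap p n = 0 → n = 0 := by
  intro n hn h
  refine cop hp y.1 h (by_contra fun t => ?_)
  have n0 : n ≠ 0 := by rintro rfl; simp at t
  by_cases li : LinearIndependent F ![n, y.1 n]
  · refine t (φ.nondeg_V₀ hQ (aeval_mem (symm_mem hy) p n hn) fun m hm => ?_)
    rw [← φ.span_pair hn (hy n hn) li] at hm
    obtain ⟨a, b, rfl⟩ := Submodule.mem_span_pair.1 hm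
    refine (adj_aeval (B := polarBilin Q) (f := y.1.toLinearMap) (O_polar_left y) p _ _).symm.trans ?_
    simp [h, ← show y.1 _ = aeval y.1.toLinearMap p (y.1 n) from comm_aeval (fun _ => rfl) p n]
  · obtain ⟨c, hc⟩ : ∃ c : F, c • n = y.1 n := by
      simpa using (LinearIndependent.pair_iff' n0).not.1 li
    have c2 : c * c = 1 := mul_right_cancel₀ (fun s => n0 (an' hn s)) (by
      rw [one_mul, ← pow_two, ← Q_smul, hc, O_map])
    refine t ?_
    rw [aeval_eig (c := c) ((LinearEquiv.symm_apply_eq _).2 (by simp [← hc, smul_smul, c2])),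
      ← aeval_eig (f := y.1.toLinearMap) hc.symm, h]

theorem conj_mem_U (A : (ι → F) ≃ₗ[F] ι → F) {h : O Q} (hh : h ∈ φ.M) :
    ∀ k ∈ φ.U, (φ.lev hQ A * h)⁻¹ * k * (φ.lev hQ A * h) ∈ φ.U := fun k hk =>
  have k1 : ∀ x, (φ.lev hQ A * h).1 (φ.E x) = φ.E (A x) := fun x => by
    rw [O_mul_apply, (φ.mem_M.1 hh).1, lev_E]
  have k2 : ∀ n ∈ φ.V₀, (φ.lev hQ A * h).1 n = h.1 n := fun n hn => φ.lev_V₀ hQ A (φ.M_mem hh hn)
  ⟨fun x => by rw [mul_assoc]; exact O_inv_apply_of_eq (by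
      erw [O_mul_apply k]; rw [k1, hk.1]),
    fun n hn => by
    obtain ⟨x, hx⟩ := hk.2 _ (φ.M_mem hh hn)
    exact ⟨A.symm x, by rw [mul_assoc]; exact O_inv_apply_of_eq (by
      erw [O_mul_apply k]; rw [map_add, k1, k2 n hn, hx, A.apply_symm_apply])⟩⟩

variable [Fintype F] {A : (ι → F) ≃ₗ[F] ι → F} {p : F[X]} {δ : F} {e f : ι → F} {h : O Q}

theorem conj_U (G : Gd A p δ e f) (hh : h ∈ φ.M) (hδ : ∀ n ∈ φ.V₀, h.1 n = δ • n → n = 0) :
    ∀ k ∈ φ.U, k * (φ.lev hQ A * h) = (φ.lev hQ A * h) * k → k = 1 := by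
  set y := φ.lev hQ A * h
  have y0 : ∀ n ∈ φ.V₀, y.1 n = h.1 n := fun n hn => φ.lev_V₀ hQ A (φ.M_mem hh hn)
  have y1 : ∀ n ∈ φ.V₀, y.1 n ∈ φ.V₀ := fun n hn => y0 n hn ▸ φ.M_mem hh hn
  have i1 := intertwine_aeval (f := A.toLinearMap) (g := y.1.toLinearMap) φ.E fun x => by
    simp [y, (φ.mem_M.1 hh).1, lev_E]
  have i2 := intertwine_aeval (f := (trE A).symm.toLinearMap) (g := y.1.toLinearMap) φ.E' fun x => by
    simp [y, (φ.mem_M.1 hh).2, lev_E']
  have i3 := intertwine_aeval (f := (trE A).toLinearMap) (g := y⁻¹.1.toLinearMap) φ.E' fun x =>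
    (O_inv_apply_of_eq (by simp [y, (φ.mem_M.1 hh).2, lev_E'])).symm
  refine fun k => φ.fp_core hQ (p := p) (P := (X - C δ) * p) (f := f) (fun x => ?_)
    (surj_of_inj (aeval_mem y1 _) fun n hn k => φ.inj_V₀ hQ y1 G.cp n hn (hδ _ (aeval_mem y1 _ n hn) ?_))
    (fun x => ?_) fun x => ⟨x ⬝ᵥ e, ?_⟩
  · rw [← i1]; simp [G.hp, G.hf, mul_comm]
  · rw [← y0 _ (aeval_mem y1 _ n hn)]; simpa [sub_eq_zero] using k
  · obtain ⟨z, hz⟩ := LinearMap.injective_iff_surjective.1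
      ((injective_iff_map_eq_zero _).2 G.tr.inj) x
    exact ⟨z, by rw [← i2, hz]⟩
  · rw [← i3, G.tr.hp]
    rcases G.alt with t | t
    · simp [dotProduct_comm f, t.2]
    · simp [t.2.2]

theorem conj_left (G : Gd A p δ e f) (hh : h ∈ φ.M) (hδ : ∀ n ∈ φ.V₀, h.1 n = δ • n → n = 0)
    {u : O Q} (hu : u ∈ φ.U) :
    ∃ k ∈ φ.U, (φ.lev hQ A * h)⁻¹ * u = k⁻¹ * (φ.lev hQ A * h)⁻¹ * k := by
  have := Module.finite_of_finite F (M := V)
  have : Finite (V ≃ₗ[F] V) := DFunLike.finite _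
  refine exists_conj_of_fpf (fun k hk => ?_) (fun k hk e => φ.conj_U hQ G hh hδ k hk
    (Commute.inv_right_iff.1 e)) hu
  rw [mul_inv_rev, ← map_inv, ← (φ.lev_comm hQ _ (inv_mem hh)).eq]
  exact φ.conj_mem_U hQ _ (inv_mem hh) k hk

theorem conj_right (G : Gd A p δ e f) (hh : h ∈ φ.M) (hδ : ∀ n ∈ φ.V₀, h.1 n = δ • n → n = 0)
    {u : O Q} (hu : u ∈ φ.symm.U) :
    ∃ k ∈ φ.symm.U, (φ.lev hQ A * h)⁻¹ * u = k⁻¹ * (φ.lev hQ A * h)⁻¹ * k := by
  have := Module.finite_of_finite F (M := V)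
  have : Finite (V ≃ₗ[F] V) := DFunLike.finite _
  have hh' : h⁻¹ ∈ φ.symm.M := φ.symm_M ▸ inv_mem hh
  rw [mul_inv_rev, ← symm_lev, ← (φ.symm.lev_comm hQ _ hh').eq]
  refine exists_conj_of_fpf (φ.symm.conj_mem_U hQ _ hh') (φ.symm.conj_U hQ G.tr hh'
    fun n hn k => ?_) hu
  rcases G.alt with t | t
  · exact hδ n (φ.symm_V₀ ▸ hn) (by rw [← O_apply_inv h (δ • n), map_smul, k, smul_smul, t.1, one_smul])
  · simpa [t.1] using k

end Fr

end Cfsg.Lib.Known.OC
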