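import Mathlib.LinearAlgebra.Matrix.Determinant.Basic
import Mathlib.Data.ZMod.Basic
import Mathlib.FieldTheory.Finite.Basic
import Mathlib.LinearAlgebra.Matrix.Notation

/-!
A finite check in `GL₃(2)`: products of two conjugate elements of order seven.
-/

set_option autoImplicit false

namespace Cfsg.Lib.Known.OC

open Matrix

/-- The determinant of a three by three matrix. -/
def det3 {R : Type*} [CommRing R] (A : Matrix (Fin 3) (Fin 3) R) : R :=
  A 0 0 * A 1 1 * A 2 2 - A 0 0 * A 1 2 * A 2 1 - A 0 1 * A 1 0 * A 2 2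
    + A 0 1 * A 1 2 * A 2 0 + A 0 2 * A 1 0 * A 2 1 - A 0 2 * A 1 1 * A 2 0

/-- A factorisation `l = A * (C * Aᵀ * C⁻¹)` with `A` of order seven. -/
def Gm {R : Type*} [CommRing R] (l A C : Matrix (Fin 3) (Fin 3) R) : Prop :=
  det3 A = 1 ∧ det3 C = 1 ∧ A * A * A + A + 1 = 0 ∧ l * C = A * C * Aᵀ

instance (l A C : Matrix (Fin 3) (Fin 3) (ZMod 2)) : Decidable (Gm l A C) := by
  unfold Gm; infer_instance

/-- Decoding of a matrix. -/
def dec (n : ℕ) : Matrix (Fin 3) (Fin 3) (ZMod 2) :=
  of fun i j => ((n >>> (3 * i.1 + j.1) : ℕ) : ZMod 2)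

/-- Encoding of a matrix. -/
def enc (l : Matrix (Fin 3) (Fin 3) (ZMod 2)) : ℕ :=
  (l 0 0).val + 2 * (l 0 1).val + 4 * (l 0 2).val + 8 * (l 1 0).val + 16 * (l 1 1).val +
    32 * (l 1 2).val + 64 * (l 2 0).val + 128 * (l 2 1).val + 256 * (l 2 2).val

/-- Table of factorisations. -/
def tab : ℕ := 0xbcbb3717ce68e00000000000000000000000ba662a63400002b9cc000000000d66a2f97c00000000000002fa74000000000ab723d998000000000c67300000000000000dc9d00000e65f0000000002f9a800000000000003e1a800003d274aa5f0000000000000000000000000000000000000000000000000000003e97cbc6600000bfe50000000000000000000000000000000000000000000002a58c000000000000000000d65f2ab8800003927400003d9cc00003a2b00000399a80000339a8000000000bee200000acfd0000000000000000000000000003397c00002e1cc00000000000002a198bc5f2e1a8000000000000000000000000000000000000000000000000000000bf9c00000c4732b998000000000000037998000000000f45f00000aaac0000000000000000000000000000000000000000000002a23800000000000002a330e45f00000000000000000000000be6600000ea8e3e9a8000000000facc00000aa6a0000000003517c00002f7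d0c45f000000000333dc000000000000000000000000000000000000000000000000000000c49d00000000000000c6f73a17c000000000000035198000000000000033a740000331ccb85f00000000033a38000000000000000000000000000000000000000000000000000000d46a00000000000000e46631a3800003119800002a17c00003d1a80000000000000373f400000000000003e17cac730000000000000000000000000000000000000000000000000000002a9cc000000000cc5f355c800002f274000000000ae6a0000000002e97c000000000000000000ae5f00000e94f2a998000000000f65f319a8000000000bf7e0000000000000000000000000000000000000000000002edc8dc6a3319800000000000000000000003e198af7200000a9af00000000000000000000000000000000000000000000000000000000000de5f0000000002f53c00002b58c00003158c00003197c0000355f8000035998000000000a94f00000abde3a97c00000000000003d9a800000000000000000000002b17c00002b19800002f1a8a87300000000000000000000000000000000000000000000000000000000000aafd339ccb8660000000000000000000000000000000000000000000000000000000000000002fd8cd68e3eab000000000000000000000003aaec00002aa38d49d0000000002fa38bd9c00000000000000bcf700000000000000a9eb0000000002b274e88e0000000002fee8bcac35dc8000000000000000000000033e70000031ab0aebb000000000000000000000000000000000000000000000000000000000000000000000000000000000000000000000000000000000000000000000000000000000000000000000000000000000000000000000000000000000000000000000000000000000000000000000000000000000000000000000000000000000000000000000000000000000000000000000000000000000000000000000000000000000000000000000000000000000000000000000000000000000000000000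

theorem tab_spec : ∀ n < 512, (tab >>> (18 * n)) % 512 ≠ 0 →
    Gm (dec n) (dec (tab >>> (18 * n))) (dec (tab >>> (18 * n + 9))) := by decide +kernel

theorem dec_enc : ∀ a b c d e f g h i : ZMod 2, enc !![a, b, c; d, e, f; g, h, i] < 512 ∧
    dec (enc !![a, b, c; d, e, f; g, h, i]) = !![a, b, c; d, e, f; g, h, i] := by decide +kernel

set_option synthInstance.maxSize 2048 in
theorem tab_cover : ∀ n < 512, det3 (dec n) = 1 → (tab >>> (18 * n)) % 512 = 0 →
    ∀ a b c d e f : ZMod 2, ![d, e, f] ⬝ᵥ ![a, b, c] = 0 → vecMulVec ![a, b, c] ![d, e, f] = 0 ∨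
      vecMulVec ![a, b, c] ![d, e, f] = dec n * dec n + 1 ∨
      (tab >>> (18 * enc (dec n * (1 + vecMulVec ![a, b, c] ![d, e, f])))) % 512 ≠ 0 := by
  decide +kernel

theorem Gm.map {R S : Type*} [CommRing R] [CommRing S] (ψ : R →+* S)
    {l A C : Matrix (Fin 3) (Fin 3) R} (h : Gm l A C) : Gm (l.map ψ) (A.map ψ) (C.map ψ) :=
  ⟨by simpa [det3] using congrArg ψ h.1, by simpa [det3] using congrArg ψ h.2.1,
    by simpa only [map_add, map_mul, map_one, map_zero, ← ψ.mapMatrix_apply] using
      congrArg ψ.mapMatrix h.2.2.1,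
    by simpa [transpose_map] using congrArg ψ.mapMatrix h.2.2.2⟩

theorem exists_dec (l : Matrix (Fin 3) (Fin 3) (ZMod 2)) : enc l < 512 ∧ dec (enc l) = l := by
  rw [eta_fin_three l]; exact dec_enc ..

theorem cover_zmod (l : Matrix (Fin 3) (Fin 3) (ZMod 2)) (h : det3 l = 1) : (∃ A C, Gm l A C) ∨
    ∀ x f, f ⬝ᵥ x = 0 → vecMulVec x f = 0 ∨ vecMulVec x f = l * l + 1 ∨
      ∃ A C, Gm (l * (1 + vecMulVec x f)) A C := by
  have k : ∀ l, (tab >>> (18 * enc l)) % 512 ≠ 0 → ∃ A C, Gm l A C := fun l hl =>
    ⟨_, _, (exists_dec l).2 ▸ tab_spec _ (exists_dec l).1 hl⟩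
  refine (em' _).imp (k l) fun t x f hf => ?_
  have e : ∀ x : Fin 3 → ZMod 2, x = ![x 0, x 1, x 2] := fun x => by ext i; fin_cases i <;> rfl
  have := tab_cover _ (exists_dec l).1 (by rwa [(exists_dec l).2]) t (x 0) (x 1) (x 2) (f 0) (f 1)
    (f 2)
  rw [← e, ← e, (exists_dec l).2] at this
  exact (this hf).imp_right (Or.imp_right (k _))

theorem cover_two {F : Type*} [Field F] [Fintype F] (hF : Fintype.card F = 2)
    (l : Matrix (Fin 3) (Fin 3) F) (h : l.det = 1) : (∃ A C, Gm l A C) ∨
    ∀ x f, f ⬝ᵥ x = 0 → vecMulVec x f = 0 ∨ vecMulVec x f = l * l + 1 ∨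
      ∃ A C, Gm (l * (1 + vecMulVec x f)) A C := by
  let ψ := ZMod.ringEquivOfPrime F Nat.prime_two hF
  obtain ⟨l, rfl⟩ := ψ.mapMatrix.surjective l
  refine (cover_zmod l (ψ.injective (by simpa [det_fin_three, det3] using h))).imp
    (fun ⟨A, C, k⟩ => ⟨_, _, k.map ψ.toRingHom⟩) fun k x f hf => ?_
  obtain ⟨x, rfl⟩ := ψ.surjective.comp_left x
  obtain ⟨f, rfl⟩ := ψ.surjective.comp_left f
  have e : vecMulVec (ψ ∘ x) (ψ ∘ f) = ψ.mapMatrix (vecMulVec x f) := by
    ext; simp [vecMulVec_apply]
  simp only [e]
  refine (k x f (ψ.injective (by simpa [dotProduct] using hf))).imp (fun t => by simp [t])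
    (Or.imp (fun t => by rw [t, map_add, map_mul, map_one]) fun ⟨A, C, t⟩ => ?_)
  rw [← map_one ψ.mapMatrix, ← map_add, ← map_mul]
  exact ⟨_, _, t.map ψ.toRingHom⟩

end Cfsg.Lib.Known.OC
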