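import Mathlib
import Cfsg.Agent.Known.WallCount
import Cfsg.Agent.Known.OrthOmega

/-!
Lower bounds for the class numbers of orthogonal groups in odd characteristic.
-/

set_option autoImplicit false

namespace Cfsg.Lib.Known

open Module Polynomial Cfsg.Lib.Class Cfsg.Lib.Class.Form

universe u

variable {F : Type u} {V W : Type*} [Field F] [AddCommGroup V] [Module F V] [FiniteDimensional F V]
  [AddCommGroup W] [Module F W] [FiniteDimensional F W] {B : LinearMap.BilinForm F V}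
  {B' : LinearMap.BilinForm F W}

theorem isSquare_bdisc_of_isAlt (hB : B.Nondegenerate) (hA : B.IsAlt) : IsSquare (bdisc B) := by
  obtain ⟨m, hm⟩ := even_finrank_of_isAlt hB hA
  obtain ⟨e, he⟩ := exists_equiv_of_isAlt hB hA (sympBilin_nondegenerate m) (sympBilin_isAlt m)
    (by simp [hm])
  rw [← (sqEq_bdisc_of_equiv e he).isSquare_iff,
    (sqEq_bdisc _ (Pi.basisFun F _)).isSquare_iff, sympBilin,
    LinearMap.BilinForm.toMatrix_basisFun, LinearMap.BilinForm.toMatrix'_toBilin',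
    Sp_det_eq_one ⟨_, SymplecticGroup.J_mem _ _⟩]
  exact IsSquare.one

theorem sqEq_bdisc_charpoly (h : HForm (σ := RingHom.id F) B 1) {g : End F V}
    (hg : ∀ u v, B (g u) (g v) = B u v) (hd : LinearMap.det g = 1)
    (h0 : g.charpoly.eval 1 * g.charpoly.eval (-1) ≠ 0) :
    SqEq (bdisc B) (g.charpoly.eval 1 * g.charpoly.eval (-1)) := by
  have h1 : g.charpoly.eval 1 * g.charpoly.eval (-1) = LinearMap.det (g - h.adj g) := by
    have h1 := map_mul LinearMap.det g (g - h.adj g)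
    rw [hd, one_mul, mul_sub g, h.mul_adj_of_isometry hg] at h1
    rw [LinearMap.eval_charpoly, LinearMap.eval_charpoly, ← map_mul, ← h1, map_neg, map_one]
    congr 1
    noncomm_ring
  have h2 := bdisc_eq_of_comp (B := B) (C := B.compLeft (g - h.adj g)) (a := g - h.adj g)
    fun _ _ => rfl
  have h3 : bdisc (B.compLeft (g - h.adj g)) ≠ 0 := h2 ▸ mul_ne_zero (h1 ▸ h0) (bdisc_ne_zero h)
  rw [sqEq_iff_isSquare_mul (bdisc_ne_zero h) h0, h1, mul_comm, ← h2]
  refine isSquare_bdisc_of_isAlt ((LinearMap.BilinForm.nondegenerate_iff_det_ne_zero _).mpr h3)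
    fun v => ?_
  simp [h.adj_left, h.sym (g v) v]

theorem sqEq_bdisc_prodForm (B : LinearMap.BilinForm F V) (B' : LinearMap.BilinForm F W) :
    SqEq (bdisc (prodForm (σ := RingHom.id F) B B')) (bdisc B * bdisc B') := by
  refine (sqEq_bdisc _ ((Module.finBasis F V).prod (Module.finBasis F W))).trans (SqEq.of_eq ?_)
  rw [bdisc, bdisc, ← Matrix.det_fromBlocks_zero₁₂ _ 0]
  congr 1
  ext (i | i) (j | j) <;> simp [LinearMap.BilinForm.toMatrix_apply]

theorem exists_isometry_sim [Finite F] (h2 : (2 : F) ≠ 0) (h : HForm (σ := RingHom.id F) B 1)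
    (h' : HForm (σ := RingHom.id F) B' 1) (hd : finrank F W = finrank F V)
    (hs : SqEq (bdisc B') (bdisc B)) {g' : End F W} (hg' : ∀ u v, B' (g' u) (g' v) = B' u v) :
    ∃ g : End F V, (∀ u v, B (g u) (g v) = B u v) ∧ elDiv g = elDiv g' := by
  obtain ⟨e, he⟩ := exists_equiv_of_sqEq_bdisc h2 h' h hd hs
  refine ⟨e.conj g', fun u v => ?_, (Sim.elDiv_eq ⟨e, fun v => by simp⟩).symm⟩
  simp only [LinearEquiv.conj_apply_apply, he, hg']
  rw [← he, e.apply_symm_apply, e.apply_symm_apply]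

theorem SelfDual.oReal [Finite F] (h2 : (2 : F) ≠ 0) {f : F[X]} (hf : SelfDual f) :
    OReal (ssType f) := by
  classical
  refine oReal_of_parity h2 (isElDivs_ssType f) ((isElDivs_ssType f).forall_ne_X_iff.mpr
    ((elProd_ssType hf.1).symm ▸ hf.2.1))
    (by rw [ssType_map_dualED (fun _ => rfl) hf.1 hf.2.1, hf.2.2]) fun l _ e he => ?_
  rw [Multiset.count_eq_zero.mpr fun h => ?_]
  · exact Even.zero
  · exact Nat.not_even_one ((show e = 1 from ssType_snd f _ h) ▸ he)

theorem exists_isometry_charpoly_of_root [Finite F] (h2 : (2 : F) ≠ 0)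
    (h : HForm (σ := RingHom.id F) B 1) {f : F[X]} (hf : SelfDual f) {l : F} (hl : l * l = 1)
    (hd : f.natDegree + 1 = finrank F V) :
    ∃ g : End F V, (∀ u v, B (g u) (g v) = B u v) ∧ g.charpoly = (X - C l) * f := by
  obtain ⟨W, _, _, _, B', g', h', hg', he⟩ := hf.oReal h2
  have h3 : g'.charpoly = f := by rw [charpoly_eq_elProd, he, elProd_ssType hf.1]
  set c := bdisc B / bdisc B'
  have hc : c ≠ 0 := div_ne_zero (bdisc_ne_zero h) (bdisc_ne_zero h')
  have h4 : HForm (σ := RingHom.id F) (c • LinearMap.mul F F) 1 := hform_of_isSymm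
    ⟨fun u hu => by simpa [hc] using hu 1, fun u hu => by simpa [hc] using hu 1⟩
    fun u v => by simp [mul_comm]
  obtain ⟨g, h5, h6⟩ := exists_isometry_sim h2 h (h'.prod h4)
    (by rw [finrank_prod, ← g'.charpoly_natDegree, h3, finrank_self, hd])
    ((sqEq_bdisc_prodForm _ _).trans (((sqEq_bdisc _ (Basis.singleton Unit F)).mul_left _).trans
      (SqEq.of_eq (by simp [c, mul_div_cancel₀ _ (bdisc_ne_zero h')]))))
    (prodForm_isom (g' := l • 1) hg' fun u v => by
      simp [-mul_eq_mul_left_iff]; linear_combination (c * u * v) * hl)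
  refine ⟨g, h5, ?_⟩
  rw [charpoly_eq_elProd, h6, ← charpoly_eq_elProd, LinearMap.charpoly_prodMap, h3, mul_comm]
  congr 1
  have h7 := (l • 1 : End F F).det_eq_sign_charpoly_coeff
  rw [(l • 1 : End F F).charpoly_monic.eq_X_add_C (by
    rw [LinearMap.charpoly_natDegree, finrank_self]), sub_eq_add_neg, ← C_neg]
  simp at h7
  rw [← neg_eq_iff_eq_neg.mpr h7]

theorem Palin.selfDual {f : F[X]} {m : ℕ} (hf : Palin f m) : SelfDual f :=
  ⟨hf.1.1, by simp [hf.2.1.2], hf.2.1.1⟩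

theorem exists_isometry_charpoly [Finite F] (h2 : (2 : F) ≠ 0)
    (h : HForm (σ := RingHom.id F) B 1) {f : F[X]} (hf : Palin f (finrank F V))
    (hs : f.eval 1 * f.eval (-1) ≠ 0 → SqEq (bdisc B) (f.eval 1 * f.eval (-1))) :
    ∃ g : End F V, (∀ u v, B (g u) (g v) = B u v) ∧ g.charpoly = f := by
  by_cases h0 : ∃ l : F, l * l = 1 ∧ f.IsRoot l
  · obtain ⟨l, hl, h0⟩ := h0
    obtain ⟨p, rfl⟩ := dvd_iff_isRoot.mpr h0
    have h3 := hf.selfDual.of_mul hl
    exact exists_isometry_charpoly_of_root h2 h h3 hl (by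
      rw [← hf.1.2, (monic_X_sub_C l).natDegree_mul h3.1, natDegree_X_sub_C, add_comm])
  have h1 : f.eval 1 * f.eval (-1) ≠ 0 :=
    mul_ne_zero (fun h1 => h0 ⟨1, one_mul 1, h1⟩) fun h1 => h0 ⟨-1, by simp, h1⟩
  obtain ⟨W, _, _, _, B', g', h', hg', he⟩ := hf.selfDual.oReal h2
  have h3 : g'.charpoly = f := by rw [charpoly_eq_elProd, he, elProd_ssType hf.1.1]
  have h4 : finrank F W = finrank F V := by rw [← g'.charpoly_natDegree, h3, hf.1.2]
  obtain ⟨g, h5, h6⟩ := exists_isometry_sim h2 h h' h4 ((h3 ▸ sqEq_bdisc_charpoly h' hg' (by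
    rw [LinearMap.det_eq_sign_charpoly_coeff, h3, h4, hf.2.1.2, hf.2.2.neg_one_pow, one_mul])
    (h3 ▸ h1)).trans (hs h1).symm) hg'
  exact ⟨g, h5, by rw [charpoly_eq_elProd, h6, ← charpoly_eq_elProd, h3]⟩

theorem Palin.add {f : F[X]} {n : ℕ} (hf : Palin f (2 * (n + 2))) (c : F) :
    Palin (f + C c * (X ^ (n + 1) * (X + 1) ^ 2)) (2 * (n + 2)) := by
  have h1 : (C c * (X ^ (n + 1) * (X + 1) ^ 2)).natDegree < f.natDegree := by
    rw [hf.1.2]
    compute_degree!
    omega
  have h2 : ∀ i, (C c * (X ^ (n + 1) * (X + 1) ^ 2)).coeff i =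
      c * ((if i = n + 1 then 1 else 0) + 2 * (if i = n + 2 then 1 else 0) +
        if i = n + 3 then 1 else 0) := fun i => by
    rw [show (X ^ (n + 1) * (X + 1) ^ 2 : F[X]) = X ^ (n + 1) + C 2 * X ^ (n + 2) + X ^ (n + 3) by
      rw [map_ofNat]; ring]
    simp only [coeff_C_mul, coeff_add, coeff_X_pow]
  have h3 := (natDegree_add_eq_left_of_natDegree_lt h1).trans hf.1.2
  have h4 : (f + C c * (X ^ (n + 1) * (X + 1) ^ 2)).coeff 0 = 1 := by simp [hf.2.1.2]
  refine ⟨⟨hf.1.1.add_of_left (degree_lt_degree h1), h3⟩, ⟨(dualPoly_eq_self_iff h3).mpr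
    fun i hi => ?_, h4⟩, hf.2.2⟩
  have h5 := (dualPoly_eq_self_iff hf.1.2).mp hf.2.1.1 i hi
  simp only [h4, hf.2.1.2, RingHom.id_apply, inv_one, one_mul] at h5 ⊢
  rw [coeff_add, coeff_add, h5, h2, h2, if_congr (show _ ↔ i = n + 3 by omega) rfl rfl,
    if_congr (show 2 * (n + 2) - i = n + 2 ↔ i = n + 2 by omega) rfl rfl,
    if_congr (show 2 * (n + 2) - i = n + 3 ↔ i = n + 1 by omega) rfl rfl]
  ring

theorem pow_le_two_mul_card_palin [Finite F] (h2 : (2 : F) ≠ 0) {d : F} (hd : d ≠ 0) {n : ℕ}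
    (hn : 2 ≤ n) :
    Nat.card F ^ n ≤ 2 * Nat.card {f : F[X] // Palin f (2 * n) ∧
      (f.eval 1 * f.eval (-1) ≠ 0 → SqEq d (f.eval 1 * f.eval (-1)))} := by
  classical
  obtain ⟨n, rfl⟩ : ∃ m, n = m + 2 := ⟨n - 2, by omega⟩
  obtain ⟨δ, hδ⟩ := exists_not_isSquare h2
  have hδ0 : δ ≠ 0 := by rintro rfl; exact hδ IsSquare.zero
  set P : F[X] → Prop := fun f => f.eval 1 * f.eval (-1) ≠ 0 → SqEq d (f.eval 1 * f.eval (-1))
  have h4 : (4 : F) ≠ 0 := by rw [show (4 : F) = 2 * 2 by norm_num]; exact mul_ne_zero h2 h2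
  have h1 : ∀ f : F[X], (f + C ((δ - 1) * f.eval 1 / 4) * (X ^ (n + 1) * (X + 1) ^ 2)).eval 1 =
      δ * f.eval 1 := fun f => by simp; field_simp; ring
  have h3 : Nat.card {f : F[X] // Palin f (2 * (n + 2)) ∧ ¬ P f} ≤
      Nat.card {f : F[X] // Palin f (2 * (n + 2)) ∧ P f} := by
    refine Nat.card_le_card_of_injective (fun f => ⟨_, f.2.1.add ((δ - 1) * f.1.eval 1 / 4),
      fun _ => ?_⟩) fun f g h => Subtype.ext ?_
    · obtain ⟨h5, h6⟩ := Classical.not_imp.mp f.2.2
      rw [h1, sqEq_iff_isSquare_iff hd (by simpa [hδ0] using h5)]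
      rw [sqEq_iff_isSquare_iff hd h5] at h6
      have h7 := sqs_mul hδ0 h5
      simp only [← sqs_eq_iff] at h6 ⊢
      simp [mul_assoc, h7, sqs_of_not_isSquare hδ, Int.units_ne_iff_eq_neg.mp h6]
    · have h5 := Subtype.mk.inj h
      have h6 := congrArg (eval 1) h5
      rw [h1, h1, mul_right_inj' hδ0] at h6
      rwa [h6, add_left_inj] at h5
  have : Finite {f : F[X] // Palin f (2 * (n + 2))} := by
    simpa using instFinitePalin (F := F) (2 * (n + 2)) fun _ => True
  have h5 := Nat.card_congr (Equiv.sumCompl fun f : {f : F[X] // Palin f (2 * (n + 2))} => P f)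
  rw [Nat.card_sum, card_palin, Nat.card_congr (Equiv.subtypeSubtypeEquivSubtypeInter _ P),
    Nat.card_congr (Equiv.subtypeSubtypeEquivSubtypeInter _ fun f => ¬ P f)] at h5
  simp only [palW, even_two_mul, if_true, Nat.mul_div_cancel_left _ two_pos] at h5
  change _ ≤ 2 * Nat.card {f : F[X] // Palin f (2 * (n + 2)) ∧ P f}
  omega

open QuadraticMap Cfsg.Lib.Class.Orth

variable {Q : QuadraticForm F V}

theorem hform_polar_quad (hQ : (polarBilin Q).Nondegenerate) :
    HForm (σ := RingHom.id F) (polarBilin Q) 1 := hform_of_isSymm hQ (polar_comm Q)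

omit [FiniteDimensional F V] in
theorem map_eq_of_polar (h2 : (2 : F) ≠ 0) {Φ : Type*} [FunLike Φ V V] {g : Φ}
    (hg : ∀ u v, polarBilin Q (g u) (g v) = polarBilin Q u v) (v : V) : Q (g v) = Q v :=
  mul_left_cancel₀ h2 (by simpa [polar_self] using hg v v)

omit [FiniteDimensional F V] in
theorem O_eq_of_isometry (h2 : (2 : F) ≠ 0) (C C' : ConjClasses (O Q))
    (h : ∃ y : V ≃ₗ[F] V, (∀ u v, polarBilin Q (y u) (y v) = polarBilin Q u v) ∧
      ∀ v, y ((C.out.1 : End F V) v) = (C'.out.1 : End F V) (y v)) : C = C' := by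
  obtain ⟨y, h3, h4⟩ := h
  rw [← C.out_eq, ← C'.out_eq]
  exact Quotient.sound (isConj_Isom_iff.mpr ⟨y, fun u _ => map_eq_of_polar h2 h3 u, h4⟩)

theorem card_le_card_conjClasses_O [Finite F] (h2 : (2 : F) ≠ 0) (hQ : (polarBilin Q).Nondegenerate)
    (P : F[X] → Prop) (h : ∀ f, P f → ∃ g : End F V,
      (∀ u v, polarBilin Q (g u) (g v) = polarBilin Q u v) ∧ g.charpoly = f) :
    Nat.card {f // P f} ≤ Nat.card (ConjClasses (O Q)) := by
  have := Module.finite_of_finite F (M := V)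
  have : Finite (V ≃ₗ[F] V) := DFunLike.finite _
  choose g h3 h4 using h
  have h5 := fun f hf => injective_of_isometry (hform_polar_quad hQ) (h3 f hf)
  refine Nat.card_le_card_of_injective (fun f => ConjClasses.mk (⟨LinearEquiv.ofBijective
    (g f.1 f.2) ⟨h5 _ _, LinearMap.injective_iff_surjective.mp (h5 _ _)⟩,
      mem_O.mpr (map_eq_of_polar h2 (h3 _ _))⟩ : O Q)) fun f f' h6 => Subtype.ext ?_
  obtain ⟨y, -, h7⟩ := isConj_Isom_iff.mp (ConjClasses.mk_eq_mk_iff_isConj.mp h6)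
  rw [← h4 f.1 f.2, ← h4 f'.1 f'.2, charpoly_eq_elProd, charpoly_eq_elProd,
    Sim.elDiv_eq (f := g f.1 f.2) (g := g f'.1 f'.2) ⟨y, h7⟩]

theorem card_conjClasses_O_even [Fintype F] (hq : Odd (Fintype.card F))
    (hQ : (polarBilin Q).Nondegenerate) {n : ℕ} (hn : 2 ≤ n) (hV : finrank F V = 2 * n) :
    Fintype.card F ^ n ≤ 2 * Nat.card (ConjClasses (O Q)) ∧
      2 * Nat.card (ConjClasses (O Q)) ≤ 19 * Fintype.card F ^ n := by
  have h2 := two_ne_zero_of_odd hq
  have h := hform_polar_quad hQ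
  rw [← Nat.card_eq_fintype_card]
  refine ⟨(pow_le_two_mul_card_palin h2 (bdisc_ne_zero h) hn).trans (Nat.mul_le_mul_left 2
    (card_le_card_conjClasses_O h2 hQ _ fun f hf =>
      exists_isometry_charpoly h2 h (hV ▸ hf.1) hf.2)), ?_⟩
  refine (two_mul_card_le_of_wall h2 h (fun C : ConjClasses (O Q) => (C.out.1 : End F V))
    (fun C => polar_isometry (O_map _)) (O_eq_of_isometry h2) _ (fun _ => True)
    (fun m => by simpa using (card_palin m).le) (fun _ _ _ _ _ => trivial)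
    (le_max_left _ 16)).trans ?_
  rw [hV]
  exact shapeSum_O_even_le (Nat.card_eq_fintype_card (α := F) ▸ three_le_card_of_odd hq)
    (le_max_right _ _) n

theorem card_conjClasses_O_odd [Fintype F] (hq : Odd (Fintype.card F))
    (hQ : (polarBilin Q).Nondegenerate) {n : ℕ} (hV : finrank F V = 2 * n + 1) :
    2 * Fintype.card F ^ n ≤ Nat.card (ConjClasses (O Q)) ∧
      2 * Nat.card (ConjClasses (O Q)) ≤ 29 * Fintype.card F ^ n := by
  have h2 := two_ne_zero_of_odd hq
  have h := hform_polar_quad hQ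
  rw [← Nat.card_eq_fintype_card]
  constructor
  · refine le_trans ?_ (card_le_card_conjClasses_O h2 hQ (fun f => ∃ (l : F) (p : F[X]), l * l = 1 ∧
      Palin p (2 * n) ∧ f = (X - C l) * p) ?_)
    · have : Finite {f : F[X] // ∃ (l : F) (p : F[X]), l * l = 1 ∧
          Palin p (2 * n) ∧ f = (X - C l) * p} := by
        have : Finite {f : F[X] // Palin f (2 * n)} := by
          simpa using instFinitePalin (F := F) (2 * n) fun _ => True
        refine Finite.of_surjective (fun x : {l : F // l * l = 1} × {f : F[X] // Palin f (2 * n)} =>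
          ⟨(X - C x.1.1) * x.2.1, _, _, x.1.2, x.2.2, rfl⟩) ?_
        rintro ⟨_, l, p, h3, h4, rfl⟩
        exact ⟨(⟨l, h3⟩, ⟨p, h4⟩), rfl⟩
      refine le_trans (le_of_eq ?_) (Nat.card_le_card_of_injective
        (fun x : ℤˣ × {f : F[X] // Palin f (2 * n)} => ⟨(X - C ((x.1 : ℤ) : F)) * x.2.1, _, _,
          by rw [← Int.cast_mul, Int.units_coe_mul_self, Int.cast_one], x.2.2, rfl⟩) ?_)
      · simp [card_palin, palW]
      · rintro ⟨a, f⟩ ⟨b, g⟩ h3
        have h4 := Subtype.mk.inj h3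
        have h5 := congrArg (coeff · 0) h4
        simp only [mul_coeff_zero, f.2.2.1.2, g.2.2.1.2, coeff_sub, coeff_X_zero, coeff_C_zero,
          mul_one, zero_sub, neg_inj] at h5
        obtain rfl : a = b := by
          have h6 : (1 : F) ≠ -1 := fun h => h2 (by linear_combination h)
          rcases Int.units_eq_one_or a with rfl | rfl <;>
            rcases Int.units_eq_one_or b with rfl | rfl <;> simp_all [h6.symm]
        exact congrArg _ (Subtype.ext (mul_left_cancel₀ (X_sub_C_ne_zero _) h4))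
    · rintro _ ⟨l, p, h3, h4, rfl⟩
      exact exists_isometry_charpoly_of_root h2 h h4.selfDual h3 (by rw [h4.1.2, hV])
  refine (two_mul_card_le_of_wall h2 h (fun C : ConjClasses (O Q) => (C.out.1 : End F V))
    (fun C => polar_isometry (O_map _)) (O_eq_of_isometry h2) _ (fun _ => True)
    (fun m => by simpa using (card_palin m).le) (fun _ _ _ _ _ => trivial)
    (le_max_left _ 16)).trans ?_
  rw [hV, shapeSum_wallW_false_odd _ _ _ (odd_two_mul_add_one n), add_zero]
  exact shapeSum_O_odd_le (Nat.card_eq_fintype_card (α := F) ▸ three_le_card_of_odd hq)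
    (le_max_right _ _) n

end Cfsg.Lib.Known
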