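import Mathlib
import Cfsg.Agent.Known.WallLower
import Cfsg.Agent.Known.WallSpin
import Cfsg.Agent.Known.OrthLevi
import Cfsg.Agent.Char.PermLemma

/-!
The class number of `Ω(2n+1, q)`, `q` odd.
-/

set_option autoImplicit false

namespace Cfsg.Lib.Known

open Module Polynomial Cfsg.Lib.Class Cfsg.Lib.Class.Form

universe u

theorem card_conjClasses_mulEquiv {G H : Type*} [Group G] [Group H] (e : G ≃* H) :
    Nat.card (ConjClasses G) = Nat.card (ConjClasses H) :=
  Nat.card_congr (Quotient.congr e.toEquiv fun _ _ => (isConj_mulEquiv_iff e).symm)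

/-- The class number of a subgroup of index two. -/
theorem two_mul_card_conjClasses_ker {G : Type*} [Group G] [Finite G] (ψ : G →* ℤˣ)
    (hψ : ∃ t, ψ t = -1) : 2 * Nat.card (ConjClasses ψ.ker) = Nat.card (ConjClasses G) +
      3 * Nat.card {C : ConjClasses G // ∀ y, Commute C.out y → ψ y = 1} := by
  classical
  cases nonempty_fintype G
  cases nonempty_fintype (ConjClasses G)
  let T : G → ℤ := fun x => ∑ y, if Commute x y then (ψ y : ℤ) else 0
  have h1 : ∀ x, T x = if ∀ y, Commute x y → ψ y = 1 then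
      (Nat.card (Subgroup.centralizer {x}) : ℤ) else 0 := fun x => by
    have := sum_hom_units ((Units.coeHom ℤ).comp (ψ.comp (Subgroup.centralizer {x}).subtype))
    simp only [T]
    rw [← Finset.sum_filter, Finset.sum_subtype (p := (· ∈ Subgroup.centralizer {x})) _ fun y => by
      rw [Finset.mem_filter_univ]
      simp [Subgroup.mem_centralizer_iff, Commute, SemiconjBy], Nat.card_eq_fintype_card]
    refine this.trans ((Nat.cast_ite _ _ _).trans (if_congr ?_ rfl rfl))
    simp [MonoidHom.ext_iff, Subgroup.mem_centralizer_iff, Commute, SemiconjBy]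
  have h2 : ∀ x, T x = T (ConjClasses.mk x).out := fun x => by
    obtain ⟨c, hc⟩ := isConj_iff.mp (ConjClasses.mk_eq_mk_iff_isConj.mp
      ((ConjClasses.mk x).out_eq.symm : ConjClasses.mk x = ConjClasses.mk (ConjClasses.mk x).out))
    rw [← hc]
    refine Fintype.sum_equiv (MulAut.conj c).toEquiv _ _ fun y => if_congr ?_
      (by simp [mul_right_comm]) rfl
    exact (commute_map_iff (MulAut.conj c).injective).symm
  have h3 : ∑ x, T x = Nat.card G *
      Nat.card {C : ConjClasses G // ∀ y, Commute C.out y → ψ y = 1} := by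
    rw [Finset.sum_congr rfl fun x _ => h2 x, Char.sum_eq_sum_conjClasses fun C => T C.out,
      Nat.card_eq_fintype_card (α := {C // _}), Fintype.card_subtype, Finset.card_filter]
    push_cast
    rw [Finset.mul_sum]
    refine Finset.sum_congr rfl fun C _ => ?_
    rw [h1]
    split_ifs
    · rw [← Nat.cast_mul, Subgroup.index_mul_card, mul_one]
    · simp
  have h4 : ∑ x, ∑ y, (if Commute x y then (ψ x : ℤ) else 0) = ∑ x, T x := by
    rw [Finset.sum_comm]
    simp only [T, Commute.symm_iff]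
  have h5 : ∑ x, ∑ y, (if Commute x y then (ψ x : ℤ) * ψ y else 0) = ∑ x, T x :=
    Finset.sum_congr rfl fun x _ => Fintype.sum_equiv (Equiv.mulLeft x) _ _ fun y =>
      if_congr (by simp [Commute, SemiconjBy, mul_assoc]) (by simp) rfl
  have h6 : ∑ x : G, ∑ y, (if Commute x y then (1 : ℤ) else 0) =
      Nat.card (ConjClasses G) * Nat.card G := by
    rw [← Nat.cast_mul, ← card_comm_eq_card_conjClasses_mul_card, Nat.card_eq_fintype_card,
      Fintype.card_subtype, Finset.card_filter, Fintype.sum_prod_type]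
    simp
  have h7 : ∑ x : G, ∑ y, (if Commute x y then (1 + ψ x : ℤ) * (1 + ψ y) else 0) =
      4 * (Nat.card (ConjClasses ψ.ker) * Nat.card ψ.ker) := by
    rw [← Nat.cast_mul, ← card_comm_eq_card_conjClasses_mul_card, Nat.card_congr
      (α := {p : ψ.ker × ψ.ker // Commute p.1 p.2})
      (β := {p : G × G // (ψ p.1 = 1 ∧ ψ p.2 = 1) ∧ Commute p.1 p.2})
      ⟨fun p => ⟨(p.1.1, p.1.2), ⟨p.1.1.2, p.1.2.2⟩, congrArg Subtype.val p.2⟩,
        fun p => ⟨(⟨_, p.2.1.1⟩, ⟨_, p.2.1.2⟩), Subtype.ext p.2.2⟩, fun _ => rfl, fun _ => rfl⟩,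
      Nat.card_eq_fintype_card, Fintype.card_subtype, Finset.card_filter, Fintype.sum_prod_type]
    push_cast
    simp only [Finset.mul_sum]
    refine Finset.sum_congr rfl fun x _ => Finset.sum_congr rfl fun y _ => ?_
    rcases Int.units_eq_one_or (ψ x) with h | h <;> rcases Int.units_eq_one_or (ψ y) with h' | h' <;>
      simp [h, h']
  have h8 : Nat.card G = 2 * Nat.card ψ.ker := by
    obtain ⟨t, ht⟩ := hψ
    rw [← ψ.ker.index_mul_card, Subgroup.index_ker, ψ.range_eq_top.mpr fun a => by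
      rcases Int.units_eq_one_or a with rfl | rfl
      exacts [⟨1, map_one _⟩, ⟨t, ht⟩]]
    simp
  have h9 : ∑ x : G, ∑ y, (if Commute x y then (1 + ψ x : ℤ) * (1 + ψ y) else 0) =
      ∑ x : G, ∑ y, (if Commute x y then (1 : ℤ) else 0) +
      ∑ x, ∑ y, (if Commute x y then (ψ x : ℤ) else 0) + ∑ x, T x +
      ∑ x, ∑ y, (if Commute x y then (ψ x : ℤ) * ψ y else 0) := by
    simp only [T, ← Finset.sum_add_distrib]
    refine Finset.sum_congr rfl fun x _ => Finset.sum_congr rfl fun y _ => ?_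
    split_ifs <;> ring
  rw [h7, h6, h4, h5, h3, h8] at h9
  have h10 : (0 : ℤ) < Nat.card ψ.ker := by exact_mod_cast Nat.card_pos
  zify
  push_cast at h9
  nlinarith

variable {F : Type u} {V W : Type*} [Field F] [AddCommGroup V] [Module F V] [FiniteDimensional F V]
  [AddCommGroup W] [Module F W] [FiniteDimensional F W] {B : LinearMap.BilinForm F V}
  {B' : LinearMap.BilinForm F W} {g : End F V} {g' : End F W}

theorem det_aeval_eq_prod (g : End F V) (a : F[X]) : LinearMap.det (aeval g a) =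
    ((elDiv g).map fun x => LinearMap.det (cycMul x.1 a) ^ x.2).prod := by
  obtain ⟨m, b, hb⟩ := exists_enum (elDiv g)
  have hv := (isElDivs_elDiv g).enum hb
  have := fun i => finite_cyc (pow_ne_zero (b i).2 (hv i).1.ne_zero)
  rw [((sim_modelEnd g hb).aeval a).det_eq, aeval_modelEnd, det_piEnd, ← hb, Multiset.map_map]
  exact Finset.prod_congr rfl fun i _ => det_cycMul_pow (hv i).1.ne_zero _ _

theorem cycMul_congr {p a b : F[X]} (h : p ∣ a - b) : cycMul p a = cycMul p b := by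
  refine LinearMap.ext fun x => ?_
  rw [cycMul_apply, cycMul_apply, Ideal.Quotient.eq.mpr (Ideal.mem_span_singleton.mpr h)]

theorem HForm.palin_charpoly (h2 : (2 : F) ≠ 0) (h : HForm (σ := RingHom.id F) B 1)
    (hg : ∀ u v, B (g u) (g v) = B u v) (h0 : g.charpoly.eval 1 * g.charpoly.eval (-1) ≠ 0) :
    Palin g.charpoly (finrank F V) := by
  rw [← g.charpoly_natDegree]
  refine SelfDual.palin h2 ⟨g.charpoly_monic, ?_, h.dualPoly_charpoly hg⟩ ?_ ?_
  · rw [charpoly_eq_elProd, ← (isElDivs_elDiv g).forall_ne_X_iff]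
    exact (h.isGLType_elDiv hg).2.2
  · rw [rootMultiplicity_eq_zero (left_ne_zero_of_mul h0)]; exact Even.zero
  · rw [rootMultiplicity_eq_zero (right_ne_zero_of_mul h0)]; exact Even.zero

theorem exists_skew_of_normal (h2 : (2 : F) ≠ 0) (h : HForm (σ := RingHom.id F) B 1)
    (hg : ∀ u v, B (g u) (g v) = B u v) (h0 : g.charpoly.eval 1 * g.charpoly.eval (-1) ≠ 0)
    {α : End F V} (h1 : Commute α g) (h3 : Commute α (h.adj α))
    (h4 : ¬ IsSquare (LinearMap.det α)) (h5 : Function.Injective (α + h.adj α)) :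
    ∃ k : End F V, h.adj k = -k ∧ Commute k g ∧ ¬ IsSquare (LinearMap.det (1 + k)) := by
  have hp := h.palin_charpoly h2 hg h0
  have hd : LinearMap.det g = 1 := by
    rw [LinearMap.det_eq_sign_charpoly_coeff, hp.2.1.2, hp.2.2.neg_one_pow, one_mul]
  have hga := h.mul_adj_of_isometry hg
  have h6 : Commute (h.adj α) g := Commute.units_inv_right
    (u := ⟨_, _, mul_eq_one_comm.mp hga, hga⟩)
    (show h.adj α * h.adj g = h.adj g * h.adj α by rw [← h.adj_mul, ← h.adj_mul, h1.eq])
  obtain ⟨U, hU⟩ := isUnit_End_of_injective h5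
  have h7 : h.adj U = U := by rw [hU, h.adj_add, h.adj_adj, add_comm]
  have h8 : h.adj U.inv = U.inv := by
    rw [← one_mul (h.adj _), ← U.inv_val, mul_assoc]
    nth_rw 1 [← h7]
    rw [← h.adj_mul, U.inv_val, h.adj_one, mul_one]
  have h9 : Commute (α - h.adj α) U.inv := Commute.units_inv_right
    (hU ▸ ((Commute.refl α).add_right h3).sub_left (h3.symm.add_right (Commute.refl _)))
  have h10 : Commute U.val g := hU ▸ h1.add_left h6
  refine ⟨(α - h.adj α) * U.inv, by rw [h.adj_mul, h8, h.adj_sub, h.adj_adj, h9.eq, ← mul_neg, neg_sub],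
    (h1.sub_left h6).mul_left h10.units_inv_left, fun h11 => h4 ?_⟩
  have h12 := bdisc_eq_of_comp (B := B) (C := B.compLeft U) (a := U) fun _ _ => rfl
  have h13 : LinearMap.det U.val ≠ 0 := (U.isUnit.map LinearMap.det).ne_zero
  have h14 : HForm (σ := RingHom.id F) (B.compLeft U) 1 := hform_of_isSymm
    ((LinearMap.BilinForm.nondegenerate_iff_det_ne_zero _).mpr
      (h12.trans_ne (mul_ne_zero h13 (bdisc_ne_zero h)))) fun u v => by
      rw [LinearMap.BilinForm.compLeft_apply, LinearMap.BilinForm.compLeft_apply, ← h.adj_right, h7,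
        h.sym, one_mul, RingHom.id_apply]
  have h15 := (sqEq_bdisc_charpoly h14 (fun u v => by
    rw [LinearMap.BilinForm.compLeft_apply, ← End.mul_apply, h10.eq, End.mul_apply, hg]; rfl)
      hd h0).trans (sqEq_bdisc_charpoly h hg hd h0).symm
  rw [sqEq_iff_isSquare_mul (bdisc_ne_zero h14) (bdisc_ne_zero h), h12, mul_assoc, mul_comm,
    (sqEq_mul_self_mul (bdisc_ne_zero h) _).isSquare_iff] at h15
  have h16 : (1 + (α - h.adj α) * U.inv) * U = (2 : F) • α := by
    rw [add_mul, mul_assoc, U.inv_val, hU, two_smul]; noncomm_ring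
  have h17 := h11.mul h15
  obtain ⟨m, hm⟩ := hp.2.2
  rwa [← map_mul, h16, LinearMap.det_smul, hm, pow_add,
    (sqEq_mul_self_mul (pow_ne_zero _ h2) _).isSquare_iff] at h17

theorem exists_skew_piece [Finite F] (h2 : (2 : F) ≠ 0) (h : HForm (σ := RingHom.id F) B 1)
    (hg : ∀ u v, B (g u) (g v) = B u v) {p : F[X]} {e : ℕ} {t : Multiset (F[X] × ℕ)}
    (hs : elDiv g = (p, e) ::ₘ t) (he : Odd e)
    (ht : ∀ y ∈ t, y.1 = dualPoly (RingHom.id F) p ∧ y.1 ≠ p)
    (h0 : ∀ x ∈ elDiv g, ∀ l : F, l * l = 1 → x.1 ≠ X - C l) :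
    ∃ k : End F V, h.adj k = -k ∧ Commute k g ∧ ¬ IsSquare (LinearMap.det (1 + k)) := by
  have hE := isElDivs_elDiv g
  have hp : (p, e) ∈ elDiv g := hs ▸ Multiset.mem_cons_self _ _
  obtain ⟨δ, hδ⟩ := exists_not_isSquare h2
  have hδ0 : δ ≠ 0 := by rintro rfl; exact hδ IsSquare.zero
  obtain ⟨a₀, ha₀⟩ := exists_det_cycMul_eq (hE _ hp).2.1 δ
  obtain ⟨a, ha, ha'⟩ : ∃ a, p ∣ a - a₀ ∧ ∀ y ∈ t, y.1 ∣ a - 1 := by
    rcases t.empty_or_exists_mem with rfl | ⟨y, hy⟩
    · exact ⟨a₀, by simp, by simp⟩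
    have h1 := hE y (hs ▸ Multiset.mem_cons_of_mem hy)
    obtain ⟨u, w, huw⟩ := (hE _ hp).2.1.coprime_iff_not_dvd.mpr fun h3 => (ht y hy).2
      (eq_of_monic_of_associated (hE _ hp).1 h1.1 ((hE _ hp).2.1.associated_of_dvd h1.2.1 h3)).symm
    refine ⟨u * p + w * y.1 * a₀, ⟨u * (1 - a₀), by linear_combination a₀ * huw⟩, fun z hz => ?_⟩
    rw [(ht z hz).1, ← (ht y hy).1]
    exact ⟨w * (a₀ - 1), by linear_combination huw⟩
  have hda : LinearMap.det (aeval g a) = δ ^ e := by
    rw [det_aeval_eq_prod, hs, Multiset.map_cons, Multiset.prod_cons, cycMul_congr ha, ha₀,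
      Multiset.prod_eq_one, mul_one]
    intro z hz
    obtain ⟨y, hy, rfl⟩ := Multiset.mem_map.mp hz
    rw [cycMul_congr (ha' y hy), ← aeval_cycX, map_one, map_one, one_pow]
  have hns : ¬ IsSquare (LinearMap.det (aeval g a)) := by
    obtain ⟨k, rfl⟩ := he
    rwa [hda, pow_succ, two_mul, pow_add, (sqEq_mul_self_mul (pow_ne_zero _ hδ0) _).isSquare_iff]
  have hga := h.mul_adj_of_isometry hg
  have hinj : ∀ l : F, l * l = 1 → Function.Injective (aeval g (X - C l)) := fun l hl =>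
    (injective_aeval_iff_elDiv g _).mpr fun x hx h3 => h0 x hx l hl (eq_of_monic_of_associated
      (hE x hx).1 (monic_X_sub_C l) ((hE x hx).2.1.associated_of_dvd (irreducible_X_sub_C l) h3))
  have hev : g.charpoly.eval 1 * g.charpoly.eval (-1) ≠ 0 := by
    have key : ∀ l : F, l * l = 1 → g.charpoly.eval l ≠ 0 := fun l hl h3 => by
      obtain ⟨v, hv⟩ := (End.hasEigenvalue_iff_isRoot_charpoly g l).mpr h3 |>.exists_hasEigenvector
      exact hv.2 (hinj l hl (by simp [hv.apply_eq_smul]))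
    exact mul_ne_zero (key 1 (one_mul 1)) (key (-1) (by simp))
  obtain ⟨r, hr⟩ : ∃ r, h.adj g = aeval g r := by
    obtain ⟨u, w, huw⟩ := irreducible_X.coprime_iff_not_dvd.mpr (mt X_dvd_iff.mp
      (h.palin_charpoly h2 hg hev).selfDual.2.1)
    have := congrArg (aeval g) huw
    rw [map_add, map_mul, map_mul, g.aeval_self_charpoly, mul_zero, add_zero, aeval_X,
      map_one] at this
    exact ⟨u, by rw [← one_mul (h.adj g), ← this, mul_assoc, hga, mul_one]⟩
  have hadj : ∀ b, h.adj (aeval g b) = aeval g (b.comp r) := fun b => by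
    rw [h.adj_aeval, Polynomial.map_id, hr, aeval_comp]
  have hcom : ∀ b c : F[X], Commute (aeval g b) (aeval g c) := fun b c => (Commute.all b c).map _
  obtain ⟨v, hv, hv0⟩ : ∃ v, aeval g p v = 0 ∧ v ≠ 0 := by
    by_contra! h3
    exact (injective_aeval_iff_elDiv g p).mp ((injective_iff_map_eq_zero _).mpr h3) _ hp dvd_rfl
  have key : ∀ b : F[X], aeval g (b + b.comp r) v ≠ 0 →
      Function.Injective (aeval g b + h.adj (aeval g b)) := fun b hb => by
    rw [hadj, ← map_add, injective_aeval_iff_elDiv]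
    rintro x hx ⟨c, hc⟩
    apply hb
    rcases Multiset.mem_cons.mp (hs ▸ hx) with rfl | h3
    · rw [hc, mul_comm, map_mul, End.mul_apply, hv, map_zero]
    · have h4 : aeval g (b + b.comp r) = h.adj (aeval g (b + b.comp r)) := by
        rw [map_add, h.adj_add, ← hadj, h.adj_adj, add_comm]
      rw [h4, hc, (ht x h3).1, h.adj_aeval, Polynomial.map_id, mul_comm, map_mul, End.mul_apply,
        aeval_dualPoly (mul_eq_one_comm.mp hga), Polynomial.map_id]
      simp [hv]
  have hc1 : ∀ b : F[X], Commute (aeval g b) g := fun b => by simpa using hcom b X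
  by_cases h3 : aeval g (a + a.comp r) v = 0
  · refine exists_skew_of_normal h2 h hg hev (hc1 (a * X)) (by rw [hadj]; exact hcom _ _) (by
      rwa [map_mul, map_mul, aeval_X, LinearMap.det_eq_sign_charpoly_coeff g,
        (h.palin_charpoly h2 hg hev).2.1.2, (h.palin_charpoly h2 hg hev).2.2.neg_one_pow, one_mul,
        mul_one]) (key _ fun h4 => hv0 ?_)
    have h5 : aeval g (X * (a * X + (a * X).comp r) - X * r * (a + a.comp r)) =
        aeval g a * (aeval g (X - C (1 : F)) * aeval g (X - C (-1 : F))) := by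
      have : aeval g (X * r) = 1 := by rw [map_mul, aeval_X, ← hr, hga]
      rw [show X * (a * X + comp (a * X) r) - X * r * (a + a.comp r) =
        a * (X * X) - a * (X * r) by simp; ring, ← map_mul, ← map_mul, map_sub, map_mul (aeval g) a (X * r),
        this, show a * ((X - C 1) * (X - C (-1))) = a * (X * X) - a by simp; ring, map_sub, mul_one]
    have h6 := LinearMap.congr_fun h5 v
    rw [map_sub, map_mul, map_mul (aeval g) (X * r), LinearMap.sub_apply, End.mul_apply, End.mul_apply, h3,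
      h4, map_zero, map_zero, sub_zero, End.mul_apply, End.mul_apply] at h6
    have h7 : IsUnit (aeval g a) := (LinearMap.isUnit_iff_isUnit_det _).mpr
      (hda ▸ (pow_ne_zero _ hδ0).isUnit)
    exact (injective_iff_map_eq_zero _).mp (hinj _ (by simp)) _ ((injective_iff_map_eq_zero _).mp
      (hinj _ (by simp)) _ ((injective_iff_map_eq_zero _).mp
        ((End.isUnit_iff _).mp h7).1 _ h6.symm))
  · exact exists_skew_of_normal h2 h hg hev (hc1 a) (by rw [hadj]; exact hcom _ _) hns (key a h3)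

theorem exists_skew_of_embedding (h : HForm (σ := RingHom.id F) B 1)
    (h' : HForm (σ := RingHom.id F) B' 1) (hg : ∀ u v, B (g u) (g v) = B u v)
    (hg' : ∀ u v, B' (g' u) (g' v) = B' u v) (ι : W →ₗ[F] V) (hι : ∀ u v, B (ι u) (ι v) = B' u v)
    (hc : ∀ v, ι (g' v) = g (ι v)) {k : End F W} (hk : h'.adj k = -k) (hk' : Commute k g') :
    ∃ k₁ : End F V, h.adj k₁ = -k₁ ∧ Commute k₁ g ∧
      LinearMap.det (1 + k₁) = LinearMap.det (1 + k) := by
  obtain ⟨π, hπ⟩ := h'.exists_adj (C := B.compl₂ ι)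
  simp only [LinearMap.compl₂_apply] at hπ
  have h1 : π ∘ₗ ι = LinearMap.id := LinearMap.ext fun v => h'.ext_left fun w => by simp [hπ, hι]
  have h3 : ∀ v, π (g v) = g' (π v) := fun v => h'.ext_left fun w => by
    obtain ⟨w, rfl⟩ := LinearMap.injective_iff_surjective.mp (injective_of_isometry h' hg') w
    rw [hπ, hc, hg, hg', hπ]
  refine ⟨ι ∘ₗ k ∘ₗ π, h.adj_eq_of_left fun u v => ?_, LinearMap.ext fun v => ?_, ?_⟩
  · simp only [LinearMap.neg_apply, LinearMap.comp_apply, map_neg]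
    rw [← hπ, ← h'.adj_left, hk, h.sym, ← hπ, h'.sym]
    simp
  · simp only [End.mul_apply, LinearMap.comp_apply, h3, ← hc]
    rw [← End.mul_apply, hk'.eq, End.mul_apply]
  · set b := Module.finBasis F V
    set c := Module.finBasis F W
    rw [← LinearMap.det_toMatrix b, ← LinearMap.det_toMatrix c, map_add, map_add,
      LinearMap.toMatrix_one, LinearMap.toMatrix_one, LinearMap.toMatrix_comp b c b,
      Matrix.det_one_add_mul_comm, ← LinearMap.toMatrix_comp, LinearMap.comp_assoc, h1,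
      LinearMap.comp_id]

theorem exists_skew_of_mem [Finite F] (h2 : (2 : F) ≠ 0) (h : HForm (σ := RingHom.id F) B 1)
    (hg : ∀ u v, B (g u) (g v) = B u v) {x : F[X] × ℕ} (hx : x ∈ elDiv g) (he : Odd x.2)
    (h0 : ∀ l : F, l * l = 1 → x.1 ≠ X - C l) :
    ∃ k : End F V, h.adj k = -k ∧ Commute k g ∧ ¬ IsSquare (LinearMap.det (1 + k)) := by
  classical
  obtain ⟨n, h1, hn⟩ := ((g * g - 1 : End F V).eventually_isCompl_ker_pow_range_pow.and
    (Filter.eventually_ge_atTop 1)).exists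
  have hc : Commute g ((g * g - 1) ^ n) :=
    (((Commute.refl g).mul_right (Commute.refl g)).sub_right (Commute.one_right g)).pow_right n
  have hU : ∀ v ∈ LinearMap.ker ((g * g - 1) ^ n), g v ∈ LinearMap.ker ((g * g - 1) ^ n) :=
    fun v hv => by rw [LinearMap.mem_ker, ← End.mul_apply, ← hc.eq, End.mul_apply, hv, map_zero]
  have hR : ∀ v ∈ LinearMap.range ((g * g - 1) ^ n), g v ∈ LinearMap.range ((g * g - 1) ^ n) := by
    rintro _ ⟨v, rfl⟩
    exact ⟨g v, by rw [← End.mul_apply, ← hc.eq, End.mul_apply]⟩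
  have hga := h.mul_adj_of_isometry hg
  have ho : ∀ u ∈ LinearMap.ker ((g * g - 1) ^ n), ∀ v ∈ LinearMap.range ((g * g - 1) ^ n),
      B u v = 0 := by
    rintro u hu _ ⟨v, rfl⟩
    have h3 : Commute (h.adj g) g := (mul_eq_one_comm.mp hga).trans hga.symm
    have h4 : h.adj (g * g - 1) = -(h.adj g * h.adj g) * (g * g - 1) := by
      rw [h.adj_sub, h.adj_mul, h.adj_one, mul_sub, neg_mul, mul_assoc, ← mul_assoc _ g,
        mul_eq_one_comm.mp hga, one_mul, mul_eq_one_comm.mp hga]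
      noncomm_ring
    have h5 := (h3.mul_right h3).sub_right (Commute.one_right _)
    rw [← h.adj_left, h.adj_pow, h4, (h5.mul_left h5).neg_left.mul_pow, End.mul_apply, hu]
    simp
  obtain ⟨-, hw⟩ := WallData.restrict ⟨h, hg, one_mul 1, rfl⟩ h1 ho hU hR (one_mul 1) rfl
  have h3 : elDiv g = elDiv (g.restrict hU) + elDiv (g.restrict hR) := by
    rw [← elDiv_prodMap]
    exact (Sim.elDiv_eq ⟨Submodule.prodEquivOfIsCompl _ _ h1, fun v => by simp⟩).symm
  have h4 : x ∈ elDiv (g.restrict hR) := (Multiset.mem_add.mp (h3 ▸ hx)).resolve_left fun h4 => by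
    have h5 := (aeval_eq_zero_iff_elDiv (g.restrict hU) ((X ^ 2 - 1) ^ n)).mp
      (LinearMap.ext fun v => Subtype.ext ((intertwine_aeval (g := g) (Submodule.subtype _)
        (fun _ => rfl) _ v).trans (by simpa [sq] using v.2))) x h4
    have h6 := isElDivs_elDiv g x hx
    obtain ⟨l, hl, h7⟩ := eq_X_sub_C_of_dvd_sq_sub_one h6.1 h6.2.1
      (h6.2.1.prime.dvd_of_dvd_pow ((dvd_pow_self _ h6.2.2.ne').trans h5))
    exact h0 l hl h7
  have h5 : ∀ y ∈ elDiv (g.restrict hR), ∀ l : F, l * l = 1 → y.1 ≠ X - C l := fun y hy l hl h5 => by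
    refine (injective_aeval_iff_elDiv (g.restrict hR) (X ^ 2 - 1)).mp
      ((injective_iff_map_eq_zero _).mpr fun v hv => Subtype.ext
        (Submodule.disjoint_def.mp h1.disjoint v ?_ v.2)) y hy ⟨X + C l, ?_⟩
    · have h6 : (g * g - 1) v = 0 := by
        simpa [sq] using (intertwine_aeval (g := g) (Submodule.subtype _) (fun _ => rfl) _ v).symm.trans
          (congrArg _ hv)
      exact End.pow_map_zero_of_le hn (by simpa using h6)
    · rw [h5, ← C_1, ← hl, C_mul]; ring
  have hT := hw.hf.isGLType_elDiv hw.hg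
  obtain ⟨t, ht, hst⟩ := exists_selfDual_split (fun _ => rfl) hT.1 hT.2.2
    (hw.hf.elDiv_map_dualED hw.hg) h4
  obtain ⟨s, h6, h7, h8⟩ : ∃ s, elDiv (g.restrict hR) = (x ::ₘ s) + t ∧
      (x ::ₘ s).map (dualED (RingHom.id F)) = x ::ₘ s ∧
      ∀ y ∈ s, y.1 = dualPoly (RingHom.id F) x.1 ∧ y.1 ≠ x.1 := by
    rcases hst with ⟨h6, h7⟩ | ⟨h6, h7⟩
    · exact ⟨0, by simpa using h7, by simp [h6], by simp⟩
    · refine ⟨{dualED (RingHom.id F) x}, by simpa using h7, ?_, by
        simpa using fun h => h6 (Prod.ext h rfl)⟩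
      rw [Multiset.map_cons, Multiset.map_singleton, show dualED _ (dualED _ x) = x from Prod.ext
        (dualPoly_dualPoly (fun _ => rfl) (hT.1 x h4).1 (hT.1.coeff_zero_ne hT.2.2 x h4)) rfl]
      exact Multiset.cons_swap _ _ 0
  have m1 : ∀ y ∈ x ::ₘ s, y ∈ elDiv (g.restrict hR) := fun y hy => h6 ▸ Multiset.mem_add.mpr (.inl hy)
  have m2 : ∀ y ∈ t, y ∈ elDiv (g.restrict hR) := fun y hy => h6 ▸ Multiset.mem_add.mpr (.inr hy)
  obtain ⟨W₁, _, _, _, B₁, g₁, a1, a2, a3⟩ := OReal.of_no_pm (fun y hy => hT.1 y (m1 y hy))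
    (fun y hy => hT.2.2 y (m1 y hy)) h7 fun y hy => h5 y (m1 y hy)
  obtain ⟨W₂, _, _, _, B₂, g₂, b1, b2, b3⟩ := OReal.of_no_pm (fun y hy => hT.1 y (m2 y hy))
    (fun y hy => hT.2.2 y (m2 y hy)) ht fun y hy => h5 y (m2 y hy)
  have h9 : elDiv (g₁.prodMap g₂ : End F (W₁ × W₂)) = elDiv (g.restrict hR) := by
    rw [elDiv_prodMap, a3, b3, h6]
  obtain ⟨y, hy, hy'⟩ := exists_isometry_of_laySq h2 (one_mul 1) (a1.prod b1) (prodForm_isom a2 b2)
    hw.hf hw.hg h9 none (by simp) fun l j hl _ _ => by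
      have := Multiset.count_eq_zero.mpr fun h => h5 (X - C l, j + 1) h l hl rfl
      exact iff_of_true (laySq_of_count_eq_zero _ (by convert h9 ▸ this))
        (laySq_of_count_eq_zero _ (by convert this))
  obtain ⟨k, k1, k2, k3⟩ := exists_skew_piece h2 a1 a2 a3 he h8 fun y hy => h5 y (m1 y (a3 ▸ hy))
  obtain ⟨k', k4, k5, k6⟩ := exists_skew_of_embedding h a1 hg a2
    ((Submodule.subtype _) ∘ₗ y.toLinearMap ∘ₗ LinearMap.inl F W₁ W₂)
    (fun u v => (hy (u, 0) (v, 0)).trans (by simp))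
    (fun v => congrArg Subtype.val ((congrArg y (by simp)).trans (hy' (v, 0)))) k1 k2
  exact ⟨k', k4, k5, k6 ▸ k3⟩

open QuadraticMap Cfsg.Lib.Class.Orth

variable {Q : QuadraticForm F V}

theorem exists_commute_spinA [Finite F] (h2 : (2 : F) ≠ 0) (hQ : (polarBilin Q).Nondegenerate)
    (g : O Q) {x : F[X] × ℕ} (hx : x ∈ elDiv (g.1 : End F V)) (he : Odd x.2)
    (h0 : ∀ l : F, l * l = 1 → x.1 ≠ X - C l) :
    ∃ z : O Q, Commute g z ∧ dick z = 1 ∧ spinA hQ z = -1 := by
  have h := hform_polar_quad hQ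
  obtain ⟨k, h1, h3, h4⟩ := exists_skew_of_mem h2 h (polar_isometry (O_map g)) hx he h0
  have h5 : LinearMap.det (1 + k) ≠ 0 := fun h5 => h4 (h5 ▸ IsSquare.zero)
  obtain ⟨U, hU⟩ := (LinearMap.isUnit_iff_isUnit_det _).mpr h5.isUnit
  have h6 : h.adj U = 1 - k := by rw [hU, h.adj_add, h.adj_one, h1, sub_eq_add_neg]
  have h7 : h.adj (h.adj U * U.inv) * (h.adj U * U.inv) = 1 := by
    have : U.val * h.adj U = h.adj U * U := by rw [h6, hU]; noncomm_ring
    rw [h.adj_mul, h.adj_adj, mul_assoc, ← mul_assoc U.val, this, mul_assoc, U.val_inv, mul_one,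
      ← h.adj_mul, U.val_inv, h.adj_one]
  have h8 := h.adj_mul_self_eq_one_iff.mp h7
  have h9 := injective_of_isometry h h8
  have h10 : (1 + h.adj U * U.inv) * U = (2 : F) • 1 := by
    rw [add_mul, mul_assoc, U.inv_val, h6, hU, two_smul]; noncomm_ring
  have h11 : Commute U.val g := hU ▸ (Commute.one_left _).add_left h3
  have h12 := congrArg LinearMap.det h10
  rw [map_mul, LinearMap.det_smul, map_one, mul_one] at h12
  have h13 := left_ne_zero_of_mul (h12.trans_ne (pow_ne_zero _ h2))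
  refine ⟨⟨LinearEquiv.ofBijective _ ⟨h9, LinearMap.injective_iff_surjective.mp h9⟩,
    mem_O.mpr (map_eq_of_polar h2 h8)⟩, O_ext fun v => LinearMap.congr_fun
      ((h6 ▸ (Commute.one_left _).sub_left h3).mul_left h11.units_inv_left).symm.eq v, ?_, ?_⟩
  · rw [← detO_eq_one_iff hQ h2, Units.ext_iff, coe_detO]
    change LinearMap.det (h.adj U * U.inv) = 1
    rw [map_mul, h.det_adj, RingHom.id_apply, ← map_mul, U.val_inv, map_one]
  · rw [spinA_eq_det_one_add hQ h2 (((End.isUnit_iff _).mp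
      ((LinearMap.isUnit_iff_isUnit_det _).mpr h13.isUnit)).1), sqs_eq_neg_one_iff]
    change ¬ IsSquare (LinearMap.det (1 + h.adj U * U.inv) * _)
    rwa [← h12, ← mul_assoc, (sqEq_mul_self_mul h13 _).isSquare_iff, hU]

theorem card_palin_pm_le [Finite F] (h2 : (2 : F) ≠ 0) (m : ℕ) : Nat.card {p : F[X] // Palin p m ∧
    ∀ r : F[X], r.Monic → Irreducible r → r ∣ p → ∃ l : F, l * l = 1 ∧ r = X - C l} ≤ pmW m := by
  have key : ∀ (n : ℕ) (p : F[X]), p.Monic → p.natDegree = n →
      (∀ r : F[X], r.Monic → Irreducible r → r ∣ p → ∃ l : F, l * l = 1 ∧ r = X - C l) →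
      ∃ a b, a + b = n ∧ p = (X - C 1) ^ a * (X - C (-1)) ^ b := by
    intro n
    induction n with
    | zero => exact fun p hp h _ => ⟨0, 0, rfl, by simpa using eq_one_of_monic_natDegree_zero hp h⟩
    | succ n ih =>
      intro p hp h hL
      obtain ⟨r, h3, h4, p, rfl⟩ := exists_monic_irreducible_factor p
        (not_isUnit_of_natDegree_pos p (by omega))
      obtain ⟨l, hl, rfl⟩ := hL r h3 h4 (dvd_mul_right _ _)
      have h5 := h3.of_mul_monic_left hp
      rw [h3.natDegree_mul h5, natDegree_X_sub_C] at h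
      obtain ⟨a, b, rfl, rfl⟩ := ih p h5 (by omega) fun r h6 h7 h8 => hL r h6 h7 (h8.mul_left _)
      rcases mul_self_eq_one_iff.mp hl with rfl | rfl
      · exact ⟨a + 1, b, by omega, by ring⟩
      · exact ⟨a, b + 1, by omega, by ring⟩
  rw [pmW]
  split_ifs with hm
  · choose a b h3 h4 using fun p : {p : F[X] // Palin p m ∧ ∀ r : F[X], r.Monic → Irreducible r →
      r ∣ p → ∃ l : F, l * l = 1 ∧ r = X - C l} => key m p.1 p.2.1.1.1 p.2.1.1.2 p.2.2
    have h5 : ∀ p, Even (a p) := fun p => even_of_neg_one_pow h2 (by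
      have := p.2.1.2.1.2
      rw [h4 p] at this
      simpa [coeff_zero_eq_eval_zero] using this)
    refine (Nat.card_le_card_of_injective (fun p => (⟨a p / 2, by have := h3 p; omega⟩ :
      Fin (m / 2 + 1))) fun p p' h => Subtype.ext ?_).trans (by simp)
    have h6 := Fin.mk.inj h
    obtain ⟨k, hk⟩ := h5 p
    obtain ⟨k', hk'⟩ := h5 p'
    have := h3 p
    have := h3 p'
    rw [h4 p, h4 p', show a p = a p' by omega, show b p = b p' by omega]
  · exact (Nat.card_eq_zero.mpr (Or.inl ⟨fun p => hm p.2.1.2.2⟩)).le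

theorem card_conjClasses_Omega_odd [Fintype F] (hq : Odd (Fintype.card F))
    (hQ : (polarBilin Q).Nondegenerate) {n : ℕ} (hn : 2 ≤ n) (hV : finrank F V = 2 * n + 1) :
    Fintype.card F ^ n ≤ 2 * Nat.card (ConjClasses (commutator (O Q))) ∧
      10 * Nat.card (ConjClasses (commutator (O Q))) ≤ 73 * Fintype.card F ^ n := by
  have h2 := two_ne_zero_of_odd hq
  have h := hform_polar_quad hQ
  have hE := not_exc_of_two_ne_zero (Q := Q) h2
  have := Module.finite_of_finite F (M := V)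
  have : Finite (V ≃ₗ[F] V) := DFunLike.finite _
  have hc : dick (negO Q) = -1 := by rw [dick_negO h2, hV, pow_succ, pow_mul]; simp
  let ψ : O Q →* ℤˣ := spinA hQ * if spinA hQ (negO Q) = 1 then 1 else dickHom hQ hE
  have h1 : ∀ g, dick g = 1 → ψ g = spinA hQ g := fun g hg => by
    simp only [ψ]
    split_ifs <;> simp [dickHom, hg]
  have h3 : ψ (negO Q) = 1 := by
    simp only [ψ]
    split_ifs with h3
    · simpa using h3
    · simp [dickHom, hc, Int.units_ne_iff_eq_neg.mp h3]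
  have h4 := two_mul_card_conjClasses_ker ψ (by
    obtain ⟨u, -, v, -, hu, hv, h4⟩ := exists_refl_mul_refl_spinA hQ h2 (U := ⊤)
      (Submodule.disjoint_def.mpr fun x _ hx => hQ.2 x fun w => hx w trivial)
      (by rw [finrank_top]; omega)
    exact ⟨_, (h1 _ (dick_refl_mul_refl hQ hu hv)).trans h4⟩)
  have h5 := two_mul_card_conjClasses_ker ((dickHom hQ hE).comp ψ.ker.subtype) ⟨⟨_, h3⟩, hc⟩
  rw [(Nat.card_eq_zero (α := {C // _})).mpr (Or.inl ⟨fun C => by
    have := C.2 ⟨_, h3⟩ (Subtype.ext (Subgroup.mem_center_iff.mp negO_mem_center _))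
    simp [dickHom, hc] at this⟩), card_conjClasses_mulEquiv (H := commutator (O Q))
      ((Subgroup.equivMapOfInjective _ _ ψ.ker.subtype_injective).trans (MulEquiv.subgroupCongr
        (Subgroup.ext fun g => by
          rw [mem_commutator_O_iff hQ hE]
          constructor
          · rintro ⟨g, hg, rfl⟩
            exact ⟨hg, (h1 _ hg).symm.trans g.2⟩
          · exact fun hg => ⟨⟨g, (h1 _ hg.1).trans hg.2⟩, hg.1, rfl⟩)))] at h5
  obtain ⟨h6, h7⟩ := card_conjClasses_O_odd hq hQ hV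
  have h8 := two_mul_card_le_of_wall h2 h
    (fun C : {C : ConjClasses (O Q) // ∀ y, Commute C.out y → ψ y = 1} => (C.1.out.1 : End F V))
    (fun C => polar_isometry (O_map _)) (fun C C' h => Subtype.ext (O_eq_of_isometry h2 _ _ h))
    pmW _ (card_palin_pm_le h2) (fun C j p hj hp r hr hr' h8 => by
      by_contra! h9
      obtain ⟨x, hx, h10⟩ := hr'.prime.exists_mem_multiset_map_dvd (h8.trans hp)
      obtain ⟨hx, h11⟩ := Multiset.mem_filter.mp hx
      have h12 := isElDivs_elDiv _ x hx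
      obtain ⟨z, h13, h14, h15⟩ := exists_commute_spinA h2 hQ C.1.out hx (h11 ▸ hj.add_one)
        (by rwa [← eq_of_monic_of_associated hr h12.1 (hr'.associated_of_dvd h12.2.1 h10)])
      simpa [h1 z h14, h15] using C.2 z h13) (le_max_left _ 40)
  rw [hV, shapeSum_wallW_false_odd _ _ _ (odd_two_mul_add_one n), Nat.card_eq_fintype_card (α := F)]
    at h8
  have h9 := shapeSum_split_le (three_le_card_of_odd hq) hn
  omega

end Cfsg.Lib.Known
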