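import Cfsg.Agent.Known.OrthDescMat
import Cfsg.Agent.Known.OmegaClass
import Cfsg.Agent.Known.FormSim
import Cfsg.Agent.Known.ElusOrd

/-!
Centralisers of semisimple isometries of odd prime order cover the diagonal automorphisms.
-/

set_option autoImplicit false
set_option linter.unusedSectionVars false

namespace Cfsg.Lib.Known

open QuadraticMap Cfsg.Lib.Class Cfsg.Lib.Class.Orth Module GamO Polynomial Matrix

universe u

theorem isConjUnder_map_iff_of_cover {G X : Type*} [Group G] [Group X] (ρ : G →* X)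
    {K S : Subgroup X} (hKS : K ≤ S) (x : X)
    (h : ∀ s ∈ S, ∃ k ∈ K, ∃ c, Commute c x ∧ s = k * c) (y : X) :
    IsConjUnder K x y ↔ IsConjUnder S x y := by
  refine ⟨fun ⟨k, hk, hy⟩ => ⟨k, hKS hk, hy⟩, fun ⟨s, hs, hy⟩ => ?_⟩
  obtain ⟨k, hk, c, hc, rfl⟩ := h s hs
  refine ⟨k, hk, ?_⟩
  rw [hy, mul_assoc k c x, hc.eq]
  group

variable {F : Type u} {V : Type*} [Field F] [Finite F] [AddCommGroup V] [Module F V]
  [FiniteDimensional F V]

/-- A similarity of a symplectic form with multiplier `c` has determinant `c ^ M`. -/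
theorem det_of_isAlt_sim {B : LinearMap.BilinForm F V} (hB : B.Nondegenerate) (hA : B.IsAlt)
    {M : ℕ} (hV : finrank F V = 2 * M) (g : V ≃ₗ[F] V) (c : Fˣ)
    (hg : ∀ u v, B (g u) (g v) = c * B u v) :
    LinearMap.det (g : V →ₗ[F] V) = (c : F) ^ M := by
  classical
  let b := Module.finBasis F V
  let S := LinearMap.BilinForm.toMatrix b B
  have hS : S.det ≠ 0 := (LinearMap.BilinForm.nondegenerate_iff_det_ne_zero b).mp hB
  have hgr : ∀ u v, Tw.gramForm S u v = B (b.equivFun.symm u) (b.equivFun.symm v) := fun u v => by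
    have := LinearMap.BilinForm.dotProduct_toMatrix_mulVec b B u v
    simpa [Tw.gramForm, S] using this
  have hSA : Tw.IsAltM S := fun v => by rw [hgr]; exact hA _
  let k : GL (Fin (finrank F V)) F := Matrix.GeneralLinearGroup.mk'' (LinearMap.toMatrix b b g)
    (by rw [LinearMap.det_toMatrix]; exact (LinearEquiv.isUnit_det' g))
  have hk : ∀ u, b.equivFun.symm ((k : Matrix _ _ F) *ᵥ u) = g (b.equivFun.symm u) := fun u => by
    rw [LinearEquiv.symm_apply_eq]
    have := LinearMap.toMatrix_mulVec_repr b b (g : V →ₗ[F] V) (b.equivFun.symm u)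
    have h1 : ⇑(b.repr (b.equivFun.symm u)) = u := b.equivFun.apply_symm_apply u
    rw [h1] at this
    exact this
  have hmd : Tw.MD S c (GeneralLinearGroup.det k) :=
    ⟨k, Tw.gram_eq_smul_iff.mpr fun u v => by rw [hgr, hgr, hk, hk, hg], rfl⟩
  have := (Tw.md_iff_of_alt hS hSA (m := M) (by simpa using hV)).mp hmd
  have h2 := congrArg (fun x : Fˣ => (x : F)) this
  simpa [k, LinearMap.det_toMatrix] using h2

variable {Q : QuadraticForm F V}

theorem Q_of_polar_sim (h2 : (2 : F) ≠ 0) {s : V → V} {c : F}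
    (hs : ∀ u v, polar Q (s u) (s v) = c * polar Q u v) (v : V) : Q (s v) = c * Q v := by
  have := hs v v
  rw [polar_self, polar_self, two_nsmul, two_nsmul] at this
  apply mul_left_cancel₀ h2
  linear_combination this

/-- An isometry without eigenvalues `±1` commutes with proper similarities of any multiplier. -/
theorem exists_sim_free (h2 : (2 : F) ≠ 0) (hQ : (polarBilin Q).Nondegenerate) (g : O Q)
    (hg : ∀ v, g.1 (g.1 v) = v → v = 0) (c : Fˣ) :
    ∃ M, finrank F V = 2 * M ∧ ∃ s : GamO Q, s.σ = 1 ∧ s.c = c ∧ detG s = (c : F) ^ M ∧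
      ∀ v, s (g.1 v) = g.1 (s v) := by
  have h := hform_polar_quad hQ
  have hgB := polar_isometry (Q := Q) (g := (g.1 : End F V)) (O_map g)
  have h' : HForm (σ := RingHom.id F) ((c : F) • polarBilin Q) 1 :=
    ⟨fun _ => rfl, one_ne_zero, fun u v => by simp [polar_comm Q u v], fun u hu => h.sep u fun v => by
      simpa using hu v⟩
  have ha : h.adj (g.1 : End F V) = (g.1.symm : End F V) := h.adj_of_isom hgB
  have ha' : h'.adj (g.1 : End F V) = (g.1.symm : End F V) := h'.adj_of_isom fun u v => by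
    have := hgB u v
    simp only [LinearEquiv.coe_coe] at this
    simp only [LinearMap.smul_apply, this]
  set θ : End F V := (g.1 : End F V) - (g.1.symm : End F V) with hθ
  have hi : Function.Injective θ := by
    rw [injective_iff_map_eq_zero]
    intro v hv
    apply hg
    have : g.1 v = g.1.symm v := sub_eq_zero.mp hv
    rw [this, LinearEquiv.apply_symm_apply]
  have hu : IsUnit θ := (End.isUnit_iff _).mpr ⟨hi, LinearMap.injective_iff_surjective.mp hi⟩
  have hc : Commute (g.1 : End F V) (g.1.symm : End F V) := by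
    ext v; simp
  obtain ⟨s, hs, hs'⟩ := h.exists_equiv_of_theta h' (θ := (g.1 : End F V)) (ha.trans ha'.symm)
    (by rw [ha]; exact hu) (by rw [ha]; exact hc)
  have hsg := hs' _ (ha.trans ha'.symm) (Commute.refl _) (by rw [ha]; exact hc)
  have hsg1 : ∀ v, s (g.1 v) = g.1 (s v) := fun v => (LinearMap.congr_fun hsg.eq v).symm
  have hsg2 : ∀ v, s (g.1.symm v) = g.1.symm (s v) := fun v => by
    rw [eq_comm, LinearEquiv.symm_apply_eq, ← hsg1, LinearEquiv.apply_symm_apply]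
  have hsB : ∀ u v, polar Q (s u) (s v) = c * polar Q u v := fun u v => by
    simpa using (hs u v).symm
  let ω : LinearMap.BilinForm F V := (polarBilin Q).compl₂ θ
  have hω : ∀ u v, ω u v = polar Q u (g.1 v - g.1.symm v) := fun u v => rfl
  have hωA : ω.IsAlt := fun v => by
    have := hgB v (g.1.symm v)
    simp only [LinearEquiv.coe_coe, LinearEquiv.apply_symm_apply, polarBilin_apply_apply] at this
    rw [hω, polar_sub_right, ← this, polar_comm, sub_self]
  have hωN : ω.Nondegenerate := by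
    refine hωA.isRefl.nondegenerate_iff_separatingLeft.mpr fun u hu => h.sep u fun v => ?_
    obtain ⟨w, rfl⟩ := LinearMap.injective_iff_surjective.mp hi v
    exact hu w
  obtain ⟨M, hM⟩ := even_finrank_of_isAlt hωN hωA
  have hM' : finrank F V = 2 * M := by omega
  refine ⟨M, hM', ofSim s c (Q_of_polar_sim h2 hsB), rfl, rfl, ?_, hsg1⟩
  rw [detG_eq rfl (L := (s : V →ₗ[F] V)) fun _ => rfl]
  refine det_of_isAlt_sim hωN hωA hM' s c fun u v => ?_
  rw [hω, hω, ← hsg1, ← hsg2, ← map_sub, hsB]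

/-- An isometry of odd order prime to `p` commutes with a proper similarity of non-square
multiplier. -/
theorem exists_GOo_commute (h2 : (2 : F) ≠ 0) (hQ : (polarBilin Q).Nondegenerate) {M : ℕ}
    (hV : finrank F V = 2 * M) (g : O Q) {r : ℕ} (hr : Odd r) (hr0 : (r : F) ≠ 0)
    (hg : g ^ r = 1) {l : Fˣ} (hl : ¬ IsSquare (l : F)) :
    ∃ s ∈ GOo Q, s.c = l ∧ Commute s (ofO Q g) := by
  have hE : ¬ Exc Q := not_exc_of_two_ne_zero h2
  have h := hform_polar_quad hQ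
  have hgB := polar_isometry (Q := Q) (g := (g.1 : End F V)) (O_map g)
  have hgr : (g.1 : End F V) ^ r = 1 := by
    ext v
    have := congrArg (fun x : O Q => x.1 v) hg
    simpa [LinearEquiv.pow_apply, Module.End.pow_apply] using this
  obtain ⟨A, C, hA⟩ := exists_fixSp h hgB (ssAt_of_pow_eq_one hr0 hgr 1)
  have ho := isOSum_of_isCompl Q hA.isCompl hA.orth
  set e := A.prodEquivOfIsCompl C hA.isCompl with he
  have hea : ∀ a : A, e (a, 0) = a := fun a => by simp [he]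
  have hec : ∀ a : C, e (0, a) = a := fun a => by simp [he]
  have h₁ := ho.nondegenerate_left hQ
  have h₂ := ho.nondegenerate_right hQ
  obtain ⟨g₁, g₂, hgg⟩ := ho.exists_eq_hom h₁ (g := g) fun a => ⟨a, by
    rw [hea]; exact (hA.mem a).mp a.2⟩
  have hg1 : ∀ a, g₁.1 a = a := fun a => by
    have := ho.hom_apply g₁ g₂ a 0
    rw [← hgg, map_zero, hea, hea] at this
    exact Subtype.ext (this.symm.trans ((hA.mem a).mp a.2))
  have hg2 : ∀ a, (g₂.1 a : V) = g.1 a := fun a => by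
    have := ho.hom_apply g₁ g₂ 0 a
    rw [← hgg, map_zero, hec, hec] at this
    exact this.symm
  obtain ⟨M₂, hM₂, s₂, σ₂, c₂, d₂, k₂⟩ := exists_sim_free h2 h₂ g₂ (fun v hv => by
    have h3 : g.1 (g.1 v) = v := by rw [← hg2, ← hg2, hv]
    obtain ⟨k, rfl⟩ := hr
    have h4 : ∀ k : ℕ, ((g.1 : End F V) ^ (2 * k + 1)) v = g.1 v := fun k => by
      induction k with
      | zero => simp
      | succ k ih =>
        rw [show 2 * (k + 1) + 1 = (2 * k + 1) + 1 + 1 by ring, pow_succ, pow_succ,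
          Module.End.mul_apply, Module.End.mul_apply]
        simpa [h3] using ih
    have h5 := h4 k
    rw [hgr] at h5
    exact Subtype.ext (hA.free v v.2 h5.symm)) l
  have hAC := hA.finrank_add
  obtain ⟨M₁, rfl⟩ : ∃ M₁, M = M₁ + M₂ := ⟨M - M₂, by omega⟩
  have hM₁ : finrank F A = 2 * M₁ := by omega
  obtain ⟨s₁, σ₁, c₁, -, d₁⟩ := exists_sqrt_sim_aux h2 hl M₁ A _ h₁ hM₁
  let s := ho.gam s₁ s₂ (σ₁.trans σ₂.symm) (c₁.trans c₂.symm)
  have hsσ : s.σ = 1 := σ₁
  have hsc : s.c = l := c₁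
  have hsd : detG s = (-l) ^ M₁ * l ^ M₂ := by rw [ho.detG_gam _ _ _ _ σ₁, d₁, d₂]
  have hsg : Commute s (ofO Q g) := by
    refine GamO.ext (Equiv.ext fun v => ?_) ?_ ?_
    · obtain ⟨⟨a, b⟩, rfl⟩ := e.surjective v
      change s (g.1 (e (a, b))) = g.1 (s (e (a, b)))
      rw [ho.gam_apply, hgg, ho.hom_apply, ho.hom_apply, ho.gam_apply, hg1, hg1, k₂]
    · simp [hsσ]
    · ext; simp [hsσ]
  by_cases hs : s ∈ GOo Q
  · exact ⟨s, hs, hsc, hsg⟩
  have hM0 : M₁ ≠ 0 := by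
    rintro rfl
    exact hs (mem_GOo.mpr ⟨hsσ, by rw [hsd, hsc, hV]; simp, fun h => (h2 h).elim⟩)
  have : Nontrivial A := Module.nontrivial_of_finrank_pos (R := F) (by omega)
  obtain ⟨a, ha⟩ := exists_ne_zero_of_nondeg h₁
  have ha' : Q a ≠ 0 := ha
  refine ⟨s * ofO Q (refl Q a), (mul_mem_GOo_iff hQ hE hV hsσ (dick_refl hQ ha')).mpr hs, ?_,
    hsg.mul_left (commute_refl ((hA.mem a).mp a.2))⟩
  ext; simp [hsc, hsσ]

theorem exists_commute_spinA_of_pow (h2 : (2 : F) ≠ 0) (hQ : (polarBilin Q).Nondegenerate)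
    (p : ℕ) [Fact p.Prime] [CharP F p] {r : ℕ} [Fact r.Prime] (hro : Odd r) (hrp : r ≠ p)
    {g : O Q} (hg : g ^ r = 1) (hg1 : g ≠ 1) :
    ∃ z : O Q, Commute g z ∧ dick z = 1 ∧ spinA hQ z = -1 := by
  have hgr : (g.1 : End F V) ^ r = 1 := by
    ext v
    have := congrArg (fun x : O Q => x.1 v) hg
    simpa [LinearEquiv.pow_apply, Module.End.pow_apply] using this
  obtain ⟨k, m, he, hm⟩ := elDiv_of_pow_eq_one p hrp hgr
  by_cases hm0 : m = 0
  · exfalso
    apply hg1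
    have : (g.1 : End F V) ^ 1 = (1 : F) • 1 := pow_eq_smul_of_forall_dvd fun x hx => by
      rw [he, hm0, add_zero] at hx
      simp [Multiset.eq_of_mem_replicate hx]
    ext v
    simpa using LinearMap.congr_fun this v
  obtain ⟨x, hx⟩ := Multiset.exists_mem_of_ne_zero hm0
  have hx' := mem_cycFactors.mp (hm x hx)
  refine exists_commute_spinA h2 hQ g (x := x) (he ▸ Multiset.mem_add.mpr (Or.inr hx))
    (by rw [hx'.2.2.2]; exact odd_one) fun l hl h => ?_
  rcases mul_self_eq_one_iff.mp hl with rfl | rfl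
  · exact cycFactors_ne p hrp (hm x hx) (Prod.ext (by simpa using h) hx'.2.2.2)
  · have h3 := dvd_of_mem_cycFactors (hm x hx)
    rw [h, hx'.2.2.2, pow_one, dvd_iff_isRoot] at h3
    simp only [IsRoot.def, eval_sub, eval_pow, eval_X, eval_one, hro.neg_one_pow] at h3
    exact h2 (by linear_combination -h3)

theorem exists_ofO_of_pow_mem [Nontrivial V] {T : GamO Q} (hT : T.σ = 1) {r : ℕ} (hr : Odd r)
    (h : T ^ r ∈ (scal Q).range) : ∃ (b : Fˣ) (g : O Q), T = scal Q b * ofO Q g ∧ g ^ r = 1 := by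
  obtain ⟨a, ha⟩ := h
  have hc : ∀ k : ℕ, (T ^ k).c = T.c ^ k := fun k => by
    induction k with
    | zero => simp
    | succ k ih => rw [pow_succ', pow_succ']; ext; simp [hT, ih]
  have h1 : T.c ^ r = a ^ 2 := by rw [← hc, ← ha, scal_c]
  obtain ⟨k, rfl⟩ := hr
  have h3 : IsSquare (T.c : F) := ⟨((a * (T.c ^ k)⁻¹ : Fˣ) : F), by
    rw [← Units.val_mul]
    congr 1
    have : T.c = a ^ 2 * (T.c ^ (2 * k))⁻¹ := by rw [← h1]; group
    conv_lhs => rw [this]
    rw [pow_two, two_mul, pow_add, mul_inv]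
    ac_rfl⟩
  obtain ⟨b, g, rfl⟩ := exists_eq_scal_mul hT h3
  have h4 : (scal Q b * ofO Q g) ^ (2 * k + 1) =
      scal Q (b ^ (2 * k + 1)) * ofO Q (g ^ (2 * k + 1)) := by
    rw [map_pow, map_pow, ← Commute.mul_pow]
    exact (scal_comm (ofO_σ g) b).symm
  have h5 : ofO Q (g ^ (2 * k + 1)) = scal Q ((b ^ (2 * k + 1))⁻¹ * a) := by
    rw [map_mul, ha, h4, map_inv, inv_mul_cancel_left]
  set t := (b ^ (2 * k + 1))⁻¹ * a
  have h6 : t ^ 2 = 1 := by rw [← scal_c (Q := Q), ← h5]; rfl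
  have h7 : (t : F) * t = 1 := by rw [← pow_two, ← Units.val_pow_eq_pow_val, h6, Units.val_one]
  rcases mul_self_eq_one_iff.mp h7 with h8 | h8
  · refine ⟨b, g, rfl, ofO_injective ?_⟩
    rw [h5, Units.val_eq_one.mp h8, map_one, map_one]
  · have h9 : t = -1 := Units.ext (by simpa using h8)
    rw [h9] at h5
    have hn : Commute (scal Q (-1)) (ofO Q g) := (scal_comm (ofO_σ g) _).symm
    refine ⟨-b, Orth.negO Q * g, ?_, ofO_injective ?_⟩
    · rw [map_mul, ← scal_neg_one, ← mul_assoc, ← map_mul]; simp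
    · rw [map_pow, map_mul, ← scal_neg_one, hn.mul_pow, ← map_pow, ← map_pow, h5, ← map_mul,
        Odd.neg_one_pow ⟨k, rfl⟩]
      simp

theorem exists_cover_GOo (h2 : (2 : F) ≠ 0) (hQ : (polarBilin Q).Nondegenerate) {M : ℕ}
    (hM : 0 < M) (hV : finrank F V = 2 * M) {T δ : GamO Q} (hδ : δ ∈ GOo Q) (hμ : muG Q δ = -1)
    (hc : Commute δ T) {z : O Q} (hz : Commute (ofO Q z) T) (h1 : dick z = 1)
    (h3 : spinA hQ z = -1) {S : GamO Q} (hS : S ∈ GOo Q) :
    ∃ N ∈ NG Q, ∃ C, Commute C T ∧ S = N * C := by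
  have hn : 2 ≤ finrank F V := by omega
  have key : ∀ t : ℤˣ, ∃ C, Commute C T ∧ kap hQ h2 hn (1, t) = piG Q C := fun t => by
    rcases Int.units_eq_one_or t with rfl | rfl
    · exact ⟨1, Commute.one_left _, by rw [map_one]; exact map_one _⟩
    · exact ⟨_, hz, by rw [← kap_ofO, h1, h3]⟩
  have fin : ∀ C, Commute C T → piG Q S = piG Q C → ∃ N ∈ NG Q, ∃ C, Commute C T ∧ S = N * C :=
    fun C hC h => ⟨S * C⁻¹, piG_eq_one_iff.mp (by rw [map_mul, map_inv, h, mul_inv_cancel]), C, hC,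
      by simp⟩
  obtain ⟨t, ht | ht⟩ := (mem_map_GOo_iff hQ h2 hn ⟨M, by omega⟩ hδ hμ).mp ⟨S, hS, rfl⟩
  · obtain ⟨C, hC, h⟩ := key t
    exact fin C hC (ht.trans h)
  · obtain ⟨C, hC, h⟩ := key t
    exact fin (δ * C) (hc.mul_left hC) (by rw [ht, h, map_mul])

section Mat

variable {ι : Type} [Fintype ι] [DecidableEq ι] {Q : QuadraticForm F (ι → F)}

theorem inn_le_pso (H : BigO Q) (h2 : (2 : F) ≠ 0) : Inn (POmega F Q) ≤ psoAut F Q := by
  rw [inn_eq, psoAut_eq]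
  refine Subgroup.map_mono (Subgroup.map_mono fun g hg => ?_)
  exact (detO_eq_one_iff H.nd h2 g).mpr ((mem_commutator_iff_odd H.nd h2).mp hg).1

theorem pso_le_GOo (H : BigO Q) (h2 : (2 : F) ≠ 0) : psoAut F Q ≤ (GOo Q).map (rhoM Q) := by
  rw [psoAut_eq]
  refine Subgroup.map_mono ?_
  rintro _ ⟨g, hg, rfl⟩
  exact (ofO_mem_GOo_iff H.nd H.nexc).mpr ((detO_eq_one_iff H.nd h2 g).mp hg)

theorem odd_classes (H : BigO Q) (h2 : (2 : F) ≠ 0) {M : ℕ} (hV : finrank F (ι → F) = 2 * M)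
    (p : ℕ) [Fact p.Prime] [CharP F p] {r : ℕ} (hr : r.Prime) (hro : Odd r) (hrp : r ≠ p)
    {x : MulAut (POmega F Q)} (hx : x ∈ pgoAut F Q) (hxr : orderOf x = r) :
    (∀ y, (IsConjUnder (Inn (POmega F Q)) x y ↔ IsConjUnder ((GOo Q).map (rhoM Q)) x y) ∧
      (IsConjUnder (psoAut F Q) x y ↔ IsConjUnder ((GOo Q).map (rhoM Q)) x y)) ∧
    ∀ y, IsConjUnder (poAut F Q) x y ↔ IsConjUnder (pgoAut F Q) x y := by
  have := Fact.mk hr
  have := Fintype.ofFinite F
  have := H.nontrivial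
  have hM : 0 < M := by have := H.hn; omega
  rw [pgoAut_eq] at hx
  obtain ⟨T, hT, rfl⟩ := hx
  have hs : ∀ b, rhoM Q (scal Q b) = 1 := fun b => by
    rw [← MonoidHom.mem_ker, ker_rhoM H]; exact ⟨b, rfl⟩
  obtain ⟨b, g, rfl, hg⟩ := exists_ofO_of_pow_mem (T := T) hT hro (by
    rw [← ker_rhoM H, MonoidHom.mem_ker, map_pow, ← hxr, pow_orderOf_eq_one])
  rw [map_mul, hs, one_mul] at hxr ⊢
  have hg1 : g ≠ 1 := by
    rintro rfl
    rw [map_one, map_one, orderOf_one] at hxr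
    exact hr.one_lt.ne hxr
  obtain ⟨z, hz, z1, z2⟩ := exists_commute_spinA_of_pow h2 H.nd p hro hrp hg hg1
  obtain ⟨l0, hl⟩ := FiniteField.exists_nonsquare (F := F) (fun h => h2 (by
    have := ringChar.spec F 2
    exact_mod_cast this.mpr (h ▸ dvd_refl _)))
  have hl0 : l0 ≠ 0 := fun h => hl (h ▸ IsSquare.zero)
  obtain ⟨δ, hδ, hc, hδg⟩ := exists_GOo_commute h2 H.nd hV g hro (natCast_prime_ne_zero p hrp) hg
    (l := Units.mk0 l0 hl0) hl
  have hμ : muG Q δ = -1 := by rw [muG_apply, hc]; exact sqs_of_not_isSquare hl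
  have k1 : ∀ y, IsConjUnder (Inn (POmega F Q)) (rhoM Q (ofO Q g)) y ↔
      IsConjUnder ((GOo Q).map (rhoM Q)) (rhoM Q (ofO Q g)) y := by
    refine isConjUnder_map_iff_of_cover (rhoM Q) ((inn_le_pso H h2).trans (pso_le_GOo H h2)) _ ?_
    rintro _ ⟨S, hS, rfl⟩
    obtain ⟨N, hN, C, hC, rfl⟩ := exists_cover_GOo h2 H.nd hM hV hδ hμ hδg (hz.symm.map _) z1 z2 hS
    exact ⟨rhoM Q N, inn_eq_map_NG (Q := Q) ▸ ⟨N, hN, rfl⟩, rhoM Q C, hC.map _, map_mul _ _ _⟩
  refine ⟨fun y => ⟨k1 y, ⟨fun ⟨k, hk, h⟩ => ⟨k, pso_le_GOo H h2 hk, h⟩, fun h => ?_⟩⟩, ?_⟩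
  · obtain ⟨k, hk, h⟩ := (k1 y).mpr h
    exact ⟨k, inn_le_pso H h2 hk, h⟩
  rw [poAut_eq, pgoAut_eq]
  refine isConjUnder_map_iff_of_cover (rhoM Q) (Subgroup.map_mono ?_) _ ?_
  · rintro _ ⟨k, rfl⟩
    exact ofO_σ k
  rintro _ ⟨S, hS, rfl⟩
  have hS' : S.σ = 1 := hS
  have hδσ : δ.σ = 1 := (mem_GOo.mp hδ).1
  by_cases hq : IsSquare (S.c : F)
  · obtain ⟨a, k, rfl⟩ := exists_eq_scal_mul hS' hq
    exact ⟨rhoM Q (ofO Q k), ⟨_, ⟨k, rfl⟩, rfl⟩, 1, Commute.one_left _, by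
      rw [map_mul, hs, one_mul, mul_one]⟩
  · have h3 : muG Q (S * δ⁻¹) = 1 := by
      rw [map_mul, map_inv, hμ, muG_apply, sqs_of_not_isSquare hq]; rfl
    rw [muG_apply] at h3
    obtain ⟨a, k, hk⟩ := exists_eq_scal_mul (T := S * δ⁻¹) (by simp [hS', hδσ])
      (by_contra fun h => by rw [sqs_of_not_isSquare h] at h3; exact absurd h3 (by decide))
    refine ⟨rhoM Q (ofO Q k), ⟨_, ⟨k, rfl⟩, rfl⟩, rhoM Q δ, hδg.map _, ?_⟩
    rw [mul_inv_eq_iff_eq_mul.mp hk, map_mul, map_mul, hs, one_mul]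

end Mat

end Cfsg.Lib.Known
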