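import Cfsg.Agent.Known.PronQuat

/-! Pairs of idempotents, and rank one projections of quaternion matrices. -/

set_option autoImplicit false

namespace Cfsg.Lib.Known.Pron

open Matrix Cfsg
open scoped Quaternion

section Ring

variable {F R : Type*} [Field F] [Ring R] [Algebra F R] {e f : R} {d : F}

theorem idem_cubic (he : e * e = e) (hf : f * f = f) (h1 : e * f * e = d • e)
    (h2 : f * e * f = d • f) {a : R} (ha : a = (1 - (2 : F) • e) * (1 - (2 : F) • f)) :
    (a - 1) * (a * a - (4 * d - 2) • a + 1) = 0 := by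
  have a1 : ∀ t, e * (e * t) = e * t := fun t => by rw [← mul_assoc, he]
  have a2 : ∀ t, f * (f * t) = f * t := fun t => by rw [← mul_assoc, hf]
  have a3 : ∀ t, e * (f * (e * t)) = d • (e * t) := fun t => by
    rw [← mul_assoc, ← mul_assoc, h1, smul_mul_assoc]
  have a4 : ∀ t, f * (e * (f * t)) = d • (f * t) := fun t => by
    rw [← mul_assoc, ← mul_assoc, h2, smul_mul_assoc]
  rw [mul_assoc] at h1 h2
  subst ha
  simp only [mul_add, add_mul, mul_sub, sub_mul, smul_mul_assoc, mul_smul_comm, mul_assoc,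
    one_mul, mul_one, a1, a2, a3, a4, he, hf, h1, h2, smul_sub, smul_add]
  module

theorem idem_proj (he : e * e = e) (hf : f * f = f) (h1 : e * f * e = d • e)
    (h2 : f * e * f = d • f) (hd : d ≠ 1) {p : R}
    (hp : p = (1 - d)⁻¹ • (e + f - e * f - f * e)) :
    p * e = e ∧ p * f = f ∧ p * p = p := by
  have hd' : (1 - d)⁻¹ * (1 - d) = 1 := inv_mul_cancel₀ (sub_ne_zero.2 hd.symm)
  have b1 : p * e = e := by
    rw [hp, smul_mul_assoc, sub_mul, sub_mul, add_mul, he, h1, mul_assoc, he,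
      show e + f * e - d • e - f * e = (1 - d) • e by module, smul_smul, hd', one_smul]
  have b2 : p * f = f := by
    rw [hp, smul_mul_assoc, sub_mul, sub_mul, add_mul, hf, h2, mul_assoc, hf,
      show e * f + f - e * f - d • f = (1 - d) • f by module, smul_smul, hd', one_smul]
  refine ⟨b1, b2, ?_⟩
  nth_rewrite 2 [hp]
  rw [mul_smul_comm, mul_sub, mul_sub, mul_add, ← mul_assoc, ← mul_assoc, b1, b2, ← hp]

theorem pow_four_of_cubic {a : R} (h : (a - 1) * (a * a - (4 * d - 2) • a + 1) = 0)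
    (hd : 2 * d = 1) : a ^ 2 ^ 2 = 1 := by
  rw [show 4 * d - 2 = 0 by linear_combination 2 * hd, zero_smul, sub_zero] at h
  have : a ^ 4 - 1 = (a + 1) * ((a - 1) * (a * a + 1)) := by noncomm_ring
  rwa [h, mul_zero, sub_eq_zero] at this

theorem pow_of_cubic {a : R} (h : (a - 1) * (a * a - (4 * d - 2) • a + 1) = 0)
    (hd : d = 0 ∨ d = 1) {p : ℕ} [hp : Fact p.Prime] [CharP R p] (hp2 : p ≠ 2) :
    a ^ (2 * p) = 1 := by
  have h3 : (a ^ 2 - 1) ^ 3 = 0 := by
    rcases hd with rfl | rfl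
    · rw [show (4 * 0 - 2 : F) = -(1 + 1) by ring, neg_smul, add_smul, one_smul] at h
      have : (a ^ 2 - 1) ^ 3 = (a - 1) * (a ^ 2 - 1) * ((a - 1) * (a * a - -(a + a) + 1)) := by
        noncomm_ring
      rw [this, h, mul_zero]
    · rw [show (4 * 1 - 2 : F) = 1 + 1 by ring, add_smul, one_smul] at h
      have : (a ^ 2 - 1) ^ 3 = (a + 1) ^ 3 * ((a - 1) * (a * a - (a + a) + 1)) := by
        noncomm_ring
      rw [this, h, mul_zero]
  have h4 := pow_eq_zero_of_le (show 3 ≤ p by have := hp.out.two_le; omega) h3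
  rwa [sub_pow_char_of_commute p (Commute.one_right _), one_pow, sub_eq_zero, ← pow_mul] at h4

theorem eq_one_of_cubic (h2 : (2 : F) ≠ 0) {a : R}
    (h : (a - 1) * (a * a - (4 * d - 2) • a + 1) = 0) (hd : d ≠ 1) {p k : ℕ} [Fact p.Prime]
    [CharP R p] (ha : a ^ p ^ k = 1) : a = 1 := by
  have h1 : IsNilpotent (a - 1) :=
    ⟨p ^ k, by rw [sub_pow_char_pow_of_commute p k (Commute.one_right _), ha, one_pow, sub_self]⟩
  have h3 : IsUnit ((4 - 4 * d) • a) := by
    rw [Algebra.smul_def]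
    refine (IsUnit.map _ (Ne.isUnit ?_)).mul (IsUnit.of_pow_eq_one ha (NeZero.ne _))
    rw [show 4 - 4 * d = 2 * 2 * (1 - d) by ring]
    exact mul_ne_zero (mul_ne_zero h2 h2) (sub_ne_zero.2 hd.symm)
  have h4 : Commute (a - 1) a := (Commute.refl a).sub_left (Commute.one_left a)
  have h5 := ((Commute.refl (a - 1)).isNilpotent_mul_left h1).isUnit_add_right_of_commute h3
    ((h4.mul_left h4).smul_right _)
  rw [show (a - 1) * (a - 1) + (4 - 4 * d) • a = a * a - (4 * d - 2) • a + 1 by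
    simp only [mul_sub, sub_mul, mul_one, one_mul]; module] at h5
  exact sub_eq_zero.1 (h5.mul_left_eq_zero.1 h)

end Ring

variable {F : Type*} [Field F] {κ : Type*} [Fintype κ] [DecidableEq κ]

/-- The rank one subgroups. -/
def fo (o : κ) : unitary ℍ[F] →* unitary (Matrix κ κ ℍ[F]) :=
  dg.comp (MonoidHom.mulSingle (fun _ => unitary ℍ[F]) o)

theorem fo_eq_1' : type_of% @fo.eq_1 := @fo.eq_1

theorem fo_apply (o : κ) (u : unitary ℍ[F]) : fo o u = dg (Pi.mulSingle o u) := rfl

theorem coe_fo (o : κ) (u : unitary ℍ[F]) :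
    (fo o u : Matrix κ κ ℍ[F]) = 1 + single o o ((u : ℍ[F]) - 1) := by
  ext1 a b
  rw [fo_apply, coe_dg, Matrix.add_apply, one_apply, diagonal_apply, single_apply, Pi.mulSingle_apply]
  by_cases h1 : a = b <;> by_cases h2 : a = o <;> simp_all [eq_comm]

theorem smul_single_one (o : κ) (c : F) :
    c • single o o (1 : ℍ[F]) = single o o (c : ℍ[F]) := by
  rw [smul_single, ← Quaternion.coe_mul_eq_smul, mul_one]

theorem coe_fo_neg (o : κ) :
    (fo o (-1 : unitary ℍ[F]) : Matrix κ κ ℍ[F]) = 1 - (2 : F) • single o o (1 : ℍ[F]) := by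
  rw [coe_fo, two_smul, ← single_add, sub_eq_add_neg (1 : Matrix κ κ ℍ[F]), single_neg, Unitary.coe_neg]
  simp [sub_eq_add_neg]

theorem coe_inv_unitary {R : Type*} [Monoid R] [StarMul R] (g : unitary R) :
    ((g⁻¹ : unitary R) : R) = star (g : R) := rfl

theorem coe_conj_fo (g : unitary (Matrix κ κ ℍ[F])) (o : κ) (u : unitary ℍ[F]) :
    (g * fo o u * g⁻¹ : unitary (Matrix κ κ ℍ[F])).1 =
      1 + g.1 * single o o ((u : ℍ[F]) - 1) * star g.1 := by
  rw [Submonoid.coe_mul, Submonoid.coe_mul, coe_fo, coe_inv_unitary, Matrix.mul_add,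
    Matrix.add_mul, Matrix.mul_one, g.2.2]

theorem mul_single_mul_apply (A B : Matrix κ κ ℍ[F]) (o : κ) (h : ℍ[F]) (a b : κ) :
    (A * single o o h * B) a b = A a o * h * B o b := by
  rw [mul_apply, Finset.sum_eq_single o (fun c _ hc => by simp [hc]) (by simp)]
  simp

theorem conj_fo_apply (g : unitary (Matrix κ κ ℍ[F])) (o : κ) (u : unitary ℍ[F]) (a b : κ) :
    (g * fo o u * g⁻¹ : unitary (Matrix κ κ ℍ[F])).1 a b =
      (if a = b then 1 else 0) + g.1 a o * ((u : ℍ[F]) - 1) * star (g.1 b o) := by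
  rw [coe_conj_fo, Matrix.add_apply, one_apply, mul_single_mul_apply, star_apply]

theorem mul_fo_mul_apply (A B : Matrix κ κ ℍ[F]) (o : κ) (u : unitary ℍ[F]) (a b : κ) :
    (A * (fo o u).1 * B) a b = (A * B) a b + A a o * ((u : ℍ[F]) - 1) * B o b := by
  rw [coe_fo, Matrix.mul_add, Matrix.add_mul, Matrix.mul_one, Matrix.add_apply, mul_single_mul_apply]

theorem fo_mul_apply (A : Matrix κ κ ℍ[F]) (o : κ) (u : unitary ℍ[F]) (a b : κ) :
    ((fo o u).1 * A) a b = (if a = o then (u : ℍ[F]) else 1) * A a b := by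
  rw [fo_apply, coe_dg, diagonal_mul, Pi.mulSingle_apply]
  split_ifs <;> rfl

theorem mul_fo_apply (A : Matrix κ κ ℍ[F]) (o : κ) (u : unitary ℍ[F]) (a b : κ) :
    (A * (fo o u).1) a b = A a b * (if b = o then (u : ℍ[F]) else 1) := by
  rw [fo_apply, coe_dg, mul_diagonal, Pi.mulSingle_apply]
  split_ifs <;> rfl

theorem sum_normSq (g : unitary (Matrix κ κ ℍ[F])) (o : κ) :
    ∑ a, Quaternion.normSq (g.1 a o) = 1 := by
  have h := congrFun (congrFun (Unitary.coe_star_mul_self g) o) o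
  rw [mul_apply, one_apply_eq] at h
  simp only [star_apply, Quaternion.star_mul_self] at h
  rw [← Quaternion.coe_inj, Quaternion.coe_one, ← h]
  exact map_sum (algebraMap F ℍ[F]) _ _

/-- The projection onto the image of a coordinate line. -/
def pr (g : unitary (Matrix κ κ ℍ[F])) (o : κ) : Matrix κ κ ℍ[F] :=
  g.1 * single o o (1 : ℍ[F]) * star g.1

theorem pr_eq_1' : type_of% @pr.eq_1 := @pr.eq_1

theorem pr_apply (g : unitary (Matrix κ κ ℍ[F])) (o a b : κ) :
    pr g o a b = g.1 a o * star (g.1 b o) := by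
  rw [pr, mul_single_mul_apply, mul_one, star_apply]

theorem coe_conj_neg (g : unitary (Matrix κ κ ℍ[F])) (o : κ) :
    (g * fo o (-1) * g⁻¹ : unitary (Matrix κ κ ℍ[F])).1 = 1 - (2 : F) • pr g o := by
  rw [Submonoid.coe_mul, Submonoid.coe_mul, coe_fo_neg, coe_inv_unitary, Matrix.mul_sub,
    Matrix.sub_mul, Matrix.mul_one, g.2.2, Matrix.mul_smul, Matrix.smul_mul, pr]

theorem single_one_sq (o : κ) :
    single o o (1 : ℍ[F]) * single o o (1 : ℍ[F]) = single o o (1 : ℍ[F]) := by simp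

theorem star_single_one (o : κ) : star (single o o (1 : ℍ[F])) = single o o (1 : ℍ[F]) := by
  simp [star_eq_conjTranspose]

theorem star_pr (g : unitary (Matrix κ κ ℍ[F])) (o : κ) : star (pr g o) = pr g o := by
  rw [pr, star_mul, star_mul, star_star, star_single_one, mul_assoc]

theorem pr_mul_pr (g : unitary (Matrix κ κ ℍ[F])) (o : κ) : pr g o * pr g o = pr g o := by
  rw [pr, mul_assoc, ← mul_assoc (star g.1), ← mul_assoc (star g.1), Unitary.coe_star_mul_self,
    one_mul, ← mul_assoc, mul_assoc g.1, single_one_sq]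

theorem single_pr_single (g : unitary (Matrix κ κ ℍ[F])) (o : κ) :
    single o o (1 : ℍ[F]) * pr g o * single o o (1 : ℍ[F]) =
      Quaternion.normSq (g.1 o o) • single o o (1 : ℍ[F]) := by
  rw [single_mul_mul_single, pr_apply, one_mul, mul_one, Quaternion.self_mul_star, smul_single_one]

theorem pr_single_pr (g : unitary (Matrix κ κ ℍ[F])) (o : κ) :
    pr g o * single o o (1 : ℍ[F]) * pr g o = Quaternion.normSq (g.1 o o) • pr g o := by
  ext1 a b
  rw [mul_single_mul_apply, Matrix.smul_apply, pr_apply, pr_apply, pr_apply, mul_one, mul_assoc,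
    ← mul_assoc (star _), Quaternion.star_mul_self, Quaternion.coe_mul_eq_smul, mul_smul_comm]

theorem cubic_conj (g : unitary (Matrix κ κ ℍ[F])) (o : κ) {a : Matrix κ κ ℍ[F]}
    (ha : a = (fo o (-1) * (g * fo o (-1) * g⁻¹) : unitary (Matrix κ κ ℍ[F])).1) :
    (a - 1) * (a * a - (4 * Quaternion.normSq (g.1 o o) - 2) • a + 1) = 0 :=
  idem_cubic (single_one_sq o) (pr_mul_pr g o) (single_pr_single g o) (pr_single_pr g o)
    (by rw [ha, Submonoid.coe_mul, coe_fo_neg, coe_conj_neg])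

theorem conj_neg_apply (g : unitary (Matrix κ κ ℍ[F])) (o : κ) :
    (g * fo o (-1) * g⁻¹ : unitary (Matrix κ κ ℍ[F])).1 o o =
      ((1 - 2 * Quaternion.normSq (g.1 o o) : F) : ℍ[F]) := by
  rw [coe_conj_neg, Matrix.sub_apply, Matrix.smul_apply, pr_apply, one_apply_eq, Quaternion.self_mul_star]
  ext <;> simp

theorem pr_eq_of_conj_eq (h2 : (2 : F) ≠ 0) {g : unitary (Matrix κ κ ℍ[F])} {o k : κ}
    (h : g * fo o (-1) * g⁻¹ = fo k (-1)) : pr g o = single k k (1 : ℍ[F]) := by
  have h1 := congrArg Subtype.val h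
  rw [coe_conj_neg, coe_fo_neg, sub_right_inj] at h1
  exact smul_right_injective _ h2 h1

theorem apply_eq_zero_of_conj_eq (h2 : (2 : F) ≠ 0) {g : unitary (Matrix κ κ ℍ[F])} {o k : κ}
    (h : g * fo o (-1) * g⁻¹ = fo k (-1)) {a : κ} (ha : a ≠ k) : g.1 a o = 0 := by
  have h1 : pr g o * g.1 = g.1 * single o o (1 : ℍ[F]) := by
    rw [pr, mul_assoc, Unitary.coe_star_mul_self, mul_one]
  have h3 := congrFun (congrFun h1 a) o
  rw [pr_eq_of_conj_eq h2 h] at h3
  simpa [ha] using h3.symm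

theorem normSq_eq_one_of_col {g : unitary (Matrix κ κ ℍ[F])} {o k : κ}
    (h : ∀ a, a ≠ k → g.1 a o = 0) : Quaternion.normSq (g.1 k o) = 1 := by
  rw [← sum_normSq g o, Finset.sum_eq_single k (fun a _ ha => by rw [h a ha, map_zero]) (by simp)]

theorem conj_fo_of_col {g : unitary (Matrix κ κ ℍ[F])} {o k : κ} (h : ∀ a, a ≠ k → g.1 a o = 0)
    {t : unitary ℍ[F]} (ht : g.1 k o = t) (u : unitary ℍ[F]) :
    g * fo o u * g⁻¹ = fo k (t * u * t⁻¹) := by
  refine Subtype.ext (Matrix.ext fun a b => ?_)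
  rw [conj_fo_apply, coe_fo, Matrix.add_apply, one_apply, single_apply]
  by_cases ha : a = k
  · by_cases hb : b = k
    · subst ha hb
      simp [ht, coe_inv_unitary, mul_sub, sub_mul]
    · simp [h b hb, Ne.symm hb]
  · simp [h a ha, Ne.symm ha]

/-- The complement of a coordinate line in a plane is unique. -/
theorem pr_eq_sub {g h : unitary (Matrix κ κ ℍ[F])} {o : κ} (hd : Quaternion.normSq (g.1 o o) ≠ 1)
    {p : Matrix κ κ ℍ[F]} (hp : p = (1 - Quaternion.normSq (g.1 o o))⁻¹ • (single o o 1 + pr g o -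
      single o o 1 * pr g o - pr g o * single o o 1)) (h1 : p * pr h o = pr h o)
    (h2 : h.1 o o = 0) : pr h o = p - single o o 1 := by
  set d := Quaternion.normSq (g.1 o o) with hdd
  have hd' : (1 - d)⁻¹ * (1 - d) = 1 := inv_mul_cancel₀ (sub_ne_zero.2 hd.symm)
  let w : κ → ℍ[F] := fun a => if a = o then 0 else g.1 a o
  have hw : ∑ a, Quaternion.normSq (w a) = 1 - d := by
    rw [← sum_normSq g o, ← Finset.add_sum_erase _ _ (Finset.mem_univ o),
      ← Finset.add_sum_erase _ _ (Finset.mem_univ o), add_sub_cancel_left]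
    simp only [w, if_true, map_zero, zero_add]
    exact Finset.sum_congr rfl fun a ha => by rw [if_neg (Finset.ne_of_mem_erase ha)]
  have h3 : ∀ a b, (p - single o o 1 : Matrix κ κ ℍ[F]) a b = (1 - d)⁻¹ • (w a * star (w b)) := fun a b => by
    have : p - single o o 1 = (1 - d)⁻¹ • (pr g o - single o o 1 * pr g o - pr g o * single o o 1 +
        single o o 1 * pr g o * single o o 1) := by
      rw [single_pr_single, hp]
      have e0 : single o o (1 : ℍ[F]) = (1 - d)⁻¹ • (1 - d) • single o o (1 : ℍ[F]) := by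
        rw [smul_smul, hd', one_smul]
      nth_rewrite 4 [e0]
      module
    rw [this, Matrix.smul_apply, single_mul_mul_single]
    congr 1
    by_cases ha : a = o <;> by_cases hb : b = o <;> 
      simp [w, ha, hb, pr_apply, single_apply, eq_comm (a := o)]
  have h4 : ∀ a, h.1 a o = w a * ((1 - d)⁻¹ • ∑ b, star (w b) * h.1 b o) := fun a => by
    have e1 : pr h o * h.1 = h.1 * single o o (1 : ℍ[F]) := by
      rw [pr, mul_assoc, Unitary.coe_star_mul_self, mul_one]
    have e2 : (p * pr h o * h.1) a o = (pr h o * h.1) a o := by rw [h1]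
    rw [mul_assoc, e1, ← mul_assoc, mul_single_apply_same, mul_single_apply_same, mul_one, mul_one,
      ← sub_add_cancel p (single o o 1), add_mul, Matrix.add_apply, mul_apply] at e2
    rw [← e2, mul_smul_comm, Finset.mul_sum, Finset.smul_sum]
    have e3 : (single o o (1 : ℍ[F]) * h.1) a o = 0 := by
      by_cases ha : a = o
      · simp [ha, h2]
      · simp [ha]
    rw [e3, add_zero]
    exact Finset.sum_congr rfl fun b _ => by rw [h3, smul_mul_assoc, mul_assoc]
  set μ := (1 - d)⁻¹ • ∑ b, star (w b) * h.1 b o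
  have h5 : Quaternion.normSq μ = (1 - d)⁻¹ := by
    have := sum_normSq h o
    simp only [h4, map_mul] at this
    rw [← Finset.sum_mul, hw] at this
    exact eq_inv_of_mul_eq_one_right this
  ext1 a b
  rw [h3, pr_apply, h4 a, h4 b, star_mul, mul_assoc, ← mul_assoc μ, Quaternion.self_mul_star, h5,
    Quaternion.coe_mul_eq_smul, mul_smul_comm]

end Cfsg.Lib.Known.Pron
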