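import Cfsg.Agent.Known.PronBasic
import Cfsg.Agent.Known.PSL2Klein
import Cfsg.Agent.Class.PGL2Borel

/-! Subgroups of odd index in `PSL₂(q)`, `q` odd, are pronormal. -/

set_option autoImplicit false

namespace Cfsg.Lib.Known.Pron

open Cfsg.Lib.Class Cfsg.Lib.Known.GL2 MulAction
open scoped MatrixGroups

variable {F : Type*} [Field F]

theorem not_four_fix (h2 : (2 : F) ≠ 0) {a b : PGL(2, F)} (ha : a * a = 1) (hb : b * b = 1)
    (hab : a * b * (a * b) = 1) (ha1 : a ≠ 1) (hb1 : b ≠ 1) (hab1 : a * b ≠ 1)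
    (h1 : a • P1.inf F = P1.inf F) (h3 : b • P1.inf F = P1.inf F) : False := by
  have key : ∀ (α : Fˣ) (β : F), aff α β * aff α β = 1 → aff α β ≠ 1 → α = -1 := by
    intro α β h h'
    rw [aff_mul, aff_eq_one_iff] at h
    rcases mul_self_eq_one_iff.1 (show (α : F) * α = 1 from congrArg Units.val h.1) with e | e
    · exfalso
      refine h' (aff_eq_one_iff.2 ⟨Units.ext e, ?_⟩)
      have := h.2
      rw [e] at this
      exact (mul_eq_zero.1 (show 2 * β = 0 by linear_combination this)).resolve_left h2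
    · exact Units.ext e
  obtain ⟨α, β, rfl⟩ := exists_aff_of_smul_inf h1
  obtain ⟨γ, δ, rfl⟩ := exists_aff_of_smul_inf h3
  obtain rfl := key _ _ ha ha1
  obtain rfl := key _ _ hb hb1
  rw [aff_mul] at hab hab1
  have := congrArg Units.val (key _ _ hab hab1)
  simp only [neg_mul_neg, mul_one, Units.val_one, Units.val_neg] at this
  exact h2 (by linear_combination this)

theorem isCyclic_of_fix_inf [Finite F] (h2 : (2 : F) ≠ 0) {O : Subgroup PGL(2, F)}
    (hO : O ≤ stabilizer PGL(2, F) (P1.inf F)) {a b : PGL(2, F)} (ha : a * a = 1) (hb : b * b = 1)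
    (hab : a * b * (a * b) = 1) (ha1 : a ≠ 1) (hb1 : b ≠ 1) (hab1 : a * b ≠ 1)
    (h1 : ∀ o ∈ O, a * o * a⁻¹ ∈ O) (h3 : ∀ o ∈ O, b * o * b⁻¹ ∈ O) : IsCyclic O := by
  refine isCyclic_of_injective (chiInf.comp (Subgroup.inclusion hO))
    ((injective_iff_map_eq_one _).2 fun u hu => ?_)
  by_contra hne
  obtain ⟨α, β, e⟩ := exists_aff_of_smul_inf (hO u.2)
  have e1 : α = 1 := (chiInf_eq (g := Subgroup.inclusion hO u) e).symm.trans hu
  subst e1
  have hβ : β ≠ 0 := by
    rintro rfl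
    exact hne (Subtype.ext (e.trans aff_one))
  have key : ∀ c : PGL(2, F), c * c = 1 → (∀ o ∈ O, c * o * c⁻¹ ∈ O) → c • P1.inf F = P1.inf F := by
    intro c hc h
    have h4 : (c * u * c⁻¹) • P1.inf F = P1.inf F := hO (h u u.2)
    rw [inv_eq_of_mul_eq_one_right hc, mul_smul, mul_smul, smul_eq_iff_eq_inv_smul,
      inv_eq_of_mul_eq_one_right hc, e, aff_one_smul_eq_iff hβ] at h4
    exact h4
  exact not_four_fix h2 ha hb hab ha1 hb1 hab1 (key a ha h1) (key b hb h3)

theorem isCyclic_of_odd [Finite F] (h2 : (2 : F) ≠ 0) {O : Subgroup PGL(2, F)}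
    (hO : Odd (Nat.card O)) {a b : PGL(2, F)} (ha : a * a = 1) (hb : b * b = 1)
    (hab : a * b * (a * b) = 1) (ha1 : a ≠ 1) (hb1 : b ≠ 1) (hab1 : a * b ≠ 1)
    (h1 : ∀ o ∈ O, a * o * a⁻¹ ∈ O) (h3 : ∀ o ∈ O, b * o * b⁻¹ ∈ O) : IsCyclic O := by
  have : Fact (ringChar F).Prime := ⟨CharP.char_is_prime F _⟩
  have h4 : ¬ Nonempty (O ≃* alternatingGroup (Fin 5)) := fun ⟨e⟩ => by
    rw [Nat.card_congr e.toEquiv, nat_card_alternatingGroup] at hO
    revert hO; simp only [Nat.card_eq_fintype_card, Fintype.card_fin]; decide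
  rcases dickson_pgl' (ringChar F) O with ⟨x, hx⟩ | ⟨x, y, hT, -, hH⟩ | ⟨-, h | h | h⟩ | ⟨-, h⟩ |
    ⟨F₀, c, h5, h⟩
  · obtain ⟨c, rfl⟩ := pgl2_exists_smul_inf_eq x
    let φ := (MulAut.conj c⁻¹).toMonoidHom
    have hφ : Function.Injective φ := (MulAut.conj c⁻¹).injective
    have aux : ∀ a : PGL(2, F), (∀ o ∈ O, a * o * a⁻¹ ∈ O) →
        ∀ o ∈ O.map φ, φ a * o * (φ a)⁻¹ ∈ O.map φ := by
      rintro a h _ ⟨o, ho, rfl⟩
      exact ⟨_, h o ho, by rw [map_mul, map_mul, map_inv]⟩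
    have := isCyclic_of_fix_inf h2 (O := O.map φ) (a := φ a) (b := φ b) (by
        rintro _ ⟨o, ho, rfl⟩
        have : o • c • P1.inf F = c • P1.inf F := hx ho
        simp [φ, mul_smul, this]) (by rw [← map_mul, ha, map_one]) (by rw [← map_mul, hb, map_one])
      (by rw [← map_mul, ← map_mul, hab, map_one]) (by rwa [Ne, map_eq_one_iff _ hφ])
      (by rwa [Ne, map_eq_one_iff _ hφ]) (by rwa [← map_mul, Ne, map_eq_one_iff _ hφ])
      (aux a h1) (aux b h3)
    exact isCyclic_of_injective (O.equivMapOfInjective φ hφ).toMonoidHom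
      (O.equivMapOfInjective φ hφ).injective
  · refine isCyclic_of_le_fixPair hT.ne fun o ho => ?_
    by_cases e : o * o = 1
    · rw [eq_one_of_odd_of_two (k := 1) (hO.of_dvd_nat (Subgroup.orderOf_dvd_natCard _ ho))
        (by simpa [sq] using e)]
      exact one_mem _
    · exact mem_fixPair_of_mul_self_ne hT.ne (hH ho) e
  · obtain ⟨e⟩ := h
    rw [Nat.card_congr e.toEquiv, nat_card_alternatingGroup] at hO
    exact absurd hO (by simp only [Nat.card_eq_fintype_card, Fintype.card_fin]; decide)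
  · obtain ⟨e⟩ := h
    rw [Nat.card_congr e.toEquiv, Nat.card_perm] at hO
    exact absurd hO (by simp only [Nat.card_eq_fintype_card, Fintype.card_fin]; decide)
  · exact absurd h h4
  · exact absurd h h4
  · exfalso
    have h6 := card_pglSub F₀
    have h7 := gcd_mul_card_pslSub F₀
    generalize Nat.card F₀ = n at h5 h6 h7
    obtain ⟨n, rfl⟩ := Nat.exists_eq_add_of_le' (show 1 ≤ n by omega)
    rw [Nat.add_sub_cancel] at h6 h7
    rcases h with rfl | rfl <;> rw [card_map_conj] at hO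
    · rw [h6, Nat.odd_mul, Nat.odd_mul, Nat.odd_add_one] at hO
      exact hO.1.1 hO.1.2
    · obtain ⟨m, hm⟩ := hO
      rw [hm] at h7
      obtain ⟨l, rfl | rfl⟩ := Nat.even_or_odd' n
      · rw [Nat.gcd_eq_left (Dvd.intro _ rfl)] at h7
        have : 2 * m + 1 = 2 * ((2 * l + 1) * l * (l + 1)) := by nlinarith
        omega
      · rw [Nat.Coprime.gcd_eq_one (by simp)] at h7
        have : 2 * m + 1 = 2 * ((l + 1) * (2 * l + 1) * (2 * l + 3)) := by nlinarith
        omega

theorem oddPron_PSL2 [Fintype F] (h2 : (2 : F) ≠ 0) : OddPron (PSL2 F) := by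
  have hodd : Fintype.card F % 2 = 1 := FiniteField.odd_card_of_char_ne_two fun h => h2 (by
    have := ringChar.Nat.cast_ringChar (R := F); rwa [h] at this)
  by_cases hq : Fintype.card F % 8 = 1 ∨ Fintype.card F % 8 = 7
  · obtain ⟨P⟩ : Nonempty (Sylow 2 (SL2 F)) := inferInstance
    exact (OddPron.of_normalizer_le P (normalizer_sylow_two_eq h2 P hq).le).of_surjective _
      piSL_surjective
  replace hq : Fintype.card F % 8 = 3 ∨ Fintype.card F % 8 = 5 := by omega
  obtain ⟨P⟩ : Nonempty (Sylow 2 (PSL2 F)) := inferInstance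
  have hP := isKleinFour_sylow_PSL2 h2 hq P
  have hsq : ∀ a ∈ (P : Subgroup (PSL2 F)), a * a = 1 := fun a ha =>
    congrArg Subtype.val (IsKleinFour.mul_self (⟨a, ha⟩ : (P : Subgroup (PSL2 F))))
  refine OddPron.of_cyclic P (fun a ha b hb => ?_) Nat.prime_three ?_ fun O hO hn => ?_
  · have := hsq _ (mul_mem ha hb)
    rw [← inv_eq_of_mul_eq_one_right this, mul_inv_rev, inv_eq_of_mul_eq_one_right (hsq a ha),
      inv_eq_of_mul_eq_one_right (hsq b hb)]
  · have h1 : Nat.card (Sylow 2 (PSL2 F)) = Nat.card {V : Subgroup (PSL2 F) // IsKleinFour V} := by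
      refine Nat.card_congr (Equiv.ofBijective (fun Q => ⟨Q, isKleinFour_sylow_PSL2 h2 hq Q⟩)
        ⟨fun Q Q' e => Sylow.ext (congrArg Subtype.val e), fun V => ?_⟩)
      obtain ⟨Q, hQ⟩ := (IsPGroup.of_card (p := 2) (n := 2) V.2.card_four).exists_le_sylow
      exact ⟨Q, Subtype.ext (Subgroup.eq_of_le_of_card_ge hQ (by
        rw [V.2.card_four, two_pow_dvd_card_PSL2 h2 hq])).symm⟩
    have h3 := twelve_mul_card_klein h2
    rw [← h1, P.card_eq_index_normalizer, ← Subgroup.card_mul_index (Subgroup.normalizer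
      ((P : Subgroup (PSL2 F)) : Set (PSL2 F)))] at h3
    rw [show Nat.card P = 4 from hP.card_four]
    exact (Nat.eq_of_mul_eq_mul_right (Nat.pos_of_ne_zero Subgroup.index_ne_zero_of_finite) h3).symm
  · have : Nontrivial (P : Subgroup (PSL2 F)) :=
      Finite.one_lt_card_iff_nontrivial.1 (by rw [hP.card_four]; omega)
    obtain ⟨a, ha1⟩ := exists_ne (1 : (P : Subgroup (PSL2 F)))
    obtain ⟨b, hb1, hab⟩ : ∃ b : (P : Subgroup (PSL2 F)), b ≠ 1 ∧ b ≠ a := by
      by_contra hne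
      push Not at hne
      have : Nat.card (P : Subgroup (PSL2 F)) = 2 :=
        Nat.card_eq_two_iff' 1 |>.2 ⟨a, ha1, hne⟩
      rw [hP.card_four] at this
      omega
    have aux : ∀ c ∈ (P : Subgroup (PSL2 F)), ∀ o ∈ O.map pslι,
        pslι c * o * (pslι c)⁻¹ ∈ O.map pslι := by
      rintro c hc _ ⟨o, ho, rfl⟩
      exact ⟨_, hn c hc o ho, by rw [map_mul, map_mul, map_inv]⟩
    have := isCyclic_of_odd h2 (O := O.map pslι) (a := pslι a.1) (b := pslι b.1)
      (by rwa [card_map_pslι]) (by rw [← map_mul, hsq _ a.2, map_one])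
      (by rw [← map_mul, hsq _ b.2, map_one])
      (by rw [← map_mul, ← map_mul, hsq _ (mul_mem a.2 b.2), map_one])
      (by rw [Ne, map_eq_one_iff _ pslι_injective]; exact fun e => ha1 (Subtype.ext e))
      (by rw [Ne, map_eq_one_iff _ pslι_injective]; exact fun e => hb1 (Subtype.ext e))
      (by
        rw [← map_mul, Ne, map_eq_one_iff _ pslι_injective]
        exact fun e => hab (Subtype.ext (mul_left_cancel (e.trans (hsq _ a.2).symm))))
      (aux _ a.2) (aux _ b.2)
    exact isCyclic_of_injective (mapPslιEquiv O).toMonoidHom (mapPslιEquiv O).injective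

end Cfsg.Lib.Known.Pron
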