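import Cfsg.Agent.Known.PronIdem

/-! Overgroups of a Sylow 2-subgroup of a symplectic group: norms of matrix entries. -/

set_option autoImplicit false

namespace Cfsg.Lib.Known.Pron

open Matrix Cfsg
open scoped Quaternion commutatorElement

variable {F : Type*} [Field F] {κ : Type*} [Fintype κ] [DecidableEq κ]

/-- The unitary matrices fixing a matrix under left multiplication. -/
def fixSub (q : Matrix κ κ ℍ[F]) : Subgroup (unitary (Matrix κ κ ℍ[F])) where
  carrier := {a | a.1 * q = q}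
  one_mem' := Matrix.one_mul q
  mul_mem' {a b} ha hb := by
    change (a.1 * b.1) * q = q
    rw [Matrix.mul_assoc, hb, ha]
  inv_mem' {a} ha := by
    change star a.1 * q = q
    nth_rewrite 1 [← show a.1 * q = q from ha]
    rw [← Matrix.mul_assoc, a.2.1, Matrix.one_mul]

theorem fixSub_eq_1' : type_of% @fixSub.eq_1 := @fixSub.eq_1

theorem mem_fixSub {q : Matrix κ κ ℍ[F]} {a : unitary (Matrix κ κ ℍ[F])} :
    a ∈ fixSub q ↔ a.1 * q = q := Iff.rfl

theorem star_smul_quat (c : F) (A : Matrix κ κ ℍ[F]) : star (c • A) = c • star A := by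
  ext1 a b
  rw [star_apply, Matrix.smul_apply, Matrix.smul_apply, star_apply]
  ext <;> simp

theorem fo_injective (o : κ) : Function.Injective (fo (F := F) o) := fun u v e => by
  have := congrFun (dg_pm_inj (π := 1) (π' := 1) (congrArg (· * pm 1) e)).1 o
  simpa using this

theorem fo_neg_sq (o : κ) : fo (F := F) o (-1) * fo o (-1) = 1 := by
  rw [← map_mul, neg_mul_neg, one_mul, map_one]

theorem eq_or_eq_of_mem_zpowers {G : Type*} [Group G] {c x : G} (hc : c * c = 1)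
    (hx : x ∈ Subgroup.zpowers c) : x = 1 ∨ x = c := by
  obtain ⟨n, rfl⟩ := hx
  rcases Int.even_or_odd' n with ⟨k, rfl | rfl⟩
  · left; simp [_root_.zpow_mul, sq, hc]
  · right; simp [_root_.zpow_add, _root_.zpow_mul, sq, hc]

theorem mem_fixSub_of_odd (h2 : (2 : F) ≠ 0) {o : κ} {ζ : unitary (Matrix κ κ ℍ[F])}
    (hodd : Odd (orderOf ζ)) (h0 : ζ * fo o (-1) * ζ⁻¹ = fo o (-1))
    (hI : ζ * fo o (qI F) * ζ⁻¹ = fo o (qI F)) (hJ : ζ * fo o (qJ F) * ζ⁻¹ = fo o (qJ F)) :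
    ζ ∈ fixSub (single o o (1 : ℍ[F])) := by
  have hc := fun a (ha : a ≠ o) => apply_eq_zero_of_conj_eq h2 h0 ha
  let t : unitary ℍ[F] := ⟨ζ.1 o o, mem_unitary_quat.2 (normSq_eq_one_of_col hc)⟩
  rw [conj_fo_of_col hc (t := t) rfl, (fo_injective o).eq_iff, mul_inv_eq_iff_eq_mul] at hI hJ
  have e1 : t.1 * qm 0 1 0 0 = qm 0 1 0 0 * t.1 := congrArg Subtype.val hI
  have e2 : t.1 * qm 0 0 1 0 = qm 0 0 1 0 * t.1 := congrArg Subtype.val hJ
  have e3 := mem_unitary_quat.1 t.2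
  have a1 := congrArg (·.imJ) e1
  have a2 := congrArg (·.imK) e1
  have a3 := congrArg (·.imK) e2
  simp only [Quaternion.imJ_mul, Quaternion.imK_mul, qm_re, qm_imI, qm_imJ, qm_imK] at a1 a2 a3
  have b1 : t.1.imK = 0 := mul_left_cancel₀ h2 (by linear_combination a1)
  have b2 : t.1.imJ = 0 := mul_left_cancel₀ h2 (by linear_combination -a2)
  have b3 : t.1.imI = 0 := mul_left_cancel₀ h2 (by linear_combination a3)
  have e4 : t.1 * t.1 = 1 := by
    rw [Quaternion.normSq_def', b1, b2, b3] at e3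
    ext <;> simp [b1, b2, b3]
    linear_combination e3
  have e5 : ∀ h : ℍ[F], ζ.1 * single o o h = single o o (t.1 * h) := fun h => by
    ext1 a b
    by_cases ha : a = o <;> by_cases hb : b = o <;>
      simp [ha, hb, t, hc, single_apply, eq_comm (a := o)]
  have e6 : ζ * ζ ∈ fixSub (single o o (1 : ℍ[F])) := by
    rw [mem_fixSub, Submonoid.coe_mul, Matrix.mul_assoc, e5, e5, mul_one, e4]
  obtain ⟨m, hm⟩ := hodd
  have e7 : ζ = (ζ * ζ) ^ (m + 1) := by
    rw [← sq, ← pow_mul, show 2 * (m + 1) = orderOf ζ + 1 by omega, pow_succ, pow_orderOf_eq_one,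
      one_mul]
  exact e7 ▸ pow_mem e6 _

theorem sq_eq_one_of_comm (h2 : (2 : F) ≠ 0) {o : κ} {y ζ b : unitary (Matrix κ κ ℍ[F])}
    (hy : y * y = 1) {γ : F} (hγ : y.1 o o = γ) (hζ : ζ ∈ fixSub (single o o (1 : ℍ[F])))
    (hb : b = fo o (-1) * y) (h : b * (fo o (qI F) * b * (fo o (qI F))⁻¹) =
      fo o (qI F) * b * (fo o (qI F))⁻¹ * b * ζ) : γ * γ = 1 := by
  have e1 : fo o (-1) * (y * fo o (qI F * -1) * y) * fo o (qI F)⁻¹ =
      fo o (qI F * -1) * (y * fo o ((qI F)⁻¹ * -1) * y) * ζ := by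
    simpa only [hb, map_mul, map_inv, mul_assoc] using h
  have e2 : ∀ A : Matrix κ κ ℍ[F], (A * ζ.1) o o = A o o := fun A => by
    have : (A * ζ.1 * single o o (1 : ℍ[F])) o o = (A * single o o (1 : ℍ[F])) o o := by
      rw [Matrix.mul_assoc, mem_fixSub.1 hζ]
    simpa using this
  have e3 := congrFun (congrFun (congrArg Subtype.val e1) o) o
  have e4 : y.1 * y.1 = 1 := congrArg Subtype.val hy
  simp only [Submonoid.coe_mul, e2, mul_fo_apply, fo_mul_apply, mul_fo_mul_apply, e4, if_true,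
    one_apply_eq, hγ, Unitary.coe_neg, coe_inv_unitary, coe_qI] at e3
  have e5 := congrArg (·.imI) e3
  simp at e5
  exact mul_left_cancel₀ h2 (by linear_combination -e5)

variable [Fintype F] (h2 : (2 : F) ≠ 0) (Q : QSyl κ F) {L : Subgroup (unitary (Matrix κ κ ℍ[F]))}
  (hS : (Q.S : Subgroup (unitary (Matrix κ κ ℍ[F]))) ≤ L) {o : κ}
  (H0 : ∀ g ∈ L, g * fo o (-1) * g⁻¹ ∈ (Q.S : Subgroup (unitary (Matrix κ κ ℍ[F]))) →
    ∃ k, g * fo o (-1) * g⁻¹ = fo k (-1))
  (H1 : ∀ l ∈ L, l * fo o (-1) * l⁻¹ = fo o (-1) → ∀ u ∈ (Q.P : Subgroup (unitary ℍ[F])),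
    l * fo o u * l⁻¹ ∈ (Q.P : Subgroup (unitary ℍ[F])).map (fo o))

omit [Fintype F] in
theorem QSyl.dg_mem {d : κ → unitary ℍ[F]} (hd : ∀ a, d a ∈ (Q.P : Subgroup (unitary ℍ[F]))) :
    dg d ∈ (Q.S : Subgroup (unitary (Matrix κ κ ℍ[F]))) :=
  (Q.mem _).2 ⟨d, hd, 1, one_mem _, by rw [map_one, mul_one]⟩

omit [Fintype F] in
theorem QSyl.pm_mem {π : Equiv.Perm κ} (h : π ∈ (Q.T : Subgroup (Equiv.Perm κ))) :
    pm π ∈ (Q.S : Subgroup (unitary (Matrix κ κ ℍ[F]))) :=
  (Q.mem _).2 ⟨1, fun _ => one_mem _, π, h, by rw [map_one, one_mul]⟩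

omit [Fintype F] in
theorem QSyl.fo_mem (k : κ) {u : unitary ℍ[F]} (h : u ∈ (Q.P : Subgroup (unitary ℍ[F]))) :
    fo k u ∈ (Q.S : Subgroup (unitary (Matrix κ κ ℍ[F]))) :=
  Q.dg_mem fun a => by
    rw [MonoidHom.mulSingle_apply, Pi.mulSingle_apply]
    split_ifs
    · exact h
    · exact one_mem _

omit [Fintype F] in
theorem QSyl.neg_one_mem : -1 ∈ (Q.P : Subgroup (unitary ℍ[F])) := qI_sq (F := F) ▸ mul_mem Q.hI Q.hI

include h2 hS H0

theorem eq_or_orth {g : unitary (Matrix κ κ ℍ[F])} (hg : g ∈ L)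
    {P : Subgroup (unitary (Matrix κ κ ℍ[F]))} (hP : IsPGroup 2 P) (hPL : P ≤ L)
    (hx : fo o (-1) ∈ P) (hy : g * fo o (-1) * g⁻¹ ∈ P) :
    g * fo o (-1) * g⁻¹ = fo o (-1) ∨ g.1 o o = 0 := by
  have := finite_quat (F := F)
  obtain ⟨l, hl, h⟩ := exists_conj_mem_of_le Q.S hS hP hPL
  obtain ⟨k, hk⟩ := H0 l hl (h _ hx)
  obtain ⟨k', hk'⟩ := H0 (l * g) (mul_mem hl hg) (by simpa [mul_assoc] using h _ hy)
  by_cases e : k = k'
  · left
    rw [← e, ← hk] at hk'
    simpa [← mul_assoc] using (by simpa [mul_assoc] using hk' :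
      g * (fo o (-1) * (g⁻¹ * l⁻¹)) = fo o (-1) * l⁻¹)
  · right
    rw [show g.1 = star l.1 * (l * g).1 by
      rw [Submonoid.coe_mul, ← Matrix.mul_assoc, l.2.1, Matrix.one_mul], mul_apply]
    refine Finset.sum_eq_zero fun a _ => ?_
    by_cases ha : a = k
    · rw [apply_eq_zero_of_conj_eq h2 hk' (ha ▸ e), mul_zero]
    · rw [star_apply, apply_eq_zero_of_conj_eq h2 hk ha, star_zero, zero_mul]

include H1

theorem normSq_of_odd {g : unitary (Matrix κ κ ℍ[F])} (hg : g ∈ L)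
    (hodd : Odd (orderOf (fo o (-1) * (g * fo o (-1) * g⁻¹)))) :
    Quaternion.normSq (g.1 o o) = 1 := by
  have := finite_quat (F := F)
  by_contra hd
  obtain ⟨p, hp⟩ : ∃ p : Matrix κ κ ℍ[F], p = (1 - Quaternion.normSq (g.1 o o))⁻¹ •
    (single o o 1 + pr g o - single o o 1 * pr g o - pr g o * single o o 1) := ⟨_, rfl⟩
  obtain ⟨p1, p2, p3⟩ := idem_proj (single_one_sq o) (pr_mul_pr g o) (single_pr_single g o)
    (pr_single_pr g o) hd hp
  have p4 : star p = p := by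
    rw [hp, star_smul_quat, star_sub, star_sub, star_add, star_mul, star_mul, star_pr,
      star_single_one, sub_right_comm]
  have p5 : single o o 1 * p = single o o 1 := by
    simpa only [star_mul, p4, star_single_one] using congrArg star p1
  have p6 : pr g o * p = pr g o := by simpa only [star_mul, p4, star_pr] using congrArg star p2
  have c1 : (1 - (2 : F) • p) * (1 - (2 : F) • p) = 1 := by
    simp only [mul_sub, sub_mul, smul_mul_assoc, mul_smul_comm, one_mul, mul_one, p3]; module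
  have c2 : star (1 - (2 : F) • p) = 1 - (2 : F) • p := by rw [star_sub, star_smul_quat, p4, star_one]
  let c : unitary (Matrix κ κ ℍ[F]) := ⟨1 - (2 : F) • p, by rw [Unitary.mem_iff, c2, c1, and_self]⟩
  have c3 : c * c = 1 := Subtype.ext c1
  let X := L ⊓ fixSub (1 - p)
  have hXp : ∀ a ∈ X, p * a.1 = a.1 * p := fun a ha => by
    have e1 : a.1 * (1 - p) = 1 - p := ha.2
    have e2 : star a.1 * (1 - p) = 1 - p := (inv_mem ha).2
    have e3 := congrArg star e2
    rw [star_mul, star_star, star_sub, star_one, p4] at e3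
    replace e3 := e3.trans e1.symm
    rw [sub_mul, mul_sub, one_mul, mul_one] at e3
    exact sub_right_injective e3
  have hfo : ∀ u ∈ (Q.P : Subgroup (unitary ℍ[F])), fo o u ∈ X := fun u hu =>
    Subgroup.mem_inf.2 ⟨hS (Q.fo_mem o hu), by
      rw [mem_fixSub, coe_fo, add_mul, one_mul, show single o o ((u : ℍ[F]) - 1) =
        single o o ((u : ℍ[F]) - 1) * single o o 1 by simp, mul_assoc, mul_sub _ _ p, mul_one, p5,
        sub_self, mul_zero, add_zero]⟩
  let x : X := ⟨fo o (-1), hfo _ Q.neg_one_mem⟩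
  let y : X := ⟨g * fo o (-1) * g⁻¹, Subgroup.mem_inf.2
    ⟨mul_mem (mul_mem hg (hS (Q.fo_mem o Q.neg_one_mem))) (inv_mem hg), by
    rw [mem_fixSub, coe_conj_neg, sub_mul, one_mul, smul_mul_assoc, mul_sub _ _ p,
      mul_one, p6, sub_self, smul_zero, sub_zero]⟩⟩
  have hx : x * x = 1 := Subtype.ext (fo_neg_sq o)
  have hy : y * y = 1 := Subtype.ext (by
    change g * fo o (-1) * g⁻¹ * (g * fo o (-1) * g⁻¹) = 1
    rw [conj_mul, fo_neg_sq, mul_one, mul_inv_cancel])
  have hne : ¬ g * fo o (-1) * g⁻¹ = fo o (-1) := fun e =>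
    hd (normSq_eq_one_of_col fun a ha => apply_eq_zero_of_conj_eq h2 e ha)
  obtain ⟨O, hO, hOodd, hOmem⟩ := exists_odd_normal hx (Z := (Subgroup.zpowers c).subgroupOf X)
    (fun z hz => Subgroup.mem_center_iff.2 fun a => Subtype.ext (by
      have : Commute c a.1 := Subtype.ext (by
        change (1 - (2 : F) • p) * a.1.1 = a.1.1 * (1 - (2 : F) • p)
        rw [sub_mul, mul_sub, smul_mul_assoc, mul_smul_comm, hXp a a.2, one_mul, mul_one])
      obtain ⟨n, hn⟩ := Subgroup.mem_subgroupOf.1 hz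
      rw [Subgroup.coe_mul, Subgroup.coe_mul, ← hn]
      exact (this.zpow_left n).eq.symm))
    (isPGroup_zpowers' (k := 1) (by rw [pow_one, sq, c3])).comap_subtype
    (fun hz => by
      rcases eq_or_eq_of_mem_zpowers c3 (Subgroup.mem_subgroupOf.1 hz) with e | e
      · have e1 : (-1 : unitary ℍ[F]) = 1 := fo_injective o (e.trans (map_one _).symm)
        have e2 := congrArg (fun u : unitary ℍ[F] => u.1.re) e1
        simp only [Unitary.coe_neg, OneMemClass.coe_one, Quaternion.re_neg, Quaternion.re_one] at e2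
        exact h2 (by linear_combination -e2)
      · have e1 := congrArg Subtype.val e
        rw [coe_fo_neg, sub_right_inj] at e1
        rw [← smul_right_injective _ h2 e1] at p2
        refine hd (normSq_eq_one_of_col fun a ha => ?_)
        have e2 : pr g o * g.1 = g.1 * single o o (1 : ℍ[F]) := by
          rw [pr, mul_assoc, g.2.1, mul_one]
        rw [← p2, mul_assoc] at e2
        simpa [ha] using (congrFun (congrFun e2 a) o).symm)
    (fun h ⟨P, hP, m1, m2⟩ => by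
      rw [Subgroup.mem_subgroupOf]
      rcases eq_or_orth h2 Q hS H0 h.2.1 (hP.map X.subtype)
        ((Subgroup.map_subtype_le _).trans inf_le_left) ⟨_, m1, rfl⟩ ⟨_, m2, rfl⟩ with e | e
      · change h.1 * fo o (-1) * h.1⁻¹ * (fo o (-1))⁻¹ ∈ _
        rw [e, mul_inv_cancel]; exact one_mem _
      · have e1 := pr_eq_sub hd hp (by
          rw [pr, ← mul_assoc, ← mul_assoc, hXp h h.2, mul_assoc h.1.1, p1]) e
        have e2 : h.1 * fo o (-1) * h.1⁻¹ = c * fo o (-1) := Subtype.ext (by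
          rw [coe_conj_neg, Submonoid.coe_mul, coe_fo_neg, e1]
          simp only [c, mul_sub, sub_mul, smul_mul_assoc, mul_smul_comm, one_mul, mul_one, p1]
          module)
        change h.1 * fo o (-1) * h.1⁻¹ * (fo o (-1))⁻¹ ∈ _
        rw [e2, mul_inv_cancel_right]; exact Subgroup.mem_zpowers c)
  have hord : orderOf (x * y) = orderOf (fo o (-1) * (g * fo o (-1) * g⁻¹)) :=
    (Subgroup.orderOf_coe (x * y)).symm
  have hxa : x * (x * y) * x⁻¹ = (x * y)⁻¹ := by
    rw [← mul_assoc, hx, one_mul, _root_.mul_inv_rev, inv_eq_of_mul_eq_one_right hy]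
  have haO := hOmem (x * y) (hord ▸ hodd) hxa
  have : Nonempty κ := ⟨o⟩
  obtain ⟨q, hq⟩ := CharP.exists F
  have hq' : Fact q.Prime := ⟨CharP.char_is_prime F q⟩
  have : CharP (Matrix κ κ ℍ[F]) q := charP_of_injective_algebraMap (algebraMap F _).injective q
  have hq2 : q ≠ 2 := by
    rintro rfl
    exact h2 (by exact_mod_cast CharP.cast_eq_zero F 2)
  obtain ⟨r, hr, hrn, hrq⟩ : ∃ r, r.Prime ∧ r ∣ orderOf (x * y) ∧ r ≠ q := by
    by_contra hne'
    push Not at hne'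
    have e1 := Nat.eq_prime_pow_of_unique_prime_dvd (orderOf_pos (x * y)).ne'
      fun {r} hr h => hne' r hr h
    have e2 := eq_one_of_cubic h2 (cubic_conj g o rfl) hd (p := q) (by
      rw [← SubmonoidClass.coe_pow, ← e1, hord, pow_orderOf_eq_one, OneMemClass.coe_one])
    have e3 : fo o (-1) * (g * fo o (-1) * g⁻¹) = 1 := Subtype.ext e2
    exact hne (mul_left_cancel (e3.trans (fo_neg_sq o).symm))
  have := Fact.mk hr
  have ha' := orderOf_pow_orderOf_div (orderOf_pos (x * y)).ne' hrn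
  let i : X := ⟨fo o (qI F), hfo _ Q.hI⟩
  obtain ⟨b, hb, hb1, ⟨k, hk⟩, hxb, hζ⟩ := exists_inverted hOodd (i := i) (x := x) (r := r) (k := 1)
    (Subtype.ext (by change fo o (qI F) * fo o (qI F) = fo o (-1); rw [← map_mul, qI_sq])) hx
    (pow_mem haO (orderOf (x * y) / r))
    (fun e => hr.one_lt.ne (by rw [← ha', e, orderOf_one]))
    (orderOf_dvd_iff_pow_eq_one.1 (by rw [ha', pow_one])) (by rw [← conj_pow, hxa, inv_pow])
  set ζ := ⁅b⁻¹, (i * b * i⁻¹)⁻¹⁆ with hζ'
  have hζO : ζ ∈ O := by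
    have := hO.conj_mem b hb i
    exact mul_mem (mul_mem (mul_mem (inv_mem hb) (inv_mem this)) (inv_mem (inv_mem hb)))
      (inv_mem (inv_mem this))
  have hodd' : ∀ s ∈ O, Odd (orderOf s) := fun s hs =>
    hOodd.of_dvd_nat (Subgroup.orderOf_dvd_natCard _ hs)
  have z0 : ζ.1 * fo o (-1) * ζ.1⁻¹ = fo o (-1) :=
    congrArg Subtype.val (mul_inv_eq_iff_eq_mul.2 hζ.eq.symm : ζ * x * ζ⁻¹ = x)
  have z1 : ∀ u ∈ (Q.P : Subgroup (unitary ℍ[F])), ζ.1 * fo o u * ζ.1⁻¹ = fo o u := fun u hu => by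
    obtain ⟨n, hn⟩ := Q.P.isPGroup'.map (fo o) ⟨_, mul_mem (H1 ζ ζ.2.1 z0 u hu)
      (inv_mem ⟨u, hu, rfl⟩)⟩
    have e1 := hodd' _ (mul_mem hζO (hO.conj_mem _ (inv_mem hζO) ⟨_, hfo u hu⟩))
    rw [← Subgroup.orderOf_coe] at e1
    have e2 := eq_one_of_odd_of_two e1 (k := n) (by
      simpa [mul_assoc] using congrArg Subtype.val hn)
    simpa [mul_assoc, mul_inv_eq_iff_eq_mul, ← mul_assoc] using e2
  have z2 := mem_fixSub_of_odd h2 (by rw [Subgroup.orderOf_coe]; exact hodd' ζ hζO) z0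
    (z1 _ Q.hI) (z1 _ Q.hJ)
  obtain ⟨j, hj⟩ := exists_conj_of_odd hxb (hodd' b hb)
  have z3 : b.1 = fo o (-1) * ((b ^ j).1 * fo o (-1) * (b ^ j).1⁻¹) :=
    congrArg Subtype.val (by rw [hj, ← mul_assoc, hx, one_mul] : b = x * (b ^ j * x * (b ^ j)⁻¹))
  have z4 := sq_eq_one_of_comm h2 (by rw [conj_mul, fo_neg_sq, mul_one, mul_inv_cancel])
    (conj_neg_apply (b ^ j).1 o) z2 z3 (congrArg Subtype.val (by
      rw [hζ', commutatorElement_def]; group : b * (i * b * i⁻¹) = i * b * i⁻¹ * b * ζ))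
  have z5 := pow_of_cubic (cubic_conj (b ^ j).1 o (congrArg Subtype.val z3)) (by
    rw [← sub_eq_zero (b := 1), ← mul_eq_zero]
    exact mul_left_cancel₀ (mul_ne_zero h2 h2) (by linear_combination z4)) hq2
  have z6 : b ^ (2 * q) = 1 := Subtype.ext (Subtype.ext z5)
  have z7 : r ≠ 2 := by
    rintro rfl
    exact (Nat.not_even_iff_odd.2 (hord ▸ hodd)) (even_iff_two_dvd.2 hrn)
  refine hb1 (orderOf_eq_one_iff.1 (Nat.eq_one_of_dvd_coprimes ?_
    (orderOf_dvd_of_pow_eq_one hk) (orderOf_dvd_of_pow_eq_one z6)))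
  exact Nat.Coprime.pow_left k (Nat.Coprime.mul_right ((Nat.coprime_primes hr Nat.prime_two).2 z7)
    ((Nat.coprime_primes hr hq'.out).2 hrq))

theorem normSq_diag {g : unitary (Matrix κ κ ℍ[F])} (hg : g ∈ L) :
    Quaternion.normSq (g.1 o o) = 0 ∨ Quaternion.normSq (g.1 o o) = 1 := by
  have := finite_quat (F := F)
  have hx : fo o (-1) ∈ L := hS (Q.fo_mem o Q.neg_one_mem)
  induction hn : orderOf (fo o (-1) * (g * fo o (-1) * g⁻¹)) using Nat.strong_induction_on
    generalizing g with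
  | _ n ih =>
  rcases Nat.even_or_odd n with he | ho
  swap
  · exact Or.inr (normSq_of_odd h2 Q hS H0 H1 hg (hn ▸ ho))
  set y := g * fo o (-1) * g⁻¹ with hy
  have hyy : y * y = 1 := by rw [hy, conj_mul, fo_neg_sq, mul_one, mul_inv_cancel]
  have hyL : y ∈ L := mul_mem (mul_mem hg hx) (inv_mem hg)
  have h3 := ih (n / 2) (Nat.div_lt_self (hn ▸ orderOf_pos _) one_lt_two) hyL (by
    rw [inv_eq_of_mul_eq_one_right hyy, ← hn, mul_assoc, ← mul_assoc, ← sq,
      orderOf_pow_of_dvd two_ne_zero (hn ▸ even_iff_two_dvd.1 he)])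
  rw [hy, conj_neg_apply, Quaternion.normSq_coe] at h3
  rcases h3 with h3 | h3
  · have h4 := pow_four_of_cubic (cubic_conj g o rfl)
      (by linear_combination -(pow_eq_zero_iff two_ne_zero).1 h3)
    have h5 : fo o (-1) * (fo o (-1) * y) * (fo o (-1))⁻¹ = (fo o (-1) * y)⁻¹ := by
      rw [← mul_assoc, fo_neg_sq, one_mul, _root_.mul_inv_rev, inv_eq_of_mul_eq_one_right hyy]
    rcases eq_or_orth h2 Q hS H0 hg (isPGroup_dihedral (fo_neg_sq o) h5 (k := 2) (Subtype.ext h4))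
      (sup_le (Subgroup.zpowers_le.2 hx) (Subgroup.zpowers_le.2 (mul_mem hx hyL)))
      (Subgroup.mem_sup_left (Subgroup.mem_zpowers _)) (by
        have := mul_mem (Subgroup.mem_sup_left (T := Subgroup.zpowers (fo o (-1) * y))
          (Subgroup.mem_zpowers (fo o (-1)))) (Subgroup.mem_sup_right (Subgroup.mem_zpowers _))
        rwa [← mul_assoc (fo o (-1)) (fo o (-1)) y, fo_neg_sq, one_mul] at this) with e | e
    · exact Or.inr (normSq_eq_one_of_col fun a ha => apply_eq_zero_of_conj_eq h2 e ha)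
    · exact Or.inl (by rw [e, map_zero])
  · rw [← sub_eq_zero (b := 1), ← mul_eq_zero]
    exact mul_left_cancel₀ (mul_ne_zero h2 h2) (by linear_combination h3)

end Cfsg.Lib.Known.Pron
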