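import Cfsg.Agent.Known.PronCop
import Cfsg.Agent.Known.PronL2
import Cfsg.Agent.Known.PronCls
import Cfsg.Agent.Char.SylEALin

/-! The symplectic group as a unitary group over the split quaternions. -/

set_option autoImplicit false

namespace Cfsg.Lib.Known.Pron

open Matrix Cfsg Cfsg.Lib.Char Cfsg.Lib.Known.GL2 Cfsg.Lib.Class
open scoped Quaternion Pointwise

variable {F : Type*} [Field F]

/-- The splitting of the quaternions. -/
def qφ {α β : F} (h : α ^ 2 + β ^ 2 = -1) : ℍ[F] →+* Matrix (Fin 2) (Fin 2) F where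
  toFun x := !![x.re + x.imI * α + x.imK * β, x.imI * β - x.imJ - x.imK * α;
    x.imI * β + x.imJ - x.imK * α, x.re - x.imI * α - x.imK * β]
  map_one' := by ext i j; fin_cases i <;> fin_cases j <;> simp
  map_zero' := by ext i j; fin_cases i <;> fin_cases j <;> simp
  map_add' x y := by ext i j; fin_cases i <;> fin_cases j <;> simp <;> ring
  map_mul' x y := by
    ext i j
    fin_cases i <;> fin_cases j <;> simp [mul_apply, Fin.sum_univ_two]
    · linear_combination (-(x.imI * y.imI) - x.imK * y.imK) * h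
    · linear_combination (-(x.imK * y.imI) + x.imI * y.imK) * h
    · linear_combination (x.imK * y.imI - x.imI * y.imK) * h
    · linear_combination (-(x.imI * y.imI) - x.imK * y.imK) * h

theorem qφ_eq_1' : type_of% @qφ.eq_1 := @qφ.eq_1

variable {α β : F} (h : α ^ 2 + β ^ 2 = -1)

theorem qφ_apply (x : ℍ[F]) : qφ h x = !![x.re + x.imI * α + x.imK * β,
    x.imI * β - x.imJ - x.imK * α; x.imI * β + x.imJ - x.imK * α,
    x.re - x.imI * α - x.imK * β] := rfl

theorem det_qφ (x : ℍ[F]) : (qφ h x).det = Quaternion.normSq x := by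
  rw [qφ_apply, det_fin_two_of, Quaternion.normSq_def']
  linear_combination (-(x.imI ^ 2) - x.imK ^ 2) * h

theorem qφ_bijective (h2 : (2 : F) ≠ 0) : Function.Bijective (qφ h) := by
  constructor
  · rw [injective_iff_map_eq_zero]
    intro x hx
    have e00 : x.re + x.imI * α + x.imK * β = 0 := congrFun (congrFun hx 0) 0
    have e01 : x.imI * β - x.imJ - x.imK * α = 0 := congrFun (congrFun hx 0) 1
    have e10 : x.imI * β + x.imJ - x.imK * α = 0 := congrFun (congrFun hx 1) 0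
    have e11 : x.re - x.imI * α - x.imK * β = 0 := congrFun (congrFun hx 1) 1
    ext <;> refine mul_left_cancel₀ h2 ?_
    · simp only [Quaternion.re_zero]; linear_combination e00 + e11
    · simp only [Quaternion.imI_zero]
      linear_combination 2 * x.imI * h - α * (e00 - e11) - β * (e01 + e10)
    · simp only [Quaternion.imJ_zero]; linear_combination e10 - e01
    · simp only [Quaternion.imK_zero]
      linear_combination 2 * x.imK * h - β * (e00 - e11) + α * (e01 + e10)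
  · intro A
    refine ⟨⟨(A 0 0 + A 1 1) / 2, -(α * (A 0 0 - A 1 1) + β * (A 0 1 + A 1 0)) / 2,
      (A 1 0 - A 0 1) / 2, (α * (A 0 1 + A 1 0) - β * (A 0 0 - A 1 1)) / 2⟩, ?_⟩
    refine (qφ_apply h _).trans ?_
    ext i j
    fin_cases i <;> fin_cases j <;> simp <;> field_simp
    · linear_combination (A 1 1 - A 0 0) * h
    · linear_combination (-A 0 1 - A 1 0) * h
    · linear_combination (-A 0 1 - A 1 0) * h
    · linear_combination (A 0 0 - A 1 1) * h

theorem mem_unitary_quat {x : ℍ[F]} : x ∈ unitary ℍ[F] ↔ Quaternion.normSq x = 1 := by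
  rw [Unitary.mem_iff, Quaternion.star_mul_self, Quaternion.self_mul_star, and_self,
    ← Quaternion.coe_one, Quaternion.coe_inj]

/-- Unit quaternions are the special linear group. -/
noncomputable def unitEquiv (h2 : (2 : F) ≠ 0) : unitary ℍ[F] ≃* SL2 F :=
  MulEquiv.ofBijective (⟨⟨fun x => ⟨qφ h x, (det_qφ h x).trans (mem_unitary_quat.1 x.2)⟩,
    Subtype.ext (map_one (qφ h))⟩, fun x y => Subtype.ext (map_mul (qφ h) x.1 y.1)⟩ :
      unitary ℍ[F] →* SL2 F)
    ⟨fun _ _ e => Subtype.ext ((qφ_bijective h h2).1 (congrArg Subtype.val e)), fun A => by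
      obtain ⟨x, hx⟩ := (qφ_bijective h h2).2 A.1
      exact ⟨⟨x, mem_unitary_quat.2 (by rw [← det_qφ h, hx, A.2])⟩, Subtype.ext hx⟩⟩

theorem unitEquiv_eq_1' : type_of% @unitEquiv.eq_1 := @unitEquiv.eq_1

variable {κ : Type*} [Fintype κ] [DecidableEq κ]

/-- Coordinates for the block decomposition. -/
def twoEquiv (κ : Type*) : κ × Fin 2 ≃ κ ⊕ κ where
  toFun x := if x.2 = 0 then Sum.inl x.1 else Sum.inr x.1
  invFun := Sum.elim (fun a => (a, 0)) fun a => (a, 1)
  left_inv x := by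
    obtain ⟨a, i⟩ := x
    fin_cases i <;> simp
  right_inv x := by rcases x with a | a <;> simp

theorem twoEquiv_eq_1' : type_of% @twoEquiv.eq_1 := @twoEquiv.eq_1

/-- Quaternion matrices as block matrices. -/
noncomputable def qΦ (h2 : (2 : F) ≠ 0) : Matrix κ κ ℍ[F] ≃+* Matrix (κ ⊕ κ) (κ ⊕ κ) F :=
  ((RingEquiv.ofBijective (qφ h) (qφ_bijective h h2)).mapMatrix.trans
    (compRingEquiv κ (Fin 2) F)).trans (reindexRingEquiv F (twoEquiv κ))

theorem qΦ_eq_1' : type_of% @qΦ.eq_1 := @qΦ.eq_1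

theorem qΦ_apply (h2 : (2 : F) ≠ 0) (A : Matrix κ κ ℍ[F]) : qΦ h h2 A =
    fromBlocks (of fun a b => qφ h (A a b) 0 0) (of fun a b => qφ h (A a b) 0 1)
      (of fun a b => qφ h (A a b) 1 0) (of fun a b => qφ h (A a b) 1 1) := by
  ext (a | a) (b | b) <;> rfl

theorem qΦ_star (h2 : (2 : F) ≠ 0) (A : Matrix κ κ ℍ[F]) :
    J κ F * (qΦ h h2 A)ᵀ = qΦ h h2 (star A) * J κ F := by
  rw [qΦ_apply, qΦ_apply, J, fromBlocks_transpose, fromBlocks_multiply, fromBlocks_multiply]
  ext (a | a) (b | b) <;> simp [qφ_apply] <;> ring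

theorem qΦ_mem_iff (h2 : (2 : F) ≠ 0) {A : Matrix κ κ ℍ[F]} :
    qΦ h h2 A ∈ symplecticGroup κ F ↔ A ∈ unitary (Matrix κ κ ℍ[F]) := by
  have hJ : J κ F * -J κ F = 1 := by rw [Matrix.mul_neg, J_squared, neg_neg]
  rw [SymplecticGroup.mem_iff, Matrix.mul_assoc, qΦ_star, ← Matrix.mul_assoc, Unitary.mem_iff]
  constructor
  · intro e
    have e1 : qΦ h h2 A * qΦ h h2 (star A) = 1 := by
      rw [← Matrix.mul_one (_ * _), ← hJ, ← Matrix.mul_assoc, e]
    exact ⟨(qΦ h h2).injective (by rw [map_mul, map_one, mul_eq_one_comm.1 e1]),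
      (qΦ h h2).injective (by rw [map_mul, map_one, e1])⟩
  · intro e
    rw [← map_mul, e.2, map_one, Matrix.one_mul]

/-- The symplectic group is the unitary group over the quaternions. -/
noncomputable def spEquiv (h2 : (2 : F) ≠ 0) :
    unitary (Matrix κ κ ℍ[F]) ≃* symplecticGroup κ F where
  toFun A := ⟨qΦ h h2 A, (qΦ_mem_iff h h2).2 A.2⟩
  invFun B := ⟨(qΦ h h2).symm B, (qΦ_mem_iff h h2).1 (by simp)⟩
  left_inv A := Subtype.ext (by simp)
  right_inv B := Subtype.ext (by simp)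
  map_mul' A B := Subtype.ext (map_mul (qΦ h h2) A.1 B.1)

theorem spEquiv_eq_1' : type_of% @spEquiv.eq_1 := @spEquiv.eq_1

theorem loc1_PSL2 [Fintype F] (h2 : (2 : F) ≠ 0)
    (hq : Fintype.card F % 8 = 3 ∨ Fintype.card F % 8 = 5) (P : Sylow 2 (PSL2 F)) :
    Loc1 (P : Subgroup (PSL2 F)) := by
  intro H hH g hg
  by_cases hg' : g ∈ (P : Subgroup (PSL2 F))
  · exact Or.inl ((le_sup_left : H ≤ _) (hH hg'))
  have hP := isKleinFour_sylow_PSL2 h2 hq P
  have hsq : ∀ a ∈ (P : Subgroup (PSL2 F)), a * a = 1 := fun a ha =>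
    congrArg Subtype.val (IsKleinFour.mul_self (⟨a, ha⟩ : (P : Subgroup (PSL2 F))))
  have hab : ∀ a ∈ (P : Subgroup (PSL2 F)), ∀ b ∈ (P : Subgroup (PSL2 F)), a * b = b * a :=
    fun a ha b hb => by
      have := hsq _ (mul_mem ha hb)
      rw [← inv_eq_of_mul_eq_one_right this, _root_.mul_inv_rev,
        inv_eq_of_mul_eq_one_right (hsq a ha), inv_eq_of_mul_eq_one_right (hsq b hb)]
  have hex : ∀ a : (P : Subgroup (PSL2 F)), a ≠ 1 → ∃ b : (P : Subgroup (PSL2 F)), b ≠ 1 ∧ b ≠ a :=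
    fun a ha1 => by
      by_contra hne
      push Not at hne
      have : Nat.card (P : Subgroup (PSL2 F)) = 2 :=
        Nat.card_eq_two_iff' 1 |>.2 ⟨a, ha1, hne⟩
      rw [hP.card_four] at this
      omega
  refine mem_or_le_of_cyclic P hab Nat.prime_three ?_ (fun O hO hn => ?_) (fun a ha ha1 => ?_)
    hH hg hg'
  · have h1 : Nat.card (Sylow 2 (PSL2 F)) = Nat.card {V : Subgroup (PSL2 F) // IsKleinFour V} := by
      refine Nat.card_congr (Equiv.ofBijective (fun Q => ⟨Q, isKleinFour_sylow_PSL2 h2 hq Q⟩)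
        ⟨fun Q Q' e => Sylow.ext (congrArg Subtype.val e), fun V => ?_⟩)
      obtain ⟨Q, hQ⟩ := (IsPGroup.of_card (p := 2) (n := 2) V.2.card_four).exists_le_sylow
      exact ⟨Q, Subtype.ext (Subgroup.eq_of_le_of_card_ge hQ (by
        rw [V.2.card_four, two_pow_dvd_card_PSL2 h2 hq])).symm⟩
    have h3 := twelve_mul_card_klein h2
    rw [← h1, P.card_eq_index_normalizer, ← Subgroup.card_mul_index (Subgroup.normalizer
      ((P : Subgroup (PSL2 F)) : Set (PSL2 F)))] at h3
    rw [show Nat.card P = 4 from hP.card_four]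
    exact (Nat.eq_of_mul_eq_mul_right (Nat.pos_of_ne_zero Subgroup.index_ne_zero_of_finite) h3).symm
  · have : Nontrivial (P : Subgroup (PSL2 F)) :=
      Finite.one_lt_card_iff_nontrivial.1 (by rw [hP.card_four]; omega)
    obtain ⟨a, ha1⟩ := exists_ne (1 : (P : Subgroup (PSL2 F)))
    obtain ⟨b, hb1, hab⟩ := hex a ha1
    have aux : ∀ c ∈ (P : Subgroup (PSL2 F)), ∀ o ∈ O.map pslι,
        pslι c * o * (pslι c)⁻¹ ∈ O.map pslι := by
      rintro c hc _ ⟨o, ho, rfl⟩
      exact ⟨_, hn c hc o ho, by rw [map_mul, map_mul, map_inv]⟩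
    have := isCyclic_of_odd h2 (O := O.map pslι) (a := pslι a.1) (b := pslι b.1)
      (by rwa [card_map_pslι]) (by rw [← map_mul, hsq _ a.2, map_one])
      (by rw [← map_mul, hsq _ b.2, map_one])
      (by rw [← map_mul, ← map_mul, hsq _ (mul_mem a.2 b.2), map_one])
      (by rw [Ne, map_eq_one_iff _ pslι_injective]; exact fun e => ha1 (Subtype.ext e))
      (by rw [Ne, map_eq_one_iff _ pslι_injective]; exact fun e => hb1 (Subtype.ext e))
      (by
        rw [← map_mul, Ne, map_eq_one_iff _ pslι_injective]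
        exact fun e => hab (Subtype.ext (mul_left_cancel (e.trans (hsq _ a.2).symm))))
      (aux _ a.2) (aux _ b.2)
    exact isCyclic_of_injective (mapPslιEquiv O).toMonoidHom (mapPslιEquiv O).injective
  · have ha1' : (⟨a, ha⟩ : (P : Subgroup (PSL2 F))) ≠ 1 := fun e => ha1 (congrArg Subtype.val e)
    obtain ⟨b, hb1, hba⟩ := hex ⟨a, ha⟩ ha1'
    obtain ⟨ω, -, e1, e2, e3⟩ := exists_conj_fix h2 (a := a) (b := b) ⟨hsq a ha, hsq b b.2,
      hab b b.2 a ha, ha1, fun e => hb1 (Subtype.ext e), fun e => hba (Subtype.ext e.symm)⟩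
    refine ⟨ω, Subgroup.mem_normalizer_fintype fun s hs => ?_, fun e => hba (Subtype.ext ?_)⟩
    · by_cases s1 : s = 1
      · simp [s1]
      by_cases s2 : s = a
      · rw [s2, e1]; exact b.2
      by_cases s3 : s = b
      · rw [s3, e2]; exact mul_mem ha b.2
      have := IsKleinFour.eq_mul_of_ne_all (x := (⟨a, ha⟩ : (P : Subgroup (PSL2 F)))) (y := b)
        (z := ⟨s, hs⟩) ha1' hb1 hba.symm (fun e => s1 (congrArg Subtype.val e))
        (fun e => s2 (congrArg Subtype.val e)) (fun e => s3 (congrArg Subtype.val e))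
      rw [show s = a * b from congrArg Subtype.val this, e3]
      exact ha
    · rw [← e1, e, mul_inv_cancel_right]

theorem finite_quat [Finite F] : Finite ℍ[F] := Module.finite_of_finite F

theorem unit_facts [Fintype F] (h2 : (2 : F) ≠ 0) (P : Sylow 2 (unitary ℍ[F])) :
    Subgroup.normalizer ((P : Subgroup (unitary ℍ[F])) : Set (unitary ℍ[F])) ≤ P ∨
      (Nat.card (Subgroup.normalizer ((P : Subgroup (unitary ℍ[F])) : Set (unitary ℍ[F]))) =
        3 * Nat.card P ∧ Loc1 (P : Subgroup (unitary ℍ[F]))) := by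
  obtain ⟨α, β, h⟩ := exists_sq_add_sq h2 (-1 : F)
  have := finite_quat (F := F)
  let e := unitEquiv h h2
  let P' := P.mapSurjective (f := e.toMonoidHom) e.surjective
  have e1 : (Subgroup.normalizer ((P : Subgroup (unitary ℍ[F])) : Set (unitary ℍ[F]))).map
      e.toMonoidHom = Subgroup.normalizer ((P' : Subgroup (SL2 F)) : Set (SL2 F)) :=
    Subgroup.map_equiv_normalizer_eq _ e
  have hodd := odd_card_of_two h2
  by_cases hq : Fintype.card F % 8 = 1 ∨ Fintype.card F % 8 = 7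
  · left
    rw [normalizer_sylow_two_eq h2 P' hq] at e1
    exact (Subgroup.map_injective e.injective e1).le
  replace hq : Fintype.card F % 8 = 3 ∨ Fintype.card F % 8 = 5 := by omega
  refine Or.inr ⟨?_, Loc1.of_surjective e.toMonoidHom e.surjective P
    (by rw [(MonoidHom.ker_eq_bot_iff _).2 e.injective]; exact bot_le) fun Q => ?_⟩
  · obtain ⟨i, j, hij⟩ := exists_syl2Data h2 P'
    have e2 : Nat.card P = Nat.card P' := (Subgroup.card_map_of_injective e.injective).symm
    rw [← Subgroup.card_map_of_injective (f := e.toMonoidHom) e.injective, e1,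
      card_normalizer_sylow_two h2 P' hq, e2]
    exact congrArg (3 * ·) (hij.card_eq_eight h2 P'.isPGroup' hq).symm
  · obtain ⟨i, j, hij⟩ := exists_syl2Data h2 Q
    exact Loc1.of_surjective (piSL F) piSL_surjective Q (ker_piSL.le.trans hij.Z_le)
      (loc1_PSL2 h2 hq)

/-- The quaternion with given coordinates. -/
def qm (a b c d : F) : ℍ[F] := ⟨a, b, c, d⟩

theorem qm_eq_1' : type_of% @qm.eq_1 := @qm.eq_1

@[simp] theorem qm_re (a b c d : F) : (qm a b c d).re = a := rfl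
@[simp] theorem qm_imI (a b c d : F) : (qm a b c d).imI = b := rfl
@[simp] theorem qm_imJ (a b c d : F) : (qm a b c d).imJ = c := rfl
@[simp] theorem qm_imK (a b c d : F) : (qm a b c d).imK = d := rfl

/-- The quaternion unit `i`. -/
def qI (F : Type*) [Field F] : unitary ℍ[F] :=
  ⟨qm 0 1 0 0, mem_unitary_quat.2 (by simp [Quaternion.normSq_def'])⟩

/-- The quaternion unit `j`. -/
def qJ (F : Type*) [Field F] : unitary ℍ[F] :=
  ⟨qm 0 0 1 0, mem_unitary_quat.2 (by simp [Quaternion.normSq_def'])⟩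

theorem qI_eq_1' : type_of% @qI.eq_1 := @qI.eq_1
theorem qJ_eq_1' : type_of% @qJ.eq_1 := @qJ.eq_1

theorem coe_qI : (qI F : ℍ[F]) = qm 0 1 0 0 := rfl
theorem coe_qJ : (qJ F : ℍ[F]) = qm 0 0 1 0 := rfl

theorem qI_sq : qI F * qI F = -1 := Subtype.ext (by
  rw [Submonoid.coe_mul, coe_qI, Unitary.coe_neg]; ext <;> simp)

theorem qJ_sq : qJ F * qJ F = -1 := Subtype.ext (by
  rw [Submonoid.coe_mul, coe_qJ, Unitary.coe_neg]; ext <;> simp)

theorem exists_sylow_quat [Finite F] : ∃ P : Sylow 2 (unitary ℍ[F]),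
    qI F ∈ (P : Subgroup (unitary ℍ[F])) ∧ qJ F ∈ (P : Subgroup (unitary ℍ[F])) := by
  have := finite_quat (F := F)
  have h4 : ∀ u : unitary ℍ[F], u * u = -1 → u ^ 2 ^ 2 = 1 := fun u hu => by
    rw [show 2 ^ 2 = 2 * 2 from rfl, pow_mul, sq u, hu, neg_one_sq]
  have h5 : qJ F * qI F * (qJ F)⁻¹ = (qI F)⁻¹ := by
    rw [mul_inv_eq_iff_eq_mul, eq_inv_mul_iff_mul_eq]
    refine Subtype.ext ?_
    rw [Submonoid.coe_mul, Submonoid.coe_mul, coe_qI, coe_qJ]
    ext <;> simp
  obtain ⟨P, hP⟩ := ((isPGroup_zpowers' (h4 _ qJ_sq)).to_sup_of_normal_right'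
    (isPGroup_zpowers' (h4 _ qI_sq)) (Subgroup.zpowers_le.2 (Subgroup.mem_normalizer_fintype (by
      rintro _ ⟨n, rfl⟩
      exact ⟨-n, by simp only; rw [← conj_zpow, h5, _root_.inv_zpow']⟩)))).exists_le_sylow
  exact ⟨P, hP (Subgroup.mem_sup_right (Subgroup.mem_zpowers _)),
    hP (Subgroup.mem_sup_left (Subgroup.mem_zpowers _))⟩

/-- Diagonal unitary matrices. -/
def dg : (κ → unitary ℍ[F]) →* unitary (Matrix κ κ ℍ[F]) where
  toFun d := ⟨diagonal fun a => (d a : ℍ[F]), by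
    rw [Unitary.mem_iff, star_eq_conjTranspose, diagonal_conjTranspose, diagonal_mul_diagonal,
      diagonal_mul_diagonal]
    simp⟩
  map_one' := Subtype.ext (by simp)
  map_mul' d d' := Subtype.ext (by simp [diagonal_mul_diagonal])

/-- Permutation matrices. -/
def pm : Equiv.Perm κ →* unitary (Matrix κ κ ℍ[F]) :=
  (permMatrixHom (R := ℍ[F])).codRestrict _ fun π => by
    have : star (permMatrixHom (R := ℍ[F]) π) = permMatrixHom π⁻¹ := by
      simp [star_eq_conjTranspose, conjTranspose_permMatrix]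
    rw [Unitary.mem_iff, this, ← map_mul, ← map_mul]
    simp

theorem dg_eq_1' : type_of% @dg.eq_1 := @dg.eq_1
theorem pm_eq_1' : type_of% @pm.eq_1 := @pm.eq_1

theorem coe_dg (d : κ → unitary ℍ[F]) :
    (dg d : Matrix κ κ ℍ[F]) = diagonal fun a => (d a : ℍ[F]) := rfl

theorem pm_apply (π : Equiv.Perm κ) (a b : κ) :
    (pm (F := F) π : Matrix κ κ ℍ[F]) a b = if a = π b then 1 else 0 := by
  change (π⁻¹.permMatrix ℍ[F]) a b = _
  simp [PEquiv.toMatrix_apply, Equiv.Perm.inv_def, Equiv.symm_apply_eq]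

theorem dg_pm_apply (d : κ → unitary ℍ[F]) (π : Equiv.Perm κ) (a b : κ) :
    (dg d * pm (F := F) π : unitary (Matrix κ κ ℍ[F])).1 a b =
      if a = π b then (d a : ℍ[F]) else 0 := by
  rw [Submonoid.coe_mul, coe_dg, diagonal_mul, pm_apply, mul_ite, mul_one, mul_zero]

theorem pm_conj (π : Equiv.Perm κ) (d : κ → unitary ℍ[F]) :
    pm π * dg d * (pm π)⁻¹ = dg fun a => d (π.symm a) := by
  rw [mul_inv_eq_iff_eq_mul]
  refine Subtype.ext (Matrix.ext fun a b => ?_)
  rw [dg_pm_apply, Submonoid.coe_mul, coe_dg, mul_diagonal, pm_apply]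
  split_ifs with e
  · simp [e]
  · simp

theorem dg_pm_inj {d d' : κ → unitary ℍ[F]} {π π' : Equiv.Perm κ}
    (e : dg d * pm π = dg d' * pm π') : d = d' ∧ π = π' := by
  have h1 : ∀ b, π b = π' b ∧ d (π b) = d' (π b) := fun b => by
    have := congrArg (fun g : unitary (Matrix κ κ ℍ[F]) => g.1 (π b) b) e
    simp only [dg_pm_apply, if_true] at this
    split_ifs at this with e'
    · exact ⟨e', Subtype.ext this⟩
    · exact absurd this (Unitary.isUnit_coe (U := d (π b))).ne_zero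
  exact ⟨funext fun a => by simpa using (h1 (π.symm a)).2, Equiv.ext fun b => (h1 b).1⟩

/-- The monomial group. -/
def qW (κ : Type*) [Fintype κ] [DecidableEq κ] (F : Type*) [Field F] :
    WrData κ (unitary ℍ[F]) Unit (unitary (Matrix κ κ ℍ[F])) where
  β := dg.comp (MonoidHom.fst _ _)
  σ := pm
  inj x y e := Prod.ext (dg_pm_inj (π := 1) (π' := 1) (congrArg (· * pm 1) e)).1 rfl
  conj π d _ := pm_conj π d
  disj π := fun ⟨x, e⟩ => (dg_pm_inj (d := 1) (d' := x.1) (π' := 1) (by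
    rw [map_one, map_one, one_mul, mul_one]; exact e.symm)).2

theorem qW_eq_1' : type_of% @qW.eq_1 := @qW.eq_1

/-- The standard Sylow subgroup. -/
structure QSyl (κ : Type*) [Fintype κ] [DecidableEq κ] (F : Type*) [Field F] where
  /-- the Sylow subgroup of the rank one group -/
  P : Sylow 2 (unitary ℍ[F])
  /-- the Sylow subgroup of the symmetric group -/
  T : Sylow 2 (Equiv.Perm κ)
  /-- the Sylow subgroup of the unitary group -/
  S : Sylow 2 (unitary (Matrix κ κ ℍ[F]))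
  hI : qI F ∈ (P : Subgroup (unitary ℍ[F]))
  hJ : qJ F ∈ (P : Subgroup (unitary ℍ[F]))
  trans : ∀ a b, ∃ π ∈ (T : Subgroup (Equiv.Perm κ)), π a = b
  mem : ∀ g, g ∈ (S : Subgroup (unitary (Matrix κ κ ℍ[F]))) ↔ ∃ d : κ → unitary ℍ[F],
    (∀ a, d a ∈ (P : Subgroup (unitary ℍ[F]))) ∧
      ∃ π ∈ (T : Subgroup (Equiv.Perm κ)), g = dg d * pm π

theorem nonempty_qSyl [Fintype F] (hF : Odd (Fintype.card F)) {m k : ℕ} (hm : m = 2 ^ k) :
    Nonempty (QSyl (Fin m) F) := by
  have h2 := Class.two_ne_zero_of_odd_card hF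
  have h1 : 1 < Fintype.card F := Fintype.one_lt_card
  obtain ⟨α, β, h⟩ := exists_sq_add_sq h2 (-1 : F)
  have := finite_quat (F := F)
  obtain ⟨P, hI, hJ⟩ := exists_sylow_quat (F := F)
  obtain ⟨T, hT⟩ := exists_sylow_transitive hm
  let W := (qW (Fin m) F).comp (P : Subgroup (unitary ℍ[F])).subtype (MonoidHom.id Unit)
    Subtype.val_injective Function.injective_id
  obtain ⟨S, hS⟩ := W.exists_sylow (p := 2) (b := 0) P.card_eq_multiplicity (by simp) T (by
    rw [Nat.card_congr (spEquiv h h2).toEquiv, Nat.card_congr (unitEquiv h h2).toEquiv,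
      Class.card_symplecticGroup, card_SL2_eq,
      Nat.factorization_def _ Nat.prime_two, Nat.factorization_def _ Nat.prime_two,
      Nat.factorization_def _ Nat.prime_two, Class.spOrd,
      padicValNat.mul (by positivity) (V2.prod_sp_ne h1 m), V2.v_prod_sp h1 hF,
      padicValNat.mul (by positivity) (V2.pow_sub_one_ne h1 two_ne_zero), V2.v_odd hF,
      V2.v_odd hF.pow]
    simp)
  refine ⟨⟨P, T, S, hI, hJ, hT, fun g => ?_⟩⟩
  rw [hS, WrData.syl, ← SetLike.mem_coe,
    Subgroup.coe_mul_of_right_le_normalizer_left _ _ (W.le_normalizer T)]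
  constructor
  · rintro ⟨_, ⟨⟨d, x⟩, rfl⟩, _, ⟨π, hπ, rfl⟩, rfl⟩
    exact ⟨fun a => d a, fun a => (d a).2, π, hπ, rfl⟩
  · rintro ⟨d, hd, π, hπ, rfl⟩
    exact ⟨_, ⟨(fun a => ⟨d a, hd a⟩, 1), rfl⟩, _, ⟨π, hπ, rfl⟩, rfl⟩

end Cfsg.Lib.Known.Pron
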