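import Cfsg.Agent.Known.CKDefs
import Cfsg.Agent.Suz.HigTypeA
import Cfsg.Agent.S1949
import Cfsg.Agent.Trans.SylowIn

/-! Pyramidal groups: a Sylow 2-subgroup of `C(E)` is abelian or a Suzuki 2-group. -/

set_option autoImplicit false

namespace Cfsg.Lib.Known.CK.PyA1

open Subgroup Cfsg.Lib.Trans Cfsg.Lib.Suz Cfsg.Lib.Chev.FieldAut MulAction

universe u

/-- All orbits of an element of order a power of `p` outside the fixed points of its `p`-th power
have length divisible by `p²`. -/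
theorem sq_dvd_ncard {H X : Type*} [Group H] [MulAction H X] [Finite X] (σ : H) {p k : ℕ}
    (hp : p.Prime) (hσ : σ ^ p ^ k = 1) : ∀ (n : ℕ) (A : Set X), A.ncard = n →
      (∀ x ∈ A, σ • x ∈ A) → (∀ x ∈ A, σ ^ p • x ≠ x) → p ^ 2 ∣ A.ncard := by
  classical
  intro n
  induction n using Nat.strong_induction_on with
  | _ n ih =>
  intro A hn hA h
  rcases A.eq_empty_or_nonempty with rfl | ⟨x, hx⟩
  · simp
  have hfin : IsOfFinOrder σ := isOfFinOrder_iff_pow_eq_one.2 ⟨_, pow_pos hp.pos k, hσ⟩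
  have hpow : ∀ i : ℕ, σ ^ i • x ∈ A := fun i => by
    induction i with
    | zero => simpa using hx
    | succ i ih => rw [pow_succ', mul_smul]; exact hA _ ih
  have hO : orbit (zpowers σ) x ⊆ A := by
    rintro _ ⟨⟨τ, hτ⟩, rfl⟩
    obtain ⟨i, rfl⟩ := hfin.mem_powers_iff_mem_zpowers.2 hτ
    exact hpow i
  have hcard : p ^ 2 ∣ (orbit (zpowers σ) x).ncard := by
    have := Fintype.ofFinite (orbit (zpowers σ) x)
    rw [← Nat.card_coe_set_eq, Nat.card_eq_fintype_card, ← minimalPeriod_eq_card]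
    have h1 : Function.minimalPeriod (σ • ·) x ∣ p ^ k :=
      pow_smul_eq_iff_minimalPeriod_dvd.1 (by rw [hσ, one_smul])
    obtain ⟨j, -, hj⟩ := (Nat.dvd_prime_pow hp).1 h1
    rw [hj]
    refine pow_dvd_pow _ (not_lt.1 fun hlt => h x hx (pow_smul_eq_iff_minimalPeriod_dvd.2 ?_))
    rw [hj]
    calc p ^ j ∣ p ^ 1 := pow_dvd_pow _ (by omega)
      _ = p := pow_one p
  have hsum := Set.ncard_sdiff_add_ncard_of_subset hO
  have hpos : 0 < (orbit (zpowers σ) x).ncard :=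
    (Set.ncard_pos (Set.toFinite _)).2 ⟨x, mem_orbit_self x⟩
  rw [← hsum]
  refine dvd_add (ih _ (by omega) _ rfl (fun y hy => ⟨hA y hy.1, fun hy' => hy.2 ?_⟩)
    fun y hy => h y hy.1) hcard
  obtain ⟨τ, hτ⟩ := hy'
  refine ⟨(⟨σ, mem_zpowers σ⟩ : zpowers σ)⁻¹ * τ, ?_⟩
  dsimp only at hτ ⊢
  rw [mul_smul, hτ]
  exact inv_smul_smul σ y

theorem arith {n a : ℕ} (hp : (2 ^ n - 1).Prime) (ha : 0 < a) (h2 : a ≤ 2 * n)
    (h : (2 ^ n - 1) ^ 2 ∣ 2 ^ a - 1) : False := by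
  have hn : 2 ≤ n := by
    by_contra hlt
    obtain rfl | rfl : n = 0 ∨ n = 1 := by omega
    · exact Nat.not_prime_zero hp
    · exact Nat.not_prime_one hp
  obtain ⟨m, rfl⟩ : ∃ m, n = m + 2 := ⟨n - 2, by omega⟩
  have h3 : 2 ^ a ≤ (2 ^ (m + 2)) ^ 2 := by
    rw [← pow_mul, mul_comm]; exact Nat.pow_le_pow_right two_pos h2
  have h4 : 0 < 2 ^ m := by positivity
  obtain ⟨r, hr⟩ : ∃ r, 2 ^ m = r + 1 := ⟨2 ^ m - 1, by omega⟩
  have h5 : 2 ^ (m + 2) = 4 * r + 4 := by rw [pow_add, hr]; ring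
  rw [h5] at h h3
  have h6 : 4 * r + 4 - 1 = 4 * r + 3 := by omega
  rw [h6] at h
  obtain ⟨c, hc⟩ := h
  obtain ⟨b, rfl⟩ : ∃ b, a = b + 1 := ⟨a - 1, by omega⟩
  have h7 : 0 < 2 ^ b := by positivity
  rw [pow_succ] at hc h3
  have h8 : 2 ^ b * 2 = (4 * r + 3) ^ 2 * c + 1 := by omega
  obtain rfl : c = 1 := by
    rcases Nat.lt_trichotomy c 1 with hlt | e | hlt
    · obtain rfl : c = 0 := by omega
      omega
    · exact e
    · have : (4 * r + 3) ^ 2 * 2 ≤ (4 * r + 3) ^ 2 * c := Nat.mul_le_mul_left _ hlt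
      nlinarith
  rcases b with _ | b
  · nlinarith
  · have : (4 * r + 3) ^ 2 * 1 + 1 = 4 * (4 * r ^ 2 + 6 * r + 2) + 2 := by ring
    rw [this, pow_succ] at h8
    omega

variable {G : Type u} [Group G] {E S : Subgroup G}

theorem exists_invol_pow : ∀ (n : ℕ) {x : G}, x ≠ 1 → x ^ 2 ^ n = 1 →
    ∃ j : ℕ, x ^ j ≠ 1 ∧ x ^ j * x ^ j = 1 := by
  intro n
  induction n with
  | zero => intro x hx h; exact absurd (by simpa using h) hx
  | succ n ih =>
    intro x hx h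
    by_cases h2 : x ^ 2 = 1
    · exact ⟨1, by simpa using hx, by simpa [pow_two] using h2⟩
    · obtain ⟨j, hj⟩ := ih h2 (by rw [← pow_mul, ← pow_succ']; exact h)
      exact ⟨2 * j, by simpa only [pow_mul] using hj⟩

theorem E_comm (h : Pyr E) {x y : G} (hx : x ∈ E) (hy : y ∈ E) : x * y = y * x := by
  have h1 := (h.mem _).1 (E.mul_mem hx hy)
  have h2 := (h.mem _).1 hx
  have h3 := (h.mem _).1 hy
  calc x * y = x * (x * y * (x * y)) * y := by rw [h1, mul_one]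
    _ = x * x * (y * x) * (y * y) := by group
    _ = y * x := by rw [h2, h3, one_mul, mul_one]

theorem E_two (h : Pyr E) : IsPGroup 2 E := fun x =>
  ⟨1, Subtype.ext (by simpa [pow_two] using (h.mem _).1 x.2)⟩

theorem E_le (h : Pyr E) : E ≤ centralizer (E : Set G) := fun _ hx =>
  mem_centralizer_iff.2 fun _ hy => E_comm h hy hx

theorem card_le_cube [Finite G] (h : Pyr E) {M : Subgroup G} (hle : E ≤ M)
    (hc : M ≤ centralizer (E : Set G)) (hsq : ∀ x ∈ M, x * x ∈ E) :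
    Nat.card M ≤ Nat.card E ^ 3 := by
  obtain ⟨A, _, _, ⟨T⟩⟩ := exists_sec_sq hle hsq
  obtain ⟨W, _, _, ⟨Z⟩⟩ := exists_sec_sq (M := E) (N := ⊥) bot_le fun x hx => (h.mem x).1 hx
  have := T.finite
  have := Z.finite
  have hW : Nat.card W = Nat.card E := by simpa using Z.card.symm
  have two : ∀ w : W, w + w = 0 := fun w => by
    rw [← two_nsmul]; exact ZModModule.char_nsmul_eq_zero 2 w
  have cen : ∀ z ∈ E, ∀ x ∈ M, z * x = x * z := fun z hz x hx =>
    mem_centralizer_iff.1 (hc hx) z hz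
  have cj : ∀ z ∈ E, ∀ x ∈ M, x⁻¹ * z * x = z := fun z hz x hx => by
    rw [mul_assoc, cen z hz x hx, inv_mul_cancel_left]
  have sq_mul : ∀ x ∈ M, ∀ y ∈ M,
      Z.π (x * y * (x * y)) = Z.π (x * x) + Z.π (y * y) + Z.π (cm x y) := fun x hx y hy => by
    have h3 := cm_mem_of_sq hsq hx hy
    have h4 : cm x y⁻¹ = cm x y := by
      have h2 : cm x y⁻¹ = y⁻¹⁻¹ * (cm x y)⁻¹ * y⁻¹ := by simp only [cm]; group
      rw [h2, cj _ (E.inv_mem h3) _ (M.inv_mem hy),
        inv_eq_of_mul_eq_one_right ((h.mem _).1 h3)]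
    rw [mul_sq_eq, h4, Z.π_mul _ (E.mul_mem (hsq x hx) h3) _ (hsq y hy), Z.π_mul _ (hsq x hx) _ h3,
      add_right_comm]
  have cm_left : ∀ x ∈ M, ∀ y ∈ M, ∀ z ∈ M,
      Z.π (cm (x * y) z) = Z.π (cm x z) + Z.π (cm y z) := fun x hx y hy z hz => by
    rw [cm_mul_left, cj _ (cm_mem_of_sq hsq hx hz) _ hy,
      Z.π_mul _ (cm_mem_of_sq hsq hx hz) _ (cm_mem_of_sq hsq hy hz)]
  choose s hs hs' using T.π_surj
  have hq : ∀ x ∈ M, Z.π (s (T.π x) * s (T.π x)) = Z.π (x * x) := fun x hx => by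
    obtain ⟨n, hn, e⟩ := (T.π_eq_iff' hx (hs (T.π x))).1 (hs' _).symm
    rw [e, sq_mul x hx n (hle hn), (h.mem _).1 hn, cm_eq_one.2 (cen n hn x hx).symm, Z.π_one,
      add_zero, add_zero]
  obtain ⟨B, hB⟩ := exists_biadditive_of_quadratic (fun b => Z.π (s b * s b)) fun p q r => by
    obtain ⟨x, hx, rfl⟩ := T.π_surj p
    obtain ⟨y, hy, rfl⟩ := T.π_surj q
    obtain ⟨z, hz, rfl⟩ := T.π_surj r
    have hxy := M.mul_mem hx hy
    simp only [← T.π_mul x hx y hy, ← T.π_mul _ hxy z hz, ← T.π_mul x hx z hz, ← T.π_mul y hy z hz,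
      hq _ hxy, hq _ (M.mul_mem hxy hz), hq _ (M.mul_mem hx hz), hq _ (M.mul_mem hy hz), hq x hx,
      hq y hy, hq z hz]
    rw [sq_mul _ hxy z hz, sq_mul _ hx z hz, sq_mul _ hy z hz, cm_left x hx y hy z hz,
      ← two (Z.π (x * y * (x * y)) + Z.π (z * z) + Z.π (z * z) + Z.π (cm x z) +
      Z.π (cm y z) + Z.π (x * x) + Z.π (y * y))]
    abel
  have h1 := card_le_sq_of_anisotropic B fun b hb => by
    rw [← hB] at hb
    rw [← hs' b]
    exact T.π_of_mem ((h.mem _).2 ((Z.π_eq_zero _ (hsq _ (hs b))).1 hb))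
  rw [T.card, pow_succ, ← hW]
  exact Nat.mul_le_mul_right _ h1

theorem ncard_E [Finite G] : ((E : Set G) \ {1}).ncard = Nat.card E - 1 := by
  rw [Set.ncard_sdiff_singleton_of_mem E.one_mem, ← Nat.card_coe_set_eq]
  rfl

/-- An element of order a power of `p` normalising `S` and moving an involution. -/
theorem exists_g [Finite G] (h : Pyr E) (hS : IsSylowIn 2 S (centralizer (E : Set G))) :
    ∃ g ∈ normalizer (S : Set G), (∃ k, g ^ (Nat.card E - 1) ^ k = 1) ∧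
      ∃ z ∈ E, g * z * g⁻¹ ≠ z := by
  have := h.normal
  have := Fact.mk h.prime
  by_contra hno
  push Not at hno
  let N := normalizer (S : Set G)
  let _ : MulAction N G := MulAction.compHom G ((MulAut.conj (G := G)).comp N.subtype)
  have hsm : ∀ (n : N) (x : G), n • x = n * x * (n : G)⁻¹ := fun _ _ => rfl
  obtain ⟨z, hz, hz1⟩ : ((E : Set G) \ {1}).Nonempty :=
    (Set.ncard_pos (Set.toFinite _)).1 (by rw [ncard_E]; exact h.prime.pos)
  have horb : orbit N z = (E : Set G) \ {1} := by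
    ext y
    constructor
    · rintro ⟨n, rfl⟩
      refine ⟨Normal.conj_mem h.normal z hz _, fun e => hz1 ?_⟩
      have e' : (n : G) * z * (n : G)⁻¹ = 1 := e
      simpa using e'
    · rintro ⟨hy, hy1⟩
      obtain ⟨g, rfl⟩ := h.conj z hz y hy hz1 hy1
      obtain ⟨n, hn, c, hc, rfl⟩ := hS.frattini' (g := g) (by
        rw [normalizer_eq_top]; exact mem_top g)
      refine ⟨⟨n, hn⟩, ?_⟩
      change n * z * n⁻¹ = _
      calc n * z * n⁻¹ = n * (z * c) * c⁻¹ * n⁻¹ := by group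
        _ = _ := by rw [mem_centralizer_iff.1 hc z hz]; group
  obtain ⟨R⟩ : Nonempty (Sylow (Nat.card E - 1) N) := inferInstance
  have hle : (R : Subgroup N) ≤ stabilizer N z := fun r hr => by
    obtain ⟨k, hk⟩ := R.isPGroup' ⟨r, hr⟩
    exact hno r r.2 ⟨k, congrArg (fun x : R => ((x : N) : G)) hk⟩ z hz
  refine R.not_dvd_index (dvd_trans ?_ (index_dvd_of_le hle))
  rw [index_stabilizer, horb, ncard_E]

/-- The cyclic group generated by `g` permutes the involutions regularly. -/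
theorem cyc [Finite G] (h : Pyr E) {g : G} {k : ℕ} (hg : g ^ (Nat.card E - 1) ^ k = 1) {z : G}
    (hz : z ∈ E) (hne : g * z * g⁻¹ ≠ z) {x : G} (hx : x ∈ E) (hx1 : x ≠ 1) :
    (∀ i : ℕ, (MulAut.conj g ^ i) x = x ↔ Nat.card E - 1 ∣ i) ∧
      ∀ y ∈ E, y ≠ 1 → ∃ i : ℕ, (MulAut.conj g ^ i) x = y := by
  classical
  set ξ := MulAut.conj g with hξ
  have hξk : ξ ^ (Nat.card E - 1) ^ k = 1 := by rw [hξ, ← map_pow, hg, map_one]
  have hsub : orbit (zpowers ξ) z ⊆ (E : Set G) \ {1} := by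
    rintro _ ⟨⟨τ, hτ⟩, rfl⟩
    obtain ⟨i, rfl⟩ := hτ
    have e : ξ ^ i = MulAut.conj (g ^ i) := by rw [hξ, map_zpow]
    change (ξ ^ i) z ∈ _
    rw [e]
    refine ⟨Normal.conj_mem h.normal z hz _, fun e' => hne ?_⟩
    have : z = 1 := by simpa using e'
    simp [this]
  have hper : ∀ w : G, Function.minimalPeriod (ξ • ·) w = (orbit (zpowers ξ) w).ncard := fun w => by
    have := Fintype.ofFinite (orbit (zpowers ξ) w)
    rw [← Nat.card_coe_set_eq, Nat.card_eq_fintype_card, ← minimalPeriod_eq_card]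
  have hz' : orbit (zpowers ξ) z = (E : Set G) \ {1} := by
    refine Set.eq_of_subset_of_ncard_le hsub ?_
    rw [ncard_E, ← hper]
    have h1 : Function.minimalPeriod (ξ • ·) z ∣ (Nat.card E - 1) ^ k :=
      pow_smul_eq_iff_minimalPeriod_dvd.1 (by rw [hξk, one_smul])
    obtain ⟨j, -, hj⟩ := (Nat.dvd_prime_pow h.prime).1 h1
    rcases j with _ | j
    · have h2 : ξ ^ 1 • z = z := pow_smul_eq_iff_minimalPeriod_dvd.2 (by rw [hj, pow_zero])
      exact absurd (by simpa [hξ] using h2) hne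
    · rw [hj]
      exact Nat.le_self_pow (by omega) _
  have hx' : orbit (zpowers ξ) x = (E : Set G) \ {1} := by
    rw [← hz']
    exact orbit_eq_iff.2 (hz'.ge ⟨hx, hx1⟩)
  refine ⟨fun i => ?_, fun y hy hy1 => ?_⟩
  · rw [← ncard_E, ← hx', ← hper]
    exact pow_smul_eq_iff_minimalPeriod_dvd (a := ξ) (b := x)
  · obtain ⟨⟨τ, hτ⟩, e⟩ := hx'.ge ⟨hy, hy1⟩
    obtain ⟨i, rfl⟩ := mem_powers_iff_mem_zpowers.2 hτ
    exact ⟨i, e⟩

theorem E_le_S [Finite G] (h : Pyr E) (hS : IsSylowIn 2 S (centralizer (E : Set G))) : E ≤ S :=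
  have := h.normal
  hS.le_of_normal (E_two h) (E_le h) (by rw [normalizer_eq_top]; exact le_top)

/-- The `p`-th power of `g` centralises `S`. -/
theorem per [Finite G] (h : Pyr E) (hS : IsSylowIn 2 S (centralizer (E : Set G))) {g : G}
    (hgS : g ∈ normalizer (S : Set G)) {k : ℕ} (hg : g ^ (Nat.card E - 1) ^ k = 1)
    (hE : ∀ x ∈ E, (MulAut.conj g ^ (Nat.card E - 1)) x = x) :
    ∀ x ∈ S, (MulAut.conj g ^ (Nat.card E - 1)) x = x := by
  have := h.normal
  obtain ⟨n, hn⟩ := IsPGroup.iff_card.1 (E_two h)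
  have hp := h.prime
  set p := Nat.card E - 1 with hpdef
  obtain ⟨D, hD1, -, hD3, -, hD5, -⟩ := Cfsg.Agent.S1949.result hS.isPGroup ⊤ le_top
  let α : MulAut S := S.normalizerMonoidHom ⟨g, hgS⟩
  have hα : ∀ (i : ℕ) (x : S), (((α ^ i) x : S) : G) = (MulAut.conj g ^ i) x := fun i x => by
    rw [← map_pow, ← map_pow]; rfl
  by_contra hno
  have hne : ¬ ∀ d ∈ D, (α ^ p) d = d := fun hall => hno fun x hx => by
    have h1 : α ^ p = 1 := hD5 _ (mem_top _) (by
      have h2 : orderOf (α ^ p) ∣ p ^ k := by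
        refine (orderOf_pow_dvd _).trans (orderOf_dvd_of_pow_eq_one ?_)
        rw [← map_pow]
        exact (congrArg S.normalizerMonoidHom (Subtype.ext hg)).trans (map_one _)
      refine Nat.Coprime.coprime_dvd_left h2 (Nat.Coprime.pow_left _ ?_)
      refine (Nat.coprime_primes hp Nat.prime_two).2 fun e => ?_
      rw [hn] at hpdef
      rcases n with _ | n
      · simp [e] at hpdef
      · rw [pow_succ] at hpdef
        omega) hall
    have := hα p ⟨x, hx⟩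
    rw [h1] at this
    exact this.symm
  push Not at hne
  obtain ⟨d, hd, hdne⟩ := hne
  let M := D.map S.subtype ⊔ E
  have hM : ∀ x ∈ M, ∃ a ∈ D, ∃ e ∈ E, (a : G) * e = x := fun x hx => by
    obtain ⟨_, ⟨a, ha, rfl⟩, e, he, rfl⟩ := mem_sup_of_normal_right.1 hx
    exact ⟨a, ha, e, he, rfl⟩
  have hMS : M ≤ S := sup_le (map_subtype_le _) (E_le_S h hS)
  have hsq : ∀ x ∈ M, x * x ∈ E := fun x hx => by
    obtain ⟨a, ha, e, he, rfl⟩ := hM x hx
    have h1 : e * a = a * e := mem_centralizer_iff.1 (hS.le a.2) e he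
    have h2 : (a : G) * e * (a * e) = a * a * (e * e) := by
      calc (a : G) * e * (a * e) = a * (e * a) * e := by group
        _ = _ := by rw [h1]; group
    rw [h2, (h.mem _).1 he, mul_one, h.mem]
    rcases hD3 a ha with h3 | ⟨-, h3⟩
    · have h4 : (a : G) ^ 2 = 1 := congrArg Subtype.val h3
      rw [← pow_two (a : G), h4, mul_one]
    · have h4 : (a : G) ^ 4 = 1 := congrArg Subtype.val h3
      rw [← h4]; simp only [pow_succ, pow_zero, one_mul, mul_assoc]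
  have hcube := card_le_cube h (le_sup_right : E ≤ M) (hMS.trans hS.le) hsq
  let M₀ := M ⊓ centralizer ({g ^ p} : Set G)
  have hfix : ∀ x : G, x ∈ centralizer ({g ^ p} : Set G) ↔ (MulAut.conj g ^ p) x = x := fun x => by
    rw [mem_centralizer_singleton_iff, ← map_pow, MulAut.conj_apply, mul_inv_eq_iff_eq_mul, eq_comm]
  have hEM : E ≤ M₀ := fun x hx => ⟨mem_sup_right hx, (hfix x).2 (hE x hx)⟩
  have hlt : M₀ < M := lt_of_le_of_ne inf_le_left fun e => hdne (Subtype.ext (by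
    rw [hα]
    exact (hfix _).1 (e.ge (mem_sup_left ⟨d, hd, rfl⟩)).2))
  have hdvd := sq_dvd_ncard (X := G) (MulAut.conj g) hp (k := k)
    (by rw [← map_pow, hg, map_one]) _ ((M : Set G) \ M₀) rfl (fun x hx => by
      refine ⟨?_, fun hx' => hx.2 ⟨hx.1, (hfix x).2 ?_⟩⟩
      · obtain ⟨a, ha, e, he, rfl⟩ := hM x hx.1
        change MulAut.conj g ((a : G) * e) ∈ M
        rw [map_mul]
        refine mul_mem_sup ⟨α a, (hD1 α (mem_top _)).le ⟨a, ha, rfl⟩, rfl⟩ ?_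
        exact Normal.conj_mem this e he g
      · have h1 := (hfix _).1 hx'.2
        change (MulAut.conj g ^ p) (MulAut.conj g x) = MulAut.conj g x at h1
        rw [← MulAut.mul_apply, ← pow_succ, pow_succ', MulAut.mul_apply] at h1
        exact (MulAut.conj g).injective h1)
    fun x hx e => hx.2 ⟨hx.1, (hfix x).2 e⟩
  obtain ⟨b, hb⟩ := IsPGroup.iff_card.1 (hS.isPGroup.to_le hMS)
  obtain ⟨c, hc⟩ := IsPGroup.iff_card.1 (hS.isPGroup.to_le (hlt.le.trans hMS))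
  rw [Set.ncard_sdiff (SetLike.coe_subset_coe.2 hlt.le), ← Nat.card_coe_set_eq,
    ← Nat.card_coe_set_eq] at hdvd
  change p ^ 2 ∣ Nat.card M - Nat.card M₀ at hdvd
  have h1 : c < b := by
    have h2 : Nat.card M₀ < Nat.card M := by
      refine lt_of_le_of_ne (Subgroup.card_le_of_le hlt.le) fun e => hlt.ne ?_
      exact eq_of_le_of_card_ge hlt.le e.ge
    rw [hb, hc] at h2
    exact (Nat.pow_lt_pow_iff_right one_lt_two).1 h2
  have h2 : n ≤ c := by
    have h3 := Subgroup.card_le_of_le hEM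
    rw [hn, hc] at h3
    exact (Nat.pow_le_pow_iff_right one_lt_two).1 h3
  have h3 : b ≤ n * 3 := by
    rw [hb, hn, ← pow_mul] at hcube
    exact (Nat.pow_le_pow_iff_right one_lt_two).1 hcube
  obtain ⟨a, rfl⟩ : ∃ a, b = c + a := ⟨b - c, by omega⟩
  rw [hb, hc, pow_add, ← Nat.mul_sub_one] at hdvd
  rw [hn] at hpdef
  refine arith (n := n) (a := a) (hpdef ▸ hp) (by omega) (by omega) ?_
  rw [← hpdef]
  refine Nat.Coprime.dvd_of_dvd_mul_left (Nat.Coprime.pow _ _ ?_) hdvd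
  refine (Nat.coprime_primes hp Nat.prime_two).2 fun e => ?_
  rcases n with _ | n
  · simp [e] at hpdef
  · rw [pow_succ] at hpdef
    omega

/-- A Sylow 2-subgroup of `C(E)` satisfies the hypotheses of Higman's theorem. -/
theorem exists_hs [Finite G] (h : Pyr E) (hS : IsSylowIn 2 S (centralizer (E : Set G))) :
    ∃ ξ : MulAut G, HS ξ S E := by
  obtain ⟨g, hgS, ⟨k, hg⟩, z, hz, hne⟩ := exists_g h hS
  refine ⟨MulAut.conj g, hS.isPGroup, fun x hx => (mem_normalizer_iff.1 hgS x).1 hx, fun x => ?_,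
    fun z hz x hx => mem_centralizer_iff.1 (hS.le hx) z hz,
    fun x hx y hy hx1 hy1 => (cyc h hg hz hne hx hx1).2 y hy hy1, fun i x hx hx1 e => ?_,
    per h hS hgS hg fun x hx => ?_, ?_⟩
  · exact ⟨fun hx => ⟨E_le_S h hS hx, (h.mem x).1 hx⟩, fun hx => (h.mem x).2 hx.2⟩
  · obtain ⟨n, hn⟩ := hS.isPGroup ⟨x, hx⟩
    obtain ⟨j, hj1, hj⟩ := exists_invol_pow n hx1 (congrArg Subtype.val hn)
    exact ((cyc h hg hz hne ((h.mem _).2 hj) hj1).1 i).1 (by rw [map_pow, e])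
  · by_cases hx1 : x = 1
    · rw [hx1, map_one]
    · exact ((cyc h hg hz hne hx hx1).1 _).2 dvd_rfl
  · have := h.prime.two_le
    omega

theorem higman [Finite G] (h : Pyr E) (hS : IsSylowIn 2 S (centralizer (E : Set G))) :
    (∀ x ∈ S, ∀ y ∈ S, x * y = y * x) ∨ ((∀ x ∈ S, x * x ∈ E) ∧
      (Nat.card S = Nat.card E ^ 2 ∨ Nat.card S = Nat.card E ^ 3)) := by
  obtain ⟨ξ, hs⟩ := exists_hs h hS
  obtain ⟨F, _, _, _, hF⟩ := hs.exists_field
  by_cases hc : ∀ x ∈ S, ∀ y ∈ S, x * y = y * x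
  · exact Or.inl hc
  · exact Or.inr ⟨hs.sq_mem hF hc, hs.card_eq hF hc⟩

end Cfsg.Lib.Known.CK.PyA1
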