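import Cfsg.Agent.Known.CKDefs
import Cfsg.Agent.Cor.OddSol
import Cfsg.Agent.Base.RedMult
import Cfsg.Agent.Solv.ElemAb

/-! Pyramidal groups: the non-abelian case, and the assembly of the core theorem. -/

set_option autoImplicit false

namespace Cfsg.Lib.Known.CK

universe u

open Subgroup
open scoped commutatorElement

namespace A2

variable {G : Type*} [Group G] {E S U : Subgroup G}

theorem inv_eq {x : G} (h : x * x = 1) : x⁻¹ = x := inv_eq_of_mul_eq_one_right h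

theorem comm (hE : ∀ x ∈ E, x * x = 1) {x y : G} (hx : x ∈ E) (hy : y ∈ E) : x * y = y * x := by
  rw [← inv_eq (hE _ (mul_mem hx hy)), mul_inv_rev, inv_eq (hE x hx), inv_eq (hE y hy)]

/-- `U ⟨x⟩` inside an elementary abelian group. -/
def adj (hE : ∀ x ∈ E, x * x = 1) (hU : U ≤ E) {x : G} (hx : x ∈ E) : Subgroup G where
  carrier := {y | y ∈ U ∨ y * x ∈ U}
  one_mem' := .inl U.one_mem
  mul_mem' {a b} ha hb := by
    have k : ∀ {a}, a * x ∈ U → a ∈ E := fun h => (mul_mem_cancel_right hx).1 (hU h)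
    rcases ha with ha | ha <;> rcases hb with hb | hb
    · exact .inl (mul_mem ha hb)
    · exact .inr (mul_assoc a b x ▸ mul_mem ha hb)
    · exact .inr (by rw [mul_assoc, comm hE (hU hb) hx, ← mul_assoc]; exact mul_mem ha hb)
    · refine .inl ?_
      have := mul_mem ha hb
      rwa [comm hE (k hb) hx, mul_assoc, ← mul_assoc x, hE x hx, one_mul] at this
  inv_mem' {a} ha := by
    rcases ha with ha | ha
    · exact .inl (inv_mem ha)
    · exact .inr (by rwa [inv_eq (hE a ((mul_mem_cancel_right hx).1 (hU ha)))])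

theorem adj_le (hE : ∀ x ∈ E, x * x = 1) (hU : U ≤ E) {x : G} (hx : x ∈ E) : adj hE hU hx ≤ E :=
  fun _ h => h.elim (hU ·) fun h => (mul_mem_cancel_right hx).1 (hU h)

theorem exists_hyp [Finite G] (hE : ∀ x ∈ E, x * x = 1) {K : Subgroup G} (hK : K ≤ E) {w : G}
    (h0 : w ∉ K) : ∃ U : Subgroup G, K ≤ U ∧ U ≤ E ∧ w ∉ U ∧ ∀ x ∈ E, x ∉ U → w * x ∈ U := by
  obtain ⟨U, h1, h2⟩ := Finite.exists_le_maximal (p := fun U : Subgroup G => U ≤ E ∧ w ∉ U) ⟨hK, h0⟩
  refine ⟨U, h1, h2.1.1, h2.1.2, fun x hx hxU => by_contra fun e => hxU ?_⟩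
  exact h2.2 (y := adj hE h2.1.1 hx) ⟨adj_le _ _ _, fun h => h.elim h2.1.2 e⟩ (fun _ h => .inl h)
    (.inr (hE x hx ▸ U.one_mem))

theorem mul_mem_of (hE : ∀ x ∈ E, x * x = 1) {w : G} (hw : w ∈ E)
    (h : ∀ x ∈ E, x ∉ U → w * x ∈ U) {x y : G} (hx : x ∈ E) (hy : y ∈ E) (h1 : x ∉ U)
    (h2 : y ∉ U) : x * y ∈ U := by
  have := mul_mem (h x hx h1) (h y hy h2)
  rwa [comm hE hw hx, mul_assoc, ← mul_assoc w, hE w hw, one_mul] at this

theorem exists_tv {G : Type u} [Group G] {E U : Subgroup G} (hF : Full E)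
    (hE : ∀ x ∈ E, x * x = 1) (hU : U ≤ E)
    (h : ∀ x ∈ E, ∀ y ∈ E, x ∉ U → y ∉ U → x * y ∈ U) {z : G} (hz : z ∈ U) :
    ∃ g : G, (∀ e ∈ U, g * e * g⁻¹ = e) ∧ ∀ e ∈ E, e ∉ U → g * e * g⁻¹ = e * z := by
  classical
  let f : E → E := fun e => if (e : G) ∈ U then e else e * ⟨z, hU hz⟩
  have zz := hE z (hU hz)
  have f1 : ∀ e : E, (e : G) ∈ U → (f e : G) = e := fun e he => by simp [f, he]
  have f2 : ∀ e : E, (e : G) ∉ U → (f e : G) = e * z := fun e he => by simp [f, he]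
  have hi : Function.Involutive f := fun e => Subtype.ext (by
    by_cases he : (e : G) ∈ U
    · rw [f1 _ (f1 e he ▸ he), f1 e he]
    · rw [f2 _ (by rwa [f2 e he, mul_mem_cancel_right hz]), f2 e he, mul_assoc, zz, mul_one])
  obtain ⟨g, hg⟩ := hF ⟨hi.toPerm f, fun a b => Subtype.ext (show (f (a * b) : G) = f a * f b by
    by_cases ha : (a : G) ∈ U <;> by_cases hb : (b : G) ∈ U
    · rw [f1 a ha, f1 b hb, f1 _ (mul_mem ha hb), coe_mul]
    · rw [f1 a ha, f2 b hb, f2 _ (by rwa [coe_mul, mul_mem_cancel_left ha]), coe_mul, mul_assoc]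
    · rw [f2 a ha, f1 b hb, f2 _ (by rwa [coe_mul, mul_mem_cancel_right hb]), coe_mul, mul_assoc,
        mul_assoc, comm hE b.2 (hU hz)]
    · rw [f2 a ha, f2 b hb, f1 _ (h _ a.2 _ b.2 ha hb), coe_mul, comm hE b.2 (hU hz), mul_assoc,
        ← mul_assoc z, zz, one_mul])⟩
  exact ⟨g, fun e he => (hg ⟨e, hU he⟩).symm.trans (f1 _ he),
    fun e he h => (hg ⟨e, he⟩).symm.trans (f2 _ h)⟩

theorem comm_mem_S [h : S.Normal] (t : G) {s : G} (hs : s ∈ S) : ⁅t, s⁆ ∈ S :=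
  mul_mem (h.conj_mem s hs t) (inv_mem hs)

/-- The configuration of the non-abelian case. -/
structure Cf {G : Type u} [Group G] (E S : Subgroup G) : Prop where
  pyr : Pyr E
  pys : PyS E S
  sq : ∀ x ∈ S, x * x ∈ E

namespace Cf

variable {G : Type u} [Group G] {E S U : Subgroup G} (h : Cf E S)
include h

theorem two : ∀ x ∈ E, x * x = 1 := fun x => (h.pyr.mem x).1

theorem cen {e s : G} (he : e ∈ E) (hs : s ∈ S) : e * s = s * e := h.pys.cent hs e he

theorem sq_mul {e s : G} (hs : s ∈ S) (he : e ∈ E) : s * e * (s * e) = s * s := by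
  rw [mul_assoc, ← mul_assoc e, h.cen he hs, mul_assoc, h.two e he, mul_one]

theorem comm_mem {x y : G} (hx : x ∈ S) (hy : y ∈ S) : ⁅x, y⁆ ∈ E := by
  convert mul_mem (mul_mem (h.sq _ (mul_mem hx hy)) (h.pyr.normal.conj_mem _
    (h.sq _ (inv_mem hx)) y⁻¹)) (h.sq _ (inv_mem hy)) using 1
  rw [commutatorElement_def]; group

theorem sq_eq {x y : G} (hx : x ∈ S) (hy : y ∈ S) :
    x * y * (x * y) = x * x * (y * y) * ⁅x⁻¹, y⁆ := by
  rw [mul_assoc (x * x), ← h.cen (h.comm_mem (inv_mem hx) hy) (mul_mem hy hy),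
    commutatorElement_def]; group

theorem comm_left {x y c : G} (hx : x ∈ S) (hy : y ∈ S) (hc : c ∈ S) :
    ⁅x * y, c⁆ = ⁅x, c⁆ * ⁅y, c⁆ := by
  rw [← h.cen (h.comm_mem hy hc) (h.pys.le (h.comm_mem hx hc)),
    show ⁅x * y, c⁆ = x * ⁅y, c⁆ * x⁻¹ * ⁅x, c⁆ by simp only [commutatorElement_def]; group,
    ← h.cen (h.comm_mem hy hc) hx, mul_inv_cancel_right]

variable [Finite G]

/-- All fibres of the squaring map over `E ∖ 1` have the same size. -/
theorem exists_fib : ∃ m : ℕ, ∀ z ∈ E, z ≠ 1 → {s | s ∈ S ∧ s * s = z}.ncard = m := by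
  by_cases h0 : ∃ z ∈ E, z ≠ 1
  · obtain ⟨z, hz, h1⟩ := h0
    refine ⟨{s | s ∈ S ∧ s * s = z}.ncard, fun w hw h2 => ?_⟩
    obtain ⟨g, rfl⟩ := h.pyr.conj z hz w hw h1 h2
    refine Eq.symm ?_
    exact Set.ncard_congr (fun s _ => g * s * g⁻¹)
      (fun s hs => ⟨h.pys.normal.conj_mem s hs.1 g, by rw [conj_mul, hs.2]⟩)
      (fun a b _ _ e => by simpa using e)
      fun s hs => ⟨g⁻¹ * s * g, ⟨h.pys.normal.conj_mem' s hs.1 g, by
        rw [show g⁻¹ * s * g * (g⁻¹ * s * g) = g⁻¹ * (s * s) * g by group, hs.2]; group⟩,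
        by group⟩
  · exact ⟨0, fun z hz h1 => absurd ⟨z, hz, h1⟩ h0⟩

theorem sum_sq {m : ℕ} (hm : ∀ z ∈ E, z ≠ 1 → {s | s ∈ S ∧ s * s = z}.ncard = m) (f : G → ℤ)
    (A B : Finset G) (hA : ∀ s, s ∈ A ↔ s ∈ S) (hB : ∀ s, s ∈ B ↔ s ∈ E) :
    ∑ s ∈ A, f (s * s) = (Nat.card E - m) * f 1 + m * ∑ z ∈ B, f z := by
  classical
  have h1 : (1 : G) ∈ B := (hB 1).2 E.one_mem
  have k : ∀ z, (A.filter fun s => s * s = z).card = {s | s ∈ S ∧ s * s = z}.ncard := fun z => by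
    rw [← Set.ncard_coe_finset]; congr; ext; simp [hA]
  rw [← Finset.sum_fiberwise_of_maps_to (g := fun s => s * s) (t := B)
    fun s hs => (hB _).2 (h.sq s ((hA s).1 hs)),
    Finset.sum_congr rfl (g := fun z => ({s | s ∈ S ∧ s * s = z}.ncard : ℤ) * f z) fun z _ => by
      rw [Finset.sum_congr rfl (g := fun _ => f z) fun s hs => by rw [(Finset.mem_filter.1 hs).2],
        Finset.sum_const, k, nsmul_eq_mul],
    ← Finset.add_sum_erase _ _ h1, ← Finset.add_sum_erase _ _ h1,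
    Finset.sum_congr rfl (g := fun z => m * f z) fun z hz => by
      rw [hm z ((hB z).1 (Finset.mem_of_mem_erase hz)) (Finset.ne_of_mem_erase hz)],
    ← Finset.mul_sum, show {s | s ∈ S ∧ s * s = 1} = (E : Set G) from Set.ext fun s =>
      ⟨fun e => (h.pyr.mem s).2 e.2, fun e => ⟨h.pys.le e, h.two s e⟩⟩]
  rw [← Nat.card_coe_set_eq, SetLike.coe_sort_coe]
  ring

theorem card_S {m : ℕ} (hm : ∀ z ∈ E, z ≠ 1 → {s | s ∈ S ∧ s * s = z}.ncard = m) :
    (Nat.card S : ℤ) = Nat.card E - m + m * Nat.card E := by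
  classical
  have := h.sum_sq hm (fun _ => 1) (S : Set G).toFinite.toFinset (E : Set G).toFinite.toFinset
    (by simp) (by simp)
  simpa [← Set.ncard_eq_toFinset_card, ← Nat.card_coe_set_eq] using this

theorem three : 3 ≤ Nat.card E := by have := h.pyr.prime.two_le; omega

theorem case_two (hF : Full E) (hc : Nat.card S = Nat.card E ^ 2) {x y : G} (hx : x ∈ S)
    (hy : y ∈ S) : x * y = y * x := by
  obtain ⟨m, hm⟩ := h.exists_fib
  have e := h.card_S hm
  have h3 := h.three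
  have em : m = Nat.card E := by
    rw [hc] at e
    have : ((Nat.card E : ℤ) - 1) * (m - Nat.card E) = 0 := by push_cast at e; linear_combination -e
    have := (mul_eq_zero.1 this).resolve_left (by omega)
    omega
  have inj : ∀ {s t}, s ∈ S → t ∈ S → t * t = s * s → s⁻¹ * t ∈ E := fun {s t} hs ht e => by
    by_cases h1 : s * s = 1
    · exact mul_mem (inv_mem ((h.pyr.mem s).2 h1)) ((h.pyr.mem t).2 (e.trans h1))
    obtain ⟨u, hu, rfl⟩ := (Set.eq_of_subset_of_ncard_le (s := (s * ·) '' (E : Set G))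
      (t := {t | t ∈ S ∧ t * t = s * s})
      (by rintro _ ⟨u, hu, rfl⟩; exact ⟨mul_mem hs (h.pys.le hu), h.sq_mul hs hu⟩) (by
        rw [hm _ (h.sq s hs) h1, Set.ncard_image_of_injective _ (mul_right_injective s), em,
          ← Nat.card_coe_set_eq, SetLike.coe_sort_coe])).ge ⟨ht, e⟩
    simpa using hu
  by_contra hn
  have xE : x ∉ E := fun e => hn (h.cen e hy)
  have yE : y ∉ E := fun e => hn (h.cen e hx).symm
  have hxy := mul_mem hx hy
  have zx := h.sq x hx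
  have zy := h.sq y hy
  have w0 : x * y * (x * y) ∉ adj h.two (adj_le h.two bot_le zx) zy := by
    rintro ((e | e) | e | e) <;> rw [mem_bot] at e
    · refine hn (mul_left_cancel (a := x) ?_)
      rw [← mul_assoc x y, h.cen ((h.pyr.mem _).2 e) hx]
    · exact yE (by simpa using inj hx hxy ((eq_inv_of_mul_eq_one_left e).trans (inv_eq (h.two _ zx))))
    · have := inj hy hxy ((eq_inv_of_mul_eq_one_left e).trans (inv_eq (h.two _ zy)))
      exact xE (by simpa [mul_assoc] using h.pyr.normal.conj_mem _ this y)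
    · have c := h.comm_mem (inv_mem hx) hy
      rw [h.sq_eq hx hy, mul_assoc (x * x), comm h.two zy c, mul_assoc (x * x), mul_assoc _ (y * y),
        h.two _ zy, mul_one, comm h.two zx c, mul_assoc, h.two _ zx, mul_one] at e
      exact hn (Commute.inv_left_iff.1 (commutatorElement_eq_one_iff_commute.1 e))
  obtain ⟨U, h1, h2, h4, h5⟩ := exists_hyp h.two (adj_le _ _ _) w0
  have xU : x * x ∈ U := h1 (.inl (.inr (h.two _ zx)))
  have yU : y * y ∈ U := h1 (.inr (.inl (h.two _ zy)))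
  obtain ⟨g, g1, g2⟩ := exists_tv hF h.two h2
    (fun _ ha _ hb => mul_mem_of h.two (h.sq _ hxy) h5 ha hb) xU
  have a1 := inj hx (h.pys.normal.conj_mem x hx g) (by rw [conj_mul, g1 _ xU])
  have a2 := inj hy (h.pys.normal.conj_mem y hy g) (by rw [conj_mul, g1 _ yU])
  have a3 := h.sq_mul hxy (mul_mem (h.pyr.normal.conj_mem' _ a1 y) a2)
  rw [show x * y * (y⁻¹ * (x⁻¹ * (g * x * g⁻¹)) * y * (y⁻¹ * (g * y * g⁻¹))) = g * (x * y) * g⁻¹ by
    group, conj_mul, g2 _ (h.sq _ hxy) h4, mul_eq_left] at a3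
  exact xE ((h.pyr.mem x).2 a3)

theorem case_three (hF : Full E) (hc : Nat.card S = Nat.card E ^ 3) : False := by
  classical
  obtain ⟨m, hm⟩ := h.exists_fib
  have e := h.card_S hm
  have h3 := h.three
  have em : (m : ℤ) = Nat.card E * (Nat.card E + 1) := by
    rw [hc] at e
    have : ((Nat.card E : ℤ) - 1) * (m - Nat.card E * (Nat.card E + 1)) = 0 := by
      push_cast at e; linear_combination -e
    exact sub_eq_zero.1 ((mul_eq_zero.1 this).resolve_left (by omega))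
  obtain ⟨z, hz, z1⟩ : ∃ z ∈ E, z ∉ (⊥ : Subgroup G) := SetLike.not_le_iff_exists.1 fun e => by
    have := card_le_of_le e
    rw [card_bot] at this; omega
  obtain ⟨w, hw, w0⟩ : ∃ w ∈ E, w ∉ adj h.two bot_le hz := SetLike.not_le_iff_exists.1 fun e => by
    have : (E : Set G).ncard ≤ ({1, z} : Set G).ncard := Set.ncard_le_ncard fun a ha =>
      (e ha).imp id fun e => (eq_inv_of_mul_eq_one_left e).trans (inv_eq (h.two z hz))
    have := this.trans (Set.ncard_insert_le 1 ({z} : Set G))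
    rw [← Nat.card_coe_set_eq, SetLike.coe_sort_coe, Set.ncard_singleton] at this
    omega
  obtain ⟨U, h1, h2, h4, h5⟩ := exists_hyp h.two (adj_le _ _ _) w0
  have hU := fun x hx y hy => mul_mem_of h.two hw h5 (x := x) (y := y) hx hy
  obtain ⟨g, g1, g2⟩ := exists_tv hF h.two h2 hU (h1 (.inr (h.two z hz)))
  have zU : z ∈ U := h1 (.inr (h.two z hz))
  have gg : g ^ 2 ∈ centralizer (E : Set G) := fun a ha => by
    have : g * (g * a * g⁻¹) * g⁻¹ = a := by
      by_cases h0 : a ∈ U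
      · rw [g1 a h0, g1 a h0]
      · rw [g2 a ha h0, ← conj_mul, g2 a ha h0, g1 z zU, mul_assoc, h.two z hz, mul_one]
    rw [pow_two]
    conv_lhs => rw [← this]
    group
  obtain ⟨r, hr⟩ := h.pys.odd
  have := h.pys.normal
  have := h.pyr.normal
  obtain ⟨t, t1, t2⟩ : ∃ t : G, t * t ∈ S ∧ ∀ e ∈ E, t * e * t⁻¹ = e → e ∈ U := by
    refine ⟨g ^ (2 * r + 1), ?_, fun a ha e => by_contra fun h0 => z1 ?_⟩
    · rw [← pow_two, ← pow_mul, mul_comm, pow_mul, ← hr]
      exact pow_relIndex_mem S gg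
    · rw [pow_succ', pow_mul, mul_assoc g, ← pow_mem gg r a ha, mul_inv_rev, ← mul_assoc,
        ← mul_assoc, mul_inv_cancel_right, g2 a ha h0] at e
      simpa using e
  let χ : G → ℤ := fun a => if a ∈ U then 1 else -1
  have χm : ∀ a ∈ E, ∀ b ∈ E, χ (a * b) = χ a * χ b := fun a ha b hb => by
    by_cases h1 : a ∈ U <;> by_cases h2 : b ∈ U
    · simp [χ, h1, h2, mul_mem h1 h2]
    · simp [χ, h1, h2, mul_mem_cancel_left h1]
    · simp [χ, h1, h2, mul_mem_cancel_right h2]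
    · simp [χ, h1, h2, hU a ha b hb h1 h2]
  let A := (S : Set G).toFinite.toFinset
  have hA : ∀ s, s ∈ A ↔ s ∈ S := by simp [A]
  have s1 : ∑ s ∈ A, χ (s * s) = -Nat.card E ^ 2 := by
    rw [h.sum_sq hm χ A (E : Set G).toFinite.toFinset hA (by simp),
      Finset.sum_involution (fun a _ => w * a) (fun a ha => by
        rw [χm w hw a (by simpa using ha), show χ w = -1 from if_neg h4]; ring) (fun a _ _ e => h4 (by
        rw [mul_eq_right.1 e]; exact U.one_mem)) (fun a ha => by simpa using mul_mem hw (by simpa using ha))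
        fun a _ => by rw [← mul_assoc, h.two w hw, one_mul], em]
    simp [χ, U.one_mem]; ring
  have qc : ∀ x ∈ S, ∀ y ∈ S, (x : G ⧸ E) * y = y * x := fun x hx y hy =>
    commutatorElement_eq_one_iff_mul_comm.1 ((QuotientGroup.eq_one_iff ⁅x, y⁆).2 (h.comm_mem hx hy))
  let f : S →* G ⧸ E := MonoidHom.mk' (fun s => ((⁅t, (s : G)⁆ : G) : G ⧸ E)) fun a b => by
    have := qc _ a.2 _ (comm_mem_S t b.2)
    simp only [commutatorElement_def, coe_mul, QuotientGroup.mk_mul, QuotientGroup.mk_inv,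
      mul_inv_rev] at this ⊢
    generalize ((a : G) : G ⧸ E) = a, ((b : G) : G ⧸ E) = b, (t : G ⧸ E) = t at this ⊢
    calc _ = t * a * t⁻¹ * a⁻¹ * (a * (t * b * t⁻¹ * b⁻¹)) * a⁻¹ := by group
      _ = _ := by rw [this]; group
  let C := f.ker.map S.subtype
  have mC : ∀ c, c ∈ C ↔ c ∈ S ∧ ⁅t, c⁆ ∈ E := fun c =>
    ⟨by rintro ⟨c, hc, rfl⟩; exact ⟨c.2, (QuotientGroup.eq_one_iff _).1 hc⟩,
      fun e => ⟨⟨c, e.1⟩, (QuotientGroup.eq_one_iff _).2 e.2, rfl⟩⟩
  have EC : E ≤ C := fun a ha => (mC a).2 ⟨h.pys.le ha, comm_mem_S t ha⟩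
  have cC : Nat.card E ^ 2 ≤ Nat.card C := by
    have e1 : f.range ≤ C.map (QuotientGroup.mk' E) := by
      rintro _ ⟨s, rfl⟩
      refine ⟨_, (mC _).2 ⟨comm_mem_S t s.2, ?_⟩, rfl⟩
      convert mul_mem (h.comm_mem t1 s.2) (h.sq _
        (mul_mem s.2 (h.pys.normal.conj_mem _ (inv_mem s.2) t))) using 1
      simp only [commutatorElement_def]; group
    have e2 := card_le_of_le e1
    rw [← relIndex_ker, QuotientGroup.ker_mk', ← index_ker] at e2
    have e3 := (E.subgroupOf C).index_mul_card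
    rw [Nat.card_congr (subgroupOfEquivOfLe EC).toEquiv] at e3
    have e4 := f.ker.index_mul_card
    rw [hc, ← card_map_of_injective S.subtype_injective] at e4
    refine (pow_le_pow_iff_left₀ (by omega) (by omega) two_ne_zero).1 ?_
    calc _ = f.ker.index * Nat.card C * Nat.card E := by rw [e4]; ring
      _ ≤ E.relIndex C * Nat.card C * Nat.card E := by gcongr
      _ = _ := by rw [mul_right_comm, relIndex, e3, pow_two]
  have CU : ∀ c ∈ C, c * c ∈ U := fun c hc => by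
    obtain ⟨c1, c2⟩ := (mC c).1 hc
    refine t2 _ (h.sq c c1) ?_
    rw [← conj_mul, show t * c * t⁻¹ = ⁅t, c⁆ * c by simp [commutatorElement_def],
      h.cen c2 c1, h.sq_mul c1 c2]
  have CS : C ≤ S := map_subtype_le _
  have sm : ∀ x ∈ S, ∀ c ∈ C, χ (x * c * (x * c)) = χ (x * x) * χ ⁅x⁻¹, c⁆ := fun x hx c hc => by
    rw [h.sq_eq hx (CS hc), χm _ (mul_mem (h.sq x hx) (h.sq c (CS hc))) _
      (h.comm_mem (inv_mem hx) (CS hc)), χm _ (h.sq x hx) _ (h.sq c (CS hc)),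
      show χ (c * c) = 1 from if_pos (CU c hc), mul_one]
  have CC : ∀ x ∈ C, ∀ c ∈ C, ⁅x⁻¹, c⁆ ∈ U := fun x hx c hc => by
    have := CU _ (mul_mem hx hc)
    rwa [h.sq_eq (CS hx) (CS hc), mul_mem_cancel_left (mul_mem (CU x hx) (CU c hc))] at this
  have xc : ∀ x ∈ S, ∀ c ∈ C, ∀ d ∈ C, ⁅(x * c)⁻¹, d⁆ ∈ U ↔ ⁅x⁻¹, d⁆ ∈ U := fun x hx c hc d hd => by
    rw [mul_inv_rev, h.comm_left (inv_mem (CS hc)) (inv_mem hx) (CS hd),
      mul_mem_cancel_left (CC c hc d hd)]
  let D : Subgroup G :=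
    { carrier := {x | x ∈ S ∧ ∀ c ∈ C, ⁅x⁻¹, c⁆ ∈ U}
      one_mem' := ⟨S.one_mem, fun c _ => by simp⟩
      mul_mem' := fun {a b} ha hb => ⟨mul_mem ha.1 hb.1, fun c hc => by
        rw [mul_inv_rev, h.comm_left (inv_mem hb.1) (inv_mem ha.1) (CS hc)]
        exact mul_mem (hb.2 c hc) (ha.2 c hc)⟩
      inv_mem' := fun {a} ha => ⟨inv_mem ha.1, fun c hc => by
        have := h.comm_left (inv_mem ha.1) ha.1 (CS hc)
        rw [inv_mul_cancel, commutatorElement_one_left] at this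
        rw [inv_inv, ← mul_mem_cancel_left (ha.2 c hc), ← this]
        exact U.one_mem⟩ }
  have key : ∀ p : G → Prop, ∃ c ∈ C, (∃ c ∈ C, ¬ p c) → ¬ p c := fun p => by
    by_cases e : ∃ c ∈ C, ¬ p c
    · exact e.imp fun c hc => ⟨hc.1, fun _ => hc.2⟩
    · exact ⟨1, C.one_mem, fun e' => absurd e' e⟩
  choose κ κ1 κ2 using key
  let σ : G → G := fun x => κ fun c => c ∈ C ∧ ⁅x⁻¹, c⁆ ∈ U
  have σ1 : ∀ x, σ x ∈ C := fun x => κ1 _
  have σ2 : ∀ x ∈ S, x ∉ D → ⁅x⁻¹, σ x⁆ ∉ U := fun x hx h0 e =>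
    κ2 (fun c => c ∈ C ∧ ⁅x⁻¹, c⁆ ∈ U) (by
      by_contra! e; exact h0 ⟨hx, fun c hc => (e c hc).2⟩) ⟨σ1 x, e⟩
  have σ3 : ∀ x ∈ S, ∀ c ∈ C, σ (x * c) = σ x := fun x hx c hc =>
    congrArg κ (funext fun d => propext (and_congr_right (xc x hx c hc d)))
  have CD : C ≤ D := fun c hc => ⟨CS hc, CC c hc⟩
  have mA : ∀ x, ∀ c ∈ C, x * c ∈ A.filter (· ∉ D) ↔ x ∈ A.filter (· ∉ D) := fun x c hc => by
    simp only [Finset.mem_filter, hA, mul_mem_cancel_right (CS hc), mul_mem_cancel_right (CD hc)]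
  have s2 : ∑ s ∈ A with s ∉ D, χ (s * s) = -∑ s ∈ A with s ∉ D, χ (s * s) := by
    rw [← Finset.sum_neg_distrib]
    refine (Finset.sum_nbij' (fun x => x * σ x) (fun x => x * (σ x)⁻¹)
      (fun x hx => (mA x _ (σ1 x)).2 hx) (fun x hx => (mA x _ (inv_mem (σ1 x))).2 hx)
      (fun x hx => ?_) (fun x hx => ?_) fun x hx => ?_).symm <;>
      rw [Finset.mem_filter, hA] at hx
    · rw [σ3 x hx.1 _ (σ1 x), mul_inv_cancel_right]
    · rw [σ3 x hx.1 _ (inv_mem (σ1 x)), inv_mul_cancel_right]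
    · rw [sm x hx.1 _ (σ1 x), show χ ⁅x⁻¹, σ x⁆ = -1 from if_neg (σ2 x hx.1 hx.2)]; ring
  let D0 : Set G := {x | x ∈ D ∧ x * x ∈ U}
  have s3 : ∑ s ∈ A with s ∈ D, χ (s * s) = 2 * D0.ncard - Nat.card D := by
    have e1 : (A.filter (· ∈ D)).card = Nat.card D := by
      rw [← Set.ncard_coe_finset, show Nat.card D = (D : Set G).ncard from rfl]
      congr 1; ext x; simpa [hA] using fun e : x ∈ D => e.1
    have e2 : ((A.filter (· ∈ D)).filter fun s => s * s ∈ U).card = D0.ncard := by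
      rw [← Set.ncard_coe_finset]
      congr; ext x; simpa [hA, D0, and_assoc] using fun (e : x ∈ D) _ => e.1
    have := Finset.card_filter_add_card_filter_not (s := A.filter (· ∈ D)) fun s => s * s ∈ U
    simp only [χ, Finset.sum_ite, Finset.sum_const, nsmul_eq_mul]
    omega
  have s4 := Finset.sum_filter_add_sum_filter_not A (· ∈ D) fun s => χ (s * s)
  have s5 : Nat.card D = 2 * D0.ncard + Nat.card E ^ 2 := by zify; omega
  obtain ⟨a, ha⟩ : Nat.card C ∣ D0.ncard := by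
    rw [show D0 = QuotientGroup.mk ⁻¹' (QuotientGroup.mk '' D0 : Set (G ⧸ C)) from Set.ext fun x =>
      ⟨fun e => ⟨x, e, rfl⟩, fun ⟨y, hy, e⟩ => by
        have c := QuotientGroup.eq.1 e
        rw [← mul_inv_cancel_left y x]
        refine ⟨mul_mem hy.1 (CD c), by_contra fun e => ?_⟩
        have := sm y hy.1.1 _ c
        simp [χ, -mul_inv_cancel_left, e, hy.2, hy.1.2 _ c] at this⟩,
      ← Nat.card_coe_set_eq, QuotientGroup.card_preimage_mk]
    exact dvd_mul_right _ _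
  have d1 := card_dvd_of_le CD
  rw [s5, ha, ← mul_assoc, mul_comm 2, mul_assoc, Nat.dvd_add_right (dvd_mul_right _ _)] at d1
  have d2 := le_antisymm (Nat.le_of_dvd (by positivity) d1) cC
  obtain ⟨n, hn⟩ := (h.pys.two.to_le (show D ≤ S from fun _ e => e.1)).exists_card_eq
  have d3 : 2 * a + 1 ∣ 2 ^ n := hn ▸ ⟨Nat.card E ^ 2, by rw [s5, ha, d2]; ring⟩
  have d4 := Nat.Coprime.eq_one_of_dvd (Nat.Coprime.pow_right n (by simp)) d3
  rw [show a = 0 by omega, mul_zero, Set.ncard_eq_zero] at ha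
  exact ha.le (show (1 : G) ∈ D0 from ⟨D.one_mem, by simp⟩)

end Cf

end A2

theorem pa2 : PA2.{u} := fun _ _ _ _ _ h1 h2 hF _ hn h3 hc =>
  hc.elim (fun e => hn fun _ hx _ hy => A2.Cf.case_two ⟨h1, h2, h3⟩ hF e hx hy)
    (A2.Cf.case_three ⟨h1, h2, h3⟩ hF)

open Cfsg.Lib.Solv in
theorem core_of (ht : TLin.{u}) (h1 : PA1.{u}) (h3 : PA3.{u}) : Core.{u} := by
  intro G _ _ E h
  obtain ⟨S, hS, hc⟩ := h1 G E h
  have := h.normal
  have := hS.normal
  have hE : ∀ x ∈ E, x * x = 1 := fun x => (h.mem x).1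
  have : ElemAb 2 E := ⟨fun a b => Subtype.ext (A2.comm hE a.2 b.2),
    fun a => Subtype.ext (by simpa [pow_two] using hE a a.2)⟩
  have sC : Group.IsSolvable (centralizer (E : Set G)) :=
    Cor.isSolvable_of_normal_odd_index (S.subgroupOf _)
      (Cor.isSolvable_of_isPGroup hS.two.comap_subtype) hS.odd
  have key : ∀ {K : Type u} [Group K] (φ : G →* K), (∀ g, φ g = 1 → MulAut.conjNormal (H := E) g = 1) →
      Group.IsSolvable K → Group.IsSolvable G := fun φ hφ _ =>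
    solvable_of_ker_le_range (centralizer (E : Set G)).subtype φ fun g hg => ⟨⟨g, fun a ha => by
      have := congrArg (fun α : MulAut E => (α ⟨a, ha⟩ : G)) (hφ g hg)
      exact (mul_inv_eq_iff_eq_mul.1 this).symm⟩, rfl⟩
  let φ := (Vec.autEquiv 2 E).toMonoidHom.comp (MulAut.conjNormal (H := E))
  rcases ht (Vec 2 E) φ.range h.prime (fun v w hv hw => by
    obtain ⟨g, hg⟩ := h.conj _ (Vec.toMul v).2 _ (Vec.toMul w).2
      (fun e => hv (Subtype.ext e)) fun e => hw (Subtype.ext e)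
    exact ⟨_, ⟨g, rfl⟩, Subtype.ext hg⟩) with e | e
  · exact key φ.rangeRestrict (fun g hg => (Vec.autEquiv 2 E).map_eq_one_iff.1
      (congrArg Subtype.val hg)) e
  have hF : Full E := fun α => by
    obtain ⟨g, hg⟩ := e.ge (mem_top (Vec.autEquiv 2 E α))
    exact ⟨g, fun a => by rw [← (Vec.autEquiv 2 E).injective hg]; rfl⟩
  by_cases h4 : Nat.card E ≤ 4
  · exact key ((MulAut.toPerm E).comp MulAut.conjNormal)
      (fun g hg => MulEquiv.ext fun a => congrArg (· a) hg) (Base.isSolvable_perm_of_card_le h4)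
  obtain ⟨n, hn⟩ := (ElemAb.isPGroup 2 E).exists_card_eq
  have h8 : 8 ≤ Nat.card E := by
    rw [hn] at h4 ⊢
    exact Nat.pow_le_pow_right two_pos (show 3 ≤ n by
      by_contra! e; exact h4 (Nat.pow_le_pow_right two_pos (show n ≤ 2 by omega)))
  by_cases hab : ∀ x ∈ S, ∀ y ∈ S, x * y = y * x
  · exact (h3 G E S h hS hF h8 hab).elim
  · exact (pa2 G E S h hS hF h8 hab (hc.resolve_left hab).1 (hc.resolve_left hab).2).elim

end Cfsg.Lib.Known.CK
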