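import Cfsg.Agent.Known.CKDefs
import Cfsg.Agent.Block.AbSylow

/-! Pyramidal groups: an extension of an abelian 2-group by the full linear group has an involution inducing a
transvection. -/

set_option autoImplicit false

namespace Cfsg.Lib.Known.CK

open Subgroup

universe u

namespace A3

variable {G : Type u} [Group G] {E S : Subgroup G}

theorem comm_of_sq (h : ∀ x ∈ E, x * x = 1) {x y : G} (hx : x ∈ E) (hy : y ∈ E) : x * y = y * x := by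
  rw [← inv_eq_of_mul_eq_one_right (h _ (E.mul_mem hx hy)), mul_inv_rev, inv_eq_of_mul_eq_one_right (h _ hx),
    inv_eq_of_mul_eq_one_right (h _ hy)]

/-- `μ` is additive on `E`. -/
def Ad (E : Subgroup G) (μ : G → ZMod 2) : Prop := ∀ x ∈ E, ∀ y ∈ E, μ (x * y) = μ x + μ y

theorem Ad.one {μ : G → ZMod 2} (h : Ad E μ) : μ 1 = 0 := by
  have := h 1 E.one_mem 1 E.one_mem
  rw [mul_one] at this
  exact (by decide : ∀ a : ZMod 2, a = a + a → a = 0) _ this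

theorem Ad.add {μ ν : G → ZMod 2} (h : Ad E μ) (h' : Ad E ν) : Ad E (μ + ν) := fun x hx y hy => by
  rw [Pi.add_apply, Pi.add_apply, Pi.add_apply, h x hx y hy, h' x hx y hy]; ring

theorem exists_ad (h : ∀ x ∈ E, x * x = 1) {e w v : G} (he : e ∈ E) (hw : w ∈ E) (hv : v ∈ E) (h1 : v ≠ 1)
    (h2 : v ≠ e) (h3 : v ≠ w) (h4 : v ≠ e * w) : ∃ μ, Ad E μ ∧ μ e = 0 ∧ μ w = 0 ∧ μ v = 1 := by
  classical
  let : CommGroup E := { (inferInstance : Group E) with mul_comm := fun a b => Subtype.ext (comm_of_sq h a.2 b.2) }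
  let : Module (ZMod 2) (Additive E) := AddCommGroup.zmodModule (n := 2) fun x => by
    rw [two_nsmul]; exact Subtype.ext (h _ x.toMul.2)
  have hn : Additive.ofMul (⟨v, hv⟩ : E) ∉ Submodule.span (ZMod 2) {Additive.ofMul (⟨e, he⟩ : E), .ofMul ⟨w, hw⟩} := by
    rw [Submodule.mem_span_pair]
    rintro ⟨a, b, hab⟩
    have hab' := congrArg (fun x : Additive E => (x.toMul : G)) hab.symm
    rcases (by decide : ∀ a : ZMod 2, a = 0 ∨ a = 1) a with rfl | rfl <;>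
      rcases (by decide : ∀ a : ZMod 2, a = 0 ∨ a = 1) b with rfl | rfl <;>
      simp only [zero_smul, one_smul, zero_add, add_zero] at hab'
    exacts [h1 hab', h3 hab', h2 hab', h4 hab']
  obtain ⟨f, hf, hf'⟩ := Submodule.exists_dual_map_eq_bot_of_notMem hn inferInstance
  have hz : ∀ x ∈ Submodule.span (ZMod 2) {Additive.ofMul (⟨e, he⟩ : E), .ofMul ⟨w, hw⟩}, f x = 0 := fun x hx => by
    have := Submodule.mem_map_of_mem (f := f) hx
    rwa [hf', Submodule.mem_bot] at this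
  refine ⟨fun x => if hx : x ∈ E then f (.ofMul ⟨x, hx⟩) else 0, fun x hx y hy => ?_, ?_, ?_, ?_⟩
  · simp only [hx, hy, E.mul_mem hx hy, dif_pos]
    exact f.map_add (.ofMul ⟨x, hx⟩) (.ofMul ⟨y, hy⟩)
  · simp only [he, dif_pos]; exact hz _ (Submodule.subset_span (by simp))
  · simp only [hw, dif_pos]; exact hz _ (Submodule.subset_span (by simp))
  · simp only [hv, dif_pos]; exact ((by decide : ∀ a : ZMod 2, a = 0 ∨ a = 1) _).resolve_left hf

/-- `e ^ a` for `a` in `ZMod 2`. -/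
def ep (e : G) (a : ZMod 2) : G := if a = 0 then 1 else e

theorem ep_zero (e : G) : ep e 0 = 1 := if_pos rfl

theorem ep_one (e : G) : ep e 1 = e := if_neg (by decide)

theorem ep_add {e : G} (h : e * e = 1) (a b : ZMod 2) : ep e (a + b) = ep e a * ep e b := by
  rcases (by decide : ∀ a : ZMod 2, a = 0 ∨ a = 1) a with rfl | rfl <;>
    rcases (by decide : ∀ a : ZMod 2, a = 0 ∨ a = 1) b with rfl | rfl
  · rw [add_zero, ep_zero, mul_one]
  · rw [zero_add, ep_zero, one_mul]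
  · rw [add_zero, ep_zero, mul_one]
  · rw [show (1 : ZMod 2) + 1 = 0 from rfl, ep_zero, ep_one, h]

theorem ep_mem {e : G} (h : e ∈ E) (a : ZMod 2) : ep e a ∈ E := by
  unfold ep; split_ifs; exacts [E.one_mem, h]

theorem Ad.ep {μ : G → ZMod 2} (h : Ad E μ) {e : G} (a : ZMod 2) : μ (ep e a) = a * μ e := by
  rcases (by decide : ∀ a : ZMod 2, a = 0 ∨ a = 1) a with rfl | rfl
  · rw [ep_zero, h.one, zero_mul]
  · rw [ep_one, one_mul]

/-- `t` induces on `E` the transvection with centre `e` and axis the kernel of `μ`. -/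
structure Tr (E : Subgroup G) (e : G) (μ : G → ZMod 2) (t : G) : Prop where
  ad : Ad E μ
  mem : e ∈ E
  zero : μ e = 0
  act : ∀ x ∈ E, t * x * t⁻¹ = x * ep e (μ x)

theorem exists_tr (h : ∀ x ∈ E, x * x = 1) (hF : Full E) {e : G} {μ : G → ZMod 2} (ha : Ad E μ) (he : e ∈ E)
    (h0 : μ e = 0) : ∃ t, Tr E e μ t := by
  have hi : Function.Involutive fun x : E => (⟨x * ep e (μ x), E.mul_mem x.2 (ep_mem he _)⟩ : E) := fun x =>
    Subtype.ext (by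
      change x * ep e (μ x) * ep e (μ (x * ep e (μ x))) = x
      rw [ha _ x.2 _ (ep_mem he _), ha.ep, h0, mul_zero, add_zero, mul_assoc, h _ (ep_mem he _), mul_one])
  obtain ⟨t, ht⟩ := hF { hi.toPerm with
    map_mul' := fun x y => Subtype.ext (by
      change (x : G) * y * ep e (μ (x * y)) = x * ep e (μ x) * (y * ep e (μ y))
      rw [ha _ x.2 _ y.2, ep_add (h _ he), mul_assoc, mul_assoc, ← mul_assoc (ep e _), comm_of_sq h (ep_mem he _) y.2,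
        mul_assoc]) }
  exact ⟨t, ha, he, h0, fun x hx => (ht ⟨x, hx⟩).symm⟩

theorem Tr.conj [hn : E.Normal] {e t g : G} {μ ν : G → ZMod 2} (h : Tr E e μ t) (ha : Ad E ν)
    (hg : ∀ x ∈ E, ν (g * x * g⁻¹) = μ x) (he : g * e * g⁻¹ = e) : Tr E e ν (g * t * g⁻¹) := by
  refine ⟨ha, h.mem, by rw [← he, hg _ h.mem, h.zero], fun x hx => ?_⟩
  have h1 : g⁻¹ * x * g ∈ E := by simpa using hn.conj_mem x hx g⁻¹
  have h2 := h.act _ h1
  have h3 : g * ep e (ν x) * g⁻¹ = ep e (ν x) := by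
    unfold ep; split_ifs; exacts [by group, he]
  rw [← hg _ h1, show g * (g⁻¹ * x * g) * g⁻¹ = x by group] at h2
  rw [show g * t * g⁻¹ * x * (g * t * g⁻¹)⁻¹ = g * (t * (g⁻¹ * x * g) * t⁻¹) * g⁻¹ by group, h2,
    show g * (g⁻¹ * x * g * ep e (ν x)) * g⁻¹ = x * (g * ep e (ν x) * g⁻¹) by group, h3]

theorem Tr.mul (hE : ∀ x ∈ E, x * x = 1) {e t t' : G} {μ ν : G → ZMod 2} (h : Tr E e μ t) (h' : Tr E e ν t') :
    Tr E e (μ + ν) (t * t') := by
  refine ⟨h.ad.add h'.ad, h.mem, by rw [Pi.add_apply, h.zero, h'.zero, add_zero], fun x hx => ?_⟩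
  rw [show t * t' * x * (t * t')⁻¹ = t * (t' * x * t'⁻¹) * t⁻¹ by group, h'.act x hx,
    h.act _ (E.mul_mem hx (ep_mem h.mem _)), h.ad _ hx _ (ep_mem h.mem _), h.ad.ep, h.zero, mul_zero, add_zero,
    Pi.add_apply, add_comm, ep_add (hE _ h.mem), mul_assoc]

theorem Tr.cent {e t : G} {μ : G → ZMod 2} (h : Tr E e μ t) (h0 : ∀ x ∈ E, μ x = 0) : t ∈ centralizer (E : Set G) :=
  mem_centralizer_iff.2 fun x hx => by
    have := h.act x hx
    rw [h0 x hx, ep_zero, mul_one] at this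
    exact (mul_inv_eq_iff_eq_mul.1 this).symm

theorem Tr.of_cent {e t s : G} {μ : G → ZMod 2} (h : Tr E e μ t) (hs : s ∈ centralizer (E : Set G)) :
    Tr E e μ (t * s) := ⟨h.ad, h.mem, h.zero, fun x hx => by
  rw [← h.act x hx, show t * s * x * (t * s)⁻¹ = t * (s * x) * s⁻¹ * t⁻¹ by group, ← mem_centralizer_iff.1 hs x hx]
  group⟩

/-- In an abelian 2-group with at most one involution an element of maximal order is a generator. -/
theorem cyc {A : Type*} [CommGroup A] (M : A →* A) {e s₁ : A} (hM : ∀ s, M s * M s = 1 → M s = 1 ∨ M s = e)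
    (he : e * e = 1) {d : ℕ} (h1 : M s₁ ^ 2 ^ d = e) (m : ℕ) (hm : m ≤ d + 1) (s : A) (hs : M s ^ 2 ^ m = 1) :
    M s ∈ zpowers (M s₁) := by
  induction m generalizing s with
  | zero => rw [pow_zero, pow_one] at hs; rw [hs]; exact one_mem _
  | succ m ih =>
    rcases hM (s ^ 2 ^ m) (by rw [map_pow, ← pow_add, ← two_mul, ← pow_succ', hs]) with h2 | h2
    · exact ih (by omega) s (by rwa [map_pow] at h2)
    · have h3 := ih (by omega) (s * s₁ ^ 2 ^ (d - m)) (by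
        rw [map_mul, mul_pow, ← map_pow M s, h2, map_pow, ← pow_mul, ← pow_add, Nat.sub_add_cancel (by omega), h1, he])
      rw [map_mul, map_pow] at h3
      exact (mul_mem_cancel_right (pow_mem (mem_zpowers _) _)).1 h3

/-- The norm of a four-group vanishes. -/
theorem norm_four {A : Type*} [CommGroup A] (φ M₁ M₂ N₁ N₂ : A →* A) {e s₁ s₂ : A} (he : e * e = 1) (he1 : e ≠ 1)
    (hM₁ : ∀ s, M₁ s * M₁ s = 1 → M₁ s = 1 ∨ M₁ s = e) (hM₂ : ∀ s, M₂ s * M₂ s = 1 → M₂ s = 1 ∨ M₂ s = e)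
    (h₁ : ∀ s, φ s = N₂ (M₁ s)) (h₂ : ∀ s, φ s = N₁ (M₂ s)) {d : ℕ} (e₁ : ∀ s, M₁ s ^ 2 ^ (d + 1) = 1)
    (e₂ : ∀ s, M₂ s ^ 2 ^ (d + 1) = 1) (a₁ : M₁ s₁ ^ 2 ^ d = e) (a₂ : M₂ s₂ ^ 2 ^ d = e) (b₁ : M₁ s₂ ^ 2 ^ d = 1)
    (s : A) : φ s = 1 := by
  obtain ⟨k, hk⟩ := mem_zpowers_iff.1 (cyc M₁ hM₁ he a₁ _ le_rfl s (e₁ s))
  obtain ⟨m, hm⟩ := mem_zpowers_iff.1 (cyc M₁ hM₁ he a₁ _ le_rfl s₂ (e₁ s₂))
  obtain ⟨n, hn⟩ := mem_zpowers_iff.1 (cyc M₂ hM₂ he a₂ _ le_rfl s₁ (e₂ s₁))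
  have ho : orderOf e = 2 := orderOf_eq_prime (by rw [sq, he]) he1
  have h3 : (2 : ℤ) ∣ m := by
    rw [← hm, ← zpow_natCast, ← zpow_mul, mul_comm, zpow_mul, zpow_natCast, a₁, ← orderOf_dvd_iff_zpow_eq_one,
      ho] at b₁
    exact b₁
  have h4 : φ s₁ ^ (m * n - 1) = 1 := by
    rw [zpow_sub, zpow_mul, zpow_one, h₁ s₁, ← map_zpow, hm, ← h₁, h₂ s₂, ← map_zpow, hn, ← h₂, h₁, mul_inv_cancel]
  have h5 : φ s₁ ^ ((2 : ℤ) ^ (d + 1)) = 1 := by
    rw [h₁, ← map_zpow, ← map_one N₂, ← e₁ s₁, ← zpow_natCast]; norm_cast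
  have h6 : IsCoprime (m * n - 1) ((2 : ℤ) ^ (d + 1)) := by
    obtain ⟨c, rfl⟩ := h3
    exact IsCoprime.pow_right ⟨-1, c * n, by ring⟩
  obtain ⟨a, b, hab⟩ := h6
  have h7 : φ s₁ = 1 := by
    rw [← zpow_one (φ s₁), ← hab, zpow_add, mul_comm a, mul_comm b, zpow_mul, zpow_mul, h4, h5, one_zpow, one_zpow,
      mul_one]
  rw [h₁, ← hk, map_zpow, ← h₁, h7, one_zpow]

/-- The standing hypotheses: no lift of a transvection has order dividing `2 ^ (i + 1)`. -/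
structure St (E S : Subgroup G) (i : ℕ) : Prop where
  py : Pyr E
  ps : PyS E S
  full : Full E
  comm : ∀ x ∈ S, ∀ y ∈ S, x * y = y * x
  cent : centralizer (E : Set G) ≤ S
  min : ∀ e μ t, Tr E e μ t → e ≠ 1 → ∀ f ∈ E, μ f = 1 → (t * t) ^ 2 ^ i ≠ 1

namespace St

variable {i : ℕ} {e t f : G} {μ : G → ZMod 2}

theorem sq (H : St E S i) (x : G) (hx : x ∈ E) : x * x = 1 := (H.py.mem x).1 hx

theorem mul_mem (H : St E S i) {t' : G} (h : Tr E e μ t) (h' : Tr E e μ t') : t * t' ∈ S :=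
  H.cent ((h.mul H.sq h').cent fun x _ => (by decide : ∀ a : ZMod 2, a + a = 0) (μ x))

theorem diff (H : St E S i) {t' : G} (h : Tr E e μ t) (h' : Tr E e μ t') : ∃ s ∈ S, t' = t * s :=
  ⟨(t * t)⁻¹ * (t * t'), S.mul_mem (S.inv_mem (H.mul_mem h h)) (H.mul_mem h h'), by group⟩

theorem conj_eq (H : St E S i) {s x : G} (t : G) (hs : s ∈ S) (hx : x ∈ S) : t * s * x * (t * s)⁻¹ = t * x * t⁻¹ := by
  rw [mul_assoc t, H.comm s hs x hx]; group

theorem sq_mul (H : St E S i) (ht : t * t ∈ S) {s : G} (hs : s ∈ S) (n : ℕ) :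
    (t * s * (t * s)) ^ n = (t * t) ^ n * (t * s * t⁻¹ * s) ^ n := by
  have h1 := H.ps.normal.conj_mem s hs t
  rw [← Commute.mul_pow (H.comm _ ht _ (S.mul_mem h1 hs)), ← mul_assoc (t * t), H.comm _ ht _ h1]
  congr 1; group

theorem nm_pow (H : St E S i) (t : G) {s : G} (hs : s ∈ S) (n : ℕ) :
    (t * s * t⁻¹ * s) ^ n = t * s ^ n * t⁻¹ * s ^ n := by
  rw [Commute.mul_pow (H.comm _ (H.ps.normal.conj_mem s hs t) _ hs), conj_pow]

theorem nm_E (H : St E S i) (h : Tr E e μ t) {x : G} (hx : x ∈ E) : t * x * t⁻¹ * x = ep e (μ x) := by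
  rw [h.act x hx, comm_of_sq H.sq hx (ep_mem h.mem _), mul_assoc, H.sq x hx, mul_one]

theorem root (H : St E S i) {s : G} (hs : s ∈ S) {n : ℕ} (h1 : s ^ n ≠ 1) (h2 : s ^ n * s ^ n = 1) (hf : f ∈ E)
    (hf1 : f ≠ 1) : ∃ r ∈ S, r ^ n = f := by
  obtain ⟨g, hg⟩ := H.py.conj _ ((H.py.mem _).2 h2) f hf h1 hf1
  exact ⟨_, H.ps.normal.conj_mem s hs g, by rw [conj_pow, hg]⟩

theorem zero_of_fix (h : Tr E e μ t) (he : e ≠ 1) {v : G} (hv : v ∈ E) (h1 : t * v * t⁻¹ = v) : μ v = 0 := by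
  refine ((by decide : ∀ a : ZMod 2, a = 0 ∨ a = 1) _).resolve_right fun h2 => he ?_
  rw [h.act v hv, h2, ep_one] at h1
  exact mul_eq_left.1 h1

theorem facts (H : St E S i) (h : Tr E e μ t) (he : e ≠ 1) (hf : f ∈ E) (hf1 : μ f = 1)
    (h2 : (t * t) ^ 2 ^ i * (t * t) ^ 2 ^ i = 1) :
    (t * t) ^ 2 ^ i ∈ E ∧ μ ((t * t) ^ 2 ^ i) = 0 ∧ (t * t) ^ 2 ^ i ≠ 1 ∧ (t * t) ^ 2 ^ i ≠ e := by
  have h3 := (H.py.mem _).2 h2
  have h4 := H.min e μ t h he f hf hf1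
  refine ⟨h3, zero_of_fix h he h3 (by rw [← conj_pow]; congr 1; group), h4, fun h5 => ?_⟩
  obtain ⟨r, hr, h6⟩ := H.root (H.mul_mem h h) h4 h2 hf fun h7 => by
    rw [h7, h.ad.one] at hf1; exact zero_ne_one hf1
  refine H.min e μ _ (h.of_cent (H.ps.cent hr)) he f hf hf1 ?_
  rw [H.sq_mul (H.mul_mem h h) hr, H.nm_pow t hr, h6, H.nm_E h hf, hf1, ep_one, h5, H.sq e h.mem]

/-- Conjugating by a lift of a transvection with centre `w` and axis `ν`. -/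
theorem move (H : St E S i) (h : Tr E e μ t) {w : G} {ν : G → ZMod 2} (hν : Ad E ν) (hw : w ∈ E) (h0 : ν w = 0)
    (h1 : ν e = 0) {μ' : G → ZMod 2} (ha : Ad E μ') (h2 : ∀ x ∈ E, μ' x + ν x * μ' w = μ x) :
    ∃ g, Tr E w ν g ∧ Tr E e μ' (g * t * g⁻¹) := by
  obtain ⟨g, hg⟩ := exists_tr H.sq H.full hν hw h0
  have := H.py.normal
  refine ⟨g, hg, h.conj ha (fun x hx => ?_) (by rw [hg.act e h.mem, h1, ep_zero, mul_one])⟩
  rw [hg.act x hx, ha _ hx _ (ep_mem hw _), ha.ep, h2 x hx]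

theorem trans (H : St E S i) (h : Tr E e μ t) (he : e ≠ 1) (hf : f ∈ E) (hf1 : μ f = 1)
    (h2 : (t * t) ^ 2 ^ i * (t * t) ^ 2 ^ i = 1) {v : G} (hv : v ∈ E) (h0 : μ v = 0) (h1 : v ≠ 1) (h3 : v ≠ e) :
    ∃ s ∈ S, (t * s * (t * s)) ^ 2 ^ i = v := by
  obtain ⟨a1, a2, a3, a4⟩ := H.facts h he hf hf1 h2
  generalize hu : (t * t) ^ 2 ^ i = u at a1 a2 a3 a4
  obtain ⟨ν, b1, b2, b3, b4⟩ := exists_ad H.sq h.mem (E.mul_mem a1 hv) a1 a3 a4 (fun e' => h1 (left_eq_mul.1 e'))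
    fun e' => h3 (by
      rw [← mul_assoc, comm_of_sq H.sq h.mem a1, mul_assoc, left_eq_mul] at e'
      rw [← inv_eq_of_mul_eq_one_right e', inv_eq_of_mul_eq_one_right (H.sq e h.mem)])
  obtain ⟨g, hg, h4⟩ := H.move h b1 (E.mul_mem a1 hv) b3 b2 h.ad fun x _ => by
    rw [h.ad _ a1 _ hv, a2, h0, add_zero, mul_zero, add_zero]
  obtain ⟨s, hs, h5⟩ := H.diff h h4
  refine ⟨s, hs, ?_⟩
  rw [← h5, conj_mul, conj_pow, hu, hg.act u a1, b4, ep_one, ← mul_assoc, H.sq u a1, one_mul]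

theorem claimA (H : St E S i) (h : Tr E e μ t) (he : e ≠ 1) (hf : f ∈ E) (hf1 : μ f = 1)
    (h2 : (t * t) ^ 2 ^ i * (t * t) ^ 2 ^ i = 1) {s : G} (hs : s ∈ S)
    (h3 : (t * s * t⁻¹ * s) ^ 2 ^ i * (t * s * t⁻¹ * s) ^ 2 ^ i = 1) :
    (t * s * t⁻¹ * s) ^ 2 ^ i = 1 ∨ (t * s * t⁻¹ * s) ^ 2 ^ i = e := by
  by_contra! hc
  have h4 := (H.py.mem _).2 h3
  obtain ⟨r, hr, h5⟩ := H.trans h he hf hf1 h2 h4 (zero_of_fix h he h4 (by
    rw [← conj_pow, show t * (t * s * t⁻¹ * s) * t⁻¹ = t * t * s * (t * t)⁻¹ * (t * s * t⁻¹) by group,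
      H.comm _ (H.mul_mem h h) _ hs, mul_inv_cancel_right, H.comm _ hs _ (H.ps.normal.conj_mem s hs t)])) hc.1 hc.2
  have h6 := h.of_cent (H.ps.cent hr)
  refine H.min e μ _ (h6.of_cent (H.ps.cent hs)) he f hf hf1 ?_
  rw [H.sq_mul (H.mul_mem h6 h6) hs, h5, H.conj_eq t hr hs, h3]

theorem claimC (H : St E S i) (h : Tr E e μ t) (he : e ≠ 1) (hf : f ∈ E) (hf1 : μ f = 1)
    (h2 : (t * t) ^ 2 ^ i * (t * t) ^ 2 ^ i = 1) {ν : G → ZMod 2} (hν : Ad E ν) (a1 : ν e = 0)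
    (a2 : ν ((t * t) ^ 2 ^ i) = 1) {v : G} (hv : v ∈ E) (h1 : v ≠ 1) (h3 : v ≠ e) (h0 : μ v = 0) : ν v = 1 := by
  obtain ⟨s, hs, h4⟩ := H.trans h he hf hf1 h2 hv h0 h1 h3
  have hu := (H.py.mem _).2 h2
  rw [H.sq_mul (H.mul_mem h h) hs] at h4
  rcases H.claimA h he hf hf1 h2 hs (by
    rw [eq_inv_mul_of_mul_eq h4]; exact H.sq _ (E.mul_mem (E.inv_mem hu) hv)) with h5 | h5
  · rw [← h4, h5, mul_one, a2]
  · rw [← h4, h5, hν _ hu _ h.mem, a1, a2, add_zero]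

theorem false [Finite G] (H : St E S i) (h : Tr E e μ t) (he : e ≠ 1) (hf : f ∈ E) (hf1 : μ f = 1)
    (h2 : (t * t) ^ 2 ^ i * (t * t) ^ 2 ^ i = 1) : False := by
  classical
  obtain ⟨a1, a2, a3, a4⟩ := H.facts h he hf hf1 h2
  have z2 : ∀ a : ZMod 2, a = 0 ∨ a = 1 := by decide
  obtain ⟨ν, b1, b2, b3, b4⟩ := exists_ad H.sq h.mem hf a1 a3 a4
    (fun e' => by rw [e', hf1] at a2; exact one_ne_zero a2)
    fun e' => by rw [e', h.ad _ h.mem _ hf, h.zero, hf1, zero_add] at a2; exact one_ne_zero a2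
  obtain ⟨g₂, -, h₂⟩ := H.move h (h.ad.add b1) (E.mul_mem a1 hf)
    (by rw [Pi.add_apply, h.ad _ a1 _ hf, b1 _ a1 _ hf, a2, b3, b4, hf1]; rfl)
    (by rw [Pi.add_apply, h.zero, b2, add_zero]) b1 fun x _ => by
      rw [b1 _ a1 _ hf, b3, b4, Pi.add_apply]
      exact (by decide : ∀ a b : ZMod 2, b + (a + b) * (1 + 0) = a) _ _
  obtain ⟨g₃, -, h₃⟩ := H.move h b1 hf b3 b2 (h.ad.add b1) fun x _ => by
    rw [Pi.add_apply, Pi.add_apply, b3, hf1]
    exact (by decide : ∀ a b : ZMod 2, a + b + b * (1 + 0) = a) _ _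
  have hl : ∀ g : G, (g * t * g⁻¹ * (g * t * g⁻¹)) ^ 2 ^ i * (g * t * g⁻¹ * (g * t * g⁻¹)) ^ 2 ^ i = 1 := fun g => by
    rw [conj_mul, conj_pow, conj_mul, h2, mul_one, mul_inv_cancel]
  have l₂ := hl g₂
  have l₃ := hl g₃
  generalize g₂ * t * g₂⁻¹ = t₂ at h₂ l₂
  generalize g₃ * t * g₃⁻¹ = t₃ at h₃ l₃
  obtain ⟨c1, c2, c3, c4⟩ := H.facts h₂ he a1 b4 l₂
  obtain ⟨d1, d2, d3, d4⟩ := H.facts h₃ he hf (by rw [Pi.add_apply, hf1, b3, add_zero]) l₃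
  have c5 : μ ((t₂ * t₂) ^ 2 ^ i) = 1 := (z2 _).resolve_left fun e' => by
    rw [H.claimC h he hf hf1 h2 b1 b2 b4 c1 c3 c4 e'] at c2; exact one_ne_zero c2
  have d5 : μ ((t₃ * t₃) ^ 2 ^ i) = 1 := (z2 _).resolve_left fun e' => by
    rw [Pi.add_apply, e', H.claimC h he hf hf1 h2 b1 b2 b4 d1 d3 d4 e', zero_add] at d2; exact one_ne_zero d2
  have hn := H.ps.normal
  have k₁ := H.mul_mem h h
  have k₂ := H.mul_mem h₂ h₂
  have h12 := h.mul H.sq h₂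
  obtain ⟨c, hc, hc'⟩ := H.diff h12 (add_comm ν μ ▸ h₂.mul H.sq h)
  obtain ⟨s, hs, rfl⟩ := H.diff h12 h₃
  -- the exponent of `S`
  obtain ⟨n, hn'⟩ := IsPGroup.iff_card.1 H.ps.two
  have hex : ∃ d, ∀ r ∈ S, r ^ 2 ^ (i + d + 1) = 1 := ⟨n, fun r hr => by
    rw [← orderOf_dvd_iff_pow_eq_one]
    exact (S.orderOf_dvd_natCard hr).trans (hn' ▸ pow_dvd_pow 2 (by omega))⟩
  obtain ⟨d, hd, r₀, hr₀, hr₁⟩ : ∃ d, (∀ r ∈ S, r ^ 2 ^ (i + d + 1) = 1) ∧ ∃ r ∈ S, r ^ 2 ^ (i + d) ≠ 1 := by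
    refine ⟨Nat.find hex, Nat.find_spec hex, ?_⟩
    rcases hd : Nat.find hex with _ | d
    · exact ⟨_, k₁, a3⟩
    · have := Nat.find_min hex (m := d) (by omega)
      push Not at this
      exact this
  have hr₂ : r₀ ^ 2 ^ (i + d) * r₀ ^ 2 ^ (i + d) = 1 := by rw [← pow_add, ← two_mul, ← pow_succ', hd r₀ hr₀]
  obtain ⟨s₁, hs₁, p₁⟩ := H.root hr₀ hr₁ hr₂ c1 c3
  obtain ⟨s₂, hs₂, p₂⟩ := H.root hr₀ hr₁ hr₂ a1 a3
  let : CommGroup S := { (inferInstance : Group S) with mul_comm := fun a b => Subtype.ext (H.comm _ a.2 _ b.2) }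
  let N : G → S →* S := fun g => (MulAut.conjNormal g).toMonoidHom * MonoidHom.id S
  have hN : ∀ g (x : S), ((N g x : S) : G) = g * x * g⁻¹ * x := fun g x => rfl
  let M : G → S →* S := fun g => (powMonoidHom (2 ^ i)).comp (N g)
  have hM : ∀ g (x : S), ((M g x : S) : G) = (g * x * g⁻¹ * x) ^ 2 ^ i := fun g x => rfl
  have hM' : ∀ g (x : S) (k : ℕ), ((M g x ^ 2 ^ k : S) : G) = g * x ^ 2 ^ (i + k) * g⁻¹ * x ^ 2 ^ (i + k) :=
    fun g x k => by rw [SubgroupClass.coe_pow, hM, ← pow_mul, ← pow_add, H.nm_pow g x.2]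
  have h21 : ∀ x : S, MulAut.conjNormal t₂ (MulAut.conjNormal t x) = MulAut.conjNormal t (MulAut.conjNormal t₂ x) :=
    fun x => Subtype.ext (by
      have := H.conj_eq (t * t₂) hc x.2
      rw [← hc'] at this
      simpa only [MulAut.conjNormal_apply, mul_inv_rev, mul_assoc] using this)
  have h11 : ∀ x : S, MulAut.conjNormal t (MulAut.conjNormal t x) = x := fun x => Subtype.ext (by
    have := H.conj_eq 1 k₁ x.2
    simpa only [MulAut.conjNormal_apply, mul_inv_rev, mul_assoc, one_mul, inv_one, mul_one] using this)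
  have hNN : ∀ x : S, N t₂ (N t x) = N t (N t₂ x) := fun x => by
    change MulAut.conjNormal t₂ (MulAut.conjNormal t x * x) * (MulAut.conjNormal t x * x) =
      MulAut.conjNormal t (MulAut.conjNormal t₂ x * x) * (MulAut.conjNormal t₂ x * x)
    rw [map_mul, map_mul, h21, mul_mul_mul_comm]
  have hN3 : ∀ x : S, N t (N (t * t₂) x) = N t₂ (N t x) := fun x => by
    change MulAut.conjNormal t (MulAut.conjNormal (t * t₂) x * x) * (MulAut.conjNormal (t * t₂) x * x) =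
      MulAut.conjNormal t₂ (MulAut.conjNormal t x * x) * (MulAut.conjNormal t x * x)
    rw [map_mul, map_mul, map_mul, MulAut.mul_apply, h11, h21, mul_mul_mul_comm, mul_comm (MulAut.conjNormal t₂ x)]
  have key := norm_four ((N t₂).comp (M t)) (M t) (M t₂) (N t) (N t₂) (e := ⟨e, H.ps.le h.mem⟩) (s₁ := ⟨s₁, hs₁⟩)
    (s₂ := ⟨s₂, hs₂⟩) (Subtype.ext (H.sq e h.mem)) (fun e' => he (congrArg Subtype.val e'))
    (fun x hx => (H.claimA h he hf hf1 h2 x.2 (congrArg Subtype.val hx)).imp Subtype.ext Subtype.ext)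
    (fun x hx => (H.claimA h₂ he a1 b4 l₂ x.2 (congrArg Subtype.val hx)).imp Subtype.ext Subtype.ext)
    (fun _ => rfl) (fun x => by
      change N t₂ (N t x ^ 2 ^ i) = N t (N t₂ x ^ 2 ^ i)
      rw [map_pow, map_pow, hNN]) (d := d)
    (fun x => Subtype.ext (by rw [hM', ← add_assoc, hd x x.2]; simp))
    (fun x => Subtype.ext (by rw [hM', ← add_assoc, hd x x.2]; simp))
    (Subtype.ext (by rw [hM', p₁, H.nm_E h c1, c5, ep_one]))
    (Subtype.ext (by rw [hM', p₂, H.nm_E h₂ a1, b4, ep_one]))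
    (Subtype.ext (by rw [hM', p₂, H.nm_E h a1, a2, ep_zero]; rfl)) ⟨s, hs⟩
  have k₃ : t⁻¹ * t₂ * t * t₂⁻¹ ∈ S := by
    rw [mul_assoc t⁻¹, hc', show t⁻¹ * (t * t₂ * c) * t₂⁻¹ = t₂ * c * t₂⁻¹ by group]; exact hn.conj_mem c hc t₂
  have hD : (⟨_, H.mul_mem h₃ h₃⟩ : S) = ⟨_, k₁⟩ * ⟨_, k₃⟩ * ⟨_, k₂⟩ * N (t * t₂) ⟨s, hs⟩ := Subtype.ext (by
    have := H.sq_mul (H.mul_mem h12 h12) hs 1
    rw [pow_one, pow_one, pow_one] at this
    change _ = t * t * (t⁻¹ * t₂ * t * t₂⁻¹) * (t₂ * t₂) * (t * t₂ * s * (t * t₂)⁻¹ * s)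
    rw [show t * t * (t⁻¹ * t₂ * t * t₂⁻¹) * (t₂ * t₂) = t * t₂ * (t * t₂) by group]
    exact this)
  have q₁ : M t (N (t * t₂) ⟨s, hs⟩) = 1 := by
    rw [← key]
    change N t (N (t * t₂) _) ^ 2 ^ i = N t₂ (N t _ ^ 2 ^ i)
    rw [hN3, map_pow]
  have q₂ : ((M t ⟨_, k₃⟩ : S) : G) = e := by
    have q₃ : t * (t⁻¹ * t₂ * t * t₂⁻¹) * t⁻¹ * (t⁻¹ * t₂ * t * t₂⁻¹) = (t * t)⁻¹ * (t₂ * (t * t) * t₂⁻¹) := by
      have r₁ := H.conj_eq (t * t₂) hc (S.inv_mem (by simpa using hn.conj_mem _ k₁ t₂⁻¹ : t₂⁻¹ * (t * t) * t₂ ∈ S))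
      rw [← hc'] at r₁
      calc _ = t₂ * t * (t₂⁻¹ * (t * t) * t₂)⁻¹ * (t₂ * t)⁻¹ * (t₂ * (t * t) * t₂⁻¹) := by group
        _ = _ := by rw [r₁]; group
    rw [hM, q₃, Commute.mul_pow (H.comm _ (S.inv_mem k₁) _ (hn.conj_mem _ k₁ t₂)), inv_pow, conj_pow, h₂.act _ a1, b4,
      ep_one, inv_mul_cancel_left]
  have q₄ := congrArg (fun x => ((M t x : S) : G)) hD
  simp only [map_mul, q₁, mul_one, coe_mul, q₂] at q₄
  rw [hM, hM, hM, H.nm_pow t (H.mul_mem h₃ h₃), H.nm_pow t k₁, H.nm_pow t k₂, H.nm_E h d1, H.nm_E h a1, H.nm_E h c1,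
    d5, a2, c5, ep_zero, ep_one, one_mul, H.sq e h.mem] at q₄
  exact he q₄

end St

theorem cent_le [Finite G] (h : Pyr E) (hS : PyS E S) (hc : ∀ x ∈ S, ∀ y ∈ S, x * y = y * x) :
    centralizer (E : Set G) ≤ S := by
  have := h.normal
  have := hS.normal
  have h2 : ∀ {n : ℕ}, Odd n → ¬ 2 ∣ n := fun hn => hn.not_two_dvd_nat
  let P : Sylow 2 (centralizer (E : Set G)) := (hS.two.comap_subtype (K := centralizer (E : Set G))).toSylow (h2 hS.odd)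
  have h3 : S.subgroupOf (centralizer (E : Set G)) ≤ center _ := fun s hs => mem_center_iff.2 fun n =>
    (Block.Princ.mem_centralizer_of_omega P ⟨⟨fun a b => Subtype.ext (Subtype.ext (hc _ a.2 _ b.2))⟩⟩ (n := n)
      (by
        have : (P : Subgroup (centralizer (E : Set G))).Normal := hS.normal.subgroupOf _
        exact le_normalizer_of_normal (mem_top n))
      (fun v _ hv => Subtype.ext (by
        rw [coe_mul, coe_mul, ← n.2 v ((h.mem _).2 (by rw [← sq]; exact congrArg Subtype.val hv)), coe_inv,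
          mul_inv_cancel_right])) s hs).symm
  have h4 : Odd (center (centralizer (E : Set G))).index := Odd.of_dvd_nat hS.odd (index_dvd_of_le h3)
  let K : Subgroup G :=
    { carrier := {x | x ∈ centralizer (E : Set G) ∧ Odd (orderOf x)}
      one_mem' := ⟨one_mem _, by simp⟩
      inv_mem' := fun hx => ⟨inv_mem hx.1, by simpa using hx.2⟩
      mul_mem' := fun {x y} hx hy => ⟨mul_mem hx.1 hy.1, by
        have h5 := congrArg (fun z : center (centralizer (E : Set G)) => ((z : centralizer (E : Set G)) : G))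
          ((MonoidHom.transferCenterPow (centralizer (E : Set G))).map_mul ⟨x, hx.1⟩ ⟨y, hy.1⟩)
        have h6 := congrArg Subtype.val (mem_center_iff.1
          (MonoidHom.transferCenterPow (centralizer (E : Set G)) ⟨y, hy.1⟩).2
          (MonoidHom.transferCenterPow (centralizer (E : Set G)) ⟨x, hx.1⟩))
        simp only [coe_mul, MonoidHom.transferCenterPow_apply, SubgroupClass.coe_pow] at h5 h6
        refine Odd.of_dvd_nat (h4.mul (hx.2.mul hy.2)) (orderOf_dvd_of_pow_eq_one ?_)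
        rw [pow_mul, h5, Commute.mul_pow h6, ← pow_mul, ← pow_mul, mul_left_comm, pow_mul, pow_orderOf_eq_one,
          one_pow, one_mul, ← mul_assoc, mul_comm, pow_mul, pow_orderOf_eq_one, one_pow]⟩ }
  have hK : K = ⊥ := h.odd K ⟨fun x hx g => ⟨(inferInstance : (centralizer (E : Set G)).Normal).conj_mem x hx.1 g, by
      rw [← MulAut.conj_apply, MulEquiv.orderOf_eq]; exact hx.2⟩⟩ (by
    rw [← Nat.not_even_iff_odd, even_iff_two_dvd]
    intro h5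
    obtain ⟨x, hx⟩ := exists_prime_orderOf_dvd_card' 2 h5
    exact h2 x.2.2 (by rw [orderOf_coe, hx]))
  have h5 : IsPGroup 2 (centralizer (E : Set G)) := fun x => by
    obtain ⟨k, m, hm, e⟩ := Nat.exists_eq_two_pow_mul_odd (orderOf_pos (x : G)).ne'
    have h6 : (x : G) ^ 2 ^ k ∈ K := ⟨pow_mem x.2 _, Odd.of_dvd_nat hm (orderOf_dvd_of_pow_eq_one (by
      rw [← pow_mul, ← e, pow_orderOf_eq_one]))⟩
    rw [hK] at h6
    exact ⟨k, Subtype.ext h6⟩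
  obtain ⟨k, hk⟩ := h5.index (S.subgroupOf (centralizer (E : Set G)))
  rw [← relIndex_eq_one]
  rcases k with _ | k
  · exact hk
  · exact (h2 hS.odd (hk ▸ dvd_pow_self 2 k.succ_ne_zero : 2 ∣ (S.subgroupOf _).index)).elim

end A3

open A3 in
theorem pa3 : PA3.{u} := by
  classical
  intro G _ _ E S h hS hF h8 hc
  have hE : ∀ x ∈ E, x * x = 1 := fun x => (h.mem x).1
  have := Finite.one_lt_card_iff_nontrivial.1 (by omega : 1 < Nat.card E)
  obtain ⟨e, he1⟩ := exists_ne (1 : E)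
  have he : (e : G) ≠ 1 := fun h => he1 (Subtype.ext h)
  obtain ⟨f, hf⟩ : ∃ f : E, f ≠ 1 ∧ f ≠ e := by
    by_contra! h1
    have := Fintype.ofFinite E
    have : (Finset.univ : Finset E) ⊆ {1, e} := fun x _ => by
      by_cases h2 : x = 1
      · simp [h2]
      · simp [h1 x h2]
    have h2 := (Finset.card_le_card this).trans Finset.card_le_two
    rw [Finset.card_univ, ← Nat.card_eq_fintype_card] at h2
    omega
  obtain ⟨μ, a1, a2, -, a3⟩ := exists_ad hE e.2 E.one_mem f.2 (fun h => hf.1 (Subtype.ext h))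
    (fun h => hf.2 (Subtype.ext h)) (fun h => hf.1 (Subtype.ext h)) fun h => hf.2 (Subtype.ext (h.trans (mul_one _)))
  obtain ⟨t, ht⟩ := exists_tr hE hF a1 e.2 a2
  have hex : ∃ j, ∃ e μ t, Tr E e μ t ∧ e ≠ 1 ∧ ∃ f ∈ E, μ f = 1 ∧ (t * t) ^ 2 ^ j = 1 := by
    obtain ⟨j, hj⟩ := hS.two ⟨t * t, cent_le h hS hc ((ht.mul hE ht).cent fun x _ =>
      (by decide : ∀ a : ZMod 2, a + a = 0) (μ x))⟩
    exact ⟨j, e, μ, t, ht, he, f, f.2, a3, congrArg Subtype.val hj⟩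
  obtain ⟨e, μ, t, ht, he, f, hf, h1, h2⟩ := Nat.find_spec hex
  rcases hj : Nat.find hex with _ | i
  · rw [hj, pow_zero, pow_one] at h2
    exact one_ne_zero (h1.symm.trans (St.zero_of_fix ht he hf (by
      rw [comm_of_sq hE ((h.mem t).2 h2) hf, mul_inv_cancel_right])))
  · refine St.false (i := i) ⟨h, hS, hF, hc, cent_le h hS hc, fun e μ t ht he f hf h1 h2 =>
      Nat.find_min hex (m := i) (by omega) ⟨e, μ, t, ht, he, f, hf, h1, h2⟩⟩ ht he hf h1 ?_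
    rw [← pow_add, ← two_mul, ← pow_succ', ← hj, h2]

end Cfsg.Lib.Known.CK
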