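import Cfsg.Agent.Known.CKDefs
import Cfsg.Agent.Local.SL2Pair
import Cfsg.Agent.Rank2.QuatSylow

/-! The affine groups `q² : SL₂(q)` have `q²` involutions, all conjugate. -/

set_option autoImplicit false

namespace Cfsg.Lib.Known.CK

open Matrix

namespace Ex

variable {F : Type} [Field F]

/-- The natural action on the translation group. -/
def φ : SpecialLinearGroup (Fin 2) F →* MulAut (Multiplicative (Fin 2 → F)) where
  toFun g := AddEquiv.toMultiplicative (SpecialLinearGroup.toLin' g).toAddEquiv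
  map_one' := by rw [map_one]; rfl
  map_mul' g h := by rw [map_mul]; rfl

theorem φ_neg (v : Multiplicative (Fin 2 → F)) : φ (-1 : SpecialLinearGroup (Fin 2) F) v = v⁻¹ := by
  change Multiplicative.ofAdd ((-1 : Matrix (Fin 2) (Fin 2) F) *ᵥ v.toAdd) = _
  rw [neg_mulVec, one_mulVec]
  rfl

theorem neg_ne (h2 : (2 : F) ≠ 0) : (-1 : SpecialLinearGroup (Fin 2) F) ≠ 1 := fun e => h2 (by
  have : (-1 : F) = 1 := congrArg (fun g : SpecialLinearGroup (Fin 2) F => g.1 0 0) e
  linear_combination -this)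

theorem ord_iff [Fintype F] (h : Odd (Fintype.card F)) (h2 : (2 : F) ≠ 0)
    (x : Multiplicative (Fin 2 → F) ⋊[φ] SpecialLinearGroup (Fin 2) F) : orderOf x = 2 ↔ x.right = -1 := by
  have hne := neg_ne h2
  rw [orderOf_eq_prime_iff, sq]
  refine ⟨fun ⟨h3, h4⟩ => ?_, fun e => ⟨SemidirectProduct.ext ?_ ?_, fun e' => hne (by rw [← e, e']; rfl)⟩⟩
  · refine (Local.SL2.eq_of_mul_self h (congrArg SemidirectProduct.right h3)).resolve_left fun e => h4 ?_
    refine SemidirectProduct.ext ?_ e
    have h5 := congrArg SemidirectProduct.left h3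
    rw [SemidirectProduct.mul_left, e, map_one, MulAut.one_apply] at h5
    have h6 : (2 : F) • x.left.toAdd = 0 := by rw [two_smul]; exact congrArg Multiplicative.toAdd h5
    exact (smul_eq_zero.1 h6).resolve_left h2
  · rw [SemidirectProduct.mul_left, e, φ_neg, mul_inv_cancel]; rfl
  · rw [SemidirectProduct.mul_right, e, neg_mul_neg, one_mul]; rfl

end Ex

theorem exists_nonsolvable (p k : ℕ) (hp : p.Prime) (hp2 : p ≠ 2) (hk : 1 ≤ k) (hev : ¬ Odd k) (h9 : p ^ k ≠ 9) :
    ∃ (G : Type) (_ : Group G) (_ : Finite G), Nat.card {x : G // orderOf x = 2} = p ^ k ∧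
      (∀ x y : G, orderOf x = 2 → orderOf y = 2 → ∃ g : G, g * x * g⁻¹ = y) ∧ ¬ Group.IsSolvable G := by
  obtain ⟨j, rfl⟩ := Nat.not_odd_iff_even.1 hev
  have := Fact.mk hp
  have hj : j ≠ 0 := by omega
  let F := GaloisField p j
  have := Fintype.ofFinite F
  have hc : Nat.card F = p ^ j := GaloisField.card p j hj
  have ho : Odd (Fintype.card F) := by
    rw [← Nat.card_eq_fintype_card, hc]; exact (hp.odd_of_ne_two hp2).pow
  have h2 : (2 : F) ≠ 0 := fun e => hp2 ((Nat.prime_dvd_prime_iff_eq hp Nat.prime_two).1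
    ((CharP.cast_eq_zero_iff F p 2).1 (by exact_mod_cast e)))
  have h3 : 3 < Nat.card F := by
    have a1 : 2 < p := lt_of_le_of_ne hp.two_le (Ne.symm hp2)
    have a2 : p ≤ p ^ j := Nat.le_self_pow hj p
    rw [hc]
    refine lt_of_le_of_ne (by omega) fun e => h9 ?_
    rw [pow_add, ← e]; rfl
  refine ⟨Multiplicative (Fin 2 → F) ⋊[Ex.φ] SpecialLinearGroup (Fin 2) F, inferInstance,
    Finite.of_equiv _ SemidirectProduct.equivProd.symm, ?_, fun x y hx hy => ?_, fun hs => ?_⟩
  · have e : {x : Multiplicative (Fin 2 → F) ⋊[Ex.φ] SpecialLinearGroup (Fin 2) F // orderOf x = 2} ≃ (Fin 2 → F) :=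
      ⟨fun x => x.1.left.toAdd, fun v => ⟨⟨Multiplicative.ofAdd v, -1⟩, (Ex.ord_iff ho h2 _).2 rfl⟩,
        fun x => Subtype.ext (SemidirectProduct.ext rfl ((Ex.ord_iff ho h2 _).1 x.2).symm), fun v => rfl⟩
    rw [Nat.card_congr e, Nat.card_fun, hc, Nat.card_eq_fintype_card, Fintype.card_fin, sq, pow_add]
  · rw [Ex.ord_iff ho h2] at hx hy
    refine ⟨SemidirectProduct.inl (Multiplicative.ofAdd ((2 : F)⁻¹ • (y.left.toAdd - x.left.toAdd))),
      SemidirectProduct.ext ?_ ?_⟩
    · rw [← map_inv, SemidirectProduct.mul_left, SemidirectProduct.mul_left, SemidirectProduct.mul_right,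
        SemidirectProduct.right_inl, one_mul, hx, Ex.φ_neg, map_one, MulAut.one_apply, SemidirectProduct.left_inl,
        SemidirectProduct.left_inl, inv_inv]
      refine Multiplicative.toAdd.injective ?_
      rw [toAdd_mul, toAdd_mul, toAdd_ofAdd, add_right_comm, ← two_smul F, smul_smul, mul_inv_cancel₀ h2, one_smul,
        sub_add_cancel]
    · rw [← map_inv, SemidirectProduct.mul_right, SemidirectProduct.mul_right, SemidirectProduct.right_inl,
        SemidirectProduct.right_inl, one_mul, mul_one, hx, hy]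
  · have h4 := Rank2.isPerfect_SL2 h3
    have h5 : Group.IsSolvable (SpecialLinearGroup (Fin 2) F) :=
      Group.isSolvable_of_surjective (SemidirectProduct.rightHom_surjective (φ := Ex.φ))
    have h6 : Nontrivial (SpecialLinearGroup (Fin 2) F) := ⟨-1, 1, Ex.neg_ne h2⟩
    exact (Group.IsSolvable.commutator_lt_top_of_nontrivial _).ne h4.commutator_eq_top

end Cfsg.Lib.Known.CK
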