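import Cfsg.Agent.Known.CKDefs
import Cfsg.Agent.Solv.Kazarin
import Cfsg.Agent.Solv.Cores
import Cfsg.Agent.Char.Central
import Cfsg.Agent.Char.Burnside
import Cfsg.Agent.Bender.TwoRank
import Cfsg.Agent.Cor.OddSol
import Cfsg.Agent.S0205

/-! Pyramidal groups: reduction of the solvability statement to the case `Pyr`. -/

set_option autoImplicit false

namespace Cfsg.Lib.Known.CK

universe u

namespace PyRed

open Subgroup

theorem sq_add {V : Type u} [AddCommGroup V] [Finite V] {r : ℕ} [hr : Fact r.Prime] (hr2 : r ≠ 2)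
    [Module (ZMod r) V] (α β : V →+ V) (hα : ∀ a, α (α a) = -a) (hβ : ∀ a, β (β a) = -a)
    (h : ∀ a, α (β a) = -β (α a)) : IsSquare (Nat.card V) := by
  let a' : V →ₗ[ZMod r] V := α.toZModLinearMap r
  let b' : V →ₗ[ZMod r] V := β.toZModLinearMap r
  have e1 : a' ∘ₗ a' = (-1 : ZMod r) • (LinearMap.id : V →ₗ[ZMod r] V) := by
    ext v
    simp only [LinearMap.comp_apply, LinearMap.smul_apply, LinearMap.id_apply, neg_smul, one_smul,
      LinearMap.neg_apply]
    exact hα v
  have e2 : b' ∘ₗ b' = (-1 : ZMod r) • (LinearMap.id : V →ₗ[ZMod r] V) := by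
    ext v
    simp only [LinearMap.comp_apply, LinearMap.smul_apply, LinearMap.id_apply, neg_smul, one_smul,
      LinearMap.neg_apply]
    exact hβ v
  have e3 : a' ∘ₗ b' = (-1 : ZMod r) • (b' ∘ₗ a') := by
    ext v
    simp only [LinearMap.comp_apply, LinearMap.smul_apply, neg_smul, one_smul,
      LinearMap.neg_apply]
    exact h v
  have d1 := congrArg LinearMap.det e1
  have d2 := congrArg LinearMap.det e2
  have d3 := congrArg LinearMap.det e3
  rw [LinearMap.det_smul, LinearMap.det_comp, LinearMap.det_id, mul_one] at d1 d2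
  rw [LinearMap.det_smul, LinearMap.det_comp, LinearMap.det_comp] at d3
  have hne : ((-1 : ZMod r) ^ Module.finrank (ZMod r) V) ≠ 0 :=
    pow_ne_zero _ (neg_ne_zero.mpr one_ne_zero)
  have ha : LinearMap.det a' ≠ 0 := fun h0 => hne (by rw [← d1, h0, zero_mul])
  have hb : LinearMap.det b' ≠ 0 := fun h0 => hne (by rw [← d2, h0, zero_mul])
  have h1 : ((-1 : ZMod r) ^ Module.finrank (ZMod r) V) = 1 := by
    have h2 : LinearMap.det b' * LinearMap.det a' ≠ 0 := mul_ne_zero hb ha
    apply mul_right_cancel₀ h2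
    rw [← d3, one_mul, mul_comm]
  have hm : (-1 : ZMod r) ≠ 1 := by
    haveI : Fact (2 < r) := ⟨lt_of_le_of_ne hr.out.two_le hr2.symm⟩
    exact ZMod.neg_one_ne_one
  have hev : Even (Module.finrank (ZMod r) V) := by
    rcases Nat.even_or_odd (Module.finrank (ZMod r) V) with h2 | h2
    · exact h2
    · rw [h2.neg_one_pow] at h1
      exact absurd h1 hm
  have hc : Nat.card V = r ^ Module.finrank (ZMod r) V := by
    rw [Module.natCard_eq_pow_finrank (K := ZMod r), Nat.card_zmod]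
  obtain ⟨m, hm⟩ := hev
  exact ⟨r ^ m, by rw [← pow_add, ← hm, ← hc]⟩

/-- An elementary abelian group of odd exponent with two anticommuting square roots of `-1`. -/
theorem sq_abs {A : Type u} [CommGroup A] [Finite A] {r : ℕ} (hr : r.Prime) (hr2 : r ≠ 2)
    (hA : ∀ a : A, a ^ r = 1) (α β : A →* A) (hα : ∀ a, α (α a) = a⁻¹) (hβ : ∀ a, β (β a) = a⁻¹)
    (h : ∀ a, α (β a) = (β (α a))⁻¹) : IsSquare (Nat.card A) := by
  haveI := Fact.mk hr
  have hV : ∀ a : Additive A, r • a = 0 := fun a => by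
    rw [← ofMul_toMul a, ← ofMul_pow, hA, ofMul_one]
  exact @sq_add (Additive A) _ _ r _ hr2 (AddCommGroup.zmodModule hV) (MonoidHom.toAdditive α)
    (MonoidHom.toAdditive β) (fun a => congrArg Additive.ofMul (hα a.toMul))
    (fun a => congrArg Additive.ofMul (hβ a.toMul)) (fun a => congrArg Additive.ofMul (h a.toMul))

/-- The index of the fixed points of `α ^ 2`. -/
theorem sq_ker {B : Type u} [CommGroup B] [Finite B] {r : ℕ} (hr : r.Prime) (hr2 : r ≠ 2)
    (hB : ∀ a : B, a ^ r = 1) (α β : B →* B) (hβ : ∀ a, β (β a) = α (α a))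
    (h4 : ∀ a, α (α (α (α a))) = a) (h : ∀ a, α (β (α a)) = β a) (K : Subgroup B)
    (hK : ∀ a, a ∈ K ↔ α (α a) = a) : IsSquare K.index := by
  let f : B →* B := (α.comp α) * (MonoidHom.id B)⁻¹
  have hf : ∀ a, f a = α (α a) * a⁻¹ := fun a => rfl
  have hker : f.ker = K := by
    ext a
    rw [MonoidHom.mem_ker, hK, hf, mul_inv_eq_one]
  have hba : ∀ a, β (α (α a)) = α (α (β a)) := fun a => by rw [← hβ, ← hβ]
  have m1 : ∀ w : f.range, α w ∈ f.range := by
    rintro ⟨_, a, rfl⟩
    exact ⟨α a, by simp only [hf, map_mul, map_inv]⟩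
  have m2 : ∀ w : f.range, β w ∈ f.range := by
    rintro ⟨_, a, rfl⟩
    exact ⟨β a, by simp only [hf, map_mul, map_inv, hba]⟩
  have i1 : ∀ w : f.range, α (α w) = (w : B)⁻¹ := by
    rintro ⟨_, a, rfl⟩
    simp only [hf, map_mul, map_inv, h4, mul_inv_rev, inv_inv]
  rw [← hker, Subgroup.index_ker]
  refine sq_abs hr hr2 (fun a => Subtype.ext (hB a))
    ((α.comp f.range.subtype).codRestrict _ m1) ((β.comp f.range.subtype).codRestrict _ m2)
    (fun a => Subtype.ext (i1 a)) (fun a => Subtype.ext ((hβ a).trans (i1 a))) (fun a => ?_)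
  apply Subtype.ext
  change α (β a) = (β (α a))⁻¹
  rw [← h (α a), i1 a, map_inv, map_inv, inv_inv]

variable {G : Type u} [Group G]

/-- Two involutions with product of odd order are conjugate by a power of the product. -/
theorem dih {x y : G} (hx : x * x = 1) (hy : y * y = 1) (ho : Odd (orderOf (y * x))) :
    ∃ m ∈ zpowers (y * x), m * x * m⁻¹ = y := by
  obtain ⟨k, hk⟩ := ho
  have hx' : x⁻¹ = x := inv_eq_of_mul_eq_one_right hx
  have hy' : y⁻¹ = y := inv_eq_of_mul_eq_one_right hy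
  have h1 : x * (y * x) * x⁻¹ = (y * x)⁻¹ := by
    rw [mul_inv_rev, hy', ← mul_assoc, mul_inv_cancel_right, hx']
  have h2 : x * (y * x) ^ (k + 1) * x⁻¹ = ((y * x) ^ (k + 1))⁻¹ := by
    rw [← conj_pow, h1, inv_pow]
  have h3 : (y * x) ^ (k + 1) * (y * x) ^ (k + 1) = y * x := by
    rw [← pow_add, show k + 1 + (k + 1) = (2 * k + 1) + 1 by ring, pow_succ, ← hk,
      pow_orderOf_eq_one, one_mul]
  refine ⟨(y * x) ^ (k + 1), pow_mem (mem_zpowers _) _, ?_⟩
  rw [← h2]
  calc (y * x) ^ (k + 1) * x * (x * (y * x) ^ (k + 1) * x⁻¹)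
      = (y * x) ^ (k + 1) * (x * x) * (y * x) ^ (k + 1) * x⁻¹ := by simp only [mul_assoc]
    _ = y := by rw [hx, mul_one, h3, mul_inv_cancel_right]

theorem odd_ord {N : Subgroup G} (hN : Odd (Nat.card N)) {n : G} (hn : n ∈ N) : Odd (orderOf n) :=
  hN.of_dvd_nat (N.orderOf_dvd_natCard hn)

/-- Centralizers of involutions modulo normal subgroups of odd order. -/
theorem map_cent (N : Subgroup G) [N.Normal] (hN : Odd (Nat.card N)) {x : G} (hx : x * x = 1) :
    (centralizer ({x} : Set G)).map (QuotientGroup.mk' N) =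
      centralizer ({(x : G ⧸ N)} : Set (G ⧸ N)) := by
  apply le_antisymm
  · rintro _ ⟨g, hg, rfl⟩
    have hg' : g * x = x * g := mem_centralizer_singleton_iff.1 hg
    rw [mem_centralizer_singleton_iff, QuotientGroup.mk'_apply, ← QuotientGroup.mk_mul, hg',
      QuotientGroup.mk_mul]
  · intro q hq
    obtain ⟨g, rfl⟩ := QuotientGroup.mk_surjective q
    rw [mem_centralizer_singleton_iff] at hq
    have h1 : g * x * g⁻¹ * x ∈ N := by
      rw [← QuotientGroup.eq_one_iff, QuotientGroup.mk_mul, QuotientGroup.mk_mul,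
        QuotientGroup.mk_mul, hq, QuotientGroup.mk_inv, mul_inv_cancel_right,
        ← QuotientGroup.mk_mul, hx, QuotientGroup.mk_one]
    have h2 : g * x * g⁻¹ * (g * x * g⁻¹) = 1 := by
      rw [conj_mul, hx, mul_one, mul_inv_cancel]
    obtain ⟨m, hm, e⟩ := dih hx h2 (odd_ord hN h1)
    have hmN : m ∈ N := zpowers_le.2 h1 hm
    refine ⟨m⁻¹ * g, ?_, ?_⟩
    · rw [SetLike.mem_coe, mem_centralizer_singleton_iff]
      calc m⁻¹ * g * x = m⁻¹ * (g * x * g⁻¹) * g := by group
        _ = x * (m⁻¹ * g) := by rw [← e]; group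
    · rw [QuotientGroup.mk'_apply, QuotientGroup.mk_mul, QuotientGroup.mk_inv,
        (QuotientGroup.eq_one_iff m).2 hmN, inv_one, one_mul]

theorem relIndex_sup [Finite G] (A K : Subgroup G) [A.Normal] :
    K.relIndex (A ⊔ K) = K.relIndex A := by
  have h0 : K ≤ normalizer (A : Set G) := by rw [normalizer_eq_top]; exact le_top
  have h1 := Solv.card_sup_mul_card_inf_of_le_normalizer h0
  rw [← Solv.card_mul_relIndex_of_le (le_sup_right : K ≤ A ⊔ K), ← Solv.card_inf_mul_relIndex K A,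
    inf_comm K A] at h1
  have h2 : 0 < Nat.card K * Nat.card (A ⊓ K : Subgroup G) := Nat.mul_pos Nat.card_pos Nat.card_pos
  exact Nat.eq_of_mul_eq_mul_left h2 (by linarith)

theorem four {i j : G} (hj : j * j = i * i) (hij : i * j * i = j) : i * i * (i * i) = 1 := by
  have h1 : j * j = i * j * i * (i * j * i) := by rw [hij]
  have h2 : i * j * i * (i * j * i) = i * (j * (i * i) * j) * i := by simp only [mul_assoc]
  have h3 : j * (j * j) * j = (j * j) * (j * j) := by simp only [mul_assoc]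
  rw [h2, ← hj, h3, hj] at h1
  have h5 : i * i * 1 = i * i * (i * i * (i * i)) := by
    rw [mul_one]; refine h1.trans ?_; simp only [mul_assoc]
  exact (mul_left_cancel h5).symm

/-- A quaternion group whose involution is central modulo a normal subgroup of odd order. -/
theorem sq_index (G : Type u) [Group G] [Finite G] : ∀ (O : Subgroup G) [O.Normal],
    Odd (Nat.card O) → ∀ i j : G, j * j = i * i → i * j * i = j →
    (∀ g : G, g * (i * i) * g⁻¹ * (i * i) ∈ O) →
    IsSquare (centralizer ({i * i} : Set G)).index := by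
  refine Solv.card_induction (P := fun G _ _ => ∀ (O : Subgroup G) [O.Normal],
    Odd (Nat.card O) → ∀ i j : G, j * j = i * i → i * j * i = j →
    (∀ g : G, g * (i * i) * g⁻¹ * (i * i) ∈ O) →
    IsSquare (centralizer ({i * i} : Set G)).index) ?_ G
  intro G _ _ ih O _ hO i j hj hij hc
  have h4 : i * i * (i * i) = 1 := four hj hij
  by_cases hb : O = ⊥
  · have : centralizer ({i * i} : Set G) = ⊤ := by
      rw [eq_top_iff]
      intro g _
      have h1 := hc g
      rw [hb, mem_bot] at h1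
      rw [mem_centralizer_singleton_iff]
      calc g * (i * i) = g * (i * i) * g⁻¹ * (i * i) * ((i * i)⁻¹ * g) := by group
        _ = (i * i) * g := by rw [h1, one_mul, inv_eq_of_mul_eq_one_right h4]
    rw [this, index_top]
    exact ⟨1, rfl⟩
  haveI : Group.IsSolvable O := Cfsg.Agent.S0205.result hO
  obtain ⟨r, N, hr, hN, hNO, hcomm, hexp, -⟩ := Solv.exists_isMinNormal_elementary_le O hb
  haveI := hN.normal
  have hNodd : Odd (Nat.card N) := hO.of_dvd_nat (card_dvd_of_le hNO)
  have hr2 : r ≠ 2 := by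
    rintro rfl
    obtain ⟨a, ha, ha1⟩ := (Subgroup.bot_or_exists_ne_one N).resolve_left hN.ne_bot
    have h1 : orderOf a = 2 := orderOf_eq_prime (hexp a ha) ha1
    have h2 := odd_ord hNodd ha
    rw [h1] at h2
    exact absurd h2 (by decide)
  have h1 := ih (G ⧸ N) (Solv.card_quotient_lt hN.ne_bot) (O.map (QuotientGroup.mk' N))
    (hO.of_dvd_nat (card_map_dvd O _)) (i : G ⧸ N) (j : G ⧸ N)
    (by rw [← QuotientGroup.mk_mul, hj, QuotientGroup.mk_mul])
    (by rw [← QuotientGroup.mk_mul, ← QuotientGroup.mk_mul, hij])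
    (fun q => by
      obtain ⟨g, rfl⟩ := QuotientGroup.mk_surjective q
      exact ⟨_, hc g, rfl⟩)
  rw [← QuotientGroup.mk_mul, ← map_cent N hNodd h4, index_map, QuotientGroup.ker_mk',
    MonoidHom.range_eq_top.2 (QuotientGroup.mk'_surjective N), index_top, mul_one] at h1
  rw [← relIndex_mul_index (le_sup_left : centralizer ({i * i} : Set G) ≤ _ ⊔ N)]
  refine IsSquare.mul ?_ h1
  rw [sup_comm, relIndex_sup]
  letI : CommGroup N := { (inferInstance : Group N) with mul_comm := hcomm.is_comm.comm }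
  refine sq_ker (B := N) hr hr2 (fun a => Subtype.ext (hexp a a.2))
    (MulAut.conjNormal i : MulAut N).toMonoidHom (MulAut.conjNormal j : MulAut N).toMonoidHom
    (fun a => Subtype.ext ?_) (fun a => Subtype.ext ?_) (fun a => Subtype.ext ?_) _ (fun a => ?_)
  · change j * (j * a * j⁻¹) * j⁻¹ = i * (i * a * i⁻¹) * i⁻¹
    calc j * (j * a * j⁻¹) * j⁻¹ = (j * j) * a * (j * j)⁻¹ := by group
      _ = _ := by rw [hj]; group
  · change i * (i * (i * (i * a * i⁻¹) * i⁻¹) * i⁻¹) * i⁻¹ = a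
    calc i * (i * (i * (i * a * i⁻¹) * i⁻¹) * i⁻¹) * i⁻¹
        = (i * i * (i * i)) * a * (i * i * (i * i))⁻¹ := by group
      _ = _ := by rw [h4]; group
  · change i * (j * (i * a * i⁻¹) * j⁻¹) * i⁻¹ = j * a * j⁻¹
    calc i * (j * (i * a * i⁻¹) * j⁻¹) * i⁻¹ = (i * j * i) * a * (i * j * i)⁻¹ := by group
      _ = _ := by rw [hij]
  · rw [mem_subgroupOf, mem_centralizer_singleton_iff, Subtype.ext_iff]
    change _ ↔ i * (i * a * i⁻¹) * i⁻¹ = a
    constructor
    · intro h
      calc i * (i * a * i⁻¹) * i⁻¹ = (i * i * a) * (i * i)⁻¹ := by group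
        _ = a := by rw [← h]; group
    · intro h
      calc (a : G) * (i * i) = i * (i * a * i⁻¹) * i⁻¹ * (i * i) := by rw [h]
        _ = _ := by group

/-- `p ^ j + 1 = 2 ^ n` forces `j ≤ 1`. -/
theorem mersenne {p j n : ℕ} (hp : Odd p) (hp1 : 1 < p) (hj : j ≠ 0) (h : p ^ j + 1 = 2 ^ n) :
    j = 1 := by
  have hp3 : 3 ≤ p := by obtain ⟨a, rfl⟩ := hp; omega
  have h3 : 3 ≤ p ^ j := hp3.trans (Nat.le_self_pow hj p)
  have hn : 2 ≤ n := by
    by_contra hn
    have : n = 0 ∨ n = 1 := by omega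
    rcases this with rfl | rfl <;> omega
  rcases Nat.even_or_odd j with ⟨a, rfl⟩ | hodd
  · exfalso
    obtain ⟨b, hb⟩ : Odd (p ^ a) := hp.pow
    have h4 : 4 ∣ 2 ^ n := pow_dvd_pow 2 hn
    rw [← h, pow_add, hb] at h4
    have : (2 * b + 1) * (2 * b + 1) + 1 = 4 * (b * b + b) + 2 := by ring
    omega
  have hd : p + 1 ∣ 2 ^ n := by
    have := Odd.nat_add_dvd_pow_add_pow p 1 hodd
    rwa [one_pow, h] at this
  obtain ⟨m, hmn, hm⟩ := (Nat.dvd_prime_pow Nat.prime_two).1 hd
  have hm1 : 1 ≤ m := by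
    rcases m with _ | m
    · omega
    · omega
  have hsq : p * p ≡ 1 [MOD 2 ^ (m + 1)] := by
    obtain ⟨a, rfl⟩ := hp
    have e : (2 * a + 1) * (2 * a + 1) = 1 + (2 ^ (m + 1)) * a := by
      rw [pow_succ, ← hm]; ring
    rw [e]
    exact (Nat.modEq_iff_dvd' (Nat.le_add_right _ _)).2 (by simp) |>.symm
  obtain ⟨a, rfl⟩ := hodd
  have h5 : p ^ (2 * a + 1) + 1 ≡ p + 1 [MOD 2 ^ (m + 1)] := by
    refine Nat.ModEq.add_right 1 ?_
    have := (hsq.pow a).mul_right p
    rwa [one_pow, one_mul, ← pow_two, ← pow_mul, ← pow_succ] at this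
  rw [h, hm] at h5
  rcases hmn.lt_or_eq with hlt | rfl
  · exfalso
    have h6 : 2 ^ (m + 1) ∣ 2 ^ m :=
      (h5.dvd_iff dvd_rfl).1 (pow_dvd_pow 2 hlt)
    have := Nat.le_of_dvd (by positivity) h6
    rw [pow_succ] at this
    have h7 : 0 < 2 ^ m := by positivity
    omega
  · have h6 : p ^ (2 * a + 1) = p ^ 1 := by rw [pow_one]; omega
    exact Nat.pow_right_injective hp1 h6

theorem index_eq (hcj : ∀ x y : G, orderOf x = 2 → orderOf y = 2 → ∃ g : G, g * x * g⁻¹ = y)
    {x : G} (hx : orderOf x = 2) :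
    (centralizer ({x} : Set G)).index = Nat.card {y : G // orderOf y = 2} := by
  rw [← Char.card_isConj_eq_index]
  refine Nat.card_congr (Equiv.subtypeEquivRight fun y => ⟨fun h => ?_, fun h => ?_⟩)
  · obtain ⟨g, rfl⟩ := isConj_iff.1 h
    rw [← hx]
    exact (MulAut.conj g).orderOf_eq x
  · exact isConj_iff.2 (hcj x y hx h)

theorem ord2 {x : G} : orderOf x = 2 ↔ x * x = 1 ∧ x ≠ 1 := by
  rw [orderOf_eq_prime_iff, pow_two]

/-- Nine involutions, no two of which commute. -/
theorem nine [Finite G] (hN : Nat.card {x : G // orderOf x = 2} = 9)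
    (h2 : ¬ Chev.RankOne.TwoRank G) : Group.IsSolvable G := by
  classical
  let I := {x : G // orderOf x = 2}
  letI : MulAction G I :=
    { smul := fun g x => ⟨g * x * g⁻¹, ((MulAut.conj g).orderOf_eq x.1).trans x.2⟩
      one_smul := fun x => Subtype.ext (by change 1 * x.1 * 1⁻¹ = x.1; group)
      mul_smul := fun g h x => Subtype.ext (by
        change g * h * x.1 * (g * h)⁻¹ = g * (h * x.1 * h⁻¹) * g⁻¹; group) }
  have hs : ∀ (g : G) (x : I), ((g • x : I) : G) = g * x * g⁻¹ := fun _ _ => rfl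
  have huniq : ∀ x y : I, (x : G) • y = y → x = y := by
    intro x y h
    by_contra hne
    refine h2 ⟨x, y, (ord2.1 x.2).2, (ord2.1 y.2).2, fun e => hne (Subtype.ext e), (ord2.1 x.2).1,
      (ord2.1 y.2).1, ?_⟩
    have := congrArg Subtype.val h
    rw [hs] at this
    exact mul_inv_eq_iff_eq_mul.1 this
  let φ := MulAction.toPermHom G I
  haveI : Fintype I := Fintype.ofFinite I
  have hI : Fintype.card I = 9 := by rw [← Nat.card_eq_fintype_card]; exact hN
  have hker : Group.IsSolvable φ.ker := by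
    apply Cfsg.Agent.S0205.result
    rw [← Nat.not_even_iff_odd]
    intro he
    obtain ⟨t, ht⟩ := exists_prime_orderOf_dvd_card' 2 he.two_dvd
    have ht' : orderOf (t : G) = 2 := by rw [orderOf_coe, ht]
    have h1 : ∀ y : I, (⟨t, ht'⟩ : I) = y := fun y => huniq _ _ (by
      have := congrArg (fun σ : Equiv.Perm I => σ y) (MonoidHom.mem_ker.1 t.2)
      exact this)
    have : Fintype.card I ≤ 1 := Fintype.card_le_one_iff.2 fun a b => (h1 a).symm.trans (h1 b)
    omega
  have hran : Group.IsSolvable φ.range := by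
    apply Char.isSolvable_of_prime_dvd_card Nat.prime_two Nat.prime_three
    intro r hr hd
    by_contra hne
    haveI := Fact.mk hr
    obtain ⟨⟨_, g, rfl⟩, hg⟩ := exists_prime_orderOf_dvd_card' r hd
    have hg' : orderOf (φ g) = r := by rw [← hg, ← orderOf_coe]
    have hm := Equiv.Perm.card_compl_support_modEq (p := r) (n := 1) (σ := φ g)
      (by rw [pow_one, ← hg', pow_orderOf_eq_one])
    rw [hI] at hm
    have hF : ∀ y : I, y ∈ (φ g).supportᶜ ↔ g • y = y := fun y => by
      rw [Finset.mem_compl, Equiv.Perm.notMem_support]; rfl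
    have hlt : (φ g).supportᶜ.card < 9 := by
      rw [← hI]
      obtain ⟨y, hy⟩ := Finset.nonempty_iff_ne_empty.2
        (fun h : (φ g).support = ∅ => hr.one_lt.ne' (by
          rw [← hg', Equiv.Perm.support_eq_empty_iff.1 h, orderOf_one]))
      exact Finset.card_lt_univ_of_notMem (x := y) (by rwa [Finset.mem_compl, not_not])
    have hr5 : 5 ≤ r := by
      have := hr.two_le
      by_contra h5
      have : r = 2 ∨ r = 3 ∨ r = 4 := by omega
      rcases this with rfl | rfl | rfl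
      · exact hne (Or.inl rfl)
      · exact hne (Or.inr rfl)
      · exact absurd hr (by decide)
    have hodd : (φ g).supportᶜ.card = 0 ∨ Odd (φ g).supportᶜ.card := by
      rcases ((φ g).supportᶜ).eq_empty_or_nonempty with h0 | ⟨x, hx⟩
      · left; rw [h0, Finset.card_empty]
      right
      have hx' : g * x * g⁻¹ = x := congrArg Subtype.val ((hF x).1 hx)
      have hxx : (x : G) * x = 1 := (ord2.1 x.2).1
      have hcl : ∀ y ∈ (φ g).supportᶜ, (x : G) • y ∈ (φ g).supportᶜ := by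
        intro y hy
        rw [hF] at hy ⊢
        rw [← mul_smul, mul_inv_eq_iff_eq_mul.1 hx', mul_smul, hy]
      rw [← Finset.card_erase_add_one hx]
      refine Even.add_one ?_
      have hxf : (x : G) • x = x := Subtype.ext (by rw [hs, mul_inv_cancel_right])
      have hsum : ∑ _y ∈ ((φ g).supportᶜ).erase x, (1 : ZMod 2) = 0 := by
        refine Finset.sum_involution (fun y _ => (x : G) • y) (fun _ _ => rfl)
          (fun y hy _ e => (Finset.mem_erase.1 hy).1 (huniq x y e).symm) (fun y hy => ?_)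
          (fun y _ => by rw [← mul_smul, hxx, one_smul])
        rw [Finset.mem_erase] at hy ⊢
        refine ⟨fun e => hy.1 ?_, hcl y hy.2⟩
        exact MulAction.injective (x : G) (e.trans hxf.symm)
      rw [Finset.sum_const, nsmul_eq_mul, mul_one] at hsum
      exact (ZMod.natCast_eq_zero_iff_even).1 hsum
    have h9 : r ∣ 9 - (φ g).supportᶜ.card := (Nat.modEq_iff_dvd' hlt.le).1 hm
    have hle := Nat.le_of_dvd (by omega) h9
    rcases hodd with h0 | ⟨c, hc⟩
    · rw [h0] at h9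
      have : r ∣ 3 ^ 2 := h9
      exact hne (Or.inr ((Nat.prime_dvd_prime_iff_eq hr Nat.prime_three).1 (hr.dvd_of_dvd_pow this)))
    · rw [hc] at h9 hle
      have : c = 0 ∨ c = 1 := by omega
      rcases this with rfl | rfl
      · have : r ∣ 2 ^ 3 := h9
        exact hne (Or.inl ((Nat.prime_dvd_prime_iff_eq hr Nat.prime_two).1 (hr.dvd_of_dvd_pow this)))
      · have : r ∣ 2 * 3 := h9
        rcases (Nat.Prime.dvd_mul hr).1 this with h | h
        · exact hne (Or.inl ((Nat.prime_dvd_prime_iff_eq hr Nat.prime_two).1 h))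
        · exact hne (Or.inr ((Nat.prime_dvd_prime_iff_eq hr Nat.prime_three).1 h))
  exact solvable_of_ker_le_range φ.ker.subtype φ.rangeRestrict (by
    rw [MonoidHom.ker_rangeRestrict, range_subtype])

/-- The case of 2-rank one. -/
theorem rank_one [Finite G] {p k : ℕ} (hp : p.Prime) (h : Odd k ∨ p ^ k = 9)
    (hN : Nat.card {x : G // orderOf x = 2} = p ^ k)
    (hcj : ∀ x y : G, orderOf x = 2 → orderOf y = 2 → ∃ g : G, g * x * g⁻¹ = y)
    (hO : ∀ x y : G, orderOf x = 2 → orderOf y = 2 → y * x ∈ oddCore G) : Group.IsSolvable G := by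
  have hodd := Solv.odd_card_oddCore G
  have h2 : ¬ Chev.RankOne.TwoRank G := by
    rintro ⟨x, y, hx1, hy1, hxy, hx, hy, hc⟩
    have h1 := odd_ord hodd (hO x y (ord2.2 ⟨hx, hx1⟩) (ord2.2 ⟨hy, hy1⟩))
    have h3 : orderOf (y * x) = 2 := by
      refine ord2.2 ⟨?_, fun e => hxy ?_⟩
      · calc y * x * (y * x) = y * (x * y) * x := by simp only [mul_assoc]
          _ = (y * y) * (x * x) := by rw [hc]; simp only [mul_assoc]
          _ = 1 := by rw [hx, hy, one_mul]
      · rw [← inv_eq_of_mul_eq_one_right e, inv_eq_of_mul_eq_one_right hy]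
    rw [h3] at h1
    exact absurd h1 (by decide)
  rcases h with hk | h9
  swap
  · exact nine (hN.trans h9) h2
  obtain ⟨S⟩ : Nonempty (Sylow 2 G) := inferInstance
  rcases Bender.cyclic_or_quaternion h2 S.isPGroup' with hc | ⟨m, hm, ⟨e⟩⟩
  · exact Cor.isSolvable_of_isCyclic_sylow_two S hc
  exfalso
  obtain ⟨m, rfl⟩ : ∃ l, m = l + 1 := ⟨m - 1, by omega⟩
  let f : QuaternionGroup (2 ^ (m + 1)) →* G := (S : Subgroup G).subtype.comp e.symm.toMonoidHom
  have hf : Function.Injective f := (S : Subgroup G).subtype_injective.comp e.symm.injective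
  let i0 : QuaternionGroup (2 ^ (m + 1)) := .a ((2 ^ m : ℕ) : ZMod (2 * 2 ^ (m + 1)))
  let j0 : QuaternionGroup (2 ^ (m + 1)) := .xa 0
  have e1 : j0 * j0 = i0 * i0 := by
    simp only [i0, j0, QuaternionGroup.xa_mul_xa, QuaternionGroup.a_mul_a]
    congr 1
    push_cast
    ring
  have e2 : i0 * j0 * i0 = j0 := by
    simp only [i0, j0, QuaternionGroup.xa_mul_a, QuaternionGroup.a_mul_xa]
    congr 1
    ring
  have hj : f j0 * f j0 = f i0 * f i0 := by rw [← map_mul, ← map_mul, e1]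
  have hij : f i0 * f j0 * f i0 = f j0 := by rw [← map_mul, ← map_mul, e2]
  have hx : orderOf (f i0 * f i0) = 2 := by
    refine ord2.2 ⟨four hj hij, fun e => ?_⟩
    rw [← hj, ← map_mul, ← map_one f] at e
    have h4 : orderOf j0 = 4 := QuaternionGroup.orderOf_xa 0
    have h5 : orderOf j0 ∣ 2 := orderOf_dvd_of_pow_eq_one (by rw [pow_two]; exact hf e)
    rw [h4] at h5
    exact absurd h5 (by decide)
  have hsq := sq_index G (oddCore G) hodd (f i0) (f j0) hj hij
    (fun g => hO _ _ hx (((MulAut.conj g).orderOf_eq _).trans hx))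
  rw [index_eq hcj hx, hN] at hsq
  obtain ⟨a, ha⟩ := hsq
  obtain ⟨b, -, rfl⟩ := (Nat.dvd_prime_pow hp).1 (Dvd.intro _ ha.symm)
  rw [← pow_add] at ha
  have := Nat.pow_right_injective hp.two_le ha
  obtain ⟨c, hc⟩ := hk
  omega

theorem lift_inv {M : Type u} [Group M] [Finite M] {s : M ⧸ oddCore M} (hs : orderOf s = 2) :
    ∃ w : M, orderOf w = 2 ∧ (w : M ⧸ oddCore M) = s := by
  obtain ⟨m, rfl⟩ := QuotientGroup.mk_surjective s
  obtain ⟨hs, hs1⟩ := ord2.1 hs
  have h1 : m * m ∈ oddCore M := by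
    rwa [← QuotientGroup.mk_mul, QuotientGroup.eq_one_iff] at hs
  obtain ⟨k, hk⟩ := odd_ord (Solv.odd_card_oddCore M) h1
  have h2 : ((m ^ orderOf (m * m) : M) : M ⧸ oddCore M) = m := by
    rw [hk, pow_succ, pow_mul, pow_two, QuotientGroup.mk_mul, QuotientGroup.mk_pow,
      QuotientGroup.mk_mul, hs, one_pow, one_mul]
  refine ⟨m ^ orderOf (m * m), ord2.2 ⟨?_, fun e => hs1 ?_⟩, h2⟩
  · rw [← (Commute.refl m).mul_pow, pow_orderOf_eq_one]
  · rw [← h2, e, QuotientGroup.mk_one]

end PyRed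

open PyRed Subgroup in
/-- Reduction of the solvability of pyramidal groups to the case `Pyr`. -/
theorem solvable_of_core (hc : Core.{u}) (p k : ℕ) (hp : p.Prime) (hp2 : p ≠ 2) (_hk : 1 ≤ k)
    (h : Odd k ∨ p ^ k = 9) (G : Type u) [Group G] [Finite G]
    (hN : Nat.card {x : G // orderOf x = 2} = p ^ k)
    (hcj : ∀ x y : G, orderOf x = 2 → orderOf y = 2 → ∃ g : G, g * x * g⁻¹ = y) :
    Group.IsSolvable G := by
  have hodd := Solv.odd_card_oddCore G
  have hne : Nonempty {x : G // orderOf x = 2} := by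
    refine (Nat.card_pos_iff.1 ?_).1
    rw [hN]
    exact pow_pos hp.pos k
  obtain ⟨x, hx⟩ := hne
  have hmk : ∀ y : G, orderOf y = 2 → orderOf (y : G ⧸ oddCore G) = 2 := by
    intro y hy
    refine ord2.2 ⟨by rw [← QuotientGroup.mk_mul, (ord2.1 hy).1, QuotientGroup.mk_one], fun e => ?_⟩
    have := odd_ord hodd ((QuotientGroup.eq_one_iff y).1 e)
    rw [hy] at this
    exact absurd this (by decide)
  have hcj' : ∀ a b : G ⧸ oddCore G, orderOf a = 2 → orderOf b = 2 → ∃ g, g * a * g⁻¹ = b := by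
    intro a b ha hb
    obtain ⟨a, ha', rfl⟩ := lift_inv ha
    obtain ⟨b, hb', rfl⟩ := lift_inv hb
    obtain ⟨g, rfl⟩ := hcj a b ha' hb'
    exact ⟨g, rfl⟩
  have hxb := hmk x hx
  have hidx : (centralizer ({(x : G ⧸ oddCore G)} : Set (G ⧸ oddCore G))).index ∣ p ^ k := by
    rw [← map_cent _ hodd (ord2.1 hx).1, ← hN, ← index_eq hcj hx]
    exact index_map_dvd _ (QuotientGroup.mk'_surjective _)
  have hO : ∀ N : Subgroup (G ⧸ oddCore G), N.Normal → Odd (Nat.card N) → N = ⊥ := by
    intro N hN hNo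
    exact Solv.pPrimeCore_eq_bot_iff.1 (Solv.pPrimeCore_quotient_pPrimeCore 2 G) N hN
      (Nat.coprime_two_right.2 hNo)
  haveI := Solv.ClassSize.isSolvable_normalClosure hp hidx
  obtain ⟨r, E, hr, hE, -, hcomm, hexp, hEr⟩ := Solv.exists_isMinNormal_elementary_le
    (normalClosure ({(x : G ⧸ oddCore G)} : Set (G ⧸ oddCore G))) (fun e => (ord2.1 hxb).2 (by
      have := subset_normalClosure (Set.mem_singleton (x : G ⧸ oddCore G))
      rwa [e, SetLike.mem_coe, mem_bot] at this))
  haveI := Fact.mk hr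
  obtain ⟨n, hn⟩ := hEr.exists_card_eq
  have hr2 : r = 2 := by
    by_contra hr2
    exact hE.ne_bot (hO E hE.normal (hn ▸ (hr.odd_of_ne_two hr2).pow))
  subst hr2
  obtain ⟨e, he, he1⟩ := (Subgroup.bot_or_exists_ne_one E).resolve_left hE.ne_bot
  have hmem : ∀ a : G ⧸ oddCore G, a ∈ E ↔ a * a = 1 := by
    intro a
    refine ⟨fun ha => by rw [← pow_two]; exact hexp a ha, fun ha => ?_⟩
    by_cases ha1 : a = 1
    · rw [ha1]; exact E.one_mem
    obtain ⟨g, rfl⟩ := hcj' e a (ord2.2 ⟨by rw [← pow_two]; exact hexp e he, he1⟩)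
      (ord2.2 ⟨ha, ha1⟩)
    exact hE.normal.conj_mem e he g
  obtain ⟨j, -, hj⟩ := (Nat.dvd_prime_pow hp).1 hidx
  rw [index_eq hcj' hxb] at hj
  have hcard : p ^ j + 1 = Nat.card E := by
    classical
    haveI := Fintype.ofFinite (G ⧸ oddCore G)
    rw [← hj, Nat.card_eq_fintype_card, Nat.card_eq_fintype_card, Fintype.card_subtype,
      Fintype.card_subtype, ← Finset.card_insert_of_notMem (a := 1) (by simp)]
    congr 1
    ext a
    simp only [Finset.mem_insert, Finset.mem_filter, Finset.mem_univ, true_and, hmem, ord2]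
    by_cases ha : a = 1
    · simp [ha]
    · simp [ha]
  by_cases hj0 : j = 0
  · refine rank_one hp h hN hcj fun a b ha hb => ?_
    rw [hj0, pow_zero] at hj
    have h1 := (Nat.card_eq_one_iff_unique.1 hj).1
    have h2 : (⟨_, hmk a ha⟩ : {y : G ⧸ oddCore G // orderOf y = 2}) = ⟨_, hmk b hb⟩ :=
      Subsingleton.elim _ _
    have h3 : (a : G ⧸ oddCore G) = b := congrArg Subtype.val h2
    rw [← QuotientGroup.eq_one_iff, QuotientGroup.mk_mul, ← h3, ← QuotientGroup.mk_mul,
      (ord2.1 ha).1, QuotientGroup.mk_one]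
  have hj1 := mersenne (hp.odd_of_ne_two hp2) hp.one_lt hj0 (hcard.trans hn)
  have hpyr : Pyr E :=
    { normal := hE.normal
      mem := hmem
      conj := fun a ha b hb ha1 hb1 =>
        hcj' a b (ord2.2 ⟨(hmem a).1 ha, ha1⟩) (ord2.2 ⟨(hmem b).1 hb, hb1⟩)
      prime := by rw [← hcard, hj1, pow_one, Nat.add_sub_cancel]; exact hp
      odd := hO }
  haveI := hc _ E hpyr
  haveI : Group.IsSolvable (oddCore G) := Cfsg.Agent.S0205.result hodd
  exact solvable_of_ker_le_range (oddCore G).subtype (QuotientGroup.mk' (oddCore G)) (by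
    rw [QuotientGroup.ker_mk', range_subtype])

end Cfsg.Lib.Known.CK
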