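import Cfsg.Agent.Class.SLTv

/-!
Tools for recognising that a linear group containing a transvection contains the special linear
group: full transvection groups, the ring of multipliers, and a one-way edge criterion.
-/

set_option autoImplicit false

namespace Cfsg.Lib.Known.RU

open Module Cfsg.Lib.Class

variable {F V : Type*} [Field F] [AddCommGroup V] [Module F V] {M : Subgroup (V ≃ₗ[F] V)}

/-- Centres of the full transvection groups with axis `f` contained in `M`. -/
def cen (M : Subgroup (V ≃ₗ[F] V)) (f : Dual F V) : Submodule F V where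
  carrier := {z | ∀ c : F, TvIn M (c • z) f}
  add_mem' := fun {a b} ha hb c => by rw [smul_add]; exact (ha c).add_left (hb c)
  zero_mem' := fun c => by rw [smul_zero]; exact TvIn.zero_left M f
  smul_mem' := fun d a ha c => by rw [smul_smul]; exact ha _

theorem tv_of_cen {f : Dual F V} {a : V} (h : a ∈ cen M f) : TvIn M a f := by
  simpa using h 1

theorem mem_cen_of_comm {a b : V} {φ ψ : Dual F V} (ha : a ∈ cen M φ) (hb : TvIn M b ψ)
    (h0 : φ b = 0) (h1 : ψ a ≠ 0) : b ∈ cen M φ := fun c => by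
  have := (ha (c / ψ a)).comm hb h0
  rwa [map_smul, smul_eq_mul, div_mul_cancel₀ _ h1] at this

theorem cen_conj {a : V} {φ ψ : Dual F V} {k : V ≃ₗ[F] V} (hk : k ∈ M) (hψ : ∀ x, ψ (k x) = φ x)
    (ha : a ∈ cen M φ) : k a ∈ cen M ψ := fun c => by
  rw [← map_smul]; exact (ha c).conj hk hψ

theorem cyc_step {w : V ≃ₗ[F] V} {x : V}
    (hcyc : ∀ W : Submodule F V, x ∈ W → (∀ z ∈ W, w z ∈ W) → W = ⊤) (W : Submodule F V)
    (h1 : w x ∈ W) (h2 : ∀ z ∈ W, w z ∈ W) : W = ⊤ := by
  have := hcyc (W.comap (w : V →ₗ[F] V)) h1 fun z hz => h2 _ hz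
  rw [eq_top_iff] at this ⊢
  intro z _
  obtain ⟨z, rfl⟩ := w.surjective z
  exact this (Submodule.mem_top (x := z))

/-- One-way edge criterion: every vector on the axis is a centre. -/
theorem cen_of_edge {w : V ≃ₗ[F] V} (hw : w ∈ M) {x : V} {f : Dual F V} (hx : x ∈ cen M f)
    (h1 : f (w x) = 0) (h2 : f (w.symm x) ≠ 0)
    (hcyc : ∀ W : Submodule F V, x ∈ W → (∀ z ∈ W, w z ∈ W) → W = ⊤) :
    ∀ z, f z = 0 → z ∈ cen M f := by
  have r1 : ∀ a ∈ cen M f, f (w a) = 0 → w a ∈ cen M f := fun a ha h =>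
    mem_cen_of_comm hx ((tv_of_cen ha).conj' hw) h (by simpa using h2)
  have hx1 : w x ∈ cen M f := r1 x hx h1
  have r2 : ∀ a ∈ cen M f, f (w (w a)) = 0 → w (w a) ∈ cen M f := fun a ha h =>
    mem_cen_of_comm hx1 (((tv_of_cen ha).conj' hw).conj' hw) h (by simpa using h2)
  have hker : ∀ a ∈ cen M f, f a = 0 := fun a ha => (tv_of_cen ha).1
  by_cases hc : ∃ a ∈ cen M f, ∃ a' ∈ cen M f, a = w a' ∧ w a ∉ cen M f
  · obtain ⟨a, ha, a', ha', e, hn⟩ := hc
    have hne : f (w a) ≠ 0 := fun h => hn (r1 a ha h)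
    have hE : cen M f ⊔ (cen M f).map (w : V →ₗ[F] V) = ⊤ := by
      refine hcyc _ (Submodule.mem_sup_left hx) fun z hz => ?_
      obtain ⟨z1, hz1, _, ⟨z2, hz2, rfl⟩, rfl⟩ := Submodule.mem_sup.1 hz
      rw [map_add]
      refine Submodule.add_mem _ (Submodule.mem_sup_right ⟨z1, hz1, rfl⟩) ?_
      have k := r2 (z2 - (f (w (w z2)) / f (w a)) • a')
        (Submodule.sub_mem _ hz2 (Submodule.smul_mem _ _ ha')) (by
          simp only [map_sub, map_smul, ← e, smul_eq_mul]
          rw [div_mul_cancel₀ _ hne, sub_self])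
      simp only [map_sub, map_smul, ← e] at k
      have e2 : w ((w : V →ₗ[F] V) z2) = (w (w z2) - (f (w (w z2)) / f (w a)) • w a) +
          (f (w (w z2)) / f (w a)) • w a := by simp
      rw [e2]
      exact Submodule.add_mem _ (Submodule.mem_sup_left k)
        (Submodule.mem_sup_right (Submodule.smul_mem _ _ ⟨a, ha, rfl⟩))
    intro z hz
    have : z ∈ cen M f ⊔ (cen M f).map (w : V →ₗ[F] V) := hE ▸ Submodule.mem_top
    obtain ⟨z1, hz1, _, ⟨z2, hz2, rfl⟩, rfl⟩ := Submodule.mem_sup.1 this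
    refine Submodule.add_mem _ hz1 (r1 z2 hz2 ?_)
    simpa [hker z1 hz1] using hz
  · exfalso
    push Not at hc
    have hD : cen M f ⊓ (cen M f).map (w : V →ₗ[F] V) = ⊤ := by
      refine cyc_step hcyc _ ⟨hx1, x, hx, rfl⟩ ?_
      rintro _ ⟨hz, z, hz', rfl⟩
      exact ⟨hc _ hz z hz' rfl, _, hz, rfl⟩
    have : w.symm x ∈ cen M f ⊓ (cen M f).map (w : V →ₗ[F] V) := hD ▸ Submodule.mem_top
    exact h2 (hker _ this.1)

/-- The axes all of whose transvections lie in `M`. -/
def axes (M : Subgroup (V ≃ₗ[F] V)) : Submodule F (Dual F V) where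
  carrier := {φ | ∀ z, φ z = 0 → TvIn M z φ}
  zero_mem' := fun z _ => TvIn.zero_right M z
  smul_mem' := fun c φ h z hz => by
    by_cases hc : c = 0
    · rw [hc, zero_smul]; exact TvIn.zero_right M z
    · rw [← TvIn.smul_iff]
      refine h _ ?_
      simpa using hz
  add_mem' := fun {φ ψ} hφ hψ y hy => by
    rw [LinearMap.add_apply] at hy
    by_cases h : ∃ z, φ z = 0 ∧ ψ z ≠ 0
    · obtain ⟨z, h1, h2⟩ := h
      have hb : φ (-(ψ z)⁻¹ • z) = 0 := by simp [h1]
      have hb' : ψ (-(ψ z)⁻¹ • z) = -1 := by simp [h2]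
      have := (hψ (y - φ y • (-(ψ z)⁻¹ • z)) (by
        rw [map_sub, map_smul, hb', smul_eq_mul]; linear_combination hy)).conj_tv (hφ _ hb)
      rw [map_sub, map_smul, hb, hb', smul_zero, sub_zero, sub_add_cancel] at this
      convert this using 1
      ext u
      simp [add_comm]
    · push Not at h
      by_cases h1 : φ y = 0
      · exact (hφ y h1).add_right (hψ y (h y h1))
      · have : φ + ψ = 0 := by
          ext z
          have := h (z - (φ z / φ y) • y) (by simp [h1])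
          rw [map_sub, map_smul, smul_eq_mul, show ψ y = -φ y by linear_combination hy] at this
          simp only [LinearMap.add_apply, LinearMap.zero_apply]
          field_simp at this
          linear_combination this
        rw [this]; exact TvIn.zero_right M y

theorem SLV_le_of_axis [FiniteDimensional F V] {f : Dual F V} (hf : ∀ z, f z = 0 → TvIn M z f)
    (hirr : ∀ z, (∀ h ∈ M, f (h z) = 0) → z = 0) : SLV F V ≤ M := by
  have h1 : (axes M).dualCoannihilator = ⊥ := by
    rw [eq_bot_iff]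
    intro z hz
    rw [Submodule.mem_dualCoannihilator] at hz
    refine hirr z fun h hh => hz (f ∘ₗ (h : V →ₗ[F] V)) fun y hy => ?_
    have := (hf (h y) hy).conj (M.inv_mem hh) (ψ := f ∘ₗ (h : V →ₗ[F] V)) (by simp)
    simpa using this
  have h2 : axes M = ⊤ := by
    rw [← Subspace.dualCoannihilator_dualAnnihilator_eq (W := axes M), h1,
      Submodule.dualAnnihilator_bot]
  exact SLV_le_of_tvIn M fun a φ h => (h2 ▸ Submodule.mem_top : φ ∈ axes M) a h

theorem SLV_le_of_edge [FiniteDimensional F V] {w : V ≃ₗ[F] V} (hw : w ∈ M) {x : V}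
    {f : Dual F V} (hx : x ∈ cen M f) (h1 : f (w x) = 0) (h2 : f (w.symm x) ≠ 0)
    (hcyc : ∀ W : Submodule F V, x ∈ W → (∀ z ∈ W, w z ∈ W) → W = ⊤)
    (hirr : ∀ z, (∀ h ∈ M, f (h z) = 0) → z = 0) : SLV F V ≤ M :=
  SLV_le_of_axis (fun z hz => tv_of_cen (cen_of_edge hw hx h1 h2 hcyc z hz)) hirr

/-- The scalars preserving the set of parameters of transvections in `M` with given centre and
axis. -/
def mulRing (M : Subgroup (V ≃ₗ[F] V)) (x : V) (f : Dual F V) : Subring F where
  carrier := {r | ∀ c, TvIn M (c • x) f → TvIn M ((r * c) • x) f}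
  one_mem' := fun c h => by rwa [one_mul]
  zero_mem' := fun c _ => by rw [zero_mul, zero_smul]; exact TvIn.zero_left M f
  mul_mem' := fun {r s} hr hs c h => by rw [mul_assoc]; exact hr _ (hs c h)
  add_mem' := fun {r s} hr hs c h => by
    rw [add_mul, add_smul]; exact (hr c h).add_left (hs c h)
  neg_mem' := fun {r} hr c h => by rw [neg_mul, neg_smul]; exact (hr c h).neg_left

theorem cen_of_mulRing {x : V} {f : Dual F V} (h : TvIn M x f) (hR : mulRing M x f = ⊤) :
    x ∈ cen M f := fun c => by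
  have := (hR ▸ Subring.mem_top c : c ∈ mulRing M x f) 1 (by rwa [one_smul])
  rwa [mul_one] at this

theorem cen_of_mulRing' {x : V} {f : Dual F V} {θ : F} (h : TvIn M (θ • x) f) (hθ : θ ≠ 0)
    (hR : mulRing M x f = ⊤) : x ∈ cen M f := fun c => by
  have := (hR ▸ Subring.mem_top _ : c / θ ∈ mulRing M x f) θ h
  rwa [div_mul_cancel₀ _ hθ] at this

/-- The largest invariant subspace in the kernel of `f`. -/
def kerAll (M : Subgroup (V ≃ₗ[F] V)) (f : Dual F V) : Submodule F V where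
  carrier := {z | ∀ h ∈ M, f (h z) = 0}
  add_mem' := fun {a b} ha hb h hh => by rw [map_add, map_add, ha h hh, hb h hh, add_zero]
  zero_mem' := fun h _ => by simp
  smul_mem' := fun d a ha h hh => by rw [map_smul, map_smul, ha h hh, smul_zero]

theorem kerAll_inv {f : Dual F V} {k : V ≃ₗ[F] V} (hk : k ∈ M) :
    ∀ z ∈ kerAll M f, k z ∈ kerAll M f := fun _ hz h hh => hz (h * k) (M.mul_mem hh hk)

theorem chain1 {w : V ≃ₗ[F] V} (hw : w ∈ M) {x : V} {f : Dual F V} (h1 : f (w x) = 0) {c c' : F}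
    (hc : TvIn M (c • x) f) (hc' : TvIn M (c' • x) f) :
    TvIn M ((f (w.symm x) * c' * c) • w x) f := by
  have := hc.comm (hc'.conj' hw) (by simp [h1])
  convert this using 1
  simp only [map_smul, LinearMap.comp_apply, LinearEquiv.coe_coe, smul_eq_mul, smul_smul]
  congr 1; ring

theorem chain2 {w : V ≃ₗ[F] V} (hw : w ∈ M) {x : V} {f : Dual F V} (h0 : f x = 0) {c c' : F}
    (hc : TvIn M (c • w x) f) (hc' : TvIn M (c' • w x) f) :
    TvIn M ((f (w (w x)) * c' * c) • x) f := by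
  have := hc.comm (hc'.conj (M.inv_mem hw) (ψ := f ∘ₗ (w : V →ₗ[F] V)) (by simp)) (by simp [h0])
  convert this using 1
  simp only [map_smul, LinearMap.comp_apply, LinearEquiv.coe_coe, smul_eq_mul, smul_smul,
    LinearEquiv.coe_inv, LinearEquiv.symm_apply_apply]
  congr 1; ring

theorem mulRing_cycle {w : V ≃ₗ[F] V} (hw : w ∈ M) {x : V} {f : Dual F V} (hx : TvIn M x f)
    (h1 : f (w x) = 0) : f (w (w x)) * f (w.symm x) ^ 2 ∈ mulRing M x f := fun c hc => by
  have hx' : TvIn M ((1 : F) • x) f := by rwa [one_smul]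
  have := chain2 hw hx.1 (chain1 hw h1 hc hx') (chain1 hw h1 hx' hx')
  convert this using 2; ring

theorem mulRing_fix {w k : V ≃ₗ[F] V} (hw : w ∈ M) (hk : k ∈ M) {x : V} {f : Dual F V} {θ r : F}
    (hx : TvIn M (θ • x) f) (h1 : f (w x) = 0) (hkf : ∀ z, f (k z) = f z)
    (hr : k (w x) - w x = r • x) : r * f (w.symm x) * θ ∈ mulRing M x f := fun c hc => by
  have h := chain1 hw h1 hc hx
  have := (h.conj hk hkf).sub_left h
  rw [map_smul, ← smul_sub, hr, smul_smul] at this
  convert this using 2; ring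

theorem mulRing_neg {w k : V ≃ₗ[F] V} (hw : w ∈ M) (hk : k ∈ M) {x : V} {f : Dual F V} {r : F}
    (hx : TvIn M x f) (h1 : f (w x) = 0) (hkf : ∀ z, f (k z) = -f z)
    (hr : k (w x) - w x = r • x) : r * f (w.symm x) ∈ mulRing M x f := fun c hc => by
  have h := chain1 hw h1 hc (show TvIn M ((1 : F) • x) f by rwa [one_smul])
  have h' := (h.conj hk (ψ := -f) (by simp [hkf])).neg_right
  rw [neg_neg] at h'
  have := h'.sub_left h
  rw [map_smul, ← smul_sub, hr, smul_smul] at this
  convert this using 2; ring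

/-! ### Finite fields -/

theorem exists_gen [Finite F] : ∃ θ : F, θ ≠ 0 ∧ ∀ R : Subring F, θ ∈ R → R = ⊤ := by
  obtain ⟨g, hg⟩ := IsCyclic.exists_monoid_generator (α := Fˣ)
  refine ⟨g, g.ne_zero, fun R h => eq_top_iff.2 fun a _ => ?_⟩
  by_cases ha : a = 0
  · exact ha ▸ R.zero_mem
  · obtain ⟨k, hk⟩ := hg (Units.mk0 a ha)
    have : a = (g : F) ^ k := by simpa using (congrArg Units.val hk).symm
    exact this ▸ R.pow_mem h k

theorem inv_mem_of_finite [Finite F] (R : Subring F) {a : F} (h : a ∈ R) : a⁻¹ ∈ R := by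
  have := Fintype.ofFinite F
  by_cases ha : a = 0
  · simp [ha]
  · have h1 := FiniteField.pow_card_sub_one_eq_one a ha
    have h2 : 1 < Fintype.card F := Fintype.one_lt_card
    have : a⁻¹ = a ^ (Fintype.card F - 2) := by
      refine inv_eq_of_mul_eq_one_right ?_
      rw [← pow_succ', show Fintype.card F - 2 + 1 = Fintype.card F - 1 by omega, h1]
    exact this ▸ R.pow_mem h _

theorem mem_of_mul_mem [Finite F] (R : Subring F) {a b : F} (h : a * b ∈ R) (hb : b ∈ R)
    (h0 : b ≠ 0) : a ∈ R := by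
  have := R.mul_mem h (inv_mem_of_finite R hb)
  rwa [mul_inv_cancel_right₀ h0] at this

theorem mem_of_pow_char [Finite F] (R : Subring F) {p : ℕ} (hp : p.Prime) (h0 : (p : F) = 0)
    {a : F} (h : a ^ p ∈ R) : a ∈ R := by
  have := Fintype.ofFinite F
  have : CharP F p := (CharP.charP_iff_prime_eq_zero hp).2 h0
  obtain ⟨n, -, hn⟩ := FiniteField.card F p
  have h1 := FiniteField.pow_card a
  obtain ⟨k, hk⟩ : ∃ k, (n : ℕ) = k + 1 := ⟨n - 1, by have := n.pos; omega⟩
  rw [hn, hk, pow_succ', pow_mul] at h1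
  exact h1 ▸ R.pow_mem h _

theorem subring_eq_top_of_prime [Fintype F] (hp : (Fintype.card F).Prime) (R : Subring F) :
    R = ⊤ := by
  have : Fact (Nat.card F).Prime := ⟨by rwa [Nat.card_eq_fintype_card]⟩
  rcases R.toAddSubgroup.eq_bot_or_eq_top_of_prime_card with h | h
  · have : (1 : F) ∈ R.toAddSubgroup := R.one_mem
    rw [h] at this
    exact absurd this (by simp)
  · exact eq_top_iff.2 fun a _ => (h ▸ AddSubgroup.mem_top a : a ∈ R.toAddSubgroup)

/-! ### Transfer to matrices -/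

open Matrix

theorem exists_toLin' {ι : Type} [Fintype ι] [DecidableEq ι] {g : (ι → F) ≃ₗ[F] (ι → F)}
    (hg : g ∈ SLV F (ι → F)) : ∃ U : SpecialLinearGroup ι F, U.toLin' = g := by
  refine ⟨⟨LinearMap.toMatrix' (g : (ι → F) →ₗ[F] (ι → F)), ?_⟩, ?_⟩
  · rw [LinearMap.det_toMatrix', ← LinearEquiv.coe_det, MonoidHom.mem_ker.1 hg]; rfl
  · apply LinearEquiv.toLinearMap_injective
    exact Matrix.toLin'_toMatrix' _

theorem toLin'_mem_SLV {ι : Type} [Fintype ι] [DecidableEq ι] (U : SpecialLinearGroup ι F) :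
    U.toLin' ∈ SLV F (ι → F) := by
  rw [MonoidHom.mem_ker, ← Units.val_eq_one, LinearEquiv.coe_det,
    SpecialLinearGroup.toLin'_to_linearMap, LinearMap.det_toLin', U.det_coe]

theorem eq_top_of_SLV_le {ι : Type} [Fintype ι] [DecidableEq ι]
    (H : Subgroup (SpecialLinearGroup ι F))
    (h : SLV F (ι → F) ≤ H.map SpecialLinearGroup.toLin') : H = ⊤ := by
  refine eq_top_iff.2 fun U _ => ?_
  obtain ⟨U', hU', e⟩ := h (toLin'_mem_SLV U)
  rwa [← SpecialLinearGroup.toLin'_injective e]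

/-- Regular unipotent elements. -/
def Reg (n : ℕ) (g : V ≃ₗ[F] V) : Prop :=
  IsNilpotent ((g : Module.End F V) - 1) ∧ ((g : Module.End F V) - 1) ^ (n - 1) ≠ 0

theorem conj_sub_one_pow (g h : V ≃ₗ[F] V) (k : ℕ) (z : V) :
    ((((h * g * h⁻¹ : V ≃ₗ[F] V) : Module.End F V) - 1) ^ k) (h z) =
      h ((((g : Module.End F V) - 1) ^ k) z) := by
  induction k generalizing z with
  | zero => simp
  | succ k ih =>
    rw [pow_succ, pow_succ, Module.End.mul_apply, Module.End.mul_apply, ← ih]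
    congr 1
    simp

theorem Reg.conj {n : ℕ} {g : V ≃ₗ[F] V} (hg : Reg n g) (h : V ≃ₗ[F] V) :
    Reg n (h * g * h⁻¹) := by
  obtain ⟨⟨k, hk⟩, h2⟩ := hg
  refine ⟨⟨k, ?_⟩, fun e => h2 ?_⟩
  · ext z
    obtain ⟨z, rfl⟩ := h.surjective z
    rw [conj_sub_one_pow, hk]; simp
  · ext z
    have := conj_sub_one_pow g h (n - 1) z
    rw [e] at this
    simpa using this.symm

theorem reg_toLin'_iff {ι : Type} [Fintype ι] [DecidableEq ι] (n : ℕ)
    (U : SpecialLinearGroup ι F) : Reg n U.toLin' ↔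
      IsNilpotent ((U : Matrix ι ι F) - 1) ∧ ((U : Matrix ι ι F) - 1) ^ (n - 1) ≠ 0 := by
  have e : ((U.toLin' : Module.End F (ι → F)) - 1) =
      Matrix.toLinAlgEquiv' ((U : Matrix ι ι F) - 1) := by
    rw [map_sub, map_one]; rfl
  rw [Reg, e, ← map_pow, IsNilpotent.map_iff (Matrix.toLinAlgEquiv' (R := F)).injective,
    map_ne_zero_iff _ (Matrix.toLinAlgEquiv' (R := F)).injective]

end Cfsg.Lib.Known.RU
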