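import Cfsg.Agent.Known.RUBase

/-!
The standard Jordan block on `Fin n → F`, and generation of `SL_n` by three conjugate regular
unipotent elements.
-/

set_option autoImplicit false

namespace Cfsg.Lib.Known.RU

open Module Cfsg.Lib.Class Matrix

variable {F : Type*} [Field F] {n : ℕ}

/-- The standard basis vectors, indexed by all natural numbers. -/
def E (F : Type*) [Field F] (n i : ℕ) : Fin n → F := fun j => if (j : ℕ) = i then 1 else 0

theorem E_of_le {i : ℕ} (h : n ≤ i) : E F n i = 0 := by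
  ext j; simp only [E, Pi.zero_apply]; rw [if_neg]; omega

theorem E_eq_single (i : Fin n) : E F n i = Pi.single i 1 := by
  ext j; simp [E, Pi.single_apply, Fin.ext_iff]

theorem mulVec_E (A : Matrix (Fin n) (Fin n) F) (i : Fin n) : A *ᵥ E F n i = fun j => A j i := by
  rw [E_eq_single]; ext j; simp [Matrix.mulVec_single]

theorem sum_E (z : Fin n → F) : z = ∑ i : Fin n, z i • E F n i := by
  ext j; simp [E_eq_single, Pi.single_apply]

theorem lin_ext {W : Type*} [AddCommGroup W] [Module F W] {f g : (Fin n → F) →ₗ[F] W}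
    (h : ∀ i < n, f (E F n i) = g (E F n i)) : f = g := by
  refine LinearMap.ext fun z => ?_
  rw [sum_E z, map_sum, map_sum]
  exact Finset.sum_congr rfl fun i _ => by rw [map_smul, map_smul, h i i.2]

theorem eq_top_of_E {W : Submodule F (Fin n → F)} (h : ∀ i, E F n i ∈ W) : W = ⊤ := by
  refine eq_top_iff.2 fun z _ => ?_
  rw [sum_E z]
  exact W.sum_mem fun i _ => W.smul_mem _ (h i)

/-- The nilpotent shift. -/
def Nm (F : Type*) [Field F] (n : ℕ) : Matrix (Fin n) (Fin n) F :=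
  fun i j => if (i : ℕ) = j + 1 then 1 else 0

theorem Nm_E (i : ℕ) : Nm F n *ᵥ E F n i = E F n (i + 1) := by
  by_cases h : i < n
  · rw [show i = ((⟨i, h⟩ : Fin n) : ℕ) from rfl, mulVec_E]; rfl
  · rw [E_of_le (by omega), E_of_le (by omega), mulVec_zero]

theorem Nm_pow_E (k i : ℕ) : Nm F n ^ k *ᵥ E F n i = E F n (i + k) := by
  induction k with
  | zero => simp
  | succ k ih => rw [pow_succ', ← mulVec_mulVec, ih, Nm_E, add_assoc]

/-- The lower Jordan block. -/
def Um (F : Type*) [Field F] (n : ℕ) : SpecialLinearGroup (Fin n) F :=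
  ⟨1 + Nm F n, by
    rw [det_of_isLowerTriangular]
    · simp [Nm]
    · intro i j h
      have : (i : ℕ) < j := h
      simp only [Matrix.add_apply, Nm]
      rw [one_apply_ne (by intro e; rw [e] at this; omega), if_neg (by omega), add_zero]⟩

/-- The lower Jordan block as a linear automorphism. -/
def uJ (F : Type*) [Field F] (n : ℕ) : (Fin n → F) ≃ₗ[F] (Fin n → F) := (Um F n).toLin'

theorem uJ_apply (z : Fin n → F) : uJ F n z = z + Nm F n *ᵥ z := by
  change (1 + Nm F n) *ᵥ z = _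
  rw [add_mulVec, one_mulVec]

theorem uJ_E (i : ℕ) : uJ F n (E F n i) = E F n i + E F n (i + 1) := by rw [uJ_apply, Nm_E]

theorem uJ_last : uJ F n (E F n (n - 1)) = E F n (n - 1) := by
  rw [uJ_E, E_of_le (i := n - 1 + 1) (by omega), add_zero]

theorem uJ_mem : uJ F n ∈ SLV F (Fin n → F) := toLin'_mem_SLV _

theorem E_ne_zero {i : ℕ} (h : i < n) : E F n i ≠ 0 := fun e => by
  simpa [E] using congrFun e ⟨i, h⟩

theorem reg_uJ (hn : 0 < n) : Reg n (uJ F n) := by
  rw [uJ, reg_toLin'_iff]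
  have e : ((Um F n : Matrix (Fin n) (Fin n) F) - 1) = Nm F n := add_sub_cancel_left _ _
  rw [e]
  refine ⟨⟨n, ?_⟩, fun h => ?_⟩
  · apply Matrix.toLin'.injective
    refine lin_ext fun i _ => ?_
    rw [toLin'_apply, toLin'_apply, Nm_pow_E, E_of_le (by omega), zero_mulVec]
  · have := Nm_pow_E (F := F) (n := n) (n - 1) 0
    rw [h, zero_mulVec] at this
    exact E_ne_zero (by omega) this.symm

theorem N_mem {W : Submodule F (Fin n → F)} (h : ∀ z ∈ W, uJ F n z ∈ W) {z : Fin n → F}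
    (hz : z ∈ W) : Nm F n *ᵥ z ∈ W := by
  have := W.sub_mem (h z hz) hz
  rwa [uJ_apply, add_sub_cancel_left] at this

theorem N_pow_mem {W : Submodule F (Fin n → F)} (h : ∀ z ∈ W, uJ F n z ∈ W) {z : Fin n → F}
    (hz : z ∈ W) (k : ℕ) : Nm F n ^ k *ᵥ z ∈ W := by
  induction k with
  | zero => simpa using hz
  | succ k ih => rw [pow_succ', ← mulVec_mulVec]; exact N_mem h ih

theorem cyc_E0 (W : Submodule F (Fin n → F)) (h0 : E F n 0 ∈ W) (h : ∀ z ∈ W, uJ F n z ∈ W) :
    W = ⊤ := eq_top_of_E fun i => by simpa [Nm_pow_E] using N_pow_mem h h0 i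

theorem eq_of_N_eq_zero {z : Fin n → F} (h : Nm F n *ᵥ z = 0) :
    ∃ c : F, z = c • E F n (n - 1) := by
  by_cases hn : n = 0
  · subst hn; exact ⟨0, Subsingleton.elim _ _⟩
  refine ⟨z ⟨n - 1, by omega⟩, funext fun j => ?_⟩
  by_cases hj : (j : ℕ) = n - 1
  · have : j = ⟨n - 1, by omega⟩ := Fin.ext hj
    rw [this]; simp [E]
  · have := congrFun h ⟨j + 1, by omega⟩
    simp only [mulVec, dotProduct, Nm, add_left_inj, ite_mul, one_mul, zero_mul, ← Fin.ext_iff,
      Finset.sum_ite_eq, Finset.mem_univ, if_true, Pi.zero_apply] at this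
    simp [E, hj, this]

theorem last_mem {W : Submodule F (Fin n → F)} (h : ∀ z ∈ W, uJ F n z ∈ W) {z : Fin n → F}
    (hz : z ∈ W) (h0 : z ≠ 0) : E F n (n - 1) ∈ W := by
  have h1 : ∃ k, Nm F n ^ k *ᵥ z = 0 := ⟨n, by
    rw [sum_E z, mulVec_sum]
    exact Finset.sum_eq_zero fun i _ => by rw [mulVec_smul, Nm_pow_E, E_of_le (by omega), smul_zero]⟩
  classical
  obtain ⟨k, hk⟩ : ∃ k, Nat.find h1 = k + 1 :=
    Nat.exists_eq_succ_of_ne_zero fun e => h0 (by simpa [e] using Nat.find_spec h1)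
  have h2 := Nat.find_spec h1
  have h3 := Nat.find_min h1 (m := k) (by omega)
  rw [hk, pow_succ', ← mulVec_mulVec] at h2
  obtain ⟨c, hc⟩ := eq_of_N_eq_zero h2
  have h4 := N_pow_mem h hz k
  rw [hc] at h3 h4
  exact (W.smul_mem_iff (by rintro rfl; simp at h3)).1 h4

/-- The last coordinate. -/
def fL (F : Type*) [Field F] (n : ℕ) : Dual F (Fin n → F) := dotProductBilin F F (E F n (n - 1))

theorem dot_E (κ : ℕ → F) {i : ℕ} (h : i < n) : (fun j : Fin n => κ j) ⬝ᵥ E F n i = κ i := by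
  rw [show i = ((⟨i, h⟩ : Fin n) : ℕ) from rfl, E_eq_single, dotProduct_single, mul_one]

theorem fL_E (hn : 0 < n) (i : ℕ) : fL F n (E F n i) = if i = n - 1 then 1 else 0 := by
  by_cases h : i < n
  · exact dot_E (fun j => if j = n - 1 then 1 else 0) h
  · rw [E_of_le (by omega), map_zero, if_neg (by omega)]

theorem uJ_symm_E0 : (uJ F n).symm (E F n 0) = fun j : Fin n => (-1) ^ (j : ℕ) := by
  rw [LinearEquiv.symm_apply_eq, uJ_apply]
  ext j
  rcases j with ⟨_ | j, hj⟩
  · simp [E, mulVec, dotProduct, Nm]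
  · have : ∀ i : Fin n, j = i ↔ (⟨j, by omega⟩ : Fin n) = i := fun i => by simp [Fin.ext_iff]
    simp [E, mulVec, dotProduct, Nm, this, pow_succ]

theorem exists_rev (hn : 0 < n) : ∃ g ∈ SLV F (Fin n → F), ∃ d : ℕ → F, (∀ i, d i * d i = 1) ∧
    ∀ i < n, g (E F n i) = d i • E F n (n - 1 - i) := by
  let s : F := ((Equiv.Perm.sign (Fin.revPerm (n := n)) : ℤ) : F)
  have hs : s * s = 1 := by
    rcases Int.units_eq_one_or (Equiv.Perm.sign (Fin.revPerm (n := n))) with h | h <;> simp [s, h]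
  let d : ℕ → F := fun i => if i = 0 then s else 1
  let G : SpecialLinearGroup (Fin n) F :=
    ⟨(diagonal fun i : Fin n => d i).submatrix Fin.revPerm id, by
      rw [det_permute, det_diagonal, Finset.prod_eq_single ⟨0, hn⟩]
      · exact hs
      · intro b _ hb
        exact if_neg fun e => hb (Fin.ext e)
      · simp⟩
  refine ⟨G.toLin', toLin'_mem_SLV G, d, fun i => ?_, fun i hi => ?_⟩
  · simp only [d]; split_ifs <;> simp [hs]
  · change (G : Matrix (Fin n) (Fin n) F) *ᵥ E F n ((⟨i, hi⟩ : Fin n) : ℕ) = _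
    rw [mulVec_E]
    ext j
    simp only [G, submatrix_apply, id, diagonal_apply, Fin.revPerm_apply, Fin.ext_iff, Fin.val_rev,
      Pi.smul_apply, E, smul_eq_mul]
    by_cases h : (j : ℕ) = n - 1 - i
    · rw [if_pos h, if_pos (by omega), mul_one]; congr 1; omega
    · rw [if_neg h, if_neg (by omega), mul_zero]

theorem three_gen [Finite F] (hn : 3 ≤ n) : ∃ g ∈ SLV F (Fin n → F), ∃ h ∈ SLV F (Fin n → F),
    ∀ M : Subgroup ((Fin n → F) ≃ₗ[F] (Fin n → F)), uJ F n ∈ M → g * uJ F n * g⁻¹ ∈ M →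
      h * uJ F n * h⁻¹ ∈ M → SLV F (Fin n → F) ≤ M := by
  obtain ⟨g, hg, d, hd, hE⟩ := exists_rev (F := F) (n := n) (by omega)
  obtain ⟨θ, hθ, hgen⟩ := exists_gen (F := F)
  have hd0 : ∀ i, d i ≠ 0 := fun i e => by simpa [e] using hd i
  set u' := g * uJ F n * g⁻¹ with hu'
  have h1 : ∀ i < n, u' (E F n (n - 1 - i)) =
      E F n (n - 1 - i) + d i • g (E F n (i + 1)) := fun i hi => by
    have : E F n (n - 1 - i) = g (d i • E F n i) := by rw [map_smul, hE i hi, smul_smul, hd, one_smul]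
    conv_lhs => rw [this]
    simp only [hu', LinearEquiv.mul_apply, LinearEquiv.coe_inv, LinearEquiv.symm_apply_apply,
      map_smul, uJ_E, map_add, smul_add]
    rw [hE i hi, smul_smul, hd, one_smul]
  have h2 : u' (E F n 1) = E F n 1 + (d (n - 2) * d (n - 1)) • E F n 0 := by
    have := h1 (n - 2) (by omega)
    rwa [show n - 1 - (n - 2) = 1 by omega, show n - 2 + 1 = n - 1 by omega, hE _ (by omega),
      Nat.sub_self, smul_smul] at this
  have h3 : ∀ z, fL F n (u' z) = fL F n z := by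
    have : fL F n ∘ₗ (u' : _ →ₗ[F] _) = fL F n := lin_ext fun i hi => by
      have := h1 (n - 1 - i) (by omega)
      rw [show n - 1 - (n - 1 - i) = i by omega] at this
      rw [LinearMap.comp_apply, LinearEquiv.coe_coe, this, map_add, map_smul]
      by_cases h : i = 0
      · rw [E_of_le (i := n - 1 - i + 1) (by omega)]; simp
      · rw [hE _ (by omega), map_smul, fL_E (by omega) (n - 1 - (n - 1 - i + 1)),
          if_neg (by omega)]; simp
    exact fun z => LinearMap.congr_fun this z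
  have h3' : ∀ z, fL F n (u'.symm z) = fL F n z := fun z => by
    rw [← h3, LinearEquiv.apply_symm_apply]
  set ε := d (n - 2) * d (n - 1)
  have hε : ε ≠ 0 := mul_ne_zero (hd0 _) (hd0 _)
  set μ := fL F n ((uJ F n).symm (E F n 0)) with hμ
  have hμ0 : μ ≠ 0 := by
    rw [hμ, uJ_symm_E0, fL, dotProductBilin_apply_apply, dotProduct_comm,
      dot_E (fun j => (-1 : F) ^ j) (by omega)]
    simp
  have f1 : fL F n (E F n 1) = 0 := by rw [fL_E (by omega), if_neg (by omega)]
  have f0 : fL F n (E F n 0) = 0 := by rw [fL_E (by omega), if_neg (by omega)]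
  have hb : fL F n ((θ / (ε * μ * ε)) • E F n 1) = 0 := by simp [f1]
  let k := LinearEquiv.transvection hb
  have hk : ∀ z, k z = z + fL F n z • (θ / (ε * μ * ε)) • E F n 1 := fun _ => rfl
  have hk' : ∀ z, k.symm z = z - fL F n z • (θ / (ε * μ * ε)) • E F n 1 := fun z => by
    rw [LinearEquiv.symm_apply_eq, hk]; simp [f1]
  refine ⟨g, hg, k⁻¹ * g, mul_mem (inv_mem (mem_SLV_of_tv hb hk)) hg, fun M m1 m2 m3 => ?_⟩
  have t : TvIn M ((θ / (ε * μ * ε) * ε) • E F n 0) (fL F n) := by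
    refine ⟨by simp [f0], _, M.mul_mem m3 (M.inv_mem m2), fun z => ?_⟩
    have : k⁻¹ * g * uJ F n * (k⁻¹ * g)⁻¹ * u'⁻¹ = k⁻¹ * (u' * (k * u'⁻¹)) := by
      rw [hu']; group
    rw [this]
    simp only [LinearEquiv.mul_apply, LinearEquiv.coe_inv, hk, hk', map_add, map_smul, h3', h2,
      LinearEquiv.apply_symm_apply, f1, f0]
    module
  have e1 : fL F n (uJ F n (E F n 0)) = 0 := by simp [uJ_E, f0, f1]
  have h0 : u' (E F n 0) = E F n 0 := by
    have := h1 (n - 1) (by omega)
    rwa [Nat.sub_self, E_of_le (i := n - 1 + 1) (by omega), map_zero, smul_zero, add_zero] at this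
  have hR := mulRing_fix (k := u') m1 m2 t e1 h3 (r := ε) (by
    rw [uJ_E, map_add, h0, h2]; abel)
  rw [← hμ, show ε * μ * (θ / (ε * μ * ε) * ε) = θ by field_simp] at hR
  refine SLV_le_of_edge m1 (cen_of_mulRing' t (by simp [hθ, hε, hμ0]) (hgen _ hR)) e1 hμ0 cyc_E0
    fun z hz => ?_
  by_contra h
  have := last_mem (W := kerAll M (fL F n)) (kerAll_inv m1) hz h 1 M.one_mem
  simp [fL_E (F := F) (n := n) (by omega)] at this

end Cfsg.Lib.Known.RU
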