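import Cfsg.Agent.Known.RUSp
import Cfsg.Agent.Class.HermSimple

/-!
A generation criterion for special unitary groups via Eichler transformations.
-/

set_option autoImplicit false

namespace Cfsg.Lib.Known.RU

open Module Cfsg.Lib.Class Cfsg.Lib.Class.Form

variable {F V : Type*} [Field F] [AddCommGroup V] [Module F V] {σ : F →+* F}
  {B : V →ₛₗ[σ] V →ₗ[F] F} {M : Subgroup (isomGroup B)}

/-- The unitary Eichler transformation with data `x, w, b` lies in `M`. -/
def HE (M : Subgroup (isomGroup B)) (x w : V) (b : F) : Prop :=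
  B x w = 0 ∧ ∃ g ∈ M, ∀ z, (g : V ≃ₗ[F] V) z = z + B x z • w - (B w z + b * B x z) • x

section
variable (h : Herm B) {x y y' z : V} {c c' s : F}

theorem HE.zero : HE M x 0 0 := ⟨by simp, 1, M.one_mem, by simp⟩

include h

theorem HE.mul (hx : B x x = 0) (h1 : HE M x y c) (h2 : HE M x y' c') :
    HE M x (y + y') (c + c' + B y y') := by
  obtain ⟨h0, g, hg, e⟩ := h1
  obtain ⟨h0', g', hg', e'⟩ := h2
  refine ⟨by simp [h0, h0'], g * g', M.mul_mem hg hg', fun z => ?_⟩
  simp only [isom_mul_apply, e, e', map_add, map_sub, map_smul, LinearMap.add_apply,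
    h0', h.eq_zero_comm.1 h0, hx, smul_eq_mul]
  module

theorem HE.neg (hx : B x x = 0) (h1 : HE M x y c) : HE M x (-y) (B y y - c) := by
  obtain ⟨h0, g, hg, e⟩ := h1
  refine ⟨by simp [h0], g⁻¹, M.inv_mem hg, fun z => ?_⟩
  apply (g : V ≃ₗ[F] V).injective
  rw [isom_apply_inv, e]
  simp only [map_add, map_sub, map_smul, map_neg, LinearMap.neg_apply,
    h0, h.eq_zero_comm.1 h0, hx, smul_eq_mul]
  module

theorem HE.sub (hx : B x x = 0) (h1 : HE M x y c) (h2 : HE M x y' c') :
    HE M x (y' - y) (c' - c + B y y - B y y') := by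
  convert (h1.neg h hx).mul h hx h2 using 1
  · abel
  · simp; ring

omit h in
theorem HE.conj (h1 : HE M x y c) {k : isomGroup B} (hk : k ∈ M) :
    HE M ((k : V ≃ₗ[F] V) x) ((k : V ≃ₗ[F] V) y) c := by
  obtain ⟨h0, g, hg, e⟩ := h1
  refine ⟨by rw [isom_apply, h0], k * g * k⁻¹, M.mul_mem (M.mul_mem hk hg) (M.inv_mem hk),
    fun z => ?_⟩
  obtain ⟨z, rfl⟩ := (k : V ≃ₗ[F] V).surjective z
  simp [e, isom_apply]

theorem HE.scale {t : F} (h1 : HE M (t • x) y c) (ht : t ≠ 0) :
    HE M x (σ t • y) (t * σ t * c) := by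
  obtain ⟨h0, g, hg, e⟩ := h1
  refine ⟨by simpa [map_smulₛₗ, ht] using h0, g, hg, fun z => ?_⟩
  simp only [e, map_smulₛₗ, LinearMap.smul_apply, smul_eq_mul, h.invol]
  module

omit h in
theorem HE.absorb (hx : B x x = 0) {t : F} (h1 : HE M x (y + t • x) c) :
    HE M x y (c + σ t - t) := by
  obtain ⟨h0, g, hg, e⟩ := h1
  refine ⟨by simpa [hx] using h0, g, hg, fun z => ?_⟩
  simp only [e, map_add, map_smulₛₗ, LinearMap.add_apply, LinearMap.smul_apply, smul_eq_mul]
  module

theorem HE.tvAct (hx : B x x = 0) (hz : HE M z 0 s) (h0 : B z x = 0) (h1 : HE M x y c) :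
    ∃ c', HE M x (-(s * B z y) • z) c' := by
  obtain ⟨-, g, hg, e⟩ := hz
  have h2 := h1.conj hg
  rw [e, e, h0] at h2
  simp only [smul_zero, map_zero, LinearMap.zero_apply, mul_zero, add_zero, zero_smul, sub_zero,
    zero_add] at h2
  exact ⟨_, by convert h1.sub h hx h2 using 1; module⟩

theorem HE.valid (hx : B x x = 0) (hx0 : x ≠ 0) (h1 : HE M x y c) : c + σ c = B y y := by
  obtain ⟨h0, g, -, e⟩ := h1
  obtain ⟨z, hz⟩ := h.exists_ne hx0
  have := isom_apply g z z
  simp only [e, map_add, map_sub, map_smulₛₗ, LinearMap.add_apply, LinearMap.sub_apply,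
    LinearMap.smul_apply, smul_eq_mul, map_mul, RingHom.id_apply, hx, h0, h.eq_zero_comm.1 h0,
    h.conj] at this
  have hz' : B z x ≠ 0 := fun h0 => hz (h.eq_zero_comm.1 h0)
  have h2 : (c + σ c - B y y) * (B x z * B z x) = 0 := by linear_combination -this
  simpa [hz, hz', sub_eq_zero] using h2

/-- The vectors all of whose multiples occur in Eichler elements with centre `x` in `M`. -/
def heFull (M : Subgroup (isomGroup B)) (x : V) (hx : B x x = 0) : Submodule F V where
  carrier := {y | ∀ r : F, ∃ c, HE M x (r • y) c}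
  add_mem' := fun {a b} ha hb r => by
    obtain ⟨c, h1⟩ := ha r
    obtain ⟨c', h2⟩ := hb r
    exact ⟨_, smul_add r a b ▸ h1.mul h hx h2⟩
  zero_mem' := fun r => ⟨0, by rw [smul_zero]; exact HE.zero⟩
  smul_mem' := fun d a ha r => by rw [smul_smul]; exact ha _

/-- Multipliers for the Eichler elements in a fixed direction. -/
def heRing (M : Subgroup (isomGroup B)) (x : V) (hx : B x x = 0) (y : V) : Subring F where
  carrier := {r | ∀ β : F, (∃ c, HE M x (β • y) c) → ∃ c, HE M x ((r * β) • y) c}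
  one_mem' := fun c h => by rwa [one_mul]
  zero_mem' := fun c _ => ⟨0, by rw [zero_mul, zero_smul]; exact HE.zero⟩
  mul_mem' := fun {r s} hr hs c h => by rw [mul_assoc]; exact hr _ (hs c h)
  add_mem' := fun {r s} hr hs β h0 => by
    obtain ⟨c, h1⟩ := hr β h0
    obtain ⟨c', h2⟩ := hs β h0
    exact ⟨_, by rw [add_mul, add_smul]; exact h1.mul h hx h2⟩
  neg_mem' := fun {r} hr β h0 => by
    obtain ⟨c, h1⟩ := hr β h0
    exact ⟨_, by rw [neg_mul, neg_smul]; exact h1.neg h hx⟩

theorem mem_heFull (hx : B x x = 0) {β : F} (hβ : β ≠ 0) (h1 : ∃ c, HE M x (β • y) c)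
    (hR : heRing h M x hx y = ⊤) : y ∈ heFull h M x hx := fun r => by
  have := (hR ▸ Subring.mem_top _ : r / β ∈ heRing h M x hx y) β h1
  rwa [div_mul_cancel₀ _ hβ] at this

theorem sIsom_le_of_radical [Finite F] [FiniteDimensional F V] (hn : 3 ≤ finrank F V)
    (hex : finrank F V = 3 → ∃ a : F, σ a = a ∧ a ≠ 0 ∧ a ≠ 1) (hx : B x x = 0)
    (h1 : ∀ y, B x y = 0 → ∃ c, HE M x y c) {k : isomGroup B} (hk : k ∈ M)
    (h3 : B x ((k : V ≃ₗ[F] V) x) ≠ 0) : sIsom B ≤ M := by
  have hx0 : x ≠ 0 := by rintro rfl; simp at h3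
  have c0 : ∀ c, c + σ c = 0 → HE M x 0 c := fun c hc => by
    obtain ⟨d, hd, hdd⟩ := h.exists_nonisotropic_orth_of_lt (W := F ∙ x) (by
      rw [finrank_span_singleton hx0]; omega)
    rw [mem_orth_span_singleton] at hd
    obtain ⟨a, ha⟩ := h.exists_trace_eq (map_one σ)
    obtain ⟨c1, k1⟩ := h1 d hd
    obtain ⟨c2, k2⟩ := h1 ((c * a / B d d) • d) (by simp [hd])
    convert (k2.mul h hx k1).sub h hx (k1.mul h hx k2) using 1
    · abel
    · rw [add_comm d]
      simp only [map_smulₛₗ, LinearMap.smul_apply, smul_eq_mul, map_div₀, map_mul, h.conj,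
        RingHom.id_apply]
      field_simp
      linear_combination (-c) * ha + σ a * hc
  have c0' : ∀ y c, B x y = 0 → c + σ c = B y y → HE M x y c := fun y c hy hc => by
    obtain ⟨c1, k1⟩ := h1 y hy
    have := k1.valid h hx hx0
    convert k1.mul h hx (c0 (c - c1) (by rw [map_sub]; linear_combination hc - this)) using 1
    · simp
    · simp
  have c1 : ∀ z, (∀ c, c + σ c = 0 → HE M z 0 c) → ∀ g ∈ M, ∀ c, c + σ c = 0 →
      HE M ((g : V ≃ₗ[F] V) z) 0 c := fun z h g hg c hc => by simpa using (h c hc).conj hg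
  have c2 : ∀ z, B z z = 0 → B x z ≠ 0 → ∀ c, c + σ c = 0 → HE M z 0 c := fun z hz0 hz => by
    obtain ⟨w, e0, e1, c3⟩ : ∃ w, B w w = 0 ∧ B x w = B x z ∧ ∀ c, c + σ c = 0 → HE M w 0 c := by
      set t := B x z / B x ((k : V ≃ₗ[F] V) x)
      have ht : t ≠ 0 := div_ne_zero hz h3
      refine ⟨t • (k : V ≃ₗ[F] V) x, by simp [map_smulₛₗ, isom_apply, hx], by simp [t, h3],
        fun c hc => ?_⟩
      have := c1 x c0 k hk (t * σ t * c) (by
        simp only [map_mul, h.invol]; linear_combination t * σ t * hc)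
      rw [← inv_smul_smul₀ ht ((k : V ≃ₗ[F] V) x)] at this
      convert this.scale h (inv_ne_zero ht) using 1
      · simp
      · have : σ t ≠ 0 := by simpa using ht
        rw [map_inv₀]; field_simp
    have hz' : B z x ≠ 0 := fun h0 => hz (h.eq_zero_comm.1 h0)
    obtain ⟨-, g, hg, e⟩ := c0' ((B x z)⁻¹ • (z - w)) (-B z w / (B x z * B z x)) (by simp [e1]) (by
      simp only [map_smulₛₗ, map_sub, LinearMap.smul_apply, LinearMap.sub_apply, smul_eq_mul,
        map_div₀, map_neg, map_mul, map_inv₀, h.conj, RingHom.id_apply, e0, hz0]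
      field_simp
      ring)
    have c4 := c1 _ c3 g hg
    rw [e, e1] at c4
    simp only [map_smulₛₗ, map_sub, LinearMap.smul_apply, LinearMap.sub_apply, smul_eq_mul,
      map_inv₀, h.conj, e0, smul_inv_smul₀ hz] at c4
    convert c4 using 4
    rw [show (B z x)⁻¹ * (B z w - 0) + -B z w / (B x z * B z x) * B x z = 0 by field_simp; ring]
    simp
  rw [← h.transvGroup_eq_sIsom hex]
  refine (Subgroup.closure_le _).2 fun t ht => ?_
  obtain ⟨z, hz0, c, hc, rfl⟩ := IsTransv.eq_transv h ht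
  suffices HE M z 0 (-c) by
    obtain ⟨-, g, hg, e⟩ := this
    rw [show h.transv z hz0 c hc = g from isom_ext fun u => by simp [e, Herm.transv_apply]]
    exact hg
  have hc' : -c + σ (-c) = 0 := by rw [map_neg]; linear_combination -hc
  by_cases hz : B x z = 0
  swap
  · exact c2 z hz0 hz _ hc'
  by_cases h0 : z = 0
  · exact ⟨by simp, 1, M.one_mem, by simp [h0]⟩
  obtain ⟨w, w0, w1, w2⟩ := h.exists_isotropic_ne_ne hx0 h0 hx hz
  obtain ⟨δ, d0, d1⟩ := h.exists_trace_zero
  obtain ⟨-, g, hg, e⟩ := c2 w w0 w1 δ d1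
  have := c1 _ (c2 ((g : V ≃ₗ[F] V) z) (by rw [isom_apply, hz0]) (by
    have : B w z ≠ 0 := fun h0 => w2 (h.eq_zero_comm.1 h0)
    simp [e, hz, w1, d0, this])) _ (M.inv_mem hg) _ hc'
  rwa [isom_inv_apply] at this

theorem sIsom_le_of_gen [Finite F] [FiniteDimensional F V] (hn : 4 ≤ finrank F V)
    {u v : isomGroup B} (hu : u ∈ M) (hv : v ∈ M) {τ : F} {x' : V}
    (ex : (v : V ≃ₗ[F] V) y = x) (ex' : (v : V ≃ₗ[F] V) x = x')
    (hT : HE M x 0 s) (u1 : (u : V ≃ₗ[F] V) x = x) (u2 : (u : V ≃ₗ[F] V) x' = x' + τ • x)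
    (b0 : B y y = 0) (b1 : B y x = 0) (b2 : B y x' ≠ 0) (hs : s ≠ 0) (hτ : τ ≠ 0)
    (hgen : ∀ R : Subring F, s ^ 2 * (B y x' * B x' y) ∈ R →
      (∀ j : ℕ, s * B y (((((u : V ≃ₗ[F] V) : Module.End F V) - 1) ^ j) y) ∈ R) → R = ⊤)
    (hcyc : ∀ W : Submodule F V, y ∈ W → (∀ z ∈ W, (u : V ≃ₗ[F] V) z ∈ W) →
      ∀ z, B x z = 0 → z ∈ W) : sIsom B ≤ M := by
  have hx : B x x = 0 := by rw [← ex, isom_apply, b0]
  have hx' : B x' x' = 0 := by rw [← ex', isom_apply, hx]
  have b1' : B x x' = 0 := by rw [← ex', ← ex, isom_apply, ex, b1]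
  have hx0 : x ≠ 0 := by rintro rfl; rw [map_zero] at ex'; simp [← ex'] at b2
  have hs' : σ s = -s := by
    have := hT.valid h hx hx0
    simp only [map_zero] at this
    linear_combination this
  have t1 : HE M x' 0 s := by simpa [ex'] using hT.conj hv
  have t2 : HE M y 0 s := by
    have := hT.conj (M.inv_mem hv)
    rwa [← ex, isom_inv_apply, map_zero] at this
  have t3 : ∃ c, HE M x (-(s * σ τ) • x') c := by
    have := t1.conj hu
    rw [map_zero, u2] at this
    obtain ⟨-, g, hg, e⟩ := this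
    obtain ⟨-, g', hg', e'⟩ := t1.neg h hx'
    refine ⟨s * τ * σ τ, by simp [b1'], _, M.mul_mem hg hg', fun z => ?_⟩
    simp only [isom_mul_apply, e, e', map_add, map_sub, map_smulₛₗ, LinearMap.add_apply,
      LinearMap.smul_apply, hx', b1', smul_eq_mul, map_zero, map_neg, map_mul, hs', h.invol,
      LinearMap.zero_apply, neg_zero, RingHom.id_apply]
    module
  have r1 : ∀ β : F, (∃ c, HE M x (β • x') c) → ∃ c, HE M x ((-(s * B y x') * β) • y) c :=
    fun β ⟨c, h1⟩ => by
      obtain ⟨c', h2⟩ := HE.tvAct h hx t2 b1 h1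
      exact ⟨c', by convert h2 using 2; simp; ring⟩
  have r2 : heRing h M x hx y = ⊤ := by
    refine hgen _ (fun β ⟨c, h1⟩ => ?_) fun j => ?_
    · obtain ⟨c', h2⟩ := r1 _ (HE.tvAct h hx t1 (h.eq_zero_comm.1 b1') h1)
      exact ⟨c', by convert h2 using 2; simp; ring⟩
    · rw [← neg_mem_iff]
      intro β h1
      have : ∃ c, HE M x (β • ((((u : V ≃ₗ[F] V) : Module.End F V) - 1) ^ j) y) c := by
        induction j with
        | zero => simpa using h1
        | succ j ih =>
          obtain ⟨c, h2⟩ := ih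
          have h3 := h2.conj hu
          rw [u1] at h3
          exact ⟨_, by convert h2.sub h hx h3 using 1; simp [pow_succ', smul_sub]⟩
      obtain ⟨c, h2⟩ := this
      obtain ⟨c', h3⟩ := HE.tvAct h hx t2 b1 h2
      exact ⟨c', by convert h3 using 2; simp; ring⟩
  have r4 := mem_heFull h hx (by simp [hs, hτ, b2]) (r1 _ t3) r2
  refine sIsom_le_of_radical h (by omega) (fun e => by omega) hx (fun z hz => ?_)
    (M.mul_mem hv hv) (by rwa [isom_mul_apply, ex', ← ex, isom_apply])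
  simpa using hcyc _ r4 (fun z hz r => by
    obtain ⟨c, h⟩ := hz r
    have := h.conj hu
    rw [u1, map_smul] at this
    exact ⟨c, this⟩) z hz 1

end

/-! ### A Hermitian form invariant under the Jordan block -/

open Matrix

variable {n r : ℕ}

theorem slin_ext {W : Type*} [AddCommGroup W] [Module F W] {f g : (Fin n → F) →ₛₗ[σ] W}
    (h : ∀ i < n, f (E F n i) = g (E F n i)) : f = g := by
  refine LinearMap.ext fun z => ?_
  rw [sum_E z, map_sum, map_sum]
  exact Finset.sum_congr rfl fun i _ => by rw [map_smulₛₗ, map_smulₛₗ, h i i.2]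

/-- Half of the Gram matrix. -/
def suP (F : Type*) [Field F] (r i j : ℕ) : F := spP F (r + 1) i (j + 1) + spP F r j (i - 1)

theorem suP_rel (hr : 0 < r) (i j : ℕ) :
    suP F r (i + 1) j + suP F r i (j + 1) + suP F r (i + 1) (j + 1) = 0 := by
  have h1 := spP_rel (F := F) (n := r + 1) i (j + 1)
  unfold suP
  rcases i with _ | i
  · rw [if_neg (by omega)] at h1
    have : ∀ j, spP F r j 0 = 0 := fun j => if_neg (by omega)
    simp only [this, zero_add] at h1 ⊢
    linear_combination h1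
  · have h2 := spP_rel (F := F) (n := r) j i
    simp only [Nat.add_sub_cancel]
    by_cases h : j + 1 = r ∧ i + 1 = r
    · rw [if_pos (by omega), show r + 1 - 1 = r - 1 + 1 by omega, pow_succ] at h1
      rw [if_pos h] at h2
      linear_combination h1 + h2
    · rw [if_neg (by omega)] at h1 h2
      linear_combination h1 + h2

theorem suP_high {i j : ℕ} (h : 2 * r < i + j) : suP F r i j = 0 := by
  unfold suP spP
  split_ifs with h1 h2 h2
  · omega
  · rw [Nat.choose_eq_zero_of_lt (by omega)]; simp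
  · rw [Nat.choose_eq_zero_of_lt (by omega)]; simp
  · simp

theorem suP_low {i j : ℕ} (hi : i ≤ r) (hj : j < r) : suP F r i j = 0 := by
  unfold suP spP
  rw [if_neg (by omega), if_neg (by omega), add_zero]

theorem suP_mid {i : ℕ} (hi : i < r) : suP F r i r = (-1) ^ i := by
  unfold suP spP
  rw [if_pos (by omega), if_neg (by omega)]; simp

theorem suP_anti {i j : ℕ} (hi : i < r) (h : i + j = 2 * r) :
    suP F r i j = (-1) ^ i ∧ suP F r j i = (-1) ^ i := by
  unfold suP spP
  rw [if_pos (by omega), if_neg (by omega), if_neg (by omega), if_pos (by omega),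
    show j + 1 - (r + 1) = r + 1 - 1 - i by omega, show j - 1 - r = r - 1 - i by omega]
  simp

/-- A Hermitian form invariant under the Jordan block of odd size. -/
noncomputable def suB (σ : F →+* F) (a : F) (r : ℕ) :
    (Fin (2 * r + 1) → F) →ₛₗ[σ] (Fin (2 * r + 1) → F) →ₗ[F] F :=
  toLinearMapₛₗ₂' F σ (RingHom.id F)
    (of fun i j : Fin (2 * r + 1) => a * suP F r i j + σ a * suP F r j i)

theorem suB_E (a : F) (i j : ℕ) : suB σ a r (E F (2 * r + 1) i) (E F (2 * r + 1) j) =
    a * suP F r i j + σ a * suP F r j i := by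
  by_cases hi : i < 2 * r + 1
  · by_cases hj : j < 2 * r + 1
    · rw [show i = ((⟨i, hi⟩ : Fin (2 * r + 1)) : ℕ) from rfl,
        show j = ((⟨j, hj⟩ : Fin (2 * r + 1)) : ℕ) from rfl, E_eq_single, E_eq_single, suB,
        toLinearMapₛₗ₂'_single]
      rfl
    · rw [E_of_le (i := j) (by omega), suP_high (by omega), suP_high (by omega)]; simp
  · rw [E_of_le (i := i) (by omega), suP_high (by omega), suP_high (by omega)]; simp

theorem suB_uJ (hr : 0 < r) (a : F) (z w : Fin (2 * r + 1) → F) :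
    suB σ a r (uJ F _ z) (uJ F _ w) = suB σ a r z w := by
  have : ((suB σ a r).comp (uJ F (2 * r + 1)).toLinearMap).compl₂ (uJ F _).toLinearMap =
      suB σ a r := slin_ext fun i _ => lin_ext fun j _ => by
    simp only [LinearMap.compl₂_apply, LinearMap.comp_apply, LinearEquiv.coe_coe, uJ_E, map_add,
      LinearMap.add_apply, suB_E]
    linear_combination a * suP_rel (F := F) hr i j + σ a * suP_rel (F := F) hr j i
  exact LinearMap.congr_fun₂ this z w

theorem suB_last (hr : 0 < r) {a : F} (ha : a + σ a = 1) (z : Fin (2 * r + 1) → F) :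
    suB σ a r (E F _ (2 * r)) z = z 0 := by
  have : suB σ a r (E F _ (2 * r)) = LinearMap.proj 0 := lin_ext fun i hi => by
    rw [suB_E]
    rcases i with _ | i
    · rw [(suP_anti hr (zero_add _)).1, (suP_anti hr (zero_add _)).2]; simp [E, ha]
    · rw [suP_high (by omega), suP_high (by omega)]; simp [E]
  rw [this]; rfl

theorem suB_herm (hσ : σ ≠ RingHom.id F) (hσ2 : ∀ a, σ (σ a) = a) (hr : 0 < r) {a : F}
    (ha : a + σ a = 1) : Herm (suB σ a r) := by
  refine herm_of_isSymm hσ hσ2 ⟨fun z w => ?_⟩ fun z hz => ?_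
  · have : ∀ i j, σ (suP F r i j) = suP F r i j := fun i j => by
      unfold suP spP; split_ifs <;> simp
    simp only [suB, toLinearMapₛₗ₂'_apply, map_sum, smul_eq_mul, map_mul, map_add, of_apply,
      RingHom.id_apply, hσ2, this]
    rw [Finset.sum_comm]
    exact Finset.sum_congr rfl fun i _ => Finset.sum_congr rfl fun j _ => by ring
  · by_contra h
    have := last_mem (W := LinearMap.ker (suB σ a r)) (fun z hz => by
      rw [LinearMap.mem_ker] at hz ⊢
      refine LinearMap.ext fun w => ?_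
      obtain ⟨w, rfl⟩ := (uJ F (2 * r + 1)).surjective w
      rw [suB_uJ hr, hz]; rfl) (LinearMap.ext hz) h
    have h2 := suB_last hr ha (E F _ 0)
    rw [Nat.add_sub_cancel, LinearMap.mem_ker] at this
    rw [this] at h2
    simp [E] at h2

theorem uJ_sub_one_pow (j i : ℕ) :
    (((uJ F n : Module.End F (Fin n → F)) - 1) ^ j) (E F n i) = E F n (i + j) := by
  induction j with
  | zero => simp
  | succ j ih => simp [pow_succ', ih, uJ_E, add_assoc]

/-- The Jordan block as a special isometry. -/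
def suJ (hr : 0 < r) (σ : F →+* F) (a : F) : isomGroup (suB σ a r) := ⟨uJ F _, suB_uJ hr a⟩

theorem exists_herm_gen [Finite F] (hσ : σ ≠ RingHom.id F) :
    ∃ θ : F, θ + σ θ ≠ 0 ∧ θ - σ θ ≠ 0 ∧ θ ≠ 0 ∧ ∀ R : Subring F, θ ∈ R → R = ⊤ := by
  obtain ⟨θ, h0, hθ⟩ := exists_gen (F := F)
  have h1 : θ - σ θ ≠ 0 := fun e => hσ (RingHom.ext fun x =>
    (hθ (σ.eqLocus (RingHom.id F)) (sub_eq_zero.1 e).symm ▸ Subring.mem_top x :
      x ∈ σ.eqLocus (RingHom.id F)))
  by_cases h2 : θ + σ θ = 0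
  · refine ⟨θ + 1, fun e => h1 ?_, by simpa using h1, fun e => h1 ?_, fun R hR => hθ R ?_⟩
    · rw [map_add, map_one] at e
      linear_combination θ * e - (1 + θ) * h2
    · rw [eq_neg_of_add_eq_zero_left e]; simp
    · simpa using R.sub_mem hR R.one_mem
  · exact ⟨θ, h2, h1, h0, hθ⟩

theorem su_three_gen [Finite F] (hσ : σ ≠ RingHom.id F) (hσ2 : ∀ a, σ (σ a) = a) (hr : 2 ≤ r) :
    ∃ a : F, a + σ a = 1 ∧ ∃ g ∈ sIsom (suB σ a r), ∃ h ∈ sIsom (suB σ a r), ∀ M : Subgroup _,
      suJ (by omega) σ a ∈ M → g * suJ (by omega) σ a * g⁻¹ ∈ M →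
      h * suJ (by omega) σ a * h⁻¹ ∈ M → sIsom (suB σ a r) ≤ M := by
  obtain ⟨θ, t1, t2, t0, hθ⟩ := exists_herm_gen hσ
  obtain ⟨a, ha'⟩ : ∃ a, a = θ / (θ + σ θ) := ⟨_, rfl⟩
  have ha : a + σ a = 1 := by
    rw [ha', map_div₀, map_add, hσ2, add_comm (σ θ), ← add_div, div_self t1]
  have ha0 : a ≠ 0 := ha' ▸ div_ne_zero t0 t1
  have ha1 : σ a ≠ 0 := by simpa using ha0
  refine ⟨a, ha, ?_⟩
  have h := suB_herm hσ hσ2 (r := r) (by omega) ha
  set B := suB σ a r
  set v : isomGroup B := suJ (by omega) σ a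
  have hv : ∀ i, v.1 (E F (2 * r + 1) i) = E F _ i + E F _ (i + 1) := uJ_E
  have b0 : ∀ i j, 2 * r < i + j → B (E F _ i) (E F _ j) = 0 := fun i j hi => by
    rw [suB_E, suP_high hi, suP_high (by omega)]; simp
  have b0' : ∀ i j, i < r → j < r → B (E F _ i) (E F _ j) = 0 := fun i j hi hj => by
    rw [suB_E, suP_low hi.le hj, suP_low hj.le hi]; simp
  have b1 : ∀ i < r, B (E F _ i) (E F _ r) = (-1) ^ i * a := fun i hi => by
    rw [suB_E, suP_mid hi, suP_low le_rfl hi]; ring
  have b2 : B (E F _ 1) (E F _ (2 * r - 1)) = -1 := by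
    rw [suB_E, (suP_anti (by omega) (by omega)).1, (suP_anti (i := 1) (by omega) (by omega)).2]
    linear_combination -ha
  set y := E F (2 * r + 1) (r - 2) with hy
  set x := v.1 y with hx
  set x' := v.1 x with hx'
  have y0 : B y y = 0 := b0' _ _ (by omega) (by omega)
  have y1 : B y x = 0 := by rw [hx, hy, hv, map_add, ← hy, y0, b0' _ _ (by omega) (by omega), add_zero]
  have y2 : B y x' = (-1) ^ (r - 2) * a := by
    rw [hx', hx, hy, hv, map_add, map_add, ← hy, ← hx, y1, hv, map_add,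
      b0' _ _ (by omega) (by omega), show r - 2 + 1 + 1 = r by omega, b1 _ (by omega)]
    ring
  have y2' : B y x' ≠ 0 := by simp [y2, ha0]
  have y3 : B y x' * B x' y = a * σ a := by
    rw [← h.conj y, y2, map_mul, map_pow, map_neg, map_one, mul_mul_mul_comm, ← mul_pow]; simp
  have x0 : B x x = 0 := by rw [hx, isom_apply, y0]
  have x1 : B x x' = 0 := by rw [hx', hx, isom_apply, y1]
  have x2 : B x' x' = 0 := by rw [hx', isom_apply, x0]
  set l := E F (2 * r + 1) (2 * r)
  set l' := E F (2 * r + 1) (2 * r - 1)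
  have e1 : v.1 l = l := by rw [hv, E_of_le (i := 2 * r + 1) le_rfl, add_zero]
  have e2 : v.1 l' = l' + l := by rw [hv, show 2 * r - 1 + 1 = 2 * r by omega]
  have l0 : B l l = 0 := b0 _ _ (by omega)
  have l1 : B l l' = 0 := b0 _ _ (by omega)
  have l2 : B l' l' = 0 := b0 _ _ (by omega)
  have l3 : B l (E F _ 1) = 0 := b0 _ _ (by omega)
  have l4 : B l' (E F _ 1) = -1 := by rw [← h.conj, b2]; simp
  have li : LinearIndependent F ![l, l', (-B x' y) • E F _ 1] := by
    rw [Fintype.linearIndependent_iff]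
    intro c hc
    have k2 := congrArg (B l') hc
    have k1 := congrArg (B (E F _ 1)) hc
    have k0 := congrFun hc ⟨2 * r, by omega⟩
    simp [Fin.sum_univ_three, l2, l4, h.eq_zero_comm.1 l1, h.eq_zero_comm.1 l3, b2,
      b0' 1 1 (by omega) (by omega), h.eq_zero_comm (u := x'), y2'] at k1 k2
    simp [Fin.sum_univ_three, k1, k2, l, E] at k0
    intro i; fin_cases i <;> assumption
  obtain ⟨g0, hg0⟩ := h.witt_family li (y := ![x, x', y]) (by
    rw [Fintype.linearIndependent_iff]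
    intro c hc
    have k1 := congrArg (B y) hc
    have k2 := congrArg (B x') hc
    simp [Fin.sum_univ_three, y0, y1, y2', h.eq_zero_comm.1 x1, x2, h.eq_zero_comm (u := x')]
      at k1 k2
    have k0 := congrArg (B (v.1 x')) hc
    simp [Fin.sum_univ_three, k1, k2, hx, isom_apply, h.eq_zero_comm (u := x'), y2'] at k0
    intro i; fin_cases i <;> assumption) (by
    intro i j
    fin_cases i <;> fin_cases j <;> simp [x0, x1, x2, l0, l1, l2, l3, l4, y0, y1, b2, map_smulₛₗ,
      h.eq_zero_comm.1 l1, h.eq_zero_comm.1 l3, h.eq_zero_comm.1 x1, h.eq_zero_comm.1 y1, h.conj,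
      b0' 1 1 (by omega) (by omega)])
  obtain ⟨w, hw⟩ := h.exists_forall_eq' li ![1, 0, 0]
  have w0 : B l w = 1 := hw 0
  obtain ⟨b, f0, f1⟩ := h.exists_partner l0 (w := w) (by simp [w0])
  have f2 : B l' ((B l w)⁻¹ • w - b • l) = 0 := by
    simp [show B l' w = 0 from hw 1, h.eq_zero_comm.1 l1]
  have f3 : B ((-B x' y) • E F _ 1) ((B l w)⁻¹ • w - b • l) = 0 := by
    rw [map_sub, map_smul, show B ((-B x' y) • E F _ 1) w = 0 from hw 2]
    simp [map_smulₛₗ, h.eq_zero_comm.1 l3]
  generalize (B l w)⁻¹ • w - b • l = f at f0 f1 f2 f3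
  obtain ⟨τ, m, hm, hg⟩ := h.exists_mul_hypDiag_mem l0 f0 f1 g0
  have hτ : τ ≠ 0 := by rintro rfl; simp at hm
  set g := g0 * h.hypDiag l0 f0 f1 τ m hm
  have g1 : g.1 l = τ • x := by
    rw [isom_mul_apply, Herm.hypDiag_apply, ← h.conj l, f1, l0, ← show _ = x from hg0 0]
    simp [← map_smul, sub_smul]
  have g2 : g.1 l' = x' := by
    rw [isom_mul_apply, Herm.hypDiag_apply, h.eq_zero_comm.1 f2, l1, ← show _ = x' from hg0 1]
    simp
  have g3 : g.1 ((-B x' y) • E F _ 1) = y := by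
    rw [isom_mul_apply, Herm.hypDiag_apply, h.eq_zero_comm.1 f3, map_smul (B l), l3]
    exact Eq.trans (by simp) (hg0 2)
  have hτ' : σ τ ≠ 0 := by simpa using hτ
  set t := (θ - σ θ) / (τ * σ τ) * a with ht
  have k0 : B l (t • l') = 0 := by simp [l1]
  have k1 : 0 + σ 0 = B (t • l') (t • l') := by simp [map_smulₛₗ, l2]
  set k := h.eich l0 k0 0 k1
  refine ⟨g, hg, g * k, mul_mem hg (h.eich_mem_sIsom ..), fun M m1 m2 m3 => ?_⟩
  refine sIsom_le_of_gen h (by simp; omega) m2 m1 (τ := τ) (s := θ - σ θ) hx.symm hx'.symm ?_ ?_ ?_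
    y0 y1 y2' t2 hτ (fun R r1 r2 => ?_) fun W w1 w2 z hz => ?_
  · refine ⟨by simp, _, M.mul_mem m3 (M.inv_mem m2), fun z => ?_⟩
    obtain ⟨z, rfl⟩ := (g * v * k).1.surjective z
    have a1 : ∀ z, B l (v.1 z) = B l z := fun z => by conv_lhs => rw [← e1, isom_apply]
    have a2 : B l' (v.1 z) = B l' z - B l z := by
      rw [← isom_apply v l' z, e2, map_add, LinearMap.add_apply, a1]; ring
    have a3 : B x ((g * v * k).1 z) = B l z / σ τ := by
      rw [← inv_smul_smul₀ hτ x, ← g1, map_smulₛₗ, LinearMap.smul_apply, isom_mul_apply (g * v),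
        isom_mul_apply g v, isom_apply, a1, Herm.eich_apply]
      simp [l0, l1, div_eq_inv_mul]
    rw [a3, ← isom_mul_apply, show g * k * v * (g * k)⁻¹ * (g * v * g⁻¹)⁻¹ * (g * v * k) =
      g * k * v by group]
    simp only [isom_mul_apply, k, Herm.eich_apply, a1, a2, map_add, map_sub, map_smulₛₗ, e1, e2, g1,
      LinearMap.smul_apply, RingHom.id_apply, smul_eq_mul, map_zero, LinearMap.zero_apply, ht,
      map_mul, map_div₀, hσ2]
    match_scalars <;> field_simp
    linear_combination τ * (σ θ - θ) * B l z * ha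
  · rw [← inv_smul_smul₀ hτ x, ← g1]; simp [e1]
  · rw [← g1, ← g2]; simp [e2]
  · have r3 : ∀ j, (θ - σ θ) * (a * σ a * B (E F _ 1) (E F _ (1 + j))) ∈ R := fun j => by
      have := r2 j
      rw [← g3, show ((g * v * g⁻¹ : isomGroup B) : _ ≃ₗ[F] _) = g.1 * uJ F _ * g.1⁻¹ from rfl,
        conj_sub_one_pow, isom_apply, map_smul (_ ^ j), uJ_sub_one_pow] at this
      convert this using 2
      simp only [map_smulₛₗ, LinearMap.smul_apply, smul_eq_mul, map_neg, h.conj, RingHom.id_apply]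
      rw [← y3]; ring
    have r4 := r3 (r - 1)
    have r5 := r3 (2 * r - 2)
    rw [show 1 + (r - 1) = r by omega, b1 _ (by omega)] at r4
    rw [show 1 + (2 * r - 2) = 2 * r - 1 by omega, b2] at r5
    have n0 : (θ - σ θ) * (a * σ a * -1) ≠ 0 := by simp [t2, ha0]
    have r6 : a ∈ R := mem_of_mul_mem R (by convert r4 using 1; ring) r5 n0
    have r7 : θ - σ θ ∈ R := mem_of_mul_mem R (by
      convert R.neg_mem r1 using 1; rw [y3]; ring) r5 n0
    have e : (θ + σ θ) * (2 * a - 1) = θ - σ θ := by rw [ha']; field_simp; ring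
    have r8 : θ + σ θ ∈ R := mem_of_mul_mem R (e ▸ r7)
      (R.sub_mem (R.mul_mem (by exact_mod_cast natCast_mem R 2) r6) R.one_mem)
      (right_ne_zero_of_mul (e ▸ t2))
    exact hθ R (by convert R.mul_mem r6 r8 using 1; rw [ha']; field_simp)
  · obtain ⟨z, rfl⟩ := g.1.surjective z
    have k2 := E_mem_of (W := W.comap g.1.toLinearMap) (z := E F _ 1) (fun z hz => by
      have := w2 _ hz
      simp only [isom_mul_apply, LinearEquiv.coe_coe, isom_inv_apply] at this
      exact this) (by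
        rw [← g3, map_smul, W.smul_mem_iff (by simpa [h.eq_zero_comm] using y2')] at w1
        exact w1) ⟨1, by omega⟩ (fun j hj => if_neg (Nat.ne_of_lt hj)) (by simp [E])
    have : B l z = 0 := by rw [← isom_apply g, g1]; rw [map_smulₛₗ, LinearMap.smul_apply, hz, smul_zero]
    rw [suB_last (by omega) ha] at this
    change z ∈ W.comap g.1.toLinearMap
    rw [sum_E z]
    refine Submodule.sum_mem _ fun i _ => ?_
    rcases i with ⟨_ | i, hi⟩
    · rw [show z ⟨0, hi⟩ = 0 from this, zero_smul]; exact Submodule.zero_mem _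
    · exact Submodule.smul_mem _ _ (k2 _ (by simp))

end Cfsg.Lib.Known.RU
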