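import Cfsg.Agent.Known.RUJordan
import Cfsg.Agent.Class.SpStab

/-!
A generation criterion for symplectic groups via Eichler transformations.
-/

set_option autoImplicit false

namespace Cfsg.Lib.Known.RU

open Module Cfsg.Lib.Class

variable {F V : Type*} [Field F] [AddCommGroup V] [Module F V] {B : LinearMap.BilinForm F V}
  {M : Subgroup (V ≃ₗ[F] V)}

/-- The Eichler transformation with data `x, y, c` lies in `M`. -/
def Ei (B : LinearMap.BilinForm F V) (M : Subgroup (V ≃ₗ[F] V)) (x y : V) (c : F) : Prop :=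
  B x y = 0 ∧ ∃ g ∈ M, ∀ z, g z = z + B z x • y + (B z y + c * B z x) • x

section
variable (hA : B.IsAlt) {x y y' z : V} {c c' s : F}
include hA

theorem alt_zero (h : B x y = 0) : B y x = 0 := by rw [← hA.neg_eq, h, neg_zero]

theorem Ei.mul (h : Ei B M x y c) (h' : Ei B M x y' c') :
    Ei B M x (y + y') (c + c' + B y' y) := by
  obtain ⟨h0, g, hg, e⟩ := h
  obtain ⟨h0', g', hg', e'⟩ := h'
  refine ⟨by simp [h0, h0'], g * g', M.mul_mem hg hg', fun z => ?_⟩
  simp only [LinearEquiv.mul_apply, e, e', map_add, map_smul, LinearMap.add_apply,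
    LinearMap.smul_apply, h0, alt_zero hA h0', hA.self_eq_zero x, smul_eq_mul]
  module

theorem Ei.neg (h : Ei B M x y c) : Ei B M x (-y) (-c) := by
  obtain ⟨h0, g, hg, e⟩ := h
  refine ⟨by simp [h0], g⁻¹, M.inv_mem hg, fun z => ?_⟩
  apply g.injective
  rw [LinearEquiv.coe_inv, LinearEquiv.apply_symm_apply, e]
  simp only [map_add, map_smul, map_neg, LinearMap.add_apply, LinearMap.neg_apply,
    LinearMap.smul_apply, h0, alt_zero hA h0, hA.self_eq_zero, smul_eq_mul]
  module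

theorem Ei.sub (h : Ei B M x y c) (h' : Ei B M x y' c') :
    Ei B M x (y' - y) (c' - c - B y' y) := by
  convert (h.neg hA).mul hA h' using 1
  · abel
  · simp; ring

theorem ei_iff_tv : Ei B M x 0 c ↔ altTEquiv hA x c ∈ M := by
  constructor
  · rintro ⟨-, g, hg, e⟩
    convert hg using 1
    ext z
    simp [e, altTEquiv_apply']
  · exact fun h => ⟨by simp, _, h, fun z => by simp [altTEquiv_apply']⟩

theorem Ei.absorb {t : F} (h : Ei B M x (t • x + y) c) : Ei B M x y (c + 2 * t) := by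
  obtain ⟨h0, g, hg, e⟩ := h
  refine ⟨by simpa [hA.self_eq_zero x] using h0, g, hg, fun z => ?_⟩
  simp only [e, map_add, map_smul, smul_eq_mul]
  module

omit hA in
theorem Ei.conj (hM : M ≤ SpB B) (h : Ei B M x y c) {k : V ≃ₗ[F] V} (hk : k ∈ M) :
    Ei B M (k x) (k y) c := by
  obtain ⟨h0, g, hg, e⟩ := h
  refine ⟨by rw [mem_SpB.1 (hM hk), h0], k * g * k⁻¹, M.mul_mem (M.mul_mem hk hg) (M.inv_mem hk), fun z => ?_⟩
  obtain ⟨z, rfl⟩ := k.surjective z
  simp [e, mem_SpB.1 (hM hk)]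

theorem Ei.tvAct (hM : M ≤ SpB B) (hz : Ei B M z 0 s) (h0 : B x z = 0) (h : Ei B M x y c) :
    Ei B M x ((s * B y z) • z) (s * B y z ^ 2) := by
  have h1 := h.conj hM ((ei_iff_tv hA).1 hz)
  rw [altTEquiv_apply', h0, mul_zero, zero_smul, add_zero, altTEquiv_apply'] at h1
  convert h.sub hA h1 using 1
  · abel
  · simp only [map_add, map_smul, LinearMap.add_apply, LinearMap.smul_apply, hA.self_eq_zero,
      smul_eq_mul, ← hA.neg_eq y z]
    ring

end

/-- Vectors all of whose multiples occur in Eichler transformations with centre `x` in `M`. -/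
def eiFull (hA : B.IsAlt) (M : Subgroup (V ≃ₗ[F] V)) (x : V) : Submodule F V where
  carrier := {y | ∀ r : F, ∃ c, Ei B M x (r • y) c}
  add_mem' := fun {a b} ha hb r => by
    obtain ⟨c, h⟩ := ha r
    obtain ⟨c', h'⟩ := hb r
    exact ⟨_, smul_add r a b ▸ h.mul hA h'⟩
  zero_mem' := fun r => ⟨0, by simp, 1, M.one_mem, by simp⟩
  smul_mem' := fun d a ha r => by rw [smul_smul]; exact ha _

/-- Multipliers for the Eichler transformations in a fixed direction. -/
def eiRing (hA : B.IsAlt) (M : Subgroup (V ≃ₗ[F] V)) (x y : V) : Subring F where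
  carrier := {r | ∀ β : F, (∃ c, Ei B M x (β • y) c) → ∃ c, Ei B M x ((r * β) • y) c}
  one_mem' := fun c h => by rwa [one_mul]
  zero_mem' := fun c _ => ⟨0, by simp, 1, M.one_mem, by simp⟩
  mul_mem' := fun {r s} hr hs c h => by rw [mul_assoc]; exact hr _ (hs c h)
  add_mem' := fun {r s} hr hs β h => by
    obtain ⟨c, h1⟩ := hr β h
    obtain ⟨c', h2⟩ := hs β h
    exact ⟨_, by rw [add_mul, add_smul]; exact h1.mul hA h2⟩
  neg_mem' := fun {r} hr β h => by
    obtain ⟨c, h1⟩ := hr β h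
    exact ⟨_, by rw [neg_mul, neg_smul]; exact h1.neg hA⟩

theorem SpB_le_of_radical [FiniteDimensional F V] (hB : B.Nondegenerate) (hA : B.IsAlt)
    (hM : M ≤ SpB B) {x : V} (h1 : ∀ y, B x y = 0 → ∃ c, Ei B M x y c) (h2 : ∀ c, Ei B M x 0 c)
    {k : V ≃ₗ[F] V} (hk : k ∈ M) (h3 : B (k x) x ≠ 0) : SpB B ≤ M := by
  have c1 : ∀ z, (∀ c, Ei B M z 0 c) → ∀ g ∈ M, ∀ c, Ei B M (g z) 0 c := fun z h g hg c => by
    simpa using (h c).conj hM hg
  have c2 : ∀ z, B z x ≠ 0 → ∀ c, Ei B M z 0 c := fun z hz => by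
    have c3 : ∀ c, Ei B M ((B z x / B (k x) x) • k x) 0 c := fun c => by
      rw [ei_iff_tv hA, altTEquiv_smul, ← ei_iff_tv hA]
      exact c1 x h2 k hk _
    have e1 : B ((B z x / B (k x) x) • k x) x = B z x := by simp [h3]
    generalize (B z x / B (k x) x) • k x = w at c3 e1
    obtain ⟨c, -, g, hg, e⟩ := h1 ((B z x)⁻¹ • (z - w)) (alt_zero hA (by simp [e1]))
    have c4 := c1 _ (c1 _ c3 g hg) _
      ((ei_iff_tv hA).1 (h2 (-(B w ((B z x)⁻¹ • (z - w)) + c * B z x) / B z x)))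
    rw [altTEquiv_apply', (show B (g w) x = B z x by
      rw [e, e1]
      simp only [map_add, map_smul, map_sub, LinearMap.add_apply, LinearMap.smul_apply,
        LinearMap.sub_apply, hA.self_eq_zero, e1, smul_eq_mul]
      ring), e, e1, smul_smul, mul_inv_cancel₀ hz, div_mul_cancel₀ _ hz] at c4
    convert c4 using 3
    module
  refine SpB_le_of_altT_mem hB hA M fun z c => (ei_iff_tv hA).1 ?_
  by_cases hz : B z x = 0
  swap
  · exact c2 z hz c
  by_cases h0 : z = 0
  · exact ⟨by simp, 1, M.one_mem, by simp [h0]⟩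
  obtain ⟨w, -, w1, w2⟩ := exists_mem_both_ne_zero ⊤ (B.flip x) (B z) ⟨k x, trivial, h3⟩ (by
    by_contra h
    push Not at h
    exact h0 (hB.1 z fun w => h w trivial))
  change B w x ≠ 0 at w1
  have := c1 _ (c2 (z + w) (by simpa [hz] using w1)) _ ((ei_iff_tv hA).1 (c2 w w1 (-(B z w)⁻¹))) c
  simpa [altTEquiv_apply', hA.self_eq_zero, w2] using this

theorem SpB_le_of_gen [FiniteDimensional F V] [Finite F] (hB : B.Nondegenerate) (hA : B.IsAlt)
    (hM : M ≤ SpB B) {u v : V ≃ₗ[F] V} (hu : u ∈ M) (hv : v ∈ M) {y : V} {s : F}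
    (hT : Ei B M (v y) 0 s) (u1 : u (v y) = v y) (u2 : u (v (v y)) = v (v y) + v y)
    (b1 : B y (v y) = 0) (b2 : s * B y (v (v y)) ≠ 0)
    (hgen : ∀ R : Subring F, (s * B y (v (v y))) ^ 2 ∈ R → R = ⊤)
    (hcyc : ∀ W : Submodule F V, y ∈ W → (∀ z ∈ W, u z ∈ W) → ∀ z, B (v y) z = 0 → z ∈ W) :
    SpB B ≤ M := by
  have hs : s ≠ 0 := left_ne_zero_of_mul b2
  have hb : B y (v (v y)) ≠ 0 := right_ne_zero_of_mul b2
  have b1' : B (v y) (v (v y)) = 0 := by rw [mem_SpB.1 (hM hv), b1]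
  have t1 : Ei B M (v (v y)) 0 s := by simpa using hT.conj hM hv
  have t2 : Ei B M y 0 s := by simpa using hT.conj hM (M.inv_mem hv)
  have t3 : Ei B M (v y) (s • v (v y)) s := by
    have := t1.conj hM hu
    rw [map_zero, u2, ei_iff_tv hA] at this
    refine ⟨by simp [b1'], _, M.mul_mem this ((ei_iff_tv hA).1 (t1.neg hA |> fun h => by
      simpa using h)), fun z => ?_⟩
    simp only [LinearEquiv.mul_apply, altTEquiv_apply', map_add, map_smul, LinearMap.add_apply,
      LinearMap.smul_apply, hA.self_eq_zero, alt_zero hA b1', smul_eq_mul]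
    module
  have r1 : ∀ β : F, (∃ c, Ei B M (v y) (β • v (v y)) c) →
      ∃ c, Ei B M (v y) ((-(s * B y (v (v y))) * β) • y) c := fun β ⟨c, h⟩ => by
    have := Ei.tvAct hA hM t2 (alt_zero hA b1) h
    refine ⟨_, by convert this using 2; simp [← hA.neg_eq y]; ring⟩
  have r2 : (s * B y (v (v y))) ^ 2 ∈ eiRing hA M (v y) (v (v y)) := by
    rw [← neg_mem_iff]
    intro β h
    obtain ⟨c, h⟩ := r1 β h
    have := Ei.tvAct hA hM t1 b1' h
    exact ⟨_, by convert this using 2; simp; ring⟩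
  have r3 : ∀ β : F, ∃ c, Ei B M (v y) (β • v (v y)) c := fun β => by
    have := (hgen _ r2 ▸ Subring.mem_top _ : β / s ∈ eiRing hA M (v y) (v (v y))) s ⟨_, t3⟩
    rwa [div_mul_cancel₀ _ hs] at this
  have r4 : y ∈ eiFull hA M (v y) := fun β => by
    have := r1 _ (r3 (β / -(s * B y (v (v y)))))
    rwa [mul_div_cancel₀ _ (neg_ne_zero.2 b2)] at this
  have r5 : ∀ z, B (v y) z = 0 → ∃ c, Ei B M (v y) z c := fun z hz => by
    simpa using hcyc _ r4 (fun z hz r => by
      obtain ⟨c, h⟩ := hz r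
      have := h.conj hM hu
      rw [u1, map_smul] at this
      exact ⟨c, this⟩) z hz 1
  refine SpB_le_of_radical hB hA hM r5 (fun c => ?_) (M.mul_mem hv hv) (by
    rw [LinearEquiv.mul_apply, mem_SpB.1 (hM hv), ← hA.neg_eq]; simpa using hb)
  by_cases h2 : (2 : F) = 0
  swap
  · obtain ⟨c1, k1⟩ := r3 (c / (2 * B y (v (v y))))
    obtain ⟨c2, k2⟩ := r4 1
    convert (k2.mul hA k1).sub hA (k1.mul hA k2) using 1
    · abel
    · simp only [map_add, map_smul, LinearMap.add_apply, LinearMap.smul_apply, hA.self_eq_zero,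
        smul_eq_mul, ← hA.neg_eq y (v (v y))]
      field_simp
      ring
  have k1 : ∀ γ κ : F, Ei B M (v y) ((γ * κ) • v (v y)) (γ * κ ^ 2) := fun γ κ => by
    have : CharP F 2 := (CharP.charP_iff_prime_eq_zero Nat.prime_two).2 (by exact_mod_cast h2)
    obtain ⟨ρ, hρ⟩ := FiniteField.isSquare_of_char_two (ringChar.eq F 2) (γ / s)
    obtain ⟨c1, k1⟩ := r3 (-ρ / B y (v (v y)))
    have k2 := (Ei.tvAct hA hM t2 (alt_zero hA b1) k1).conj hM hv
    have e1 : B ((-ρ / B y (v (v y))) • v (v y)) y = ρ := by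
      simp only [map_smul, LinearMap.smul_apply, smul_eq_mul, ← hA.neg_eq y]
      field_simp
    rw [e1, show s * ρ ^ 2 = γ by rw [sq, ← hρ]; field_simp] at k2
    obtain ⟨-, g, hg, e⟩ := k2
    obtain ⟨c2, k3⟩ := r4 (κ / B y (v (v y)))
    have k4 := k3.conj hM hg
    have e2 : g (v y) = v y := by simp [e, b1', hA.self_eq_zero]
    rw [e2, e] at k4
    have k5 := k3.sub hA k4
    simp only [map_add, map_smul, LinearMap.add_apply, LinearMap.smul_apply, hA.self_eq_zero,
      smul_eq_mul, ← hA.neg_eq y (v (v y)), b1, alt_zero hA b1, div_mul_cancel₀ _ hb,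
      smul_smul] at k5
    have k6 := Ei.absorb hA (x := v y) (t := κ * (s * ρ)) (y := (γ * κ) • v (v y)) (by
      convert k5 using 1
      rw [mul_zero, mul_zero, zero_add]; abel)
    convert k6 using 1
    rw [h2]; field_simp; ring
  by_cases h : ∃ κ : F, κ ≠ 0 ∧ κ ≠ 1
  · obtain ⟨κ, h0, h1⟩ := h
    have h1' : κ - 1 ≠ 0 := sub_ne_zero.2 h1
    convert (k1 (c / (κ - 1)) 1).sub hA (k1 (c / (κ * (κ - 1))) κ) using 1
    · rw [eq_comm, sub_eq_zero]; congr 1; field_simp
    · simp only [map_smul, LinearMap.smul_apply, hA.self_eq_zero, smul_zero]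
      field_simp
      ring
  · push Not at h
    by_cases h0 : c = 0
    · exact ⟨by simp, 1, M.one_mem, by simp [h0]⟩
    · rwa [h c h0, ← h s hs]

theorem exists_move_two [FiniteDimensional F V] (hB : B.Nondegenerate) (hA : B.IsAlt)
    {a b a' b' : V} (ha : a ≠ 0) (ha' : a' ≠ 0) (hb : ∀ c : F, c • a ≠ b)
    (hb' : ∀ c : F, c • a' ≠ b') (h : B a b = B a' b') : ∃ g ∈ SpB B, g a = a' ∧ g b = b' := by
  obtain ⟨w1, w2, c1, c2, -, -, e⟩ := exists_two_altT hB hA ⊥ (x := a) (x' := a') (by simpa)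
    (by simpa) (by simp)
  set g := altTEquiv hA w2 c2 * altTEquiv hA w1 c1
  have hg : g ∈ SpB B := mul_mem (altTEquiv_mem_SpB _ _ _) (altTEquiv_mem_SpB _ _ _)
  have e' : g a = a' := e
  obtain ⟨w3, w4, c3, c4, k3, k4, e2⟩ := exists_two_altT hB hA (F ∙ a') (x := g b) (x' := b') (by
    rw [Submodule.mem_span_singleton]
    rintro ⟨c, hc⟩
    rw [← e', ← map_smul] at hc
    exact hb c (g.injective hc)) (by
    rw [Submodule.mem_span_singleton]
    rintro ⟨c, hc⟩
    exact hb' c hc) (fun y hy => by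
    obtain ⟨c, rfl⟩ := Submodule.mem_span_singleton.1 hy
    rw [map_smul, LinearMap.smul_apply, LinearMap.smul_apply, ← h, ← e', mem_SpB.1 hg])
  refine ⟨altTEquiv hA w4 c4 * altTEquiv hA w3 c3 * g, mul_mem (mul_mem (altTEquiv_mem_SpB _ _ _)
    (altTEquiv_mem_SpB _ _ _)) hg, ?_, e2⟩
  have m := Submodule.mem_span_singleton_self (R := F) a'
  simp [e', altTEquiv_apply', k3 _ m, k4 _ m]

theorem exists_conj_tv (hA : B.IsAlt) {v : V ≃ₗ[F] V} (hv : v ∈ SpB B) {l l' l'' : V}
    (e1 : v l = l) (e2 : v l' = l' + l) (e3 : v l'' = l'' + l') (b1 : B l l' = 0)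
    (b2 : B l l'' = 0) (t t' : F) : ∃ k ∈ SpB B,
      k⁻¹ * v * k = altTEquiv hA l (2 * t' - t - B l' l'' * t ^ 2) * v := by
  refine ⟨altTEquiv hA (l + (t • l'' + t' • l')) 1 * altTEquiv hA l (-1) *
    altTEquiv hA (t • l'' + t' • l') (-1) * altTEquiv hA l' (-t), mul_mem (mul_mem (mul_mem
    (altTEquiv_mem_SpB _ _ _) (altTEquiv_mem_SpB _ _ _)) (altTEquiv_mem_SpB _ _ _))
    (altTEquiv_mem_SpB _ _ _), ?_⟩
  rw [mul_assoc, inv_mul_eq_iff_eq_mul]
  ext z
  have f1 : B (v z) l = B z l := by conv_lhs => rw [← e1, mem_SpB.1 hv]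
  have f2 : B (v z) l' = B z l' - B z l := by
    rw [← mem_SpB.1 hv z l', e2, map_add, f1]; ring
  have f3 : B (v z) l'' = B z l'' - B z l' + B z l := by
    rw [← mem_SpB.1 hv z l'', e3, map_add, f2]; ring
  simp only [LinearEquiv.mul_apply, altTEquiv_apply', map_add, map_smul, LinearMap.add_apply,
    LinearMap.smul_apply, hA.self_eq_zero, smul_eq_mul, e1, e2, e3, f1, f2, f3, b1, b2,
    alt_zero hA b1, alt_zero hA b2, ← hA.neg_eq l' l'']
  module

/-! ### A regular unipotent isometry -/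

open Matrix

variable {n : ℕ}

theorem E_mem_of {W : Submodule F (Fin n → F)} (h : ∀ z ∈ W, uJ F n z ∈ W) {z : Fin n → F}
    (hz : z ∈ W) (k : Fin n) (h0 : ∀ j < k, z j = 0) (h1 : z k ≠ 0) :
    ∀ i, (k : ℕ) ≤ i → E F n i ∈ W := by
  suffices ∀ d i, n ≤ i + d → (k : ℕ) ≤ i → E F n i ∈ W from fun i hi => this n i (by omega) hi
  intro d
  induction d with
  | zero => intro i hi _; rw [E_of_le (by omega)]; exact W.zero_mem
  | succ d ih =>
    intro i hi hk
    have h2 := N_pow_mem h hz (i - k)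
    rw [sum_E z, mulVec_sum, ← Finset.add_sum_erase _ _ (Finset.mem_univ k)] at h2
    simp only [mulVec_smul, Nm_pow_E] at h2
    rw [show (k : ℕ) + (i - k) = i by omega] at h2
    refine (W.smul_mem_iff h1).1 ((W.add_mem_iff_left (W.sum_mem fun j hj => ?_)).1 h2)
    rcases lt_or_gt_of_ne (Finset.ne_of_mem_erase hj) with h3 | h3
    · rw [h0 j h3, zero_smul]; exact W.zero_mem
    · have : (k : ℕ) < j := h3
      exact W.smul_mem _ (ih _ (by omega) (by omega))

/-- Half of the Gram matrix. -/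
def spP (F : Type*) [Field F] (n i j : ℕ) : F :=
  if i < n ∧ n ≤ j then (-1) ^ i * ((n - 1 - i).choose (j - n) : F) else 0

theorem spP_rel (i j : ℕ) : spP F n (i + 1) j + spP F n i (j + 1) + spP F n (i + 1) (j + 1) =
    if i + 1 = n ∧ j + 1 = n then (-1) ^ (n - 1) else 0 := by
  unfold spP
  by_cases h1 : i + 1 < n
  · by_cases h2 : n ≤ j
    · rw [if_pos ⟨h1, h2⟩, if_pos ⟨by omega, by omega⟩, if_pos ⟨h1, by omega⟩, if_neg (by omega),
        show n - 1 - i = (n - 1 - (i + 1)) + 1 by omega, show j + 1 - n = (j - n) + 1 by omega,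
        Nat.choose_succ_succ]
      push_cast; ring
    · by_cases h3 : j + 1 = n
      · rw [if_neg (by omega), if_pos ⟨by omega, by omega⟩, if_pos ⟨h1, by omega⟩,
          if_neg (by omega), show j + 1 - n = 0 by omega]
        simp [pow_succ]
      · rw [if_neg (by omega), if_neg (by omega), if_neg (by omega), if_neg (by omega)]; simp
  · rw [if_neg (by omega), if_neg (show ¬ (i + 1 < n ∧ n ≤ j + 1) by omega), zero_add, add_zero]
    by_cases h2 : i + 1 = n ∧ j + 1 = n
    · rw [if_pos h2, if_pos (by omega), show j + 1 - n = 0 by omega, show n - 1 = i by omega]; simp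
    · rw [if_neg h2]
      split_ifs with h3
      · rw [Nat.choose_eq_zero_of_lt (by omega)]; simp
      · rfl

/-- An alternating form invariant under the Jordan block. -/
noncomputable def spB (F : Type*) [Field F] (n : ℕ) : LinearMap.BilinForm F (Fin (2 * n) → F) :=
  toBilin' (of fun i j : Fin (2 * n) => spP F n i j) -
    (toBilin' (of fun i j : Fin (2 * n) => spP F n i j)).flip

theorem spB_alt : (spB F n).IsAlt := fun z => by simp [spB]

theorem spB_E (i j : ℕ) :
    spB F n (E F (2 * n) i) (E F (2 * n) j) = spP F n i j - spP F n j i := by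
  have : ∀ i j, toBilin' (of fun i j : Fin (2 * n) => spP F n i j) (E F (2 * n) i)
      (E F (2 * n) j) = spP F n i j := fun i j => by
    by_cases hi : i < 2 * n
    · by_cases hj : j < 2 * n
      · rw [show i = ((⟨i, hi⟩ : Fin (2 * n)) : ℕ) from rfl,
          show j = ((⟨j, hj⟩ : Fin (2 * n)) : ℕ) from rfl, E_eq_single, E_eq_single,
          toBilin'_single]
        rfl
      · rw [E_of_le (i := j) (by omega), map_zero, spP]
        split_ifs with h
        · rw [Nat.choose_eq_zero_of_lt (by omega)]; simp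
        · rfl
    · rw [E_of_le (i := i) (by omega), map_zero, spP, if_neg (by omega)]; rfl
  simp [spB, this]

theorem uJ_mem_SpB : uJ F (2 * n) ∈ SpB (spB F n) := by
  have : (spB F n).compl₁₂ (uJ F (2 * n)).toLinearMap (uJ F (2 * n)).toLinearMap = spB F n :=
    lin_ext fun i _ => lin_ext fun j _ => by
      simp only [LinearMap.compl₁₂_apply, LinearEquiv.coe_coe, uJ_E, map_add, LinearMap.add_apply,
        spB_E]
      have h1 := spP_rel (F := F) (n := n) i j
      have h2 := spP_rel (F := F) (n := n) j i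
      simp only [and_comm (a := j + 1 = n)] at h2
      linear_combination h1 - h2
  exact fun z w => LinearMap.congr_fun₂ this z w

theorem spB_last (hn : 0 < n) (z : Fin (2 * n) → F) :
    spB F n (E F (2 * n) (2 * n - 1)) z = -z ⟨0, by omega⟩ := by
  have : spB F n (E F (2 * n) (2 * n - 1)) = -LinearMap.proj ⟨0, by omega⟩ := lin_ext fun i hi => by
    rw [spB_E, spP, spP, if_neg (by omega)]
    rcases i with _ | i
    · rw [if_pos (by omega), show 2 * n - 1 - n = n - 1 - 0 by omega]; simp [E]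
    · split_ifs with h
      · rw [Nat.choose_eq_zero_of_lt (by omega)]; simp [E]
      · simp [E]
  rw [this]; rfl

theorem spB_last' (hn : 2 ≤ n) (z : Fin (2 * n) → F) (h : z ⟨0, by omega⟩ = 0)
    (h' : z ⟨1, by omega⟩ = 0) : spB F n (E F (2 * n) (2 * n - 2)) z = 0 := by
  rw [sum_E z, map_sum]
  refine Finset.sum_eq_zero fun i _ => ?_
  rcases i with ⟨_ | _ | i, hi⟩
  · simp [h]
  · simp [h']
  · rw [map_smul, spB_E, spP, spP, if_neg (by omega)]
    split_ifs with h
    · rw [Nat.choose_eq_zero_of_lt (by simp only at h ⊢; omega)]; simp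
    · simp

theorem spB_nondeg : (spB F n).Nondegenerate := by
  refine (LinearMap.IsRefl.nondegenerate_iff_separatingLeft
    (spB_alt (F := F) (n := n)).isRefl).2 fun z hz => ?_
  by_contra h
  have hn : 0 < n := Nat.pos_of_ne_zero fun e => h (by subst e; exact funext fun i => i.elim0)
  have := last_mem (W := LinearMap.ker (spB F n)) (fun z hz => by
    rw [LinearMap.mem_ker] at hz ⊢
    refine LinearMap.ext fun w => ?_
    obtain ⟨w, rfl⟩ := (uJ F (2 * n)).surjective w
    rw [mem_SpB.1 uJ_mem_SpB, hz]; rfl) (LinearMap.ext hz) h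
  have h2 := spB_last (F := F) hn (E F (2 * n) 0)
  rw [LinearMap.mem_ker.1 this] at h2
  simp [E] at h2

theorem exists_sq_gen [Finite F] (h2 : (2 : F) ≠ 0) :
    ∃ θ : F, θ ≠ 0 ∧ ∀ R : Subring F, θ ^ 2 ∈ R → R = ⊤ := by
  obtain ⟨g, hg⟩ := IsCyclic.exists_monoid_generator (α := Fˣ)
  refine ⟨g, g.ne_zero, fun R h => eq_top_iff.2 fun a _ => ?_⟩
  have k : ∀ a : F, a ^ 2 ∈ R := fun a => by
    by_cases ha : a = 0
    · simp [ha]
    · obtain ⟨k, hk⟩ := hg (Units.mk0 a ha)
      have : a = (g : F) ^ k := by simpa using (congrArg Units.val hk).symm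
      rw [this, ← pow_mul, mul_comm, pow_mul]
      exact R.pow_mem h k
  refine mem_of_mul_mem R (b := 2) ?_ (by exact_mod_cast natCast_mem R 2) h2
  convert R.sub_mem (R.sub_mem (k (a + 1)) (k a)) R.one_mem using 1
  ring

theorem sp_three_gen [Fintype F] (hn : 2 ≤ n) (h22 : ¬ (n = 2 ∧ Fintype.card F = 2)) :
    ∃ g ∈ SpB (spB F n), ∃ h ∈ SpB (spB F n), ∀ M ≤ SpB (spB F n), uJ F (2 * n) ∈ M →
      g * uJ F (2 * n) * g⁻¹ ∈ M → h * uJ F (2 * n) * h⁻¹ ∈ M → SpB (spB F n) ≤ M := by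
  set B := spB F n
  set v := uJ F (2 * n)
  have hA : B.IsAlt := spB_alt
  have hv : v ∈ SpB B := uJ_mem_SpB
  have b0 : ∀ i j, n ≤ i → n ≤ j → B (E F (2 * n) i) (E F (2 * n) j) = 0 := fun i j hi hj => by
    rw [spB_E, spP, spP, if_neg (by omega), if_neg (by omega), sub_zero]
  have b0' : ∀ i j, i < n → j < n → B (E F (2 * n) i) (E F (2 * n) j) = 0 := fun i j hi hj => by
    rw [spB_E, spP, spP, if_neg (by omega), if_neg (by omega), sub_zero]
  have b1 : B (E F (2 * n) (n - 2)) (v (E F (2 * n) (n - 2))) = 0 := by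
    rw [uJ_E, map_add, b0' _ _ (by omega) (by omega), b0' _ _ (by omega) (by omega), add_zero]
  have b2 : B (E F (2 * n) (n - 2)) (v (v (E F (2 * n) (n - 2)))) = (-1) ^ (n - 2) := by
    rw [uJ_E, map_add, map_add, b1, uJ_E, map_add, b0' _ _ (by omega) (by omega), spB_E, spP, spP,
      if_pos (by omega), if_neg (by omega), show n - 2 + 1 + 1 - n = 0 by omega]
    simp
  have e1 : v (E F (2 * n) (2 * n - 1)) = E F (2 * n) (2 * n - 1) := uJ_last
  have e2 : v (E F (2 * n) (2 * n - 2)) = E F (2 * n) (2 * n - 2) + E F (2 * n) (2 * n - 1) := by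
    rw [uJ_E, show 2 * n - 2 + 1 = 2 * n - 1 by omega]
  have e3 : v (E F (2 * n) (2 * n - 3)) = E F (2 * n) (2 * n - 3) + E F (2 * n) (2 * n - 2) := by
    rw [uJ_E, show 2 * n - 3 + 1 = 2 * n - 2 by omega]
  have b3 : B (E F (2 * n) (2 * n - 1)) (E F (2 * n) (2 * n - 3)) = 0 := by
    rw [spB_last (by omega)]; simp [E]; omega
  obtain ⟨t, t', c, hc, hgen⟩ : ∃ t t' c : F, (2 * t' - t - B (E F (2 * n) (2 * n - 2))
      (E F (2 * n) (2 * n - 3)) * t ^ 2) * (c ^ 2 * (-1) ^ (n - 2)) ≠ 0 ∧ ∀ R : Subring F,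
      ((2 * t' - t - B (E F (2 * n) (2 * n - 2)) (E F (2 * n) (2 * n - 3)) * t ^ 2) *
        (c ^ 2 * (-1) ^ (n - 2))) ^ 2 ∈ R → R = ⊤ := by
    by_cases h2 : (2 : F) = 0
    · obtain ⟨θ, hθ, hgen⟩ := exists_gen (F := F)
      obtain ⟨t, ht⟩ : ∃ t : F, 2 * 0 - t - B (E F (2 * n) (2 * n - 2))
          (E F (2 * n) (2 * n - 3)) * t ^ 2 ≠ 0 := by
        by_cases h : n = 2
        · obtain ⟨t, h0, h1⟩ : ∃ t : F, t ≠ 0 ∧ t ≠ 1 := by
            by_contra k
            push Not at k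
            classical
            refine h22 ⟨h, le_antisymm ?_ Fintype.one_lt_card⟩
            refine le_trans (Finset.card_le_card (t := {0, 1}) fun a _ => ?_) Finset.card_le_two
            by_cases ha : a = 0 <;> simp [ha, k a]
          refine ⟨t, ?_⟩
          subst h
          rw [spB_E, spP, spP]
          norm_num
          intro e
          exact mul_ne_zero h0 (sub_ne_zero.2 h1) (by linear_combination -e - t * h2)
        · exact ⟨1, by rw [b0 _ _ (by omega) (by omega)]; simp⟩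
      have : CharP F 2 := (CharP.charP_iff_prime_eq_zero Nat.prime_two).2 (by exact_mod_cast h2)
      obtain ⟨c, hc⟩ := FiniteField.isSquare_of_char_two (ringChar.eq F 2) (θ / ((2 * 0 - t -
        B (E F (2 * n) (2 * n - 2)) (E F (2 * n) (2 * n - 3)) * t ^ 2) * (-1) ^ (n - 2)))
      have e : (2 * 0 - t - B (E F (2 * n) (2 * n - 2)) (E F (2 * n) (2 * n - 3)) * t ^ 2) *
          (c ^ 2 * (-1) ^ (n - 2)) = θ := by
        rw [sq c, ← hc]
        generalize 2 * 0 - t - B (E F (2 * n) (2 * n - 2)) (E F (2 * n) (2 * n - 3)) * t ^ 2 = s at *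
        field_simp
      exact ⟨t, 0, c, e ▸ hθ, fun R hR => hgen R (mem_of_pow_char R Nat.prime_two
        (by exact_mod_cast h2) (e ▸ hR))⟩
    · obtain ⟨θ, hθ, hgen⟩ := exists_sq_gen h2
      refine ⟨0, θ / 2, 1, by simp [hθ, h2], fun R hR => hgen R ?_⟩
      convert hR using 1
      rw [mul_pow, mul_pow, ← pow_mul (-1 : F), mul_comm (n - 2), pow_mul]
      field_simp
      ring
  obtain ⟨k, hk, ek⟩ := exists_conj_tv hA hv e1 e2 e3 (b0 _ _ (by omega) (by omega)) b3 t t'
  generalize 2 * t' - t - B (E F (2 * n) (2 * n - 2)) (E F (2 * n) (2 * n - 3)) * t ^ 2 = s at *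
  set y := c • E F (2 * n) (n - 2) with hy
  have y1 : B y (v y) = 0 := by simp [hy, b1]
  have y2 : B y (v (v y)) = c ^ 2 * (-1) ^ (n - 2) := by simp [hy, b2]; ring
  rw [← y2] at hc hgen
  have hb := right_ne_zero_of_mul hc
  obtain ⟨g, hg, g1, g2⟩ := exists_move_two spB_nondeg hA (a := E F (2 * n) (2 * n - 1))
    (b := E F (2 * n) (2 * n - 2)) (a' := v y) (b' := v (v y)) (E_ne_zero (by omega))
    (fun e => hb (by simp [e])) (fun c e => by
      have := congrFun e ⟨2 * n - 2, by omega⟩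
      simp [E, show ¬ (2 * n - 2 = 2 * n - 1) by omega] at this)
    (fun c e => hb (by rw [← e, map_smul, y1, smul_zero]))
    (by rw [b0 _ _ (by omega) (by omega), mem_SpB.1 hv, y1])
  refine ⟨g, hg, g * k⁻¹, mul_mem hg (inv_mem hk), fun M hM m1 m2 m3 => ?_⟩
  refine SpB_le_of_gen spB_nondeg hA hM m2 m1 (y := y) (s := s) ?_ ?_ ?_ y1 hc hgen
    fun W w1 w2 z hz => ?_
  · rw [ei_iff_tv hA, ← g1, ← altTEquiv_conj hA hg]
    convert M.mul_mem m3 (M.inv_mem m2) using 1
    rw [← mul_inv_eq_iff_eq_mul] at ek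
    rw [← ek]; group
  · rw [← g1]; simp [e1]
  · rw [← g2, ← g1]; simp [e2]
  · obtain ⟨z, rfl⟩ := g.surjective z
    obtain ⟨y', hy'⟩ := g.surjective y
    have k0 : y' ⟨0, by omega⟩ = 0 := by
      have := alt_zero hA y1
      rwa [← g1, ← hy', mem_SpB.1 hg, spB_last (by omega), neg_eq_zero] at this
    have k1 : y' ⟨1, by omega⟩ ≠ 0 := fun e => hb (alt_zero hA (by
      rw [← g2, ← hy', mem_SpB.1 hg]; exact spB_last' hn y' k0 e))
    have k2 := E_mem_of (W := W.comap g.toLinearMap) (z := y') (fun z hz => by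
      simpa using w2 _ hz) (by simpa [hy'] using w1) ⟨1, by omega⟩ (fun j hj => by
      have : (j : ℕ) < 1 := hj
      rw [show j = ⟨0, by omega⟩ from Fin.ext (by simp; omega), k0]) k1
    rw [← g1, mem_SpB.1 hg, spB_last (by omega), neg_eq_zero] at hz
    change z ∈ W.comap g.toLinearMap
    rw [sum_E z]
    refine Submodule.sum_mem _ fun i _ => ?_
    rcases i with ⟨_ | i, hi⟩
    · rw [hz, zero_smul]; exact Submodule.zero_mem _
    · exact Submodule.smul_mem _ _ (k2 _ (by simp))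

theorem reg_of_intertwine {ι : Type*} [Fintype ι] [DecidableEq ι] {A : Matrix ι ι F}
    {g : V ≃ₗ[F] V} (e : (ι → F) ≃ₗ[F] V) (h : ∀ z, g (e z) = e (A *ᵥ z)) {k : ℕ} (hg : Reg k g) :
    IsNilpotent (A - 1) ∧ (A - 1) ^ (k - 1) ≠ 0 := by
  have key : ∀ (j : ℕ) z, (((g : Module.End F V) - 1) ^ j) (e z) = e ((A - 1) ^ j *ᵥ z) := by
    intro j
    induction j with
    | zero => simp
    | succ j ih =>
      intro z
      rw [pow_succ, pow_succ, Module.End.mul_apply, ← mulVec_mulVec, ← ih]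
      congr 1
      simp [h, sub_mulVec]
  obtain ⟨⟨j, hj⟩, h2⟩ := hg
  refine ⟨⟨j, Matrix.toLin'.injective (LinearMap.ext fun z => ?_)⟩, fun e' => h2 (LinearMap.ext fun z => ?_)⟩
  · have := key j z
    rw [hj] at this
    rw [toLin'_apply, toLin'_apply]
    simpa using this.symm
  · obtain ⟨z, rfl⟩ := e.surjective z
    rw [key, e']; simp

end Cfsg.Lib.Known.RU
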