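import Cfsg.Agent.Known.RealO2
import Cfsg.Agent.Known.InvTwo
import Cfsg.Agent.Known.Cov2Dye

/-!
Symplectic and orthogonal groups over finite fields of characteristic two are strongly real.
-/

set_option autoImplicit false
set_option linter.unusedSectionVars false

namespace Cfsg.Lib.Known.RealO

open LaurentPolynomial QuadraticMap Module Cfsg.Lib.Class Cfsg.Lib.Class.Orth

universe u

variable {F : Type*} [Field F] [CharP F 2]

theorem Is.sub {V : Type u} [AddCommGroup V] [Module F V] [Module F[T;T⁻¹] V]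
    [IsScalarTower F F[T;T⁻¹] V] {Q : QuadraticForm F V} (H : Is Q) {U : Submodule F[T;T⁻¹] V}
    (h : ∀ z ∈ U, (∀ t ∈ U, polar Q z t = 0) → z = 0) :
    Is (Q.comp (U.subtype.restrictScalars F)) :=
  ⟨fun v hv => Subtype.ext (h v v.2 fun t ht => hv ⟨t, ht⟩), fun v => H.inv v⟩

theorem exists_good (n : ℕ) : ∀ {V : Type u} [AddCommGroup V] [Module F V] [Module F[T;T⁻¹] V]
    [IsScalarTower F F[T;T⁻¹] V] [Finite V] {Q : QuadraticForm F V}, Is Q → Nat.card V = n →
    ∃ h, Good Q h := by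
  induction n using Nat.strong_induction_on with | _ n ih => ?_
  intro V _ _ _ _ _ Q H hn
  rcases subsingleton_or_nontrivial V with _ | _
  · exact ⟨0, fun v => congrArg Q (Subsingleton.elim _ _), fun _ => Subsingleton.elim _ _,
      fun _ => Subsingleton.elim _ _, fun _ _ => ⟨0, Subsingleton.elim _ _⟩⟩
  by_cases hI : Indec Q
  · exact H.good_indec hI
  obtain ⟨U, h1⟩ := not_forall.1 hI
  obtain ⟨h1, h2⟩ := Classical.not_imp.1 h1
  rw [not_or] at h2
  let W : Submodule F[T;T⁻¹] V :=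
    { carrier := {v | ∀ t ∈ U, polar Q t v = 0}
      add_mem' := fun a b t ht => by rw [polar_add_right, a t ht, b t ht, add_zero]
      zero_mem' := fun t _ => polar_zero_right _ _
      smul_mem' := fun c v a t ht => by rw [H.adj', a _ (U.smul_mem _ ht)] }
  have : Module.Finite F V := Module.Finite.of_finite
  have hc : IsCompl U W := by
    have := LinearMap.BilinForm.isCompl_orthogonal_of_restrict_nondegenerate
      (B := polarBilin Q) (W := U.restrictScalars F) (fun a b e => (polar_comm _ _ _).trans e)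
      ⟨fun z hz => Subtype.ext (h1 z z.2 fun t ht => hz ⟨t, ht⟩), fun z hz => Subtype.ext
        (h1 z z.2 fun t ht => (polar_comm _ _ _).trans (hz ⟨t, ht⟩))⟩
    have k1 := Submodule.disjoint_def.1 this.1
    have k2 := fun v => Submodule.mem_sup.1 (Submodule.eq_top_iff'.1 this.2.eq_top v)
    exact ⟨Submodule.disjoint_def.2 k1, codisjoint_iff.2
      (Submodule.eq_top_iff'.2 fun v => Submodule.mem_sup.2 (k2 v))⟩
  have d : ∀ v, ∃ (a : U) (b : W), (a : V) + b = v := fun v =>
    (Submodule.existsUnique_add_of_isCompl hc v).imp fun a h => h.imp fun b h => h.1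
  have lt : ∀ X : Submodule F[T;T⁻¹] V, X ≠ ⊤ → Nat.card X < n := fun X hX => by
    obtain ⟨v, hv⟩ := not_forall.1 (mt Submodule.eq_top_iff'.2 hX)
    exact hn ▸ Finite.card_subtype_lt hv
  obtain ⟨f, hf⟩ := ih _ (lt U h2.2) (H.sub h1) rfl
  obtain ⟨g, hg⟩ := ih _ (lt W fun e => h2.1 (by simpa [e] using hc.1.eq_bot)) (H.sub (U := W)
    fun z hz h => H.nd z fun v => by
      obtain ⟨a, b, rfl⟩ := d v
      rw [polar_add_right, h b b.2, polar_comm, hz a a.2, add_zero]) rfl
  obtain ⟨h, e⟩ : ∃ h : V →ₗ[F] V, ∀ (a : U) (b : W), h (a + b) = f a + g b :=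
    ⟨(U.subtype.restrictScalars F ∘ₗ f ∘ₗ (U.projectionOnto W hc).restrictScalars F) +
      (W.subtype.restrictScalars F ∘ₗ g ∘ₗ (W.projectionOnto U hc.symm).restrictScalars F),
      fun a b => by simp⟩
  refine ⟨h, fun v => ?_, fun v => ?_, fun v => ?_, fun v hv => ?_⟩ <;> obtain ⟨a, b, rfl⟩ := d v
  · rw [e, q_add, q_add, (g b).2 _ (f a).2, b.2 _ a.2]
    exact congrArg₂ _ (congrArg₂ _ (hf.q a) (hg.q b)) rfl
  · rw [e, e, hf.sq, hg.sq]
  · rw [smul_add, ← U.coe_smul, ← W.coe_smul, e, e, smul_add, ← U.coe_smul, ← W.coe_smul, hf.tw,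
      hg.tw]
  · rw [e] at hv
    obtain ⟨k1, k2⟩ := (Submodule.existsUnique_add_of_isCompl hc ((a : V) + b)).elim
      fun _ ⟨_, _, k⟩ => And.intro ((k _ _ hv).1.trans (k _ _ rfl).1.symm)
        ((k _ _ hv).2.trans (k _ _ rfl).2.symm)
    obtain ⟨a', rfl⟩ := hf.fr a k1
    obtain ⟨b', rfl⟩ := hg.fr b k2
    exact ⟨a' + b', by rw [e, Submodule.coe_add, Submodule.coe_add, add_add_add_comm]⟩

variable [Finite F] {V : Type u} [AddCommGroup V] [Module F V] [FiniteDimensional F V]
  {Q : QuadraticForm F V} {B : LinearMap.BilinForm F V}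

theorem exists_inverting (hQ : (polarBilin Q).Nondegenerate) (g : O Q) :
    ∃ h : O Q, h * h = 1 ∧ h * g * h⁻¹ = g⁻¹ ∧ 2 * finrank F (resSp h.1) = finrank F V := by
  have : Finite V := Module.finite_of_finite F
  let φ : F[T;T⁻¹] →ₐ[F] End F V := AddMonoidAlgebra.lift F (End F V) ℤ
    (LinearEquiv.automorphismGroup.toLinearMapMonoidHom.comp (zpowersHom _ g.1))
  let : Module F[T;T⁻¹] V := Module.compHom V φ.toRingHom
  have : IsScalarTower F F[T;T⁻¹] V := ⟨fun c r v => LinearMap.congr_fun (map_smul φ c r) v⟩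
  have e : ∀ v : V, (T 1 : F[T;T⁻¹]) • v = g.1 v := fun v =>
    (LinearMap.congr_fun (AddMonoidAlgebra.lift_single _ (1 : ℤ) (1 : F)) v).trans (by simp)
  obtain ⟨h, H⟩ := exists_good (Q := Q) _ ⟨hQ.1, fun v => by rw [e, mem_O.1 g.2]⟩ rfl
  refine ⟨⟨.ofInvolutive h H.sq, mem_O.2 H.q⟩, Subtype.ext (LinearEquiv.ext H.sq), ?_, ?_⟩
  · rw [mul_inv_eq_iff_eq_mul, eq_inv_mul_iff_mul_eq]
    exact Subtype.ext (LinearEquiv.ext fun v => by
      have := H.tw v
      rw [e, e] at this
      exact this)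
  · have k : LinearMap.ker (resN (.ofInvolutive h H.sq)) = resSp (.ofInvolutive h H.sq) := by
      ext v
      rw [LinearMap.mem_ker, resN_apply, sub_eq_zero]
      refine ⟨fun a => ?_, ?_⟩
      · obtain ⟨b, rfl⟩ := H.fr v a
        exact ⟨b, resN_apply' _ b⟩
      · rintro ⟨b, rfl⟩
        rw [resN_apply', map_add, add_comm]
        exact congrArg (· + _) (H.sq b)
    rw [← LinearMap.finrank_range_add_finrank_ker (resN (.ofInvolutive h H.sq)), k, two_mul]

theorem isConj_inv_O (hQ : (polarBilin Q).Nondegenerate) (g : O Q) : IsConj g g⁻¹ := by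
  obtain ⟨h, -, e, -⟩ := exists_inverting hQ g
  exact isConj_iff.2 ⟨h, e⟩

theorem isConj_inv_commutator (hQ : (polarBilin Q).Nondegenerate) (hE : ¬ Exc Q)
    (h4 : 4 ∣ finrank F V) (g : commutator (O Q)) : IsConj g g⁻¹ := by
  obtain ⟨h, -, e, k⟩ := exists_inverting hQ g.1
  exact isConj_iff.2 ⟨⟨h, (mem_commutator_iff_even_resSp hQ hE h).2
    (even_iff_two_dvd.2 (by omega))⟩, Subtype.ext e⟩

theorem exists_polarBilin_eq (hA : B.IsAlt) : ∃ Q : QuadraticForm F V, polarBilin Q = B := by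
  let b := Module.finBasis F V
  refine ⟨(Matrix.toBilin b (.of fun i j => if i < j then B (b i) (b j) else 0)).toQuadraticMap, ?_⟩
  rw [LinearMap.BilinMap.polarBilin_toQuadraticMap]
  refine LinearMap.BilinForm.ext_basis b fun i j => ?_
  have e : ∀ i j, Matrix.toBilin b (.of fun i j => if i < j then B (b i) (b j) else 0) (b i) (b j) =
      if i < j then B (b i) (b j) else 0 := fun i j => by
    rw [← LinearMap.BilinForm.toMatrix_apply, LinearMap.BilinForm.toMatrix_toBilin, Matrix.of_apply]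
  rw [LinearMap.add_apply, LinearMap.add_apply, LinearMap.flip_apply, e, e]
  rcases lt_trichotomy i j with h | rfl | h
  · rw [if_pos h, if_neg h.not_gt, add_zero]
  · rw [if_neg (lt_irrefl i), add_zero, hA]
  · rw [if_neg h.not_gt, if_pos h, zero_add, ← hA.neg_eq, CharTwo.neg_eq]

theorem exists_inverting_SpB (hB : B.Nondegenerate) (hA : B.IsAlt) (g : SpB B) :
    ∃ h : SpB B, h * h = 1 ∧ h * g * h⁻¹ = g⁻¹ := by
  obtain ⟨Q, rfl⟩ := exists_polarBilin_eq hA
  obtain ⟨a, ha⟩ := IsQuadFor.exists_fixed (Q := Q) ⟨fun x y => by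
    rw [polarBilin_apply_apply, polar]; ring, fun c x => by
    rw [QuadraticMap.map_smul, pow_two, smul_eq_mul]⟩ hB hA g
  have e : polarBilin (Q + linMulLin (polarBilin Q a) (polarBilin Q a)) = polarBilin Q := by
    ext x y
    have := CharTwo.add_self_eq_zero (polarBilin Q a x * polarBilin Q a y)
    rw [polarBilin_apply_apply, polarBilin_apply_apply, polar, polar]
    simp only [QuadraticMap.add_apply, linMulLin_apply, map_add]
    linear_combination this
  obtain ⟨h, h1, h2, -⟩ := exists_inverting (e.symm ▸ hB) ⟨g.1, mem_O.2 fun v => by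
    simpa [pow_two] using ha v⟩
  replace h1 := congrArg Subtype.val h1
  replace h2 := congrArg Subtype.val h2
  exact ⟨⟨h.1, (O_le_SpB.trans_eq (congrArg SpB e)) h.2⟩, Subtype.ext h1, Subtype.ext h2⟩

theorem isConj_inv_SpB (hB : B.Nondegenerate) (hA : B.IsAlt) (g : SpB B) : IsConj g g⁻¹ := by
  obtain ⟨h, -, e⟩ := exists_inverting_SpB hB hA g
  exact isConj_iff.2 ⟨h, e⟩

end Cfsg.Lib.Known.RealO
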