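import Mathlib

/-!
Isometries of quadratic spaces in characteristic two are inverted by involutions: the basic
constructions, for a space viewed as a module over the Laurent polynomials.
-/

set_option autoImplicit false
set_option linter.unusedSectionVars false

namespace Cfsg.Lib.Known.RealO

open LaurentPolynomial QuadraticMap Polynomial

variable {F : Type*} [Field F] [CharP F 2]

/-- `T + 1` -/
noncomputable def yy (F : Type*) [Field F] : F[T;T⁻¹] := T 1 + 1

/-- `T + T⁻¹` -/
noncomputable def ss (F : Type*) [Field F] : F[T;T⁻¹] := T 1 + T (-1)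

theorem two_eq : (2 : F[T;T⁻¹]) = 0 := by
  rw [← map_ofNat (algebraMap F F[T;T⁻¹]) 2, CharTwo.two_eq_zero, map_zero]

theorem T_T : (T 1 * T (-1) : F[T;T⁻¹]) = 1 := by rw [← T_add]; rfl

theorem ss_eq : ss F = T (-1) * yy F ^ 2 := by
  rw [ss, yy]; linear_combination (-T 1 - 2) * (T_T (F := F)) - (two_eq (F := F))

theorem invert_yy : invert (yy F) = T (-1) * yy F := by
  rw [yy, map_add, invert_T, map_one]; linear_combination -(T_T (F := F))

theorem invert_ss : invert (ss F) = ss F := by simp [ss, add_comm]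

theorem invert_invert (r : F[T;T⁻¹]) : invert (invert r) = r := involutive_invert r

theorem invert_ev (p : F[X]) : invert (aeval (ss F) p) = aeval (ss F) p := by
  rw [← aeval_algHom_apply, invert_ss]

theorem ev_eq (p : F[X]) :
    aeval (ss F) p = algebraMap F _ (p.coeff 0) + ss F * aeval (ss F) p.divX := by
  conv_lhs => rw [← divX_mul_X_add p, map_add, map_mul, aeval_X, aeval_C]
  ring

theorem dec (r : F[T;T⁻¹]) : ∃ p q : F[X], r = aeval (ss F) p + T 1 * aeval (ss F) q := by
  induction r using LaurentPolynomial.induction_on with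
  | h_C a => exact ⟨Polynomial.C a, 0, by rw [aeval_C, map_zero, mul_zero, add_zero]; rfl⟩
  | h_add hp hq =>
    obtain ⟨p, q, rfl⟩ := hp
    obtain ⟨p', q', rfl⟩ := hq
    exact ⟨p + p', q + q', by simp only [map_add]; ring⟩
  | h_C_mul_T n a h =>
    obtain ⟨p, q, e⟩ := h
    refine ⟨-q, p + X * q, ?_⟩
    rw [T_add, ← mul_assoc, e, map_add, map_mul, aeval_X, map_neg, ss]
    linear_combination (-aeval (T 1 + T (-1) : F[T;T⁻¹]) q) * (T_T (F := F))
  | h_C_mul_T_Z n a h =>
    obtain ⟨p, q, e⟩ := h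
    refine ⟨X * p + q, -p, ?_⟩
    rw [sub_eq_add_neg, T_add, ← mul_assoc, e, map_add, map_mul, aeval_X, map_neg, ss]
    linear_combination (aeval (T 1 + T (-1) : F[T;T⁻¹]) q) * (T_T (F := F))

theorem aug (r : F[T;T⁻¹]) : ∃ c : F, ∃ r', r = algebraMap F _ c + yy F * r' := by
  obtain ⟨p, q, rfl⟩ := dec r
  refine ⟨p.coeff 0 - q.coeff 0, T (-1) * yy F * aeval (ss F) p.divX + aeval (ss F) q -
    T (-1) * yy F * aeval (ss F) q.divX, ?_⟩
  have h1 := ev_eq p
  have h2 := ev_eq q
  have h3 := ss_eq (F := F)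
  rw [map_sub]
  generalize aeval (ss F) p.divX = a at *
  generalize aeval (ss F) q.divX = b at *
  rw [h1, h2, h3, yy]
  ring

variable {V : Type*} [AddCommGroup V] [Module F V] [Module F[T;T⁻¹] V]
  [IsScalarTower F F[T;T⁻¹] V] {Q : QuadraticForm F V} {u w u' w' z : V}

theorem add_self (F : Type*) [Field F] [CharP F 2] [Module F V] (v : V) : v + v = 0 := by
  rw [← two_smul F, CharTwo.two_eq_zero, zero_smul]

theorem polar_self' (v : V) : polar Q v v = 0 := by
  rw [polar_self, two_nsmul, CharTwo.add_self_eq_zero]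

theorem q_add (a b : V) : Q (a + b) = Q a + Q b + polar Q a b := by rw [polar]; ring

theorem T_fix (h : yy F • z = 0) (n : ℤ) : (T n : F[T;T⁻¹]) • z = z := by
  have h1 : (T 1 : F[T;T⁻¹]) • z = z := by
    rw [yy, add_smul, one_smul] at h
    exact add_right_cancel (h.trans (add_self F z).symm)
  induction n using Int.induction_on with
  | zero => exact one_smul _ _
  | succ n ih => rw [T_add, mul_smul, h1, ih]
  | pred n ih =>
    rw [← h1, ← mul_smul, ← T_add, sub_add_cancel, ih, h1]

/-- `T` acts as an isometry of the non-degenerate form `Q`. -/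
structure Is (Q : QuadraticForm F V) : Prop where
  nd : ∀ v, (∀ w, polar Q v w = 0) → v = 0
  inv : ∀ v, Q ((T 1 : F[T;T⁻¹]) • v) = Q v

/-- An isometric involution inverting `T`, with the largest possible rank. -/
structure Good (Q : QuadraticForm F V) (h : V →ₗ[F] V) : Prop where
  q : ∀ v, Q (h v) = Q v
  sq : ∀ v, h (h v) = v
  tw : ∀ v, (T 1 : F[T;T⁻¹]) • h ((T 1 : F[T;T⁻¹]) • v) = h v
  fr : ∀ v, h v = v → ∃ b, v = b + h b

namespace Is

theorem inv' (H : Is Q) (n : ℤ) (v : V) : Q ((T n : F[T;T⁻¹]) • v) = Q v := by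
  induction n using Int.induction_on generalizing v with
  | zero => rw [T_zero, one_smul]
  | succ n ih => rw [T_add, mul_smul, ih, H.inv]
  | pred n ih => rw [← H.inv, ← mul_smul, ← T_add, add_sub_cancel, ih]

theorem polar_T (H : Is Q) (n : ℤ) (a b : V) :
    polar Q ((T n : F[T;T⁻¹]) • a) ((T n : F[T;T⁻¹]) • b) = polar Q a b := by
  simp only [polar, ← smul_add, H.inv']

theorem adj (H : Is Q) (r : F[T;T⁻¹]) (a b : V) :
    polar Q (r • a) b = polar Q a (invert r • b) := by
  induction r using LaurentPolynomial.induction_on' with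
  | add p q hp hq => rw [map_add, add_smul, add_smul, polar_add_left, polar_add_right, hp, hq]
  | C_mul_T n c =>
    rw [map_mul, invert_C, invert_T, mul_smul, mul_smul, LaurentPolynomial.C_eq_algebraMap, algebraMap_smul,
      algebraMap_smul, polar_smul_left, polar_smul_right, ← H.polar_T (-n), ← mul_smul, ← T_add,
      neg_add_cancel, T_zero, one_smul]

theorem adj' (H : Is Q) (r : F[T;T⁻¹]) (a b : V) :
    polar Q a (r • b) = polar Q (invert r • a) b := by rw [H.adj, invert_invert]

theorem sym (H : Is Q) (r : F[T;T⁻¹]) (a b : V) :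
    polar Q (invert r • a) b = polar Q (r • b) a := by rw [← H.adj', polar_comm]

theorem iso (H : Is Q) (p : F[X]) (v : V) : polar Q (aeval (ss F) p • v) v = 0 := by
  have := H.sym (T 1 * aeval (ss F) p.divX) v v
  rw [map_mul, invert_ev, invert_T] at this
  rw [ev_eq, add_smul, polar_add_left, algebraMap_smul, polar_smul_left, polar_self', smul_zero,
    zero_add]
  nth_rw 1 [ss]
  rw [add_mul, add_smul, polar_add_left, this, CharTwo.add_self_eq_zero]

theorem q_eq (H : Is Q) (h1 : Q u' = Q u)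
    (h2 : ∀ r : F[T;T⁻¹], polar Q (r • u') u' = polar Q (r • u) u) (r : F[T;T⁻¹]) :
    Q (invert r • u') = Q (r • u) := by
  induction r using LaurentPolynomial.induction_on' with
  | add p q hp hq =>
    rw [map_add, add_smul, add_smul, q_add, q_add, hp, hq, H.adj', ← mul_smul, h2, H.adj' q,
      ← mul_smul, ← H.sym, map_mul, invert_invert, invert_invert]
  | C_mul_T n c =>
    rw [map_mul, invert_C, invert_T, mul_smul, mul_smul, LaurentPolynomial.C_eq_algebraMap, algebraMap_smul,
      algebraMap_smul, QuadraticMap.map_smul, QuadraticMap.map_smul, H.inv', H.inv', h1]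

theorem bi (H : Is Q) (hs : ∀ v, ∃ r r' : F[T;T⁻¹], r • u + r' • w = v)
    (hs' : ∀ v, ∃ r r' : F[T;T⁻¹], r • u' + r' • w' = v) (h1 : Q u' = Q u) (h2 : Q w' = Q w)
    (h3 : ∀ r : F[T;T⁻¹], polar Q (r • u') u' = polar Q (r • u) u)
    (h4 : ∀ r : F[T;T⁻¹], polar Q (r • w') w' = polar Q (r • w) w)
    (h5 : ∀ r : F[T;T⁻¹], polar Q (invert r • u') w' = polar Q (r • u) w) :
    ∃ h : V →ₗ[F] V, (∀ v, Q (h v) = Q v) ∧
      ∀ r r' : F[T;T⁻¹], h (r • u + r' • w) = invert r • u' + invert r' • w' := by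
  let σ : V → F[T;T⁻¹] →ₗ[F] V := fun v => (LinearMap.toSpanSingleton F[T;T⁻¹] V v).restrictScalars F
  let π := (σ u).coprod (σ w)
  let π' := ((σ u').comp invert.toLinearMap).coprod ((σ w').comp invert.toLinearMap)
  have e : ∀ a, π a = a.1 • u + a.2 • w := fun _ => rfl
  have e' : ∀ a, π' a = invert a.1 • u' + invert a.2 • w' := fun _ => rfl
  have k1 : ∀ a, Q (π' a) = Q (π a) := fun a => by
    rw [e, e', q_add, q_add, H.q_eq h1 h3, H.q_eq h2 h4, H.adj', H.adj' a.2, ← mul_smul, ← map_mul,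
      h5, mul_smul]
  have k2 : ∀ a, π a = 0 → π' a = 0 := fun a ha => H.nd _ fun v => by
    obtain ⟨r, r', rfl⟩ := hs' v
    have := e' (invert r, invert r')
    rw [invert_invert, invert_invert] at this
    rw [← this, polar, ← map_add, k1, k1, k1, map_add, ha, zero_add, QuadraticMap.map_zero,
      sub_zero, sub_self]
  obtain ⟨τ, hτ⟩ := π.exists_rightInverse_of_surjective (LinearMap.range_eq_top.2 fun v => by
    obtain ⟨r, r', rfl⟩ := hs v
    exact ⟨(r, r'), rfl⟩)
  have k3 : ∀ v, π (τ v) = v := LinearMap.congr_fun hτ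
  refine ⟨π'.comp τ, fun v => by rw [LinearMap.comp_apply, k1, k3], fun r r' => ?_⟩
  have := k2 (τ (π (r, r')) - (r, r')) (by rw [map_sub, k3, sub_self])
  rwa [map_sub, sub_eq_zero] at this

theorem good_even (H : Is Q) (hs : ∀ v, ∃ r r' : F[T;T⁻¹], r • u + r' • w = v)
    (hB : ∀ p : F[X], polar Q (aeval (ss F) p • u) w = 0) : ∃ h, Good Q h := by
  have c : ∀ (r : F[T;T⁻¹]) (a b : V), polar Q (r • (T 1 : F[T;T⁻¹]) • a) ((T 1 : F[T;T⁻¹]) • b) =
      polar Q (r • a) b := fun r a b => by rw [smul_comm, H.polar_T]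
  have t : ∀ (r : F[T;T⁻¹]) (a : V), (r * T (-1)) • (T 1 : F[T;T⁻¹]) • a = r • a := fun r a => by
    rw [← mul_smul, mul_assoc, mul_comm (T (-1)), T_T, mul_one]
  obtain ⟨h, k1, k2⟩ := H.bi (u' := (T 1 : F[T;T⁻¹]) • u) (w' := (T 1 : F[T;T⁻¹]) • w) hs
    (fun v => by
      obtain ⟨r, r', rfl⟩ := hs v
      exact ⟨r * T (-1), r' * T (-1), by rw [t, t]⟩)
    (H.inv u) (H.inv w) (fun r => c r u u) (fun r => c r w w) fun r => by
      obtain ⟨p, q, rfl⟩ := dec r
      have := hB (X * q)
      rw [map_mul, aeval_X] at this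
      nth_rw 1 [ss] at this
      rw [add_mul, add_smul, polar_add_left, CharTwo.add_eq_zero] at this
      rw [c, map_add, map_mul, invert_ev, invert_ev, invert_T, add_smul, add_smul, polar_add_left,
        polar_add_left, this]
  refine ⟨h, k1, fun v => ?_, fun v => ?_, fun v hv => ?_⟩
  · obtain ⟨r, r', rfl⟩ := hs v
    rw [k2, ← mul_smul, ← mul_smul, k2, map_mul, map_mul, invert_invert, invert_invert, invert_T,
      t, t]
  · obtain ⟨r, r', rfl⟩ := hs v
    rw [smul_add, ← mul_smul, ← mul_smul, mul_comm _ r, mul_comm _ r', k2, k2, map_mul, map_mul,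
      invert_T, t, t, smul_add, smul_comm, smul_comm _ (invert r')]
  · obtain ⟨r, r', rfl⟩ := hs v
    obtain ⟨a, b, rfl⟩ := dec r
    obtain ⟨a', b', rfl⟩ := dec r'
    have i : ∀ p p' q q' : F[X], polar Q (aeval (ss F) p • u + aeval (ss F) p' • w)
        (aeval (ss F) q • u + aeval (ss F) q' • w) = 0 := fun p p' q q' => by
      have m : ∀ (p q : F[X]) (a b : V), polar Q (aeval (ss F) p • a) (aeval (ss F) q • b) =
          polar Q (aeval (ss F) (q * p) • a) b := fun p q a b => by
        rw [H.adj', invert_ev, ← mul_smul, map_mul]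
      rw [polar_add_left, polar_add_right, polar_add_right, polar_comm _ (_ • w) (_ • u), m, m, m, m,
        H.iso, H.iso, hB, hB, add_zero, add_zero]
    have j : yy F • (aeval (ss F) (a + b) • u + aeval (ss F) (a' + b') • w) = 0 := by
      rw [← add_self F ((aeval (ss F) a + T 1 * aeval (ss F) b) • u +
        (aeval (ss F) a' + T 1 * aeval (ss F) b') • w)]
      nth_rw 1 [← hv]
      simp only [k2, map_add, map_mul, invert_ev, invert_T, mul_comm (T (-1))]
      rw [add_smul _ (_ * T (-1)), add_smul _ (_ * T (-1)), t, t, yy]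
      module
    have k : aeval (ss F) (a + b) • u + aeval (ss F) (a' + b') • w = 0 := H.nd _ fun v => by
      obtain ⟨r, r', rfl⟩ := hs v
      obtain ⟨p, q, rfl⟩ := dec r
      obtain ⟨p', q', rfl⟩ := dec r'
      rw [add_smul, add_smul, add_add_add_comm, polar_add_right, i, mul_smul, mul_smul, ← smul_add,
        H.adj', invert_T, T_fix j, i, add_zero]
    refine ⟨aeval (ss F) a • u + aeval (ss F) a' • w, ?_⟩
    rw [k2, invert_ev, invert_ev, ← sub_eq_zero, ← smul_zero (T 1 : F[T;T⁻¹]), ← k, map_add, map_add,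
      ← sub_eq_zero, ← neg_eq_zero, ← add_self F
        ((T 1 : F[T;T⁻¹]) • (aeval (ss F) a • u + aeval (ss F) a' • w))]
    module

theorem good_odd (H : Is Q) (hs : ∀ v, ∃ r r' : F[T;T⁻¹], r • u + r' • w = v)
    (hi : ∀ r r' : F[T;T⁻¹], r • u + r' • w = 0 → r' • w = 0) (h1 : Q w = Q u)
    (h2 : ∀ r : F[T;T⁻¹], polar Q (r • w) w = polar Q (r • u) u) : ∃ h, Good Q h := by
  obtain ⟨h, k1, k2⟩ := H.bi (u' := w) (w' := u) hs
    (fun v => by
      obtain ⟨r, r', rfl⟩ := hs v
      exact ⟨r', r, add_comm _ _⟩) h1 h1.symm h2 (fun r => (h2 r).symm) fun r => H.sym r w u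
  refine ⟨h, k1, fun v => ?_, fun v => ?_, fun v hv => ?_⟩
  · obtain ⟨r, r', rfl⟩ := hs v
    rw [k2, add_comm, k2, invert_invert, invert_invert, add_comm]
  · obtain ⟨r, r', rfl⟩ := hs v
    rw [smul_add, ← mul_smul, ← mul_smul, k2, k2, map_mul, map_mul, invert_T, smul_add, ← mul_smul,
      ← mul_smul, ← mul_assoc, ← mul_assoc, T_T, one_mul, one_mul]
  · obtain ⟨r, r', rfl⟩ := hs v
    rw [k2] at hv
    have := hi (r - invert r') (r' - invert r) (by linear_combination (norm := module) -hv)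
    rw [sub_smul, sub_eq_zero] at this
    refine ⟨r • u + (0 : F[T;T⁻¹]) • w, ?_⟩
    rw [k2, map_zero, zero_smul, zero_smul, add_zero, add_zero, this]

end Is

end Cfsg.Lib.Known.RealO
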