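import Cfsg.Agent.Known.RealO1

/-!
Isometries of quadratic spaces in characteristic two are inverted by involutions: the
decomposition into orthogonally indecomposable pieces.
-/

set_option autoImplicit false
set_option linter.unusedSectionVars false

namespace Cfsg.Lib.Known.RealO

open LaurentPolynomial QuadraticMap Polynomial

universe u

variable {F : Type*} [Field F] [CharP F 2] {V : Type u} [AddCommGroup V] [Module F V]
  [Module F[T;T⁻¹] V] [IsScalarTower F F[T;T⁻¹] V] {Q : QuadraticForm F V} {u w a : V} {k : ℕ}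

theorem yy_kill (hk : ∀ v : V, yy F ^ (k + 1) • v = 0) {j : ℕ} (hj : k < j) (r : F[T;T⁻¹]) (v : V) :
    (r * yy F ^ j) • v = 0 := by
  obtain ⟨i, rfl⟩ := Nat.exists_eq_add_of_lt hj
  rw [show r * yy F ^ (k + i + 1) = yy F ^ (k + 1) * (r * yy F ^ i) by ring, mul_smul, hk]

theorem T_top (hk : ∀ v : V, yy F ^ (k + 1) • v = 0) (n : ℤ) (v : V) :
    (T n * yy F ^ k) • v = yy F ^ k • v := by
  rw [mul_smul, T_fix (by rw [← mul_smul, ← pow_succ', hk])]

theorem invert_yy_pow (i : ℕ) : invert (yy F ^ i) = T (-i) * yy F ^ i := by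
  rw [map_pow, invert_yy, mul_pow, T_pow, mul_neg, mul_one]

theorem ss_pow (i : ℕ) : ss F ^ i = T (-i) * yy F ^ (2 * i) := by
  rw [ss_eq, mul_pow, T_pow, mul_neg, mul_one, pow_mul]

theorem pid : IsPrincipalIdealRing F[T;T⁻¹] := ⟨fun I => by
  rw [← IsLocalization.map_under (Submonoid.powers (X : F[X])) F[T;T⁻¹] I]
  exact Submodule.IsPrincipal.map_ringHom _ inferInstance⟩

/-- No proper non-zero non-degenerate submodule. -/
def Indec (Q : QuadraticForm F V) : Prop :=
  ∀ U : Submodule F[T;T⁻¹] V, (∀ z ∈ U, (∀ t ∈ U, polar Q z t = 0) → z = 0) → U = ⊥ ∨ U = ⊤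

namespace Is

theorem desc (H : Is Q) (hk : ∀ v : V, yy F ^ (k + 1) • v = 0)
    (hN : ∀ v, polar Q (yy F ^ k • v) v = 0) (h : polar Q (yy F ^ k • u) w ≠ 0) {ρ ρ' : F[T;T⁻¹]}
    (h1 : ∀ r : F[T;T⁻¹], polar Q (r • (ρ • u + ρ' • w)) u = 0)
    (h2 : ∀ r : F[T;T⁻¹], polar Q (r • (ρ • u + ρ' • w)) w = 0) : ρ • u = 0 ∧ ρ' • w = 0 := by
  have key : ∀ i ≤ k + 1, yy F ^ i ∣ ρ ∧ yy F ^ i ∣ ρ' := fun i hi => by
    induction i with
    | zero => simp
    | succ i ih =>
      obtain ⟨⟨r, e⟩, r', e'⟩ := ih (by omega)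
      obtain ⟨c, r, rfl⟩ := aug r
      obtain ⟨c', r', rfl⟩ := aug r'
      obtain ⟨j, rfl⟩ : ∃ j, k = i + j := ⟨k - i, by omega⟩
      have k1 : yy F ^ j • (ρ • u + ρ' • w) = c • yy F ^ (i + j) • u + c' • yy F ^ (i + j) • w := by
        rw [← algebraMap_smul F[T;T⁻¹] c, ← algebraMap_smul F[T;T⁻¹] c', e, e']
        linear_combination (norm := module) hk (r • u) + hk (r' • w)
      have k2 := h1 (yy F ^ j)
      have k3 := h2 (yy F ^ j)
      rw [k1, polar_add_left, polar_smul_left, polar_smul_left, hN, smul_zero] at k2 k3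
      rw [← H.sym, invert_yy_pow, T_top hk, zero_add] at k2
      rw [add_zero] at k3
      rw [e, e', (mul_eq_zero.1 k2).resolve_right h, (mul_eq_zero.1 k3).resolve_right h, map_zero,
        zero_add, zero_add, pow_succ]
      exact ⟨⟨r, (mul_assoc _ _ _).symm⟩, r', (mul_assoc _ _ _).symm⟩
  obtain ⟨⟨r, rfl⟩, r', rfl⟩ := key _ le_rfl
  simp only [mul_smul, hk, and_self]

theorem span_pair (H : Is Q) (hI : Indec Q) (hk : ∀ v : V, yy F ^ (k + 1) • v = 0)
    (hN : ∀ v, polar Q (yy F ^ k • v) v = 0) (h : polar Q (yy F ^ k • u) w ≠ 0) (v : V) :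
    ∃ r r' : F[T;T⁻¹], r • u + r' • w = v := by
  have hu : u ∈ Submodule.span F[T;T⁻¹] {u, w} := Submodule.subset_span (Or.inl rfl)
  have hw : w ∈ Submodule.span F[T;T⁻¹] {u, w} := Submodule.subset_span (Or.inr rfl)
  rcases hI (Submodule.span _ {u, w}) (fun z hz h1 => by
    obtain ⟨ρ, ρ', rfl⟩ := Submodule.mem_span_pair.1 hz
    have := H.desc hk hN h (fun r => (H.adj _ _ _).trans (h1 _ (Submodule.smul_mem _ _ hu)))
      fun r => (H.adj _ _ _).trans (h1 _ (Submodule.smul_mem _ _ hw))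
    rw [this.1, this.2, add_zero]) with e | e
  · rw [e, Submodule.mem_bot] at hw
    exact absurd (by rw [hw, polar_zero_right]) h
  · exact Submodule.mem_span_pair.1 (e ▸ Submodule.mem_top)

theorem tri (H : Is Q) (hk : ∀ v : V, yy F ^ (k + 1) • v = 0) (ha : yy F ^ k • a ≠ 0) (n : ℕ → ℤ)
    (t : ℕ → F) : ∃ u, ∀ j ≤ k, polar Q ((T (n j) * yy F ^ j) • a) u = t j := by
  obtain ⟨z, hz⟩ := not_forall.1 fun h => ha (H.nd _ h)
  have key : ∀ d, ∃ u, ∀ j ≤ k, k < j + d → polar Q ((T (n j) * yy F ^ j) • a) u = t j := fun d => by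
    induction d with
    | zero => exact ⟨0, fun j h1 h2 => by omega⟩
    | succ d ih =>
      obtain ⟨u, hu⟩ := ih
      refine ⟨u + ((t (k - d) - polar Q ((T (n (k - d)) * yy F ^ (k - d)) • a) u) /
        polar Q (yy F ^ k • a) z) • invert (yy F ^ d) • z, fun j h1 h2 => ?_⟩
      rw [polar_add_right, polar_smul_right, ← H.adj, ← mul_smul, mul_comm (yy F ^ d), mul_assoc,
        ← pow_add]
      rcases (show k ≤ j + d by omega).lt_or_eq with h3 | h3
      · rw [yy_kill hk h3, polar_zero_left, smul_zero, add_zero, hu j h1 h3]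
      · rw [← h3, T_top hk, smul_eq_mul, div_mul_cancel₀ _ hz, show k - d = j by omega]
        ring
  obtain ⟨u, hu⟩ := key (k + 1)
  exact ⟨u, fun j hj => hu j hj (by omega)⟩

theorem good_unip (H : Is Q) (hI : Indec Q) (hk : ∀ v : V, yy F ^ (k + 1) • v = 0)
    (ha : yy F ^ k • a ≠ 0) (hN : ∀ (r : F[T;T⁻¹]) v, polar Q ((r * yy F ^ k) • v) v = 0) :
    ∃ h, Good Q h := by
  have hN' : ∀ v, polar Q (yy F ^ k • v) v = 0 := fun v => by simpa using hN 1 v
  have lin : ∀ {r r' : F[T;T⁻¹]} {a b c d : V},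
      (∀ i, polar Q ((r * ss F ^ i) • a) b = polar Q ((r' * ss F ^ i) • c) d) →
      ∀ p : F[X], polar Q ((r * aeval (ss F) p) • a) b = polar Q ((r' * aeval (ss F) p) • c) d := by
    intro r r' a b c d h p
    induction p using Polynomial.induction_on' with
    | add p q hp hq => simp only [map_add, mul_add, add_smul, polar_add_left, hp, hq]
    | monomial i c =>
      simp only [aeval_monomial, mul_left_comm _ (algebraMap F F[T;T⁻¹] c), mul_smul (algebraMap F _ c),
        algebraMap_smul, polar_smul_left, h]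
  obtain ⟨n, rfl | rfl⟩ := Nat.even_or_odd' k
  · have m : ∀ a b, polar Q (yy F ^ n • a) (yy F ^ n • b) = polar Q (yy F ^ (2 * n) • a) b :=
      fun a b => by rw [H.adj', invert_yy_pow, ← mul_smul, mul_assoc, ← pow_add, ← two_mul, T_top hk]
    obtain ⟨a, ha, hq⟩ : ∃ a, yy F ^ (2 * n) • a ≠ 0 ∧ Q (yy F ^ n • a) ≠ 0 := by
      obtain ⟨b, hb⟩ := not_forall.1 fun h => ha (H.nd _ h)
      by_contra! h
      have h1 := h (a + b) fun e => hb (by
        have := polar_add_left Q (yy F ^ (2 * n) • a) (yy F ^ (2 * n) • b) b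
        rwa [← smul_add, e, polar_zero_left, hN', add_zero, eq_comm] at this)
      rw [smul_add, q_add, h a ha, h b fun e => hb (by
        rw [← m, polar_comm, m, e, polar_zero_left]), zero_add, zero_add, m] at h1
      exact hb h1
    obtain ⟨u, hu⟩ := H.tri hk ha (fun j => -(j / 2 : ℕ))
      fun j => if j = 0 then Q a else polar Q ((T 1 * ss F ^ (j / 2 - 1)) • a) a
    have u0 : polar Q a u = Q a := by simpa using hu 0 (Nat.zero_le _)
    have u1 := lin (r := ss F) (r' := T 1) (a := a) (b := u) (c := a) (d := a) fun i => by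
      rw [← pow_succ', ss_pow]
      rcases lt_or_ge i n with h | h
      · have := hu (2 * (i + 1)) (by omega)
        rwa [if_neg (by omega), Nat.mul_div_cancel_left _ two_pos] at this
      · obtain ⟨j, rfl⟩ := Nat.exists_eq_add_of_le h
        rw [yy_kill hk (by omega), polar_zero_left, ss_pow, mul_add 2, add_comm (2 * n), pow_add,
          ← mul_assoc, ← mul_assoc, hN]
    have q1 : Q (u + a) = Q u := by
      rw [q_add, polar_comm, u0, add_assoc, CharTwo.add_self_eq_zero, add_zero]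
    have q2 : ∀ r : F[T;T⁻¹], polar Q (r • (u + a)) (u + a) = polar Q (r • u) u := fun r => by
      obtain ⟨p, q, e⟩ := dec r
      have h1 : invert r + r = ss F * aeval (ss F) q := by
        rw [e, map_add, map_mul, invert_ev, invert_ev, invert_T]
        nth_rw 5 [ss]
        linear_combination aeval (ss F) p * (two_eq (F := F))
      have h2 : polar Q (r • a) a = polar Q ((T 1 * aeval (ss F) q) • a) a := by
        rw [e, add_smul, polar_add_left, H.iso, zero_add]
      rw [smul_add, polar_add_left, polar_add_right, polar_add_right, ← H.sym r a u, add_assoc,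
        ← add_assoc (polar Q (_ • a) u), ← polar_add_left, ← add_smul, h1, u1, h2,
        CharTwo.add_self_eq_zero, add_zero]
    have q3 : polar Q (yy F ^ (2 * n) • u) (u + a) ≠ 0 := fun e => hq (by
      have h1 := (H.q_eq q1 q2 (invert (yy F ^ n))).trans
        (H.q_eq rfl (fun _ => rfl) (invert (yy F ^ n))).symm
      rw [polar_add_right, hN', zero_add, ← m] at e
      rwa [invert_invert, smul_add, q_add, e, add_zero, add_eq_left] at h1)
    exact H.good_odd (H.span_pair hI hk hN' q3) (fun r r' e => (H.desc hk hN' q3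
      (fun _ => by rw [e, smul_zero, polar_zero_left])
      fun _ => by rw [e, smul_zero, polar_zero_left]).2) q1 q2
  · obtain ⟨w, hw⟩ := H.tri hk ha (fun j => -(j / 2 : ℕ)) fun j => if j = 2 * n + 1 then 1 else 0
    have h1 := hw _ le_rfl
    rw [T_top hk, if_pos rfl] at h1
    refine H.good_even (H.span_pair hI hk hN' (h1.trans_ne one_ne_zero)) fun p => ?_
    simpa using lin (r := 1) (r' := 0) (a := a) (b := w) (c := a) (d := a) (fun i => by
      rw [one_mul, zero_mul, zero_smul, polar_zero_left, ss_pow]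
      rcases le_or_gt i n with h | h
      · have := hw (2 * i) (by omega)
        rwa [if_neg (by omega), Nat.mul_div_cancel_left _ two_pos] at this
      · rw [yy_kill hk (by omega), polar_zero_left]) p

theorem fitting [Finite V] (H : Is Q) (hI : Indec Q) {r : F[T;T⁻¹]} (ha : r • a = 0) (h0 : a ≠ 0) :
    ∃ n, ∀ v : V, (r * invert r) ^ n • v = 0 := by
  obtain ⟨n, hn, h1⟩ := ((LinearMap.eventually_codisjoint_ker_pow_range_pow
    (LinearMap.lsmul F[T;T⁻¹] V (r * invert r))).and (Filter.eventually_ge_atTop 1)).exists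
  have e : ∀ v : V, (LinearMap.lsmul F[T;T⁻¹] V (r * invert r) ^ n) v = (r * invert r) ^ n • v :=
    fun v => LinearMap.congr_fun (map_pow (Algebra.lsmul F[T;T⁻¹] F[T;T⁻¹] V) _ _).symm v
  rcases hI (LinearMap.ker (LinearMap.lsmul F[T;T⁻¹] V (r * invert r) ^ n)) (fun z hz h2 =>
    H.nd z fun v => by
      obtain ⟨b, hb, _, ⟨c, rfl⟩, rfl⟩ := Submodule.mem_sup.1 (hn.eq_top ▸ Submodule.mem_top (x := v))
      rw [polar_add_right, h2 b hb, e, H.adj', map_pow, map_mul, invert_invert, mul_comm, ← e,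
        LinearMap.mem_ker.1 hz, polar_zero_left, add_zero]) with k | k
  · refine absurd ((Submodule.eq_bot_iff _).1 k a ?_) h0
    obtain ⟨n, rfl⟩ := Nat.exists_eq_add_of_le' h1
    rw [LinearMap.mem_ker, e, pow_succ, mul_comm r, ← mul_assoc, mul_smul, ha, smul_zero]
  · exact ⟨n, fun v => (e v).symm.trans (LinearMap.mem_ker.1 (k ▸ Submodule.mem_top))⟩

theorem good_indec [Finite V] [Nontrivial V] (H : Is Q) (hI : Indec Q) : ∃ h, Good Q h := by
  classical
  have := pid (F := F)
  by_contra hc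
  obtain ⟨m, hm⟩ : ∃ m : F[T;T⁻¹], ∀ r, (∀ v : V, r • v = 0) ↔ m ∣ r :=
    ⟨_, fun r => Module.mem_annihilator.symm.trans
      (Submodule.IsPrincipal.mem_iff_generator_dvd (Module.annihilator F[T;T⁻¹] V))⟩
  have m0 : m ≠ 0 := by
    have := Infinite.of_injective _ (toLaurent_injective (R := F))
    obtain ⟨r, r', h1, h2⟩ := Finite.exists_ne_map_eq_of_infinite fun (r : F[T;T⁻¹]) (v : V) => r • v
    rintro rfl
    exact h1 (sub_eq_zero.1 (zero_dvd_iff.1 ((hm _).1 fun v => by
      rw [sub_smul, congrFun h2 v, sub_self])))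
  obtain ⟨v₀, hv₀⟩ := exists_ne (0 : V)
  obtain ⟨p, hp, M, e⟩ := WfDvdMonoid.exists_irreducible_factor
    (fun h : IsUnit m => hv₀ (by simpa using (hm 1).2 h.dvd v₀)) m0
  have p0 := hp.ne_zero
  obtain ⟨a, ha⟩ : ∃ a : V, M • a ≠ 0 := not_forall.1 fun h => hp.not_isUnit (isUnit_of_dvd_one
    ((mul_dvd_mul_iff_right (right_ne_zero_of_mul (e ▸ m0))).1 (by
      rw [one_mul, ← e]; exact (hm _).1 h)))
  obtain ⟨n, hn⟩ := H.fitting hI (r := p) (by rw [← mul_smul, ← e]; exact (hm m).2 dvd_rfl a) ha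
  have hn' := (hm _).1 hn
  have mi : invert m ∣ m := by
    have := map_dvd invert ((hm (invert m)).1 fun v => H.nd _ fun w => by
      rw [← H.adj', (hm m).2 dvd_rfl, polar_zero_right])
    rwa [invert_invert] at this
  have key : ∀ (r : F[T;T⁻¹]) v, polar Q ((r * M) • v) v = 0 := fun r v => by
    let I : Ideal F[T;T⁻¹] :=
      { carrier := {c | ∀ r : F[T;T⁻¹], polar Q ((r * c) • v) v = 0}
        add_mem' := fun h1 h2 r => by rw [mul_add, add_smul, polar_add_left, h1, h2, add_zero]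
        zero_mem' := fun r => by simp
        smul_mem' := fun c _ h r => by rw [smul_eq_mul, ← mul_assoc, h] }
    obtain ⟨d, hd⟩ : ∃ d, ∀ c, c ∈ I ↔ d ∣ c :=
      ⟨_, fun c => Submodule.IsPrincipal.mem_iff_generator_dvd I⟩
    obtain ⟨d', e'⟩ := (hd m).1 fun r => by
      rw [(hm _).2 (dvd_mul_left _ _), polar_zero_left]
    by_cases hu : IsUnit d'
    · rcases hI (Submodule.span _ {v}) (fun z hz h => by
        obtain ⟨c, rfl⟩ := Submodule.mem_span_singleton.1 hz
        refine (hm c).2 (e' ▸ hu.mul_right_dvd.2 ((hd c).1 fun r => ?_)) v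
        rw [mul_smul, H.adj]
        exact h _ (Submodule.smul_mem _ _ (Submodule.mem_span_singleton_self v))) with k | k
      · rw [Submodule.span_singleton_eq_bot.1 k, polar_zero_right]
      · refine absurd (H.good_even (u := v) (w := 0) (fun z => ?_) fun _ => polar_zero_right _ _) hc
        obtain ⟨c, rfl⟩ := Submodule.mem_span_singleton.1 (k ▸ Submodule.mem_top (x := z))
        exact ⟨c, 0, by simp⟩
    obtain ⟨p', hp', d'', rfl⟩ := WfDvdMonoid.exists_irreducible_factor hu
      (right_ne_zero_of_mul (e' ▸ m0))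
    have h1 : d * d'' ∈ I := (hd _).2 (dvd_mul_right _ _)
    rw [mul_left_comm] at e'
    rcases hp'.prime.dvd_or_dvd (hp'.prime.dvd_of_dvd_pow ((Dvd.intro _ e'.symm).trans hn')) with
      h2 | h2
    · obtain ⟨t, rfl⟩ := hp'.dvd_symm hp h2
      rw [mul_left_cancel₀ p0 (e.symm.trans (e'.trans (mul_assoc _ _ _))), ← mul_assoc]
      exact h1 _
    · have h3 := map_dvd invert h2
      rw [invert_invert] at h3
      obtain ⟨t, ht⟩ := (hp'.map invert).dvd_symm hp h3
      obtain ⟨t', ht'⟩ := mi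
      have h4 : p * M = p * (invert (d * d'') * (t * t')) := by
        rw [← e, ht', e', map_mul, ht]; ring
      rw [mul_left_cancel₀ p0 h4, ← H.sym, map_mul, map_mul, invert_invert, mul_comm (d * d''),
        ← mul_assoc]
      exact h1 _
  have sa : ∀ (r : F[T;T⁻¹]) (v : V), invert (r * M) • v = (r * M) • v := fun r v =>
    sub_eq_zero.1 (H.nd _ fun w => by
      have := key r (v + w)
      rw [smul_add, polar_add_left, polar_add_right, polar_add_right, key, key, zero_add, add_zero,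
        CharTwo.add_eq_zero] at this
      rw [polar_sub_left, H.sym, this, sub_self])
  have h1 : p ∣ yy F := by
    have h2 : m ∣ ss F * M := (hm _).1 fun v => by
      have h3 := sa 1 v
      have h4 := sa (T 1) v
      rw [one_mul] at h3
      rw [map_mul, invert_T, mul_smul, h3, ← mul_smul] at h4
      rw [ss, add_mul, add_smul, h4, add_self F]
    rw [e, mul_dvd_mul_iff_right (right_ne_zero_of_mul (e ▸ m0)), ss_eq,
      (isUnit_T _).dvd_mul_left] at h2
    exact hp.prime.dvd_of_dvd_pow h2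
  have h2 : yy F ∣ p := by
    obtain ⟨c, r, h3⟩ := aug p
    rcases eq_or_ne c 0 with rfl | h4
    · exact ⟨r, by rw [h3, map_zero, zero_add]⟩
    · exact absurd (isUnit_of_dvd_unit ((dvd_add_left (h1.mul_right r)).1 h3.dvd)
        ((IsUnit.mk0 c h4).map _)) hp.not_isUnit
  have h3 : ∃ k, ∀ v : V, yy F ^ k • v = 0 := ⟨2 * n, (hm _).2 (hn'.trans (by
    rw [pow_mul, pow_two]
    refine pow_dvd_pow_of_dvd (mul_dvd_mul h1 ?_) n
    have := map_dvd invert h1
    rwa [invert_yy, (isUnit_T _).dvd_mul_left] at this))⟩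
  obtain ⟨k, hk⟩ := Nat.exists_eq_succ_of_ne_zero fun h : Nat.find h3 = 0 => hv₀ (by
    simpa [h] using Nat.find_spec h3 v₀)
  have h4 := Nat.find_spec h3
  obtain ⟨b, hb⟩ := not_forall.1 (Nat.find_min h3 (hk ▸ k.lt_succ_self))
  rw [hk] at h4
  obtain ⟨t, ht⟩ : M ∣ yy F ^ k := by
    have := (mul_dvd_mul_right h2 M).trans (e ▸ (hm _).1 h4)
    rwa [pow_succ', mul_dvd_mul_iff_left (ne_zero_of_dvd_ne_zero p0 h2)] at this
  exact hc (H.good_unip hI h4 hb fun r v => by rw [ht, mul_comm M, ← mul_assoc, key])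

end Is

end Cfsg.Lib.Known.RealO
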