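import Cfsg.Agent.Known.SL2Unip

/-!
# Products of conjugacy classes in `SL₂(q)`
-/

set_option autoImplicit false

namespace Cfsg.Lib.Known.GL2

open Matrix Polynomial

variable {F : Type*} [Field F]

/-- Macbeath's lemma in terms of the conic. -/
theorem exists_mul_of_conic {g : SL2 F} (hg : g ∉ (slLin F).Z) {s t b d : F}
    (h : b ^ 2 + ((slLin F).ρ g).trace * b * d + d ^ 2 - t * b - s * d + 1 = 0) :
    ∃ x y : SL2 F, ((slLin F).ρ x).trace = s ∧ ((slLin F).ρ y).trace = t ∧ g = x * y := by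
  obtain ⟨m, hm, e⟩ := exists_conj_companion ((slLin F).mem_Z.not.1 hg)
  rw [det_SL] at e
  set τ := ((slLin F).ρ g).trace
  have hu : IsUnit m.det := isUnit_iff_ne_zero.2 hm
  let n : M2 F := !![s - d, b; b + d * τ - t, d]
  have hn : (m * n * m⁻¹).det = 1 := by
    rw [det_mul, det_mul, mul_right_comm, ← det_mul, mul_nonsing_inv _ hu, det_one, one_mul]
    simp only [n, det_fin_two_of]
    linear_combination -h
  refine ⟨((slLin F).mk1 _ hn)⁻¹, (slLin F).mk1 _ hn * g, ?_, ?_, by simp⟩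
  · rw [← bar_SL, Lin2.ρ_bar, trace_adjugate, Lin2.ρ_mk1, trace_mul_cycle, nonsing_inv_mul _ hu,
      one_mul]
    simp [n, trace_fin_two]
  · rw [map_mul, Lin2.ρ_mk1, mul_assoc, mul_assoc, trace_mul_comm, mul_assoc, mul_assoc, ← e,
      ← mul_assoc m⁻¹, nonsing_inv_mul _ hu, one_mul]
    simp [n, trace_fin_two]
    ring

theorem exists_mul_of_disc [Finite F] {g : SL2 F} (hg : disc ((slLin F).ρ g) ≠ 0) (s t : F) :
    ∃ x y : SL2 F, ((slLin F).ρ x).trace = s ∧ ((slLin F).ρ y).trace = t ∧ g = x * y := by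
  have hg' := hg
  rw [disc_SL] at hg'
  set τ := ((slLin F).ρ g).trace with hτ
  obtain ⟨a, b, h⟩ := exists_norm_eq (t := τ) (d := 1) (by rwa [mul_one])
    (-1 - (t ^ 2 - τ * s * t + s ^ 2) / (τ ^ 2 - 4))
  refine exists_mul_of_conic ((slLin F).mem_Z.not.2 (not_isScal_of_disc hg))
    (b := a + (τ * s - 2 * t) / (τ ^ 2 - 4)) (d := b + (τ * t - 2 * s) / (τ ^ 2 - 4)) ?_
  rw [← hτ]
  field_simp
  field_simp at h
  linear_combination (τ ^ 2 - 4) * h

theorem exists_isConj_entry {g : SL2 F} (hg : g ∉ (slLin F).Z) :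
    ∃ x : SL2 F, (slLin F).ρ (x * g * x⁻¹) 1 0 ≠ 0 := by
  by_contra h
  push Not at h
  have h1 := h 1
  have h2 := h (slLin F).w
  have h3 := h ((slLin F).w * (slLin F).u 1)
  rw [_root_.mul_inv_rev, ← Lin2.u_neg] at h3
  simp only [map_mul, Lin2.ρ_w, Lin2.ρ_w_inv, Lin2.ρ_u, one_mul, inv_one, mul_one, mul10, mul11,
    mul00, mul01] at h1 h2 h3
  simp at h2 h3
  exact hg ((slLin F).mem_Z.2 ⟨h2, h1, by linear_combination h3 - h1 + h2⟩)

theorem trace_mul_conj_u (a b : SL2 F) : ∃ c₁ c₀ : F, ∀ l : F,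
    ((slLin F).ρ (a * ((slLin F).u l * b * ((slLin F).u l)⁻¹))).trace =
      -((slLin F).ρ a 1 0 * (slLin F).ρ b 1 0) * l ^ 2 + c₁ * l + c₀ := by
  refine ⟨(slLin F).ρ a 0 0 * (slLin F).ρ b 1 0 + (slLin F).ρ a 1 0 * ((slLin F).ρ b 1 1 -
    (slLin F).ρ b 0 0) - (slLin F).ρ a 1 1 * (slLin F).ρ b 1 0, ((slLin F).ρ (a * b)).trace,
    fun l => ?_⟩
  rw [← Lin2.u_neg]
  simp only [map_mul, Lin2.ρ_u, trace_fin_two, mul10, mul11, mul00, mul01]
  simp
  ring

theorem card_le_of_quadratic [Fintype F] {a b c : F} (ha : a ≠ 0) {S : Finset F}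
    (h : ∀ l : F, a * l ^ 2 + b * l + c ∈ S) : Fintype.card F ≤ 2 * S.card := by
  classical
  refine Finset.card_le_mul_card_image_of_maps_to (f := fun l => a * l ^ 2 + b * l + c)
    (fun l _ => h l) 2 fun y _ => ?_
  have h0 : (C a * X ^ 2 + C b * X + C (c - y) : F[X]).natDegree = 2 := natDegree_quadratic ha
  have h1 : (C a * X ^ 2 + C b * X + C (c - y) : F[X]) ≠ 0 := fun h => by
    rw [h] at h0; simp at h0
  refine le_trans (Finset.card_le_card (t := (C a * X ^ 2 + C b * X + C (c - y)).roots.toFinset)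
    fun l hl => ?_) ((Multiset.toFinset_card_le _).trans ((card_roots' _).trans h0.le))
  rw [Multiset.mem_toFinset, mem_roots h1, IsRoot.def]
  simp only [Finset.mem_filter, Finset.mem_univ, true_and] at hl
  simp
  linear_combination hl

end Cfsg.Lib.Known.GL2
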