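import Cfsg.Agent.Known.SpLeviComm

/-!
Orthogonal decomposition of a symplectic space under an isometry, into pieces that are either
products of two opposite Siegel unipotents or carry odd Jordan blocks for the eigenvalue `-1`.
-/

set_option autoImplicit false

namespace Cfsg.Lib.Known.SC

open Module Polynomial Cfsg.Lib.Class Cfsg.Lib.Class.Form

variable {F V : Type*} [Field F] [AddCommGroup V] [Module F V] {B : LinearMap.BilinForm F V}

/-- The cyclic submodule generated by `v`. -/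
def cyc (s : End F V) (v : V) : Submodule F V where
  carrier := {x | ∃ r : F[X], aeval s r v = x}
  zero_mem' := ⟨0, by simp⟩
  add_mem' := by rintro _ _ ⟨a, rfl⟩ ⟨b, rfl⟩; exact ⟨a + b, by simp⟩
  smul_mem' := by rintro c _ ⟨a, rfl⟩; exact ⟨c • a, by simp⟩

theorem mem_cyc (s : End F V) (v : V) : v ∈ cyc s v := ⟨1, by simp⟩

theorem cyc_inv {s : End F V} {v : V} : ∀ x ∈ cyc s v, s x ∈ cyc s v := by
  rintro _ ⟨r, rfl⟩; exact ⟨X * r, by simp⟩

theorem aeval_mem {s : End F V} {W : Submodule F V} (h : ∀ x ∈ W, s x ∈ W) (r : F[X]) :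
    ∀ x ∈ W, aeval s r x ∈ W := fun x hx => by
  rw [show aeval s r x = _ from (intertwine_aeval (f := s.restrict h) (g := s) W.subtype
    (fun _ => rfl) r ⟨x, hx⟩).symm]
  exact Subtype.property _

theorem pow_mem {s : End F V} {W : Submodule F V} (h : ∀ x ∈ W, s x ∈ W) (i : ℕ) :
    ∀ x ∈ W, (s ^ i) x ∈ W := by simpa using aeval_mem h (X ^ i)

theorem comm_aeval {s T : End F V} (h : ∀ x, T (s x) = s (T x)) (r : F[X]) (x : V) :
    T (aeval s r x) = aeval s r (T x) := intertwine_aeval T h r x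

theorem comm_pow {s T : End F V} (h : ∀ x, T (s x) = s (T x)) (i : ℕ) (x : V) :
    T ((s ^ i) x) = (s ^ i) (T x) := by simpa using comm_aeval h (X ^ i) x

theorem cyc_map {s T : End F V} (h : ∀ x, T (s x) = s (T x)) {W : Submodule F V}
    (hW : ∀ x ∈ W, s x ∈ W) {v : V} (hv : T v ∈ W) : ∀ x ∈ cyc s v, T x ∈ W := by
  rintro _ ⟨r, rfl⟩; rw [comm_aeval h]; exact aeval_mem hW r _ hv

theorem cyc_le {s : End F V} {W : Submodule F V} (hW : ∀ x ∈ W, s x ∈ W) {v : V} (hv : v ∈ W) :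
    cyc s v ≤ W := cyc_map (s := s) (T := 1) (fun _ => rfl) hW hv

theorem sup_inv {T : End F V} {W W' Z : Submodule F V} (h : ∀ x ∈ W, T x ∈ Z)
    (h' : ∀ x ∈ W', T x ∈ Z) : ∀ x ∈ W ⊔ W', T x ∈ Z :=
  fun _ hx => (sup_le (c := Z.comap T) h h') hx

theorem sup_inv' {T : End F V} {W W' : Submodule F V} (h : ∀ x ∈ W, T x ∈ W)
    (h' : ∀ x ∈ W', T x ∈ W') : ∀ x ∈ W ⊔ W', T x ∈ W ⊔ W' :=
  sup_inv (fun x hx => Submodule.mem_sup_left (h x hx)) fun x hx => Submodule.mem_sup_right (h' x hx)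

theorem iso_sup (hA : B.IsAlt) {W W' : Submodule F V} (h : ∀ x ∈ W, ∀ y ∈ W, B x y = 0)
    (h' : ∀ x ∈ W', ∀ y ∈ W', B x y = 0) (k : ∀ x ∈ W, ∀ y ∈ W', B x y = 0) :
    ∀ x ∈ W ⊔ W', ∀ y ∈ W ⊔ W', B x y = 0 := fun x hx y hy => by
  obtain ⟨a, ha, b, hb, rfl⟩ := Submodule.mem_sup.1 hx
  obtain ⟨c, hc, d, hd, rfl⟩ := Submodule.mem_sup.1 hy
  simp [h a ha c hc, h' b hb d hd, k a ha d hd, ← hA.neg_eq c b, k c hc b hb]

theorem alt_aeval (hA : B.IsAlt) {s : End F V} (h : ∀ x y, B (s x) y = B x (s y))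
    (h1 : ∀ x, B (s x) x = 0) (r : F[X]) (x : V) : B (aeval s r x) x = 0 := by
  have : ∀ i x, B ((s ^ i) x) x = 0 := fun i => by
    induction i using Nat.twoStepInduction with
    | zero => exact fun x => hA x
    | one => simpa using h1
    | more i ih _ => intro x; rw [pow_succ', pow_succ, End.mul_apply, h, End.mul_apply, ih]
  rw [aeval_eq_sum_range]
  simp [LinearMap.sum_apply, this]

theorem cyc_orth {s : End F V} (h : ∀ x y, B (s x) y = B x (s y)) {v w : V}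
    (k : ∀ x ∈ cyc s v, B x w = 0) : ∀ x ∈ cyc s v, ∀ y ∈ cyc s w, B x y = 0 := by
  rintro x hx _ ⟨r, rfl⟩
  rw [← adj_aeval h]; exact k _ (aeval_mem cyc_inv r x hx)

theorem cyc_iso (hA : B.IsAlt) {s : End F V} (h : ∀ x y, B (s x) y = B x (s y))
    (h1 : ∀ x, B (s x) x = 0) (v : V) : ∀ x ∈ cyc s v, ∀ y ∈ cyc s v, B x y = 0 :=
  cyc_orth h (by rintro _ ⟨r, rfl⟩; exact alt_aeval hA h h1 r v)

theorem parity {N n : End F V} (hc : ∀ x, N (n x) = n (N x))
    (hn : ∀ i x, (N ^ i) (n x) = 0 ↔ (N ^ (i + 2)) x = 0) (i : ℕ) : ∀ z, (N ^ (2 * i)) z = 0 →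
      (i = 0 ∨ (N ^ (2 * i - 1)) z ≠ 0) → ∀ y ∈ cyc n z, N y = 0 → y = 0 := by
  induction i with
  | zero => rintro z h - _ ⟨r, rfl⟩ -; simp [show z = 0 from h]
  | succ i ih =>
    rintro z h h' _ ⟨r, rfl⟩ hy
    have h' : (N ^ (2 * i + 1)) z ≠ 0 := h'.resolve_left (by omega)
    have e : aeval n r z = aeval n r.divX (n z) + r.coeff 0 • z := by
      conv_lhs => rw [← r.divX_mul_X_add]
      simp
    have k : (N ^ (2 * i + 1)) (aeval n r z) = 0 := by rw [pow_succ, End.mul_apply, hy, map_zero]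
    have h0 := (hn (2 * i) z).2 h
    rw [e, map_add, comm_aeval (fun x => (comm_pow (fun x => (hc x).symm) _ x).symm), pow_succ',
      End.mul_apply, h0, map_zero, map_zero, zero_add, map_smul, ← pow_succ',
      smul_eq_zero_iff_left h'] at k
    rw [k, zero_smul, add_zero] at e
    refine ih (n z) h0 ?_ _ ⟨_, e.symm⟩ hy
    rcases i with _ | i
    · exact .inl rfl
    · exact .inr fun t => h' ((hn _ z).1 t)

theorem nondeg_two {N : End F V} {U : Submodule F V} {v w : V} {e : ℕ} (hv : v ∈ U) (hw : w ∈ U)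
    (hU : ∀ y ∈ U, ∃ a b : F, ∃ z ∈ U, y = a • v + b • w + N z)
    (hN : ∀ y ∈ U, ∃ y' ∈ U, ∀ x, B (N x) y = B x y') (h0 : ∀ y ∈ U, (N ^ (e + 1)) y = 0)
    (h1 : B ((N ^ e) v) v = 0) (h2 : B ((N ^ e) w) w = 0) (h3 : B ((N ^ e) v) w ≠ 0)
    (h4 : B ((N ^ e) w) v ≠ 0) : NondegOn B U := by
  have rad : ∀ i x, (∀ y ∈ U, B x y = 0) → ∀ y ∈ U, B ((N ^ i) x) y = 0 := fun i x hx => by
    induction i with
    | zero => exact hx
    | succ i ih =>
      intro y hy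
      obtain ⟨y', hy', k⟩ := hN y hy
      rw [pow_succ', End.mul_apply, k, ih y' hy']
  have key : ∀ d j, d + j = e + 1 → ∀ y ∈ U, (∀ t ∈ U, B ((N ^ j) y) t = 0) → (N ^ j) y = 0 := by
    intro d
    induction d with
    | zero => intro j hj y hy _; exact (show j = e + 1 by omega) ▸ h0 y hy
    | succ d ih =>
      intro j hj y hy k
      obtain ⟨a, b, z, hz, rfl⟩ := hU y hy
      have k1 := rad d _ k
      rw [← End.mul_apply, ← pow_add, show d + j = e by omega, map_add, ← End.mul_apply (N ^ e) N,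
        ← pow_succ, h0 z hz] at k1
      have a0 : a = 0 := by simpa [h2, h3] using k1 w hw
      have b0 : b = 0 := by simpa [h1, h4] using k1 v hv
      simp only [a0, b0, zero_smul, zero_add] at k ⊢
      exact ih (j + 1) (by omega) z hz k
  exact fun x hx k => key (e + 1) 0 rfl x hx k

theorem exists_orth_in [FiniteDimensional F V] (hB : B.Nondegenerate) (hA : B.IsAlt)
    {U W : Submodule F V} (hU : NondegOn B U) (hW : W ≤ U) {x : V} (hx : x ∈ U) (h : x ∉ W) :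
    ∃ w ∈ U, (∀ y ∈ W, B y w = 0) ∧ B x w ≠ 0 := by
  obtain ⟨u, h1, h2⟩ := exists_right_orth_ne_zero B hB W h
  obtain ⟨a, ha, b, hb, rfl⟩ := Submodule.mem_sup.1
    (((good_of_isAlt B hB hA).isCompl_orth hU).sup_eq_top.ge (Submodule.mem_top (x := u)))
  exact ⟨a, ha, fun y hy => by simpa [hb y (hW hy)] using h1 y hy, by simpa [hb x hx] using h2⟩

/-- `g - 1`. -/
def NN (g : V ≃ₗ[F] V) : End F V := g.toLinearMap - 1

/-- `g + g⁻¹ - 2`. -/
def nn (g : V ≃ₗ[F] V) : End F V := NN g + NN g.symm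

theorem NN_apply (g : V ≃ₗ[F] V) (x : V) : NN g x = g x - x := rfl

theorem nn_apply (g : V ≃ₗ[F] V) (x : V) : nn g x = g x - x + (g.symm x - x) := rfl

section
variable {g : V ≃ₗ[F] V}

theorem g_nn (x : V) : g.toLinearMap (nn g x) = nn g (g x) := by simp [nn_apply]

theorem NN_nn (x : V) : NN g (nn g x) = nn g (NN g x) := by simp [nn_apply, NN_apply]; abel

theorem NNs_nn (x : V) : NN g.symm (nn g x) = nn g (NN g.symm x) := by
  simp [nn_apply, NN_apply]; abel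

theorem g_nn' (x : V) : g (nn g x) = NN g (NN g x) := by simp [nn_apply, NN_apply]; abel

theorem nn_adj (hg : g ∈ SpB B) (x y : V) : B (nn g x) y = B x (nn g y) := by
  simp [nn_apply, SpB_symm_left hg, SpB_symm_right hg]; ring

theorem NN_adj (hg : g ∈ SpB B) (x y : V) : B (NN g x) y = B x (NN g.symm y) := by
  simp [NN_apply, SpB_symm_right hg]

theorem nn_alt (hA : B.IsAlt) (hg : g ∈ SpB B) (x : V) : B (nn g x) x = 0 := by
  simp [nn_apply, SpB_symm_left hg, hA x, ← hA.neg_eq (g x) x]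

theorem symm_mem [FiniteDimensional F V] {W : Submodule F V} (h : ∀ x ∈ W, g x ∈ W) :
    ∀ x ∈ W, g.symm x ∈ W := fun x hx => by
  rw [← Submodule.eq_of_le_of_finrank_eq (Submodule.map_le_iff_le_comap.2 h)
    (LinearEquiv.finrank_map_eq g W)] at hx
  obtain ⟨y, hy, rfl⟩ := hx
  simpa

theorem nn_mem [FiniteDimensional F V] {W : Submodule F V} (h : ∀ x ∈ W, g x ∈ W) :
    ∀ x ∈ W, nn g x ∈ W := fun x hx =>
  add_mem (sub_mem (h x hx) hx) (sub_mem (symm_mem h x hx) hx)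

/-- The `F[g]`-submodule generated by `v`. -/
def U2 (g : V ≃ₗ[F] V) (v : V) : Submodule F V := cyc (nn g) v ⊔ cyc (nn g) (NN g v)

theorem U2_nn (v : V) : ∀ x ∈ U2 g v, nn g x ∈ U2 g v := sup_inv' cyc_inv cyc_inv

theorem mem_U2 (v : V) : v ∈ U2 g v := Submodule.mem_sup_left (mem_cyc _ _)

theorem U2_inv (v : V) : ∀ x ∈ U2 g v, g x ∈ U2 g v := by
  have h : NN g v ∈ U2 g v := Submodule.mem_sup_right (mem_cyc _ _)
  refine sup_inv (T := g.toLinearMap) (cyc_map g_nn (U2_nn v) ?_) (cyc_map g_nn (U2_nn v) ?_)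
  · convert add_mem (mem_U2 v) h using 1
    simp [NN_apply]
  · convert add_mem (add_mem h (U2_nn v _ (mem_U2 v))) (U2_nn v _ h) using 1
    simp [NN_apply, nn_apply]; abel

theorem U2_le [FiniteDimensional F V] {W : Submodule F V} (h : ∀ x ∈ W, g x ∈ W) {v : V}
    (hv : v ∈ W) : U2 g v ≤ W :=
  sup_le (cyc_le (nn_mem h) hv) (cyc_le (nn_mem h) (sub_mem (h v hv) hv))

theorem PP_U2 (hA : B.IsAlt) (hg : g ∈ SpB B) (v : V) : PP B g (U2 g v) :=
  ⟨_, _, rfl, cyc_iso hA (nn_adj hg) (nn_alt hA hg) v, cyc_iso hA (nn_adj hg) (nn_alt hA hg) _,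
    cyc_map (T := NN g) NN_nn cyc_inv (mem_cyc _ _)⟩

theorem nondeg_U2 (hA : B.IsAlt) (hg : g ∈ SpB B) {π : F[X]} (hπ : Irreducible π) {a : ℕ} {v : V}
    (h0 : aeval (nn g) (π ^ (a + 1)) v = 0) (h1 : B (aeval (nn g) (π ^ a) (NN g v)) v ≠ 0) :
    NondegOn B (U2 g v) := by
  have h0' : aeval (nn g) (π ^ (a + 1)) (NN g v) = 0 := by rw [← comm_aeval NN_nn, h0, map_zero]
  have key : ∀ t, (∀ r, B (aeval (nn g) (r * t) (NN g v)) v = 0) → π ^ (a + 1) ∣ t := fun t ht => by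
    classical
    obtain ⟨j, hj, e⟩ := (dvd_prime_pow hπ.prime _).1 (EuclideanDomain.gcd_dvd_right t (π ^ (a + 1)))
    by_cases hja : j = a + 1
    · exact (hja ▸ e.symm.dvd).trans (EuclideanDomain.gcd_dvd_left _ _)
    obtain ⟨s, hs⟩ := e.dvd.trans (pow_dvd_pow π (show j ≤ a by omega))
    refine absurd ?_ h1
    rw [hs, EuclideanDomain.gcd_eq_gcd_ab, show ∀ x y, (t * x + π ^ (a + 1) * y) * s =
      x * s * t + y * s * π ^ (a + 1) from fun x y => by ring, map_add, LinearMap.add_apply,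
      map_mul _ _ (π ^ _), End.mul_apply, h0', map_zero, add_zero, ht]
  intro x hx k
  obtain ⟨_, ⟨r₁, rfl⟩, _, ⟨r₂, rfl⟩, rfl⟩ := Submodule.mem_sup.1 hx
  obtain ⟨t, ht⟩ := key r₂ fun r => by
    have := k _ (Submodule.mem_sup_left ⟨r, rfl⟩)
    rwa [map_add, LinearMap.add_apply, cyc_iso hA (nn_adj hg) (nn_alt hA hg) v _ ⟨r₁, rfl⟩ _ ⟨r, rfl⟩,
      zero_add, ← adj_aeval (nn_adj hg), ← End.mul_apply, ← map_mul] at this
  have e : aeval (nn g) r₂ (NN g v) = 0 := by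
    rw [ht, mul_comm, map_mul, End.mul_apply, h0', map_zero]
  rw [e, add_zero] at k ⊢
  obtain ⟨t, ht⟩ := key r₁ fun r => by
    have := k _ (Submodule.mem_sup_right ⟨r, rfl⟩)
    rwa [adj_aeval (nn_adj hg), ← End.mul_apply, ← map_mul, ← hA.neg_eq, neg_eq_zero,
      mul_comm] at this
  rw [ht, mul_comm, map_mul, End.mul_apply, h0, map_zero]

theorem NN_pow_nn (i : ℕ) (x : V) : g ((NN g ^ i) (nn g x)) = (NN g ^ (i + 2)) x := by
  rw [show g _ = _ from comm_pow (T := g.toLinearMap) (s := NN g) (fun x => by simp [NN_apply]) i _,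
    LinearEquiv.coe_coe, g_nn', pow_succ, pow_succ, End.mul_apply, End.mul_apply]

theorem NN_top (i : ℕ) : ∀ y, NN g ((nn g ^ i) y) = 0 → (NN g ^ (2 * i)) y = (nn g ^ i) y := by
  induction i with
  | zero => simp
  | succ i ih =>
    intro y h
    rw [mul_add, ← NN_pow_nn, ih _ h]
    exact sub_eq_zero.1 h

variable [FiniteDimensional F V]

theorem nondeg_U2_sup (hg : g ∈ SpB B) {U : Submodule F V} (hU : ∀ x ∈ U, g x ∈ U) {e : ℕ}
    (h0 : ∀ x ∈ U, (NN g ^ (e + 1)) x = 0) (h1 : ∀ x ∈ U, B ((NN g ^ e) x) x = 0) {v w : V}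
    (hv : v ∈ U) (hw : w ∈ U) (h : B ((NN g ^ e) v) w ≠ 0) : NondegOn B (U2 g v ⊔ U2 g w) := by
  have i : ∀ x ∈ U2 g v ⊔ U2 g w, g x ∈ U2 g v ⊔ U2 g w :=
    sup_inv' (T := g.toLinearMap) (U2_inv v) (U2_inv w)
  have mv : v ∈ U2 g v ⊔ U2 g w := Submodule.mem_sup_left (mem_U2 v)
  have mw : w ∈ U2 g v ⊔ U2 g w := Submodule.mem_sup_right (mem_U2 w)
  refine nondeg_two (N := NN g) (e := e) mv mw (fun y hy => ?_) (fun y hy => ⟨_,
    sub_mem (symm_mem i y hy) hy, fun x => NN_adj hg x y⟩) (fun y hy => h0 y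
      (sup_le (U2_le hU hv) (U2_le hU hw) hy)) (h1 v hv) (h1 w hw) h fun k => h ?_
  · let W := Submodule.span F {v, w} ⊔ (U2 g v ⊔ U2 g w).map (NN g)
    have m : ∀ x ∈ U2 g v ⊔ U2 g w, NN g x ∈ W := fun x hx =>
      Submodule.mem_sup_right (Submodule.mem_map_of_mem hx)
    have le : W ≤ U2 g v ⊔ U2 g w := sup_le (Submodule.span_le.2 (by
      rintro _ (rfl | rfl) <;> assumption)) (by rintro _ ⟨x, hx, rfl⟩; exact sub_mem (i x hx) hx)
    have n : ∀ x ∈ W, nn g x ∈ W := fun x hx => by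
      convert m _ (sub_mem (le hx) (symm_mem i _ (le hx))) using 1
      simp [nn_apply, NN_apply]; abel
    obtain ⟨_, h1, _, ⟨z, hz, rfl⟩, rfl⟩ := Submodule.mem_sup.1 (sup_le
      (sup_le (cyc_le n (Submodule.mem_sup_left (mem_span_pair_left v w))) (cyc_le n (m v mv)))
      (sup_le (cyc_le n (Submodule.mem_sup_left (mem_span_pair_right v w))) (cyc_le n (m w mw))) hy)
    obtain ⟨a, b, rfl⟩ := Submodule.mem_span_pair.1 h1
    exact ⟨a, b, z, hz, rfl⟩
  · simpa [h1 v hv, h1 w hw, k] using h1 _ (add_mem hv hw)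

theorem exists_unip_piece (hB : B.Nondegenerate) (hA : B.IsAlt) (hg : g ∈ SpB B)
    {U : Submodule F V} (hn : NondegOn B U) (hU : ∀ x ∈ U, g x ∈ U) {a : ℕ}
    (h0 : ∀ x ∈ U, (nn g ^ (a + 1)) x = 0) (h1 : ∃ x ∈ U, (nn g ^ a) x ≠ 0)
    (h2 : ∀ x ∈ U, B ((nn g ^ a) (NN g x)) x = 0) :
    ∃ W ≤ U, W ≠ ⊥ ∧ NondegOn B W ∧ (∀ x ∈ W, g x ∈ W) ∧ PP B g W := by
  have par := parity (N := NN g) NN_nn fun i x => by rw [← NN_pow_nn, g.map_eq_zero_iff]
  have iso := cyc_iso hA (nn_adj hg) (nn_alt hA hg)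
  have mN : ∀ x ∈ U, NN g x ∈ U := fun x hx => sub_mem (hU x hx) hx
  suffices ∃ e, ∃ v ∈ U, ∃ w ∈ U, (∀ x ∈ U, (NN g ^ (e + 1)) x = 0) ∧
      (∀ x ∈ U, B ((NN g ^ e) x) x = 0) ∧ B ((NN g ^ e) v) w ≠ 0 ∧ PP B g (U2 g v ⊔ U2 g w) by
    obtain ⟨e, v, hv, w, hw, k0, k1, k2, k3⟩ := this
    refine ⟨_, sup_le (U2_le hU hv) (U2_le hU hw), fun e => k2 ?_,
      nondeg_U2_sup hg hU k0 k1 hv hw k2, sup_inv' (T := g.toLinearMap) (U2_inv v) (U2_inv w), k3⟩
    rw [(Submodule.eq_bot_iff _).1 e w (Submodule.mem_sup_right (mem_U2 w)), map_zero]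
  by_cases hc : ∀ x ∈ U, NN g ((nn g ^ a) x) = 0
  · obtain ⟨v, hv, h1⟩ := h1
    have k0 : ∀ x ∈ U, (NN g ^ (2 * a + 1)) x = 0 := fun x hx => by
      rw [pow_succ', End.mul_apply, NN_top a x (hc x hx), hc x hx]
    obtain ⟨w, hw, k1, k2⟩ := exists_orth_in hB hA hn (cyc_le (nn_mem hU) (mN v hv))
      (pow_mem (nn_mem hU) a v hv) fun t => h1 <| par a _ (k0 v hv) (by
        rcases a with _ | a
        · exact .inl rfl
        · exact .inr fun t => h1 ((NN_top _ v (hc v hv)).symm.trans t)) _ t (hc v hv)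
    refine ⟨2 * a, v, hv, w, hw, k0, fun x hx => ?_, by rwa [NN_top a v (hc v hv)],
      cyc (nn g) v ⊔ cyc (nn g) (NN g.symm w), cyc (nn g) (NN g v) ⊔ cyc (nn g) w, ?_,
      iso_sup hA (iso _) (iso _) (cyc_orth (nn_adj hg) fun x hx => ?_),
      iso_sup hA (iso _) (iso _) (cyc_orth (nn_adj hg) k1), sup_inv (T := NN g)
        (cyc_map NN_nn (sup_inv' cyc_inv cyc_inv) (Submodule.mem_sup_left (mem_cyc _ _)))
        (cyc_map NN_nn (sup_inv' cyc_inv cyc_inv) (Submodule.mem_sup_right ?_))⟩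
    · rw [NN_top a x (hc x hx)]
      simpa using alt_aeval hA (nn_adj hg) (nn_alt hA hg) (X ^ a) x
    · rw [sup_sup_sup_comm, sup_comm _ (cyc _ w)]
      congr 1
      have i := sup_inv' (T := nn g) (cyc_inv (v := w)) (cyc_inv (v := NN g.symm w))
      refine le_antisymm (sup_le le_sup_left (cyc_le (U2_nn w) (sub_mem
        (symm_mem (U2_inv w) w (mem_U2 w)) (mem_U2 w)))) (sup_le le_sup_left (cyc_le i ?_))
      convert sub_mem (i w (Submodule.mem_sup_left (mem_cyc _ _)))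
        (Submodule.mem_sup_right (mem_cyc _ _)) using 1
      simp [nn]
    · rw [← NN_adj hg]
      exact k1 _ (cyc_map NN_nn cyc_inv (mem_cyc _ _) x hx)
    · convert neg_mem (cyc_inv w (mem_cyc (nn g) w)) using 1
      simp [nn_apply, NN_apply]; abel
  · push Not at hc
    obtain ⟨v, hv, h1⟩ := hc
    have k : ∀ x ∈ U, NN g ((nn g ^ a) (NN g x)) = 0 := fun x hx => by
      rw [comm_pow NN_nn, ← g_nn', ← show g _ = (nn g ^ a) (g _) from comm_pow g_nn a _,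
        ← End.mul_apply (nn g ^ a), ← pow_succ, h0 x hx, map_zero]
    have k' : ∀ x ∈ U, (NN g ^ (2 * a + 1)) x = (nn g ^ a) (NN g x) := fun x hx => NN_top a _ (k x hx)
    have k0 : ∀ x ∈ U, (NN g ^ (2 * a + 1 + 1)) x = 0 := fun x hx => by
      rw [pow_succ', End.mul_apply, k' x hx, k x hx]
    rw [comm_pow NN_nn] at h1
    obtain ⟨w, hw, k1, k2⟩ := exists_orth_in hB hA hn (cyc_le (nn_mem hU) hv)
      (pow_mem (nn_mem hU) a _ (mN v hv)) fun t => h1 <| par (a + 1) _ (k0 v hv)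
        (.inr fun t => h1 ((k' v hv).symm.trans t)) _ t (k v hv)
    have o := cyc_orth (nn_adj hg) k1
    refine ⟨2 * a + 1, v, hv, w, hw, k0, fun x hx => (k' x hx).symm ▸ h2 x hx, by rwa [k' v hv],
      cyc (nn g) v ⊔ cyc (nn g) w, cyc (nn g) (NN g v) ⊔ cyc (nn g) (NN g w), sup_sup_sup_comm ..,
      iso_sup hA (iso _) (iso _) o,
      iso_sup hA (iso _) (iso _) (cyc_orth (nn_adj hg) ?_), sup_inv (T := NN g)
        (cyc_map NN_nn (sup_inv' cyc_inv cyc_inv) (Submodule.mem_sup_left (mem_cyc _ _)))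
        (cyc_map NN_nn (sup_inv' cyc_inv cyc_inv) (Submodule.mem_sup_right (mem_cyc _ _)))⟩
    rintro _ ⟨r, rfl⟩
    rw [← comm_aeval NN_nn, NN_adj hg, show NN g.symm (NN g w) = -nn g w by
      simp [nn_apply, NN_apply]; abel, map_neg, o _ ⟨r, rfl⟩ _ (cyc_inv w (mem_cyc _ _)), neg_zero]

/-- `g - g⁻¹`. -/
def cc (g : V ≃ₗ[F] V) : End F V := NN g - NN g.symm

/-- A non-degenerate invariant subspace on which `g + 1` is nilpotent of odd index. -/
def WD (B : LinearMap.BilinForm F V) (g : V ≃ₗ[F] V) (U : Submodule F V) : Prop :=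
  (2 : F) ≠ 0 ∧ ∃ W ≤ U, NondegOn B W ∧ (∀ x ∈ W, g x ∈ W) ∧ ∃ k D : ℕ,
    (∀ x ∈ W, (cc g ^ (2 * k + 1)) x = 0) ∧ (∃ x ∈ W, (cc g ^ (2 * k)) x ≠ 0) ∧
      ∀ x ∈ W, ((g.toLinearMap + 1) ^ D) x = 0

omit [FiniteDimensional F V] in
theorem eq_zero_of_coprime {s : End F V} {p q : F[X]} (h : IsCoprime p q) {x : V}
    (hp : aeval s p x = 0) (hq : aeval s q x = 0) : x = 0 := by
  obtain ⟨a, b, e⟩ := h
  simpa [hp, hq] using (congrArg (fun r => aeval s r x) e).symm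

theorem exists_piece (hB : B.Nondegenerate) (hA : B.IsAlt) (hg : g ∈ SpB B)
    {U : Submodule F V} (hn : NondegOn B U) (hU : ∀ x ∈ U, g x ∈ U) {π : F[X]} (hπ : Irreducible π)
    (hm : π.Monic) {a : ℕ} (h0 : ∀ x ∈ U, aeval (nn g) (π ^ (a + 1)) x = 0)
    (h1 : ∃ x ∈ U, aeval (nn g) (π ^ a) x ≠ 0) :
    (∃ W ≤ U, W ≠ ⊥ ∧ NondegOn B W ∧ (∀ x ∈ W, g x ∈ W) ∧ PP B g W) ∨ WD B g U := by
  by_cases! h2 : ∃ v ∈ U, B (aeval (nn g) (π ^ a) (NN g v)) v ≠ 0
  · obtain ⟨v, hv, h2⟩ := h2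
    refine .inl ⟨_, U2_le hU hv, fun e => h2 ?_, nondeg_U2 hA hg hπ (h0 v hv) h2, U2_inv v,
      PP_U2 hA hg v⟩
    rw [(Submodule.eq_bot_iff _).1 e v (mem_U2 v), map_zero]
  have mc : ∀ x ∈ U, cc g x ∈ U := fun x hx =>
    sub_mem (sub_mem (hU x hx) hx) (sub_mem (symm_mem hU x hx) hx)
  have hc : ∀ x ∈ U, aeval (nn g) (π ^ a) (cc g x) = 0 := fun x hx =>
    hn _ (aeval_mem (nn_mem hU) _ _ (mc x hx)) fun y hy => by
      have := h2 _ (add_mem hx hy)
      simp only [map_add, LinearMap.add_apply, h2 x hx, h2 y hy] at this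
      rw [adj_aeval (nn_adj hg) _ _ x, NN_adj hg, comm_aeval NNs_nn, ← hA.neg_eq _ y] at this
      simpa [cc, sub_eq_add_neg, -map_pow, add_comm] using this
  have c2 : cc g ^ 2 = aeval (nn g) (X * (X + C 4) : F[X]) := by
    ext x; simp [pow_two, cc, nn_apply, NN_apply]; module
  have hd : π ∣ X * (X + C 4) := by
    by_contra t
    obtain ⟨x, hx, h1⟩ := h1
    refine h1 (eq_zero_of_coprime (s := nn g) (hπ.coprime_iff_not_dvd.2 t) ?_ ?_)
    · rw [← End.mul_apply, ← map_mul, ← pow_succ', h0 x hx]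
    · rw [← End.mul_apply, ← map_mul, mul_comm, map_mul, End.mul_apply, ← c2, pow_two,
        End.mul_apply, hc _ (mc x hx)]
  by_cases hX : π = X
  · subst hX
    exact .inl (exists_unip_piece hB hA hg hn hU (a := a) (by simpa using h0) (by simpa using h1)
      (by simpa using h2))
  obtain rfl : π = X + C 4 := eq_of_monic_of_associated hm (monic_X_add_C _)
    (hπ.associated_of_dvd (by simpa [sub_neg_eq_add] using irreducible_X_sub_C (-4 : F))
      ((hπ.prime.dvd_or_dvd hd).resolve_left fun t => hX (eq_of_monic_of_associated hm monic_X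
        (hπ.associated_of_dvd irreducible_X t))))
  have h4 : (4 : F) ≠ 0 := fun t => hX (by simp [t])
  have c3 : ∀ x, (cc g ^ (2 * a)) x = aeval (nn g) (X ^ a : F[X]) (aeval (nn g) ((X + C 4) ^ a : F[X]) x) :=
    fun x => by rw [pow_mul, c2, ← map_pow, mul_pow, map_mul, End.mul_apply]
  refine .inr ⟨fun t => h4 (by linear_combination 2 * t), U, le_rfl, hn, hU, a, 2 * (a + 1),
    fun x hx => by rw [pow_succ, End.mul_apply, c3, hc x hx, map_zero], ?_, fun x hx => ?_⟩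
  · obtain ⟨x, hx, h1⟩ := h1
    refine ⟨x, hx, fun t => h1 (eq_zero_of_coprime (q := X + C 4) (IsCoprime.pow_left
      ⟨-C 4⁻¹, C 4⁻¹, by simp [mul_add, ← C_mul, h4]⟩) ((c3 x).symm.trans t) ?_)⟩
    rw [← End.mul_apply, ← map_mul, ← pow_succ', h0 x hx]
  · have e : (g.toLinearMap + 1) ^ 2 = g.toLinearMap * aeval (nn g) (X + C 4 : F[X]) := by
      ext x; simp [pow_two, nn_apply]; module
    rw [pow_mul, e, Commute.mul_pow (LinearMap.ext (comm_aeval g_nn _)), End.mul_apply, ← map_pow,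
      h0 x hx, map_zero]

omit [FiniteDimensional F V] in
theorem exists_top {T : End F V} {U : Submodule F V} {D : ℕ} (h : ∀ x ∈ U, (T ^ D) x = 0)
    (h0 : U ≠ ⊥) : ∃ a, (∀ x ∈ U, (T ^ (a + 1)) x = 0) ∧ ∃ x ∈ U, (T ^ a) x ≠ 0 := by
  induction D with
  | zero => exact absurd ((Submodule.eq_bot_iff _).2 h) h0
  | succ D ih =>
    by_cases! k : ∀ x ∈ U, (T ^ D) x = 0
    exacts [ih k, ⟨D, h, k⟩]

theorem exists_primary (hA : B.IsAlt) (hg : g ∈ SpB B) {U : Submodule F V} (hn : NondegOn B U)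
    (hU : ∀ x ∈ U, g x ∈ U) (h0 : U ≠ ⊥) : ∃ W ≤ U, W ≠ ⊥ ∧ NondegOn B W ∧ (∀ x ∈ W, g x ∈ W) ∧
      ∃ π : F[X], Irreducible π ∧ π.Monic ∧ ∃ D, ∀ x ∈ W, (aeval (nn g) π ^ D) x = 0 := by
  obtain ⟨π, hπ, hm, z, hz, z0, hz'⟩ : ∃ π : F[X], Irreducible π ∧ π.Monic ∧ ∃ z ∈ U, z ≠ 0 ∧
      aeval (nn g) π z = 0 := by
    by_contra! k
    have : ∀ r : F[X], r ≠ 0 → ∀ z ∈ U, aeval (nn g) r z = 0 → z = 0 := fun r => by
      induction r using WfDvdMonoid.induction_on_irreducible with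
      | zero => simp
      | unit u hu => exact fun _ z _ h => eq_zero_of_coprime (isCoprime_zero_right.2 hu) h (by simp)
      | mul r π hr hπ ih =>
        classical
        intro _ z hz h
        refine ih hr z hz (by_contra fun t => k _ ((associated_normalize π).irreducible hπ)
          (monic_normalize hπ.ne_zero) _ (aeval_mem (nn_mem hU) r z hz) t ?_)
        rw [normalize_apply, mul_comm, map_mul, End.mul_apply, ← End.mul_apply (aeval _ π), ← map_mul,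
          h, map_zero]
    exact h0 ((Submodule.eq_bot_iff _).2 fun z hz => this _ (nn g).charpoly_monic.ne_zero z hz
      (by rw [LinearMap.aeval_self_charpoly]; rfl))
  have i := aeval_mem (nn_mem hU) π
  obtain ⟨D, hD, h1⟩ := ((LinearMap.eventually_isCompl_ker_pow_range_pow
    ((aeval (nn g) π).restrict i)).and (Filter.eventually_ge_atTop 1)).exists
  refine ⟨U ⊓ LinearMap.ker (aeval (nn g) π ^ D), inf_le_left, fun e => z0 ?_, fun x hx k =>
    hn x hx.1 fun y hy => ?_, fun x hx => ⟨hU x hx.1, ?_⟩, π, hπ, hm, D, fun x hx => hx.2⟩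
  · refine (Submodule.eq_bot_iff _).1 e z ⟨hz, ?_⟩
    obtain ⟨D, rfl⟩ := Nat.exists_eq_add_of_le' h1
    rw [SetLike.mem_coe, LinearMap.mem_ker, pow_succ, End.mul_apply, hz', map_zero]
  · obtain ⟨a, ha, _, ⟨b, rfl⟩, e⟩ := Submodule.mem_sup.1 (hD.sup_eq_top.ge
      (Submodule.mem_top (x := (⟨y, hy⟩ : U))))
    rw [LinearMap.mem_ker, Module.End.pow_restrict] at ha
    rw [Module.End.pow_restrict] at e
    rw [show y = a + (aeval (nn g) π ^ D) b from (congrArg Subtype.val e).symm, map_add,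
      k _ ⟨a.2, congrArg Subtype.val ha⟩, ← map_pow, ← adj_aeval (nn_adj hg), map_pow, hx.2]
    simp
  · rw [SetLike.mem_coe, LinearMap.mem_ker, ← map_pow,
      ← show g _ = aeval (nn g) (π ^ D) (g _) from comm_aeval g_nn _ _, map_pow, hx.2, map_zero]

omit [FiniteDimensional F V] in
theorem PP.sup (hA : B.IsAlt) {f : V → V} {U W : Submodule F V} (h : PP B f U) (h' : PP B f W)
    (hf : ∀ x y, f (x + y) = f x + f y) (k : ∀ x ∈ U, ∀ y ∈ W, B x y = 0) : PP B f (U ⊔ W) := by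
  obtain ⟨L, L', rfl, a, b, c⟩ := h
  obtain ⟨M, M', rfl, a', b', c'⟩ := h'
  refine ⟨L ⊔ M, L' ⊔ M', sup_sup_sup_comm .., iso_sup hA a a' fun x hx y hy =>
    k x (Submodule.mem_sup_left hx) y (Submodule.mem_sup_left hy), iso_sup hA b b' fun x hx y hy =>
    k x (Submodule.mem_sup_right hx) y (Submodule.mem_sup_right hy), fun x hx => ?_⟩
  obtain ⟨z, hz, y, hy, rfl⟩ := Submodule.mem_sup.1 hx
  rw [hf, add_sub_add_comm]
  exact Submodule.add_mem_sup (c z hz) (c' y hy)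

theorem orth_inv (hg : g ∈ SpB B) {W : Submodule F V} (h : ∀ x ∈ W, g x ∈ W) :
    ∀ x ∈ orth B W, g x ∈ orth B W := fun x hx y hy => by
  rw [← SpB_symm_left hg]; exact hx _ (symm_mem h y hy)

theorem PP_or_WD (hB : B.Nondegenerate) (hA : B.IsAlt) (hg : g ∈ SpB B) (U : Submodule F V)
    (hn : NondegOn B U) (hU : ∀ x ∈ U, g x ∈ U) : PP B g U ∨ WD B g U := by
  induction h : finrank F U using Nat.strong_induction_on generalizing U with | _ d ih =>
  by_cases h0 : U = ⊥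
  · exact .inl ⟨⊥, ⊥, by simp [h0], by simp, by simp, by simp⟩
  obtain ⟨U₀, l0, n0, a0, b0, π, hπ, hm, D, hD⟩ := exists_primary hA hg hn hU h0
  obtain ⟨a, h1, h2⟩ := exists_top hD n0
  rcases exists_piece hB hA hg a0 b0 hπ hm (a := a) (by simpa using h1) (by simpa using h2) with
    ⟨W, l, n, a1, b1, c1⟩ | ⟨t, W, l, r⟩
  swap
  · exact .inr ⟨t, W, l.trans l0, r⟩
  have G := good_of_isAlt B hB hA
  have e : W ⊔ U ⊓ orth B W = U := by
    rw [inf_comm, ← sup_inf_assoc_of_le _ (l.trans l0), (G.isCompl_orth a1).sup_eq_top, top_inf_eq]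
  rcases ih _ (h ▸ Submodule.finrank_lt_finrank_of_lt (lt_of_le_of_ne inf_le_left fun t => n
      ((G.isCompl_orth a1).disjoint.eq_bot_of_le ((l.trans l0).trans (inf_eq_left.1 t)))))
      (U ⊓ orth B W) (fun x hx k => hn x hx.1 fun y hy => by
        obtain ⟨w, hw, z, hz, rfl⟩ := Submodule.mem_sup.1 (e.ge hy)
        rw [map_add, k z hz, G.mem_orth'.1 hx.2 w hw, add_zero])
      (fun x hx => ⟨hU x hx.1, orth_inv hg b1 x hx.2⟩) rfl with c | ⟨t, W', l', r⟩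
  · exact .inl (e ▸ c1.sup hA c (map_add g) fun x hx y hy => hy.2 x hx)
  · exact .inr ⟨t, W', l'.trans inf_le_left, r⟩

end

end Cfsg.Lib.Known.SC
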