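import Cfsg.Agent.Class.SpStab
import Cfsg.Agent.Known.GLSim

/-!
Commutators in symplectic groups through a pair of opposite Siegel parabolic subgroups.
-/

set_option autoImplicit false

namespace Cfsg.Lib.Known.SC

open Module Polynomial Cfsg.Lib.Class

/-- `x` is a commutator. -/
def IsCm {G : Type*} [Group G] (x : G) : Prop := ∃ a b : G, x = a * b * a⁻¹ * b⁻¹

theorem IsCm.map {G H : Type*} [Group G] [Group H] {x : G} (h : IsCm x) (f : G →* H) :
    IsCm (f x) := by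
  obtain ⟨a, b, rfl⟩ := h
  exact ⟨f a, f b, by simp⟩

variable {F V : Type*} [Field F] [AddCommGroup V] [Module F V] {B : LinearMap.BilinForm F V}

/-- `U` is the sum of two isotropic subspaces, `g - 1` mapping the first into the second. -/
def PP (B : LinearMap.BilinForm F V) (g : V → V) (U : Submodule F V) : Prop :=
  ∃ L L' : Submodule F V, L ⊔ L' = U ∧ (∀ x ∈ L, ∀ y ∈ L, B x y = 0) ∧
    (∀ x ∈ L', ∀ y ∈ L', B x y = 0) ∧ ∀ x ∈ L, g x - x ∈ L'

theorem adj_aeval {f f' : End F V} (h : ∀ x y, B (f x) y = B x (f' y)) (r : F[X]) (x y : V) :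
    B (aeval f r x) y = B x (aeval f' r y) := by
  induction r using Polynomial.induction_on generalizing x y with
  | C a => simp
  | add p q hp hq => simp [hp, hq]
  | monomial k a ih =>
    rw [pow_succ, ← mul_assoc, map_mul, aeval_X, End.mul_apply, ih, h, mul_comm _ X,
      map_mul _ X, aeval_X, End.mul_apply]

theorem lag_mem {L L' : Submodule F V} (h : LagPair B L L') (hB : B.Nondegenerate) {v : V}
    (hv : ∀ x ∈ L, B v x = 0) : v ∈ L := by
  obtain ⟨a, ha, b, hb, rfl⟩ := h.exists_add v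
  have : b = 0 := hB.1 _ fun z => by
    obtain ⟨c, hc, d, hd, rfl⟩ := h.exists_add z
    simpa [h.left a ha c hc, h.right b hb d hd] using hv c hc
  simpa [this]

theorem lagPair_of_sup (hB : B.Nondegenerate) {L L' : Submodule F V} (h : L ⊔ L' = ⊤)
    (h1 : ∀ x ∈ L, ∀ y ∈ L, B x y = 0) (h2 : ∀ x ∈ L', ∀ y ∈ L', B x y = 0) : LagPair B L L' :=
  ⟨h1, h2, Submodule.disjoint_def.2 fun x a b => hB.1 x fun z => by
    obtain ⟨c, hc, d, hd, rfl⟩ := Submodule.mem_sup.1 (h.ge (Submodule.mem_top (x := z)))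
    simp [h1 x a c hc, h2 x b d hd], codisjoint_iff.2 h⟩

variable [FiniteDimensional F V]

theorem conj_of_fix [Finite F] (hB : B.Nondegenerate) {L L' : Submodule F V} (h : LagPair B L L')
    {y : V ≃ₗ[F] V} (hy : y ∈ SpB B) (hL : ∀ x ∈ L, y x ∈ L) {p : F[X]}
    (h0 : ∀ x ∈ L, aeval y.toLinearMap p x = 0) (h1 : ∀ z ∈ L', ∃ x, aeval y.toLinearMap p x = z)
    {u : V ≃ₗ[F] V} (hu : u ∈ fixSub (SpB B) L) : ∃ k ∈ SpB B, y * u = k⁻¹ * y * k := by
  have := Module.finite_of_finite F (M := V)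
  have : Finite (V ≃ₗ[F] V) := DFunLike.finite _
  let f : fixSub (SpB B) L → fixSub (SpB B) L := fun k => ⟨y⁻¹ * k⁻¹ * y * k,
    mul_mem (mul_mem (mul_mem (inv_mem hy) (inv_mem k.2.1)) hy) k.2.1, fun x hx => by
      simp [k.2.2 x hx, show k.1.symm (y x) = y x from (k⁻¹).2.2 _ (hL x hx)]⟩
  have hf : Function.Injective f := fun k k' e => by
    have e1 : ((k' * k⁻¹ : fixSub (SpB B) L) : V ≃ₗ[F] V) * y = y * (k' * k⁻¹ : fixSub (SpB B) L) := by
      have : y⁻¹ * k.1⁻¹ * y * k = y⁻¹ * k'.1⁻¹ * y * k' := congrArg Subtype.val e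
      calc _ = k'.1 * y * (y⁻¹ * k.1⁻¹ * y * k) * k.1⁻¹ := by simp [mul_assoc]
        _ = _ := by rw [this]; simp [mul_assoc]
    rw [eq_comm, ← mul_inv_eq_one]
    generalize k' * k⁻¹ = t at e1
    have e2 : ∀ v, t.1 v - v ∈ L := fun v => lag_mem h hB fun x hx => by
      rw [map_sub, LinearMap.sub_apply, sub_eq_zero, ← mem_SpB.1 t.2.1 v x, t.2.2 x hx]
    refine Subtype.ext (LinearEquiv.ext fun v => ?_)
    obtain ⟨a, ha, b, hb, rfl⟩ := h.exists_add v
    obtain ⟨x, rfl⟩ := h1 b hb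
    have := intertwine_aeval (f := y.toLinearMap) (g := y.toLinearMap) (t.1.toLinearMap - 1)
      (fun v => by simpa using congrArg (fun s : V ≃ₗ[F] V => s v) e1) p x
    rw [LinearMap.sub_apply t.1.toLinearMap 1 x, End.one_apply, LinearEquiv.coe_coe,
      h0 _ (e2 x)] at this
    simpa [t.2.2 a ha, sub_eq_zero] using this
  obtain ⟨k, hk⟩ := Finite.surjective_of_injective hf ⟨u, hu⟩
  refine ⟨k, k.2.1, ?_⟩
  rw [← show y⁻¹ * k.1⁻¹ * y * k = u from congrArg Subtype.val hk]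
  group

theorem isCm_of_levi [Finite F] (hB : B.Nondegenerate) {L L' : Submodule F V}
    (h : LagPair B L L') (g e y z : SpB B) (he : ∀ t, e * t = t * e)
    (hg : ∀ x ∈ L, (e * g).1 x - x ∈ L') (hL : ∀ x ∈ L, y.1 x ∈ L) (hL' : ∀ x ∈ L', y.1 x ∈ L')
    {p : F[X]} (h0 : ∀ x ∈ L, aeval y.1.toLinearMap p x = 0)
    (h1 : ∀ x ∈ L, aeval y.1.symm.toLinearMap p x = 0 → x = 0) (hz : z * y = e * y * z) :
    IsCm g := by
  have inv : ∀ {W : Submodule F V}, (∀ x ∈ W, y.1 x ∈ W) → ∀ x ∈ W, y.1.symm x ∈ W := fun hW x hx =>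
    (Form.mem_stab.1 (Form.mem_stab_of_forall_mem (B := B) (g := y) hW) _).2 (by simpa)
  have surj : ∀ {W : Submodule F V} {f : End F V}, (∀ x ∈ W, f x ∈ W) →
      (∀ x ∈ W, aeval f p x = 0 → x = 0) → ∀ z ∈ W, ∃ x ∈ W, aeval f p x = z := by
    intro W f hf hi z hz
    have i := fun x => intertwine_aeval (f := f.restrict hf) (g := f) W.subtype (fun _ => rfl) p x
    obtain ⟨x, hx⟩ := LinearMap.injective_iff_surjective.1 ((injective_iff_map_eq_zero
      (aeval (f.restrict hf) p)).2 fun x hx => Subtype.ext (hi x x.2 (by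
        simpa [hx] using (i x).symm))) ⟨z, hz⟩
    exact ⟨x, x.2, by simpa [hx] using (i x).symm⟩
  have s1 := surj (f := y.1.symm.toLinearMap) (inv hL) h1
  have a1 := adj_aeval (f := y.1.symm.toLinearMap) (f' := y.1.toLinearMap) (SpB_symm_left y.2) p
  have a2 := adj_aeval (f := y.1.toLinearMap) (f' := y.1.symm.toLinearMap)
    (fun a b => (SpB_symm_right y.2 a b).symm) p
  have mem : ∀ {W : Submodule F V} {f : End F V}, (∀ x ∈ W, f x ∈ W) →
      ∀ x ∈ W, aeval f p x ∈ W := fun {W f} hf x hx => by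
    rw [show aeval f p x = _ from (intertwine_aeval (f := f.restrict hf) (g := f) W.subtype
      (fun _ => rfl) p ⟨x, hx⟩).symm]
    exact Subtype.property _
  have s2 := surj (f := y.1.toLinearMap) hL' fun x hx h2 => h.eq_zero (lag_mem h hB fun w hw => by
    obtain ⟨w', -, rfl⟩ := s1 w hw
    rw [← a2, h2, LinearMap.map_zero₂]) hx
  have h0' : ∀ x ∈ L', aeval y.1.symm.toLinearMap p x = 0 := fun x hx =>
    h.eq_zero (lag_mem h hB fun w hw => by rw [a1, h0 w hw, map_zero])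
      (mem (f := y.1.symm.toLinearMap) (inv hL') x hx)
  let m : V →ₗ[F] V := LinearMap.ofIsCompl h.compl ((e * g).1.toLinearMap ∘ₗ L.subtype) L'.subtype
  have m1 : ∀ x ∈ L, m x = (e * g).1 x := fun x hx => LinearMap.ofIsCompl_apply_left _ (⟨x, hx⟩ : L)
  have m2 : ∀ x ∈ L', m x = x := fun x hx => LinearMap.ofIsCompl_apply_right _ (⟨x, hx⟩ : L')
  obtain ⟨u, hu, eu⟩ := exists_SpB_of_linear hB m fun a b => by
    obtain ⟨a, ha, a', ha', rfl⟩ := h.exists_add a
    obtain ⟨b, hb, b', hb', rfl⟩ := h.exists_add b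
    have i1 := h.right _ (hg a ha) _ hb'
    have i2 := h.right _ ha' _ (hg b hb)
    simp only [map_add, LinearMap.add_apply, m1 a ha, m1 b hb, m2 a' ha', m2 b' hb', map_sub,
      LinearMap.sub_apply, sub_eq_zero, (e * g).2 a b] at i1 i2 ⊢
    rw [i1, i2]
  obtain ⟨k, hk, ek⟩ := conj_of_fix hB h y.2 hL h0 (fun z hz => (s2 z hz).imp fun _ => And.right)
    (u := u⁻¹ * (e * g).1) ⟨mul_mem (inv_mem hu) (e * g).2, fun x hx => by
      rw [LinearEquiv.mul_apply, ← m1 x hx, ← eu]; simp⟩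
  obtain ⟨k', hk', ek'⟩ := conj_of_fix hB h.symm (inv_mem y.2) (inv hL') h0'
    (fun z hz => (s1 z hz).imp fun _ => And.right) (u := u) ⟨hu, fun x hx => by rw [eu, m2 x hx]⟩
  have ek : y * ((⟨u, hu⟩ : SpB B)⁻¹ * (e * g)) = (⟨k, hk⟩ : SpB B)⁻¹ * y * ⟨k, hk⟩ := Subtype.ext ek
  have ek' : y⁻¹ * ⟨u, hu⟩ = (⟨k', hk'⟩ : SpB B)⁻¹ * y⁻¹ * ⟨k', hk'⟩ := Subtype.ext ek'
  generalize (⟨u, hu⟩ : SpB B) = u, (⟨k, hk⟩ : SpB B) = k, (⟨k', hk'⟩ : SpB B) = k' at ek ek'
  refine ⟨y * k'⁻¹ * z * k, k⁻¹ * y⁻¹ * k, ?_⟩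
  have e1 : g = e⁻¹ * (y * (y⁻¹ * u) * y⁻¹ * (y * (u⁻¹ * (e * g)))) := by group
  have e2 : z * y⁻¹ * z⁻¹ = y⁻¹ * e⁻¹ := by
    rw [show y⁻¹ * e⁻¹ = z * (e * y * z)⁻¹ by group, ← hz]; group
  have e3 : ∀ t, e⁻¹ * t = t * e⁻¹ := fun t => (show Commute e t from he t).inv_left
  rw [e1, ek, ek']
  calc _ = y * k'⁻¹ * (y⁻¹ * e⁻¹) * (k' * y⁻¹ * (k⁻¹ * y * k)) := by
        rw [← mul_assoc _ y⁻¹, ← e3]; group
    _ = _ := by rw [← e2]; group

theorem isCm_of_good [Finite F] (hB : B.Nondegenerate) (hA : B.IsAlt) {L L' : Submodule F V}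
    (h : LagPair B L L') (g e : SpB B) (he : ∀ t, e * t = t * e)
    (hg : ∀ x ∈ L, (e * g).1 x - x ∈ L') (A : L ≃ₗ[F] L) {p : F[X]}
    (h0 : aeval A.toLinearMap p = 0) (h1 : ∀ x, aeval A.symm.toLinearMap p x = 0 → x = 0)
    (hz : ∀ y : SpB B, (∀ x : L, y.1 x = A x) → (∀ x ∈ L', y.1 x ∈ L') →
      ∃ z, z * y = e * y * z) : IsCm g := by
  obtain ⟨y, hy, e1, -, e2⟩ := h.exists_extend hB hA h A
  have hL' : ∀ x ∈ L', y x ∈ L' := fun x hx => e2 ▸ Submodule.mem_map_of_mem hx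
  obtain ⟨z, hz⟩ := hz ⟨y, hy⟩ e1 hL'
  refine isCm_of_levi hB h g e ⟨y, hy⟩ z he hg (fun x hx => (e1 ⟨x, hx⟩).symm ▸ (A _).2) hL'
    (p := p) (fun x hx => ?_) (fun x hx h2 => ?_) hz
  · simpa [h0] using (intertwine_aeval (f := A.toLinearMap) (g := y.toLinearMap) L.subtype
      (fun v => (e1 v).symm) p ⟨x, hx⟩).symm
  · refine congrArg Subtype.val (h1 ⟨x, hx⟩ (Subtype.ext ?_))
    exact (intertwine_aeval (f := A.symm.toLinearMap) (g := y.symm.toLinearMap) L.subtype
      (fun v => by simp [LinearEquiv.eq_symm_apply, e1]) p ⟨x, hx⟩).trans h2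

theorem exists_good_aux {m d : ℕ} (hm : finrank F V = m) (hd : 0 < d) (hdm : d < m)
    (h : ∀ a : AlgebraicClosure F, a ^ m = a ^ d + 1 → (a ^ d) ^ 2 + a ^ d + 1 ≠ 0) :
    ∃ (A : V ≃ₗ[F] V) (p : F[X]), aeval A.toLinearMap p = 0 ∧
      ∀ x, aeval A.symm.toLinearMap p x = 0 → x = 0 := by
  obtain ⟨r, rfl⟩ := Nat.exists_eq_add_of_lt hdm
  set p : F[X] := X ^ (d + r + 1) - (X ^ d + 1) with hp
  have hdeg : p.natDegree = d + r + 1 := by
    rw [hp, natDegree_sub_eq_left_of_natDegree_lt, natDegree_X_pow]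
    rw [← C_1, natDegree_add_C, natDegree_X_pow, natDegree_X_pow]; omega
  have hp0 : p ≠ 0 := by rintro e; simp [e] at hdeg
  have := finite_cyc hp0
  let e : Cyc p ≃ₗ[F] V := LinearEquiv.ofFinrankEq _ _ (by rw [finrank_cyc, hdeg, hm])
  let T : End F V := e.conj (cycX p)
  have hT : aeval T p = 0 := ((sim_conj e _).aeval_eq_zero_iff p).1 (by
    rw [aeval_cycX, cycMul_eq_zero_iff])
  have unit : ∀ q, IsCoprime p q → ∀ x, aeval T q x = 0 → x = 0 := by
    rintro q ⟨a, b, e⟩ x hx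
    simpa [hT, hx] using (congrArg (fun s => aeval T s x) e).symm
  have hi : Function.Injective T := (injective_iff_map_eq_zero T).2 fun x hx => unit X
    ((isCoprime_iff_aeval_ne_zero_of_isAlgClosed F (AlgebraicClosure F) _ _).2 fun a => by
      by_cases ha : a = 0 <;> simp [hp, ha, hd.ne']) x (by simpa)
  let A := LinearEquiv.ofInjectiveEndo T hi
  refine ⟨A, p, hT, fun x hx => unit (1 - (X ^ d + 1) * X ^ (r + 1))
    ((isCoprime_iff_aeval_ne_zero_of_isAlgClosed F (AlgebraicClosure F) _ _).2 fun a => ?_) x ?_⟩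
  · by_contra! hc
    simp only [hp, map_sub, map_add, map_pow, map_mul, aeval_X, map_one] at hc
    refine h a (sub_eq_zero.1 hc.1) ?_
    linear_combination (-a ^ d) * hc.2 - (a ^ d + 1) * hc.1
  · have k : ∀ i j, (T ^ (i + j)) ((A.symm.toLinearMap ^ i) x) = (T ^ j) x := fun i j => by
      rw [add_comm, pow_add, End.mul_apply, ← End.mul_apply (T ^ i), ← Commute.mul_pow,
        show T * A.symm.toLinearMap = 1 from LinearEquiv.ofInjectiveEndo_right_inv T hi, one_pow,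
        End.one_apply]
      rw [Commute, SemiconjBy, show T * A.symm.toLinearMap = 1 from
        LinearEquiv.ofInjectiveEndo_right_inv T hi, LinearEquiv.ofInjectiveEndo_left_inv T hi]
    have := congrArg (T ^ (d + r + 1)) hx
    have k1 := k (d + r + 1) 0
    have k2 := k d (r + 1)
    simp only [hp, map_sub, map_add, map_pow, aeval_X, map_one, LinearMap.sub_apply,
      LinearMap.add_apply, End.one_apply, map_zero, add_mul, one_mul, ← pow_add, add_zero, pow_zero,
      ← add_assoc] at this k1 k2 ⊢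
    rw [← this, k1, k2, add_comm]

theorem exists_good [Fintype F] (h2 : Fintype.card F = 2 → finrank F V ≠ 1 ∧ finrank F V ≠ 2)
    (h3 : Fintype.card F = 3 → finrank F V ≠ 1) :
    ∃ (A : V ≃ₗ[F] V) (p : F[X]), aeval A.toLinearMap p = 0 ∧
      ∀ x, aeval A.symm.toLinearMap p x = 0 → x = 0 := by
  by_cases h0 : finrank F V = 0
  · have := finrank_zero_iff.1 h0
    exact ⟨1, 0, map_zero _, fun x _ => Subsingleton.elim _ _⟩
  have ch : ∀ n, Fintype.card F = n → ((n : ℕ) : AlgebraicClosure F) = 0 := fun n hn => by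
    rw [← map_natCast (algebraMap F _), ← hn, FiniteField.cast_card_eq_zero, map_zero]
  by_cases c2 : Fintype.card F = 2
  · have t : (2 : AlgebraicClosure F) = 0 := ch 2 c2
    have := h2 c2
    have cube : ∀ a : AlgebraicClosure F, a ^ 2 + a + 1 = 0 → ∀ m, a ^ m = a ^ (m % 3) :=
      fun a ha m => pow_eq_pow_mod m (by linear_combination (a - 1) * ha)
    by_cases hm : finrank F V % 3 = 2
    · refine exists_good_aux rfl two_pos (by omega) fun a h1 h => ?_
      have h' : a ^ 2 + a + 1 = 0 := pow_eq_zero_iff two_ne_zero |>.1 (by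
        linear_combination h + (a ^ 3 + a ^ 2 + a) * t)
      rw [cube a h', hm] at h1
      simp at h1
    · refine exists_good_aux rfl one_pos (by omega) fun a h1 h => ?_
      rw [pow_one] at h h1
      rw [cube a h] at h1
      rcases (by omega : finrank F V % 3 = 0 ∨ finrank F V % 3 = 1) with e | e <;> rw [e] at h1
      · obtain rfl : a = 0 := by simpa using h1
        simp at h
      · simp at h1
  by_cases c3 : Fintype.card F = 3
  · have t : (3 : AlgebraicClosure F) = 0 := ch 3 c3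
    have := h3 c3
    refine exists_good_aux rfl one_pos (by omega) fun a h1 h => ?_
    obtain rfl : a = 1 := sub_eq_zero.1 <| pow_eq_zero_iff two_ne_zero |>.1 (by
      linear_combination h - a * t)
    simp at h1
  classical
  have := Fintype.one_lt_card (α := F)
  obtain ⟨δ, -, hδ⟩ := Finset.exists_mem_notMem_of_card_lt_card (s := ({0, 1, -1} : Finset F))
    (t := Finset.univ) (lt_of_le_of_lt Finset.card_le_three (by rw [Finset.card_univ]; omega))
  simp only [Finset.mem_insert, Finset.mem_singleton, not_or] at hδ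
  refine ⟨LinearEquiv.smulOfNeZero F V δ hδ.1, X - C δ, by ext; simp, fun x hx => ?_⟩
  obtain ⟨x, rfl⟩ := (LinearEquiv.smulOfNeZero F V δ hδ.1).surjective x
  have : (1 - δ * δ) • x = 0 := by
    rw [map_sub, aeval_X, aeval_C, LinearMap.sub_apply, LinearEquiv.coe_coe,
      LinearEquiv.symm_apply_apply] at hx
    simpa [sub_smul, mul_smul] using hx
  rcases smul_eq_zero.1 this with h | h
  · rcases mul_self_eq_one_iff.1 (sub_eq_zero.1 h).symm with h | h <;> tauto
  · simp [h]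

theorem isCm_of_PP [Fintype F] (hB : B.Nondegenerate) (hA : B.IsAlt) (g : SpB B)
    (h : PP B g.1 ⊤) (h2 : Fintype.card F = 2 → finrank F V ≠ 2 ∧ finrank F V ≠ 4)
    (h3 : Fintype.card F = 3 → finrank F V ≠ 2) : IsCm g := by
  obtain ⟨L, L', a, b, c, d⟩ := h
  have h := lagPair_of_sup hB a b c
  have := (h.finrank_eq hB).1
  obtain ⟨A, p, h0, h1⟩ := exists_good (V := L) (fun e => by have := h2 e; omega)
    (fun e => by have := h3 e; omega)
  exact isCm_of_good hB hA h g 1 (by simp) (by simpa) A h0 h1 fun y _ _ => ⟨1, by simp⟩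

/-- `-1` as an isometry. -/
def negSp (B : LinearMap.BilinForm F V) : SpB B := ⟨LinearEquiv.neg F, fun u v => by simp⟩

omit [FiniteDimensional F V] in
@[simp] theorem negSp_apply (x : V) : (negSp B).1 x = -x := rfl

theorem exists_anti (h2 : (2 : F) ≠ 0) {j : ℕ} (hj : finrank F V = 2 * j) :
    ∃ (A : V ≃ₗ[F] V) (γ : V →ₗ[F] Dual F V), Function.Injective γ ∧
      (∀ x y, γ (A x) (A y) = -γ x y) ∧ aeval A.toLinearMap (X ^ 2 - X - 1 : F[X]) = 0 ∧
      ∀ x, aeval A.symm.toLinearMap (X ^ 2 - X - 1 : F[X]) x = 0 → x = 0 := by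
  let E : V ≃ₗ[F] (Fin j → F) × (Fin j → F) := LinearEquiv.ofFinrankEq _ _ (by simp; omega)
  let A₀ : ((Fin j → F) × (Fin j → F)) ≃ₗ[F] (Fin j → F) × (Fin j → F) :=
    { toFun := fun x => (x.2, x.1 + x.2), invFun := fun x => (x.2 - x.1, x.1)
      map_add' := fun x y => by simp [add_add_add_comm], map_smul' := fun x y => by simp
      left_inv := fun x => by simp, right_inv := fun x => by simp }
  have h0 : ∀ x, (E.trans (A₀.trans E.symm)) ((E.trans (A₀.trans E.symm)) x) =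
      (E.trans (A₀.trans E.symm)) x + x := fun x => E.injective (by ext <;> simp [A₀, add_comm])
  refine ⟨E.trans (A₀.trans E.symm), LinearMap.mk₂ F
    (fun y x => (E x).1 ⬝ᵥ (E y).2 - (E x).2 ⬝ᵥ (E y).1) (by intros; simp; ring)
    (by intros; simp; ring) (by intros; simp; ring) (by intros; simp; ring),
    (injective_iff_map_eq_zero _).2 fun y hy => ?_, fun x y => by simp [A₀],
    by ext; simp [-LinearEquiv.trans_apply, pow_two, h0], fun x hx => ?_⟩
  · have k := fun w => LinearMap.congr_fun hy (E.symm w)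
    simp only [LinearMap.mk₂_apply, LinearEquiv.apply_symm_apply, LinearMap.zero_apply] at k
    refine E.map_eq_zero_iff.1 (Prod.ext (dotProduct_eq_zero _ fun w => ?_)
      (dotProduct_eq_zero _ fun w => ?_))
    · simpa [dotProduct_comm] using k (0, w)
    · simpa [dotProduct_comm] using k (w, 0)
  · generalize E.trans (A₀.trans E.symm) = A at h0 hx
    obtain ⟨x, rfl⟩ := (A.trans A).surjective x
    have : (2 : F) • A x = 0 := by
      simp only [pow_two, map_sub, map_mul, aeval_X, map_one, LinearMap.sub_apply, End.mul_apply,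
        LinearEquiv.coe_coe, LinearEquiv.trans_apply, LinearEquiv.symm_apply_apply,
        End.one_apply] at hx
      rw [← neg_eq_zero, ← hx, h0 x]; module
    simpa [h2] using this

theorem isCm_of_PP_neg [Fintype F] (hB : B.Nondegenerate) (hA : B.IsAlt) (g : SpB B)
    (h : PP B (negSp B * g).1 ⊤) (h2 : (2 : F) ≠ 0) {j : ℕ} (hj : finrank F V = 4 * j) :
    IsCm g := by
  obtain ⟨L, L', a, b, c, d⟩ := h
  have h := lagPair_of_sup hB a b c
  obtain ⟨r1, r2⟩ := h.finrank_eq hB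
  obtain ⟨A, γ, hγ, h1, h0, h3⟩ := exists_anti (V := L) h2 (j := j) (by omega)
  let Ψ : L' →ₗ[F] Dual F L := (B.flip.domRestrict₁₂ L' L)
  have sep : ∀ y ∈ L', (∀ x : L, B x y = 0) → y = 0 := fun y hy k =>
    h.eq_zero (lag_mem h hB fun x hx => by rw [← hA.neg_eq, neg_eq_zero]; exact k ⟨x, hx⟩) hy
  have hΨ : Function.Injective Ψ := (injective_iff_map_eq_zero _).2 fun y hy =>
    Subtype.ext <| sep _ y.2 (LinearMap.congr_fun hy)
  let φ : L ≃ₗ[F] L' := (LinearMap.linearEquivOfInjective γ hγ (by simp)).trans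
    (LinearMap.linearEquivOfInjective Ψ hΨ (by simp [r2])).symm
  have hφ : ∀ x y : L, B x (φ y) = γ y x := fun x y => LinearMap.congr_fun
    ((LinearMap.linearEquivOfInjective Ψ hΨ (by simp [r2])).apply_symm_apply (γ y)) x
  refine isCm_of_good hB hA h g (negSp B) (fun t => by ext; simp) d A h0 h3 fun y e1 e2 => ?_
  obtain ⟨z, hz, f1, -, f2⟩ := h.exists_extend hB hA h.symm φ
  have hL : ∀ x : L, z (y.1 x) = -y.1 (z x) := fun x => by
    rw [e1, f1, f1, eq_neg_iff_add_eq_zero]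
    refine sep _ (add_mem (φ _).2 (e2 _ (φ _).2)) fun w => ?_
    obtain ⟨w, rfl⟩ := A.surjective w
    rw [map_add, hφ, h1, ← e1, mem_SpB.1 y.2, hφ, neg_add_cancel]
  refine ⟨⟨z, hz⟩, Subtype.ext (LinearEquiv.ext fun v => ?_)⟩
  obtain ⟨a, ha, b, hb, rfl⟩ := h.exists_add v
  change z (y.1 _) = -y.1 (z _)
  have m : ∀ x ∈ L', z x ∈ L := fun x hx => f2 ▸ Submodule.mem_map_of_mem hx
  have : z (y.1 b) + y.1 (z b) = 0 := h.eq_zero
    (add_mem (m _ (e2 b hb)) ((e1 ⟨_, m b hb⟩).symm ▸ (A _).2)) <| lag_mem h.symm hB fun w hw => by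
      obtain ⟨t, e⟩ := (A.trans φ).surjective ⟨w, hw⟩
      rw [show w = z (y.1 t) from by rw [e1, f1]; exact congrArg Subtype.val e.symm]
      rw [map_add, LinearMap.add_apply, mem_SpB.1 hz, mem_SpB.1 y.2, hL, map_neg, mem_SpB.1 y.2,
        mem_SpB.1 hz, add_neg_cancel]
  rw [map_add, map_add, map_add, map_add, hL ⟨a, ha⟩, eq_neg_of_add_eq_zero_left this, neg_add]

end Cfsg.Lib.Known.SC
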