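import Cfsg.Agent.Known.SymSplit
import Cfsg.Agent.Char.Elementary
import Mathlib.GroupTheory.GroupAction.Blocks

/-!
Nilpotent subgroups of largest order in symmetric and alternating groups.
-/

set_option autoImplicit false

namespace Cfsg.Lib.Known

open Equiv MulAction Cfsg.Lib.Char

/-- Twice the largest order of a nilpotent subgroup of `S_n`. -/
noncomputable def nilH (n : ℕ) : ℕ := (if n % 4 = 3 then 3 else 2) * 2 ^ vf 2 n

/-- Four times the largest order of a nilpotent subgroup of `A_n`. -/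
noncomputable def nilA (n : ℕ) : ℕ :=
  if n = 0 then 4 else if n = 1 then 4 else if n = 3 then 12 else if n = 5 then 20 else
    if n = 6 then 36 else if n = 9 then 324 else nilH n

theorem nilH_of_lt {n : ℕ} (h : n < 64) : nilH n =
    (if n % 4 = 3 then 3 else 2) * 2 ^ (n / 2 + n / 4 + n / 8 + n / 16 + n / 32) := by
  rw [nilH, vf_two_of_lt h]

theorem nilA_of_lt {n : ℕ} (h : n < 64) : nilA n =
    if n = 0 then 4 else if n = 1 then 4 else if n = 3 then 12 else if n = 5 then 20 else
    if n = 6 then 36 else if n = 9 then 324 else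
    (if n % 4 = 3 then 3 else 2) * 2 ^ (n / 2 + n / 4 + n / 8 + n / 16 + n / 32) := by
  rw [nilA, nilH_of_lt h]

theorem nilA_eq {n : ℕ} (h : ¬ (n = 0 ∨ n = 1 ∨ n = 3 ∨ n = 5 ∨ n = 6 ∨ n = 9)) :
    nilA n = nilH n := by
  push Not at h
  simp [nilA, h]

theorem nilH_le_nilA (n : ℕ) : nilH n ≤ nilA n ∧ nilA n ≤ 2 * nilH n := by
  by_cases h : n = 0 ∨ n = 1 ∨ n = 3 ∨ n = 5 ∨ n = 6 ∨ n = 9
  · rw [nilH_of_lt (by omega), nilA_of_lt (by omega)]
    rcases h with rfl | rfl | rfl | rfl | rfl | rfl <;> norm_num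
  · rw [nilA_eq h]; omega

theorem two_mul_le_nilH (n : ℕ) : 2 * 2 ^ vf 2 n ≤ nilH n :=
  Nat.mul_le_mul_right _ (by split_ifs <;> omega)

theorem nilH_mul_le (a b : ℕ) : nilH a * nilH b ≤ 2 * nilH (a + b) := by
  have h1 := vf_two_eq a
  have h2 := vf_two_eq b
  have h3 := vf_two_eq (a + b)
  have h4 := vf_add_le 2 (a / 4) (b / 4)
  have h5 := vf_mono 2 (show a / 4 + b / 4 ≤ (a + b) / 4 by omega)
  have key : ∀ c d e k : ℕ, vf 2 a + vf 2 b + k ≤ vf 2 (a + b) → c * d ≤ 2 * e * 2 ^ k →
      c * 2 ^ vf 2 a * (d * 2 ^ vf 2 b) ≤ 2 * (e * 2 ^ vf 2 (a + b)) := by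
    intro c d e k h6 h7
    calc _ = c * d * 2 ^ (vf 2 a + vf 2 b) := by ring
      _ ≤ 2 * e * 2 ^ k * 2 ^ (vf 2 a + vf 2 b) := Nat.mul_le_mul_right _ h7
      _ = 2 * (e * 2 ^ (vf 2 a + vf 2 b + k)) := by ring
      _ ≤ _ := Nat.mul_le_mul_left _ (Nat.mul_le_mul_left _ (Nat.pow_le_pow_right two_pos h6))
  unfold nilH
  split_ifs
  · omega
  · exact key _ _ _ 2 (by omega) (by norm_num)
  · exact key _ _ _ 0 (by omega) (by norm_num)
  · exact key _ _ _ 1 (by omega) (by norm_num)
  · exact key _ _ _ 0 (by omega) (by norm_num)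
  · exact key _ _ _ 1 (by omega) (by norm_num)
  · exact key _ _ _ 0 (by omega) (by norm_num)
  · exact key _ _ _ 0 (by omega) (by norm_num)

theorem nilH_mono {a b : ℕ} (h : a ≤ b) : nilH a ≤ nilH b := by
  obtain ⟨c, rfl⟩ := Nat.exists_eq_add_of_le h
  have h1 := nilH_mul_le a c
  have h2 := two_mul_le_nilH c
  have h3 : 1 ≤ 2 ^ vf 2 c := Nat.one_le_two_pow
  have := Nat.mul_le_mul_left (nilH a) (show 2 ≤ nilH c by omega)
  omega

theorem nilA_mul_le {a b : ℕ} (ha : a ≠ 0) (hb : b ≠ 0) : nilA a * nilA b ≤ 4 * nilA (a + b) := by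
  have h1 := nilH_mul_le a b
  have h2 := (nilH_le_nilA (a + b)).1
  by_cases h : a = 0 ∨ a = 1 ∨ a = 3 ∨ a = 5 ∨ a = 6 ∨ a = 9
  · by_cases h' : b = 0 ∨ b = 1 ∨ b = 3 ∨ b = 5 ∨ b = 6 ∨ b = 9
    · rw [nilA_of_lt (by omega), nilA_of_lt (by omega), nilA_of_lt (by omega)]
      rcases h with rfl | rfl | rfl | rfl | rfl | rfl <;>
        rcases h' with rfl | rfl | rfl | rfl | rfl | rfl <;> first | contradiction | norm_num
    · rw [nilA_eq h']
      have := Nat.mul_le_mul_right (nilH b) (nilH_le_nilA a).2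
      rw [mul_assoc] at this
      omega
  · rw [nilA_eq h]
    have := Nat.mul_le_mul_left (nilH a) (nilH_le_nilA b).2
    rw [mul_left_comm] at this
    omega

theorem four_mul_three_pow_le {n : ℕ} (h : 24 ≤ n) : 4 * 3 ^ n ≤ 4 ^ vf 2 n := by
  induction n using Nat.strong_induction_on with
  | h n ih =>
    by_cases h1 : n < 32
    · rw [vf_two_of_lt (by omega)]
      clear ih
      interval_cases n <;> norm_num
    · obtain ⟨m, rfl⟩ : ∃ m, n = m + 8 := ⟨n - 8, by omega⟩
      have h2 := ih m (by omega) (by omega)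
      have h3 := vf_add_le 2 m 8
      rw [vf_two_of_lt (n := 8) (by norm_num)] at h3
      have h4 := Nat.pow_le_pow_right (show 0 < 4 by norm_num) h3
      rw [pow_add] at h4 ⊢
      omega

theorem four_mul_pow_le_nilA {p k n : ℕ} (hp : p.Prime) (h2 : p ≠ 2) (h : p ^ k ∣ n.factorial) :
    4 * p ^ k ≤ nilA n := by
  have h3 : 3 ≤ p := by have := hp.two_le; omega
  rw [pow_dvd_factorial_iff hp] at h
  refine (Nat.mul_le_mul_left _ (Nat.pow_le_pow_right hp.pos h)).trans ?_
  by_cases hn : n < 27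
  · have e1 : n / p / p / p = 0 := by
      rw [Nat.div_div_eq_div_mul, Nat.div_div_eq_div_mul]
      exact Nat.div_eq_of_lt (hn.trans_le (Nat.mul_le_mul h3 (Nat.mul_le_mul h3 h3)))
    rw [vf_rec hp, vf_rec hp, vf_rec hp, e1, vf_zero, nilA_of_lt (by omega)]
    by_cases hp' : p < 27
    · revert hp' h3
      revert hn
      clear h e1 h2 hp
      revert n
      revert p
      have : ∀ p < 27, ∀ n < 27, 3 ≤ p → 4 * p ^ (n / p + (n / p / p + (0 + 0))) ≤
        if n = 0 then 4 else if n = 1 then 4 else if n = 3 then 12 else if n = 5 then 20 else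
        if n = 6 then 36 else if n = 9 then 324 else
        (if n % 4 = 3 then 3 else 2) * 2 ^ (n / 2 + n / 4 + n / 8 + n / 16 + n / 32) := by
        decide +kernel
      exact fun p n h1 h2 h3 => this p h3 n h1 h2
    · rw [Nat.div_eq_of_lt (show n < p by omega), Nat.zero_div]
      clear h e1
      interval_cases n <;> norm_num
  · have e1 := four_mul_three_pow_le (n := n) (by omega)
    have e2 := sub_one_mul_vf_le hp n
    have e3 : p ^ 2 ≤ 3 ^ (p - 1) := by
      clear e2 h hp h2
      induction p, h3 using Nat.le_induction with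
      | base => norm_num
      | succ p h ih =>
        obtain ⟨q, rfl⟩ := Nat.exists_eq_add_of_le' h
        rw [show q + 3 + 1 - 1 = q + 3 - 1 + 1 by omega, pow_succ 3]
        nlinarith
    have e4 : (p ^ vf p n) ^ 2 ≤ 3 ^ n := by
      rw [← pow_mul, mul_comm, pow_mul]
      refine (Nat.pow_le_pow_left e3 _).trans ?_
      rw [← pow_mul]
      exact Nat.pow_le_pow_right (by norm_num) e2
    have e5 : 2 * p ^ vf p n ≤ 2 ^ vf 2 n := by
      rw [← Nat.pow_le_pow_iff_left two_ne_zero, ← pow_mul, mul_comm _ 2, pow_mul, mul_pow,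
        show 2 ^ 2 = 4 by norm_num]
      omega
    have e6 := two_mul_le_nilH n
    have e7 := (nilH_le_nilA n).1
    omega

theorem nilp_bound (n : ℕ) : ∀ (Ω : Type) [Fintype Ω] [DecidableEq Ω] (G : Type) [Group G]
    [MulAction G Ω] [FaithfulSMul G Ω] [Group.IsNilpotent G], Fintype.card Ω = n →
    2 * Nat.card G ≤ nilH n ∧
      ((∀ g : G, Perm.sign (toPerm g : Perm Ω) = 1) → 4 * Nat.card G ≤ nilA n) := by
  induction n using Nat.strong_induction_on with
  | h n ih =>
  intro Ω _ _ G _ _ _ _ hn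
  classical
  have : Finite G := Finite.of_injective (toPermHom G Ω) MulAction.toPerm_injective
  have hd : Nat.card G ∣ n.factorial := by
    rw [← hn, ← Nat.card_eq_fintype_card]; exact card_dvd_factorial_of_faithful
  have hA := nilH_le_nilA n
  by_cases hp : ∃ p k : ℕ, p.Prime ∧ Nat.card G = p ^ k
  · obtain ⟨p, k, hp, hk⟩ := hp
    rw [hk] at hd
    by_cases h2 : p = 2
    · subst h2
      have h3 := two_mul_le_nilH n
      have h4 := Nat.pow_le_pow_right two_pos ((pow_dvd_factorial_iff hp).1 hd)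
      refine ⟨by omega, fun hs => ?_⟩
      rcases subsingleton_or_nontrivial Ω with h | h
      · have h5 : n ≤ 1 := hn ▸ Fintype.card_le_one_iff_subsingleton.2 h
        rw [Nat.factorial_eq_one.2 h5, Nat.dvd_one] at hd
        rw [hk, hd, nilA_of_lt (by omega)]
        interval_cases n <;> norm_num
      · have h5 := two_mul_card_dvd_factorial_of_even hs
        rw [Nat.card_eq_fintype_card (α := Ω), hn, hk, ← pow_succ'] at h5
        have h6 := Nat.pow_le_pow_right two_pos ((pow_dvd_factorial_iff hp).1 h5)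
        rw [pow_succ'] at h6
        omega
    · have := four_mul_pow_le_nilA hp h2 hd
      exact ⟨by omega, fun _ => by omega⟩
  push Not at hp
  have hG1 : Nat.card G ≠ 1 := by simpa using hp 2 0 Nat.prime_two
  obtain ⟨ω⟩ : Nonempty Ω := by
    rw [← Fintype.card_pos_iff, hn]
    refine Nat.pos_of_ne_zero fun e => hG1 ?_
    rwa [e, Nat.factorial_zero, Nat.dvd_one] at hd
  by_cases htr : IsPretransitive G Ω
  · obtain ⟨p, hpp, hpd⟩ := Nat.exists_prime_and_dvd hG1
    obtain ⟨k, m, hm, hkm⟩ := Nat.exists_eq_pow_mul_and_not_dvd (Nat.card_pos (α := G)).ne' p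
      hpp.ne_one
    have hcop : (p ^ k).Coprime m := ((Nat.Prime.coprime_iff_not_dvd hpp).2 hm).pow_left k
    have h1 := Brauer.card_eq_card_ker_mul hcop hkm.dvd
    have h2 := Brauer.card_ker_rpartHom_dvd hcop hkm.dvd
    have h3 := Brauer.card_ker_lpartHom_dvd hcop hkm.dvd
    set P := (Brauer.rpartHom hcop hkm.dvd).ker
    set Q := (Brauer.lpartHom hcop hkm.dvd).ker
    have hc : ∀ a ∈ P, ∀ b ∈ Q, a * b = b * a := fun a ha b hb =>
      Brauer.commute_of_pow_eq_one_of_isNilpotent hcop ((Brauer.mem_ker_rpartHom _ _).1 ha)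
        ((Brauer.mem_ker_lpartHom _ _).1 hb)
    have hPQ : ∀ g : G, ∃ a ∈ P, ∃ b ∈ Q, g = a * b := fun g =>
      ⟨_, (Brauer.mem_ker_rpartHom _ _).2 (Parts.lpart_pow (hkm ▸ pow_card_eq_one')), _,
        (Brauer.mem_ker_lpartHom _ _).2 (Parts.rpart_pow (hkm ▸ pow_card_eq_one')),
        (Parts.lpart_mul_rpart hcop g).symm⟩
    have := faithful_orbit_of_commute hc hPQ ω
    have := faithful_orbit_of_commute (P := Q) (Q := P) (fun a ha b hb => (hc b hb a ha).symm)
      (fun g => by
        obtain ⟨a, ha, b, hb, rfl⟩ := hPQ g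
        exact ⟨b, hb, a, ha, hc a ha b hb⟩) ω
    have := Fintype.ofFinite (orbit P ω)
    have := Fintype.ofFinite (orbit Q ω)
    have hdv : ∀ (R : Subgroup G) [R.Normal], Nat.card (orbit R ω) ∣ n ∧
        Nat.card (orbit R ω) ∣ Nat.card R := fun R _ =>
      ⟨by
        rw [← hn, ← Nat.card_eq_fintype_card]
        exact (IsBlock.orbit_of_normal ω).ncard_dvd_card (nonempty_orbit ω), by
        rw [Nat.card_coe_set_eq, ← index_stabilizer]; exact Subgroup.index_dvd_card _⟩
    have h4 : Nat.card (orbit P ω) * Nat.card (orbit Q ω) ∣ n :=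
      ((hcop.coprime_dvd_left ((hdv P).2.trans h2)).coprime_dvd_right
        ((hdv Q).2.trans h3)).mul_dvd_of_dvd_of_dvd (hdv P).1 (hdv Q).1
    have h5 : ∀ (R : Subgroup G) [FaithfulSMul R (orbit R ω)], Nat.card R ≠ 1 →
        2 ≤ Nat.card (orbit R ω) := fun R _ h => by
      by_contra e
      have := card_dvd_factorial_of_faithful (G := R) (Ω := orbit R ω)
      rw [Nat.factorial_eq_one.2 (by omega), Nat.dvd_one] at this
      exact h this
    have h6 := h5 P fun e => by
      rw [e, one_mul] at h1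
      exact hm (hpd.trans (h1 ▸ h3))
    have h7 := h5 Q fun e => by
      rw [e, mul_one] at h1
      obtain ⟨j, -, hj⟩ := (Nat.dvd_prime_pow hpp).1 h2
      exact hp p j hpp (h1.trans hj)
    have h8 := Nat.le_of_dvd (hn ▸ Fintype.card_pos_iff.2 ⟨ω⟩) h4
    have h9 := Nat.add_le_mul h6 h7
    have e1 := (ih _ (by omega) (orbit P ω) P Nat.card_eq_fintype_card.symm).1
    have e2 := (ih _ (by omega) (orbit Q ω) Q Nat.card_eq_fintype_card.symm).1
    have hcop' := (hcop.coprime_dvd_left ((hdv P).2.trans h2)).coprime_dvd_right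
      ((hdv Q).2.trans h3)
    generalize Nat.card (orbit P ω) = a at *
    generalize Nat.card (orbit Q ω) = b at *
    have e3 := Nat.mul_le_mul e1 e2
    rw [mul_mul_mul_comm, ← h1] at e3
    have e4 := nilH_mul_le a b
    have e5 := nilH_mono (h9.trans h8)
    refine ⟨by omega, fun _ => ?_⟩
    by_cases e6 : a + b + 2 ≤ n
    · have e7 := nilH_mul_le (a + b) 2
      have e8 := nilH_mono e6
      rw [nilH_of_lt (n := 2) (by norm_num)] at e7
      norm_num at e7
      omega
    · have e7 : a < 4 := by nlinarith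
      have e8 : b < 4 := by nlinarith
      rw [nilH_of_lt (n := a) (by omega), nilH_of_lt (n := b) (by omega)] at e3
      have e9 : n = 6 := by
        interval_cases a <;> interval_cases b <;> first | omega | norm_num at hcop'
      rw [e9, nilA_of_lt (by norm_num)]
      interval_cases a <;> interval_cases b <;> norm_num at e3 ⊢ <;> omega
  · have hq := mem_orbit_smul_iff (G := G) ω
    obtain ⟨x, hx⟩ : ∃ x, x ∉ orbit G ω := by
      by_contra h
      push Not at h
      exact htr ((isPretransitive_iff_base ω).2 h)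
    have h1 : Fintype.card {x // x ∈ orbit G ω} ≠ 0 :=
      (Fintype.card_pos_iff.2 ⟨⟨ω, mem_orbit_self ω⟩⟩).ne'
    have h2 : Fintype.card {x // ¬ x ∈ orbit G ω} ≠ 0 := (Fintype.card_pos_iff.2 ⟨⟨x, hx⟩⟩).ne'
    have h3 : Fintype.card {x // x ∈ orbit G ω} + Fintype.card {x // ¬ x ∈ orbit G ω} = n := by
      rw [Fintype.card_subtype_compl, hn, Nat.add_sub_cancel']
      exact hn ▸ Fintype.card_subtype_le _
    have := Group.nilpotent_of_surjective _ (resHom _ hq).rangeRestrict_surjective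
    have := Group.nilpotent_of_surjective _
      (resHom (fun x => ¬ x ∈ orbit G ω) (fun g x => (hq g x).not)).rangeRestrict_surjective
    obtain ⟨e1, e2⟩ := ih _ (by omega) {x // x ∈ orbit G ω} (resHom _ hq).range rfl
    obtain ⟨e3, e4⟩ := ih _ (by omega) {x // ¬ x ∈ orbit G ω}
      (resHom (fun x => ¬ x ∈ orbit G ω) (fun g x => (hq g x).not)).range rfl
    have e5 := card_le_mul_of_split _ hq
    have e6 := Nat.mul_le_mul e1 e3
    have e7 := nilH_mul_le (Fintype.card {x // x ∈ orbit G ω})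
      (Fintype.card {x // ¬ x ∈ orbit G ω})
    have e8 := nilA_mul_le h1 h2
    rw [h3] at e7 e8
    rw [mul_mul_mul_comm] at e6
    refine ⟨by omega, fun hs => ?_⟩
    by_cases h4 : ∀ g : G, Perm.sign (resHom _ hq g) = 1
    · have e9 := Nat.mul_le_mul (e2 (by rintro ⟨_, g, rfl⟩; exact h4 g)) (e4 (by
        rintro ⟨_, g, rfl⟩
        have := sign_toPerm_eq_mul _ hq g
        rw [hs, h4, one_mul] at this
        exact this.symm))
      rw [mul_mul_mul_comm] at e9
      omega
    · push Not at h4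
      obtain ⟨g, hg⟩ := h4
      have := two_mul_card_le_mul_of_split _ hq hs hg
      omega

end Cfsg.Lib.Known
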