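/-
Suzuki groups: class functions induced from the Borel subgroup, the Steinberg character and the
pair of characters that are not real on the elements of order four.
-/
import Cfsg.Agent.Known.SzCharU
import Cfsg.Agent.Known.GL2Ind
import Cfsg.Agent.Char.Isometry

set_option autoImplicit false

namespace Cfsg.Lib.Known.SzChar

open Cfsg Cfsg.Lib.Chev Cfsg.Lib.Char
open scoped ComplexConjugate

variable {F : Type*} [Field F] {τ : Tw F} {G : Type*} [Group G] (M : SzModel τ G)

/-- the element `T a b * D l` of `B` -/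
noncomputable def tb (a b : F) (l : Fˣ) : M.B := ⟨M.T a b * M.D l, M.mem_B_iff.mpr ⟨a, b, l, rfl⟩⟩

@[simp] theorem coe_tb (a b : F) (l : Fˣ) : (tb M a b l : G) = M.T a b * M.D l := rfl

/-- coordinates on `B` -/
noncomputable def bEquiv : Fˣ × F × F ≃ M.B :=
  Equiv.ofBijective (fun x => tb M x.2.1 x.2.2 x.1)
    ⟨fun _ _ h => by
      obtain ⟨h1, h2, h3⟩ := M.TD_inj (Subtype.mk.inj h)
      exact Prod.ext h3 (Prod.ext h1 h2),
    fun ⟨_, hg⟩ => by
      obtain ⟨a, b, l, rfl⟩ := M.mem_B_iff.mp hg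
      exact ⟨(l, a, b), rfl⟩⟩

theorem exists_tb (u : M.B) : ∃ a b l, u = tb M a b l := by
  obtain ⟨x, rfl⟩ := (bEquiv M).surjective u
  exact ⟨_, _, _, rfl⟩

theorem bEquiv_symm_tb (a b : F) (l : Fˣ) : (bEquiv M).symm (tb M a b l) = (l, a, b) := by
  rw [Equiv.symm_apply_eq]
  rfl

/-- the projection of `B` onto the torus -/
noncomputable def proj : M.B →* Fˣ :=
  MonoidHom.mk' (fun u => ((bEquiv M).symm u).1) fun u v => by
    obtain ⟨a, b, l, rfl⟩ := exists_tb M u
    obtain ⟨c, d, k, rfl⟩ := exists_tb M v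
    have : tb M a b l * tb M c d k = tb M (a + τ.θ l * c)
        (b + τ.θ l * (l : F) ^ 2 * d + τ.θ a * (τ.θ l * c)) (l * k) := by
      apply Subtype.ext
      simp only [Subgroup.coe_mul, coe_tb, map_mul]
      rw [mul_assoc, ← mul_assoc (M.D l), M.D_mul_T, ← M.T_mul]
      simp only [mul_assoc]
    rw [this]
    simp only [bEquiv_symm_tb]

@[simp] theorem proj_tb (a b : F) (l : Fˣ) : proj M (tb M a b l) = l := by
  change ((bEquiv M).symm _).1 = _
  rw [bEquiv_symm_tb]

theorem proj_T (a b : F) (h : M.T a b ∈ M.B) : proj M ⟨_, h⟩ = 1 := by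
  rw [← proj_tb M a b 1]
  congr 1
  exact Subtype.ext (by simp)

theorem proj_D (l : Fˣ) (h : M.D l ∈ M.B) : proj M ⟨_, h⟩ = l := by
  conv_rhs => rw [← proj_tb M 0 0 l]
  congr 1
  exact Subtype.ext (by simp)

theorem conj_mem_B_iff (x g : G) : x⁻¹ * g * x ∈ M.B ↔ g • x • M.inf = x • M.inf := by
  rw [M.mem_B, mul_smul, mul_smul, inv_smul_eq_iff]

theorem not_conj_mem_B {g : G} (hg : ∀ p : M.Pt, g • p ≠ p) (x : G) : x * g * x⁻¹ ∉ M.B := by
  intro h
  apply hg (x⁻¹ • M.inf)
  rw [← conj_mem_B_iff, inv_inv]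
  exact h

theorem mem_B_of_conj_T {a b : F} (h : M.T a b ≠ 1) {x : G} (hx : x⁻¹ * M.T a b * x ∈ M.B) :
    x ∈ M.B := by
  rw [conj_mem_B_iff] at hx
  by_contra h'
  exact h (M.eq_one_of_mem_P (M.T_mem_P a b) h' hx)

variable [Fintype F] [Fintype G]

/-- induction from the torus through the Borel subgroup -/
noncomputable def IB (μ : Fˣ → ℂ) : G → ℂ := indFun M.B fun u => μ (proj M u)

omit [Fintype F] [Fintype G] in
theorem isClassFunction_proj (μ : Fˣ → ℂ) : IsClassFunction M.B fun u => μ (proj M u) :=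
  (GL2.isClassFunction_of_comm mul_comm μ).comp (proj M)

omit [Fintype F] in
theorem IB_class (μ : Fˣ → ℂ) : IsClassFunction G (IB M μ) := indFun_isClassFunction _ _

theorem IB_one (μ : Fˣ → ℂ) : IB M μ 1 = (Fintype.card F ^ 2 + 1) * μ 1 := by
  rw [IB, indFun_one, M.index_B]
  simp

omit [Fintype F] in
theorem IB_T (μ : Fˣ → ℂ) {a b : F} (h : M.T a b ≠ 1) : IB M μ (M.T a b) = μ 1 := by
  have hB := M.P_le_B (M.T_mem_P a b)
  rw [IB, GL2.indFun_one_coset _ (isClassFunction_proj M μ) hB fun x =>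
    ⟨mem_B_of_conj_T M h, fun hx => M.B.mul_mem (M.B.mul_mem (M.B.inv_mem hx) hB) hx⟩, proj_T]

omit [Fintype F] in
theorem IB_D (μ : Fˣ → ℂ) {l : Fˣ} (h : l ≠ 1) : IB M μ (M.D l) = μ l + μ l⁻¹ := by
  have hw : M.w ∉ M.B := by
    rw [M.mem_B, M.w_smul_inf]
    exact M.pt_ne_inf 0 0
  rw [IB, GL2.indFun_two_cosets _ (isClassFunction_proj M μ) (M.H_le_B (M.D_mem_H l)) hw
    (M.H_le_B (M.D_mem_H l⁻¹)) (by rw [M.w_inv, M.w_D_w]), proj_D, proj_D]
  intro x
  rw [conj_mem_B_iff, M.mem_B, M.mem_B, mul_smul, inv_smul_eq_iff, M.w_smul_inf]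
  rcases M.pt_cases (x • M.inf) with h1 | ⟨a, b, h1⟩
  · simp [h1]
  · rw [h1]
    constructor
    · intro h2
      obtain ⟨rfl, rfl⟩ := (M.D_smul_pt_eq h2).resolve_left h
      exact Or.inr rfl
    · rintro (h2 | h2)
      · exact absurd h2 (M.pt_ne_inf a b)
      · rw [h2, M.D_smul_zero]

omit [Fintype F] in
theorem IB_fpf (μ : Fˣ → ℂ) {g : G} (hg : ∀ p : M.Pt, g • p ≠ p) : IB M μ g = 0 :=
  indFun_eq_zero_of_not_conj _ _ (not_conj_mem_B M hg)

omit [Fintype F] in
theorem IB_char {μ : Fˣ → ℂ} (h : IsCharacter Fˣ μ) : IsCharacter G (IB M μ) :=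
  isCharacter_indFun (h.comp (proj M))

/-- the average over the cosets of `P` in `B` -/
noncomputable def avg (χ : G → ℂ) (l : Fˣ) : ℂ :=
  ((Fintype.card F : ℂ) ^ 2)⁻¹ * ∑ a, ∑ b, χ (M.T a b * M.D l)

omit [Fintype G] in
theorem avg_of_ne {χ : G → ℂ} (hχ : IsClassFunction G χ) {l : Fˣ} (h : l ≠ 1) :
    avg M χ l = χ (M.D l) := by
  have : ∀ a b, χ (M.T a b * M.D l) = χ (M.D l) := fun a b => by
    obtain ⟨x, y, hxy⟩ := M.TD_conj a b h
    rw [hxy, hχ]
  have hq : (Fintype.card F : ℂ) ≠ 0 := by simp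
  simp only [avg, this, Finset.sum_const, Finset.card_univ, nsmul_eq_mul]
  field_simp

omit [Fintype G] in
theorem avg_one {χ : G → ℂ} (hχ : IsClassFunction G χ) :
    2 * Fintype.card F ^ 2 * avg M χ 1 = 2 * (χ 1 + (Fintype.card F - 1) * χ (M.T 0 1)) +
      (Fintype.card F - 1) * (Fintype.card F * (χ (M.T 1 0) + χ (M.T 1 1))) := by
  rw [← two_mul_sum_P M hχ, avg]
  have hq : (Fintype.card F : ℂ) ≠ 0 := by simp
  simp only [map_one, mul_one]
  field_simp

theorem inner_IB [DecidableEq F] (μ : Fˣ → ℂ) {χ : G → ℂ} (hχ : IsClassFunction G χ) :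
    classInner (IB M μ) χ = classInner μ (avg M χ) := by
  have := Fintype.ofFinite M.B
  rw [IB, classInner_indFun_left _ _ hχ, classInner, classInner,
    ← Fintype.sum_equiv (bEquiv M) (fun x => μ x.1 * conj (χ (M.T x.2.1 x.2.2 * M.D x.1))) _
      (fun x => by
        change _ = μ (proj M (tb M _ _ _)) * _
        rw [proj_tb]
        rfl),
    Fintype.sum_prod_type, M.card_B, Nat.card_eq_fintype_card, Fintype.card_units]
  simp only [avg, Fintype.sum_prod_type, map_mul, map_inv₀, map_pow, map_natCast, map_sum,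
    ← Finset.mul_sum]
  simp only [mul_left_comm _ ((Fintype.card F : ℂ) ^ 2)⁻¹, ← Finset.mul_sum]
  push_cast
  rw [mul_inv, mul_assoc]

theorem avg_IB (μ : Fˣ → ℂ) : avg M (IB M μ) = fun l => μ l + μ l⁻¹ := by
  funext l
  by_cases hl : l = 1
  · subst hl
    have h := avg_one M (IB_class M μ)
    rw [IB_one, IB_T M μ (by simp), IB_T M μ (by simp), IB_T M μ (by simp)] at h
    have hq : (2 * Fintype.card F ^ 2 : ℂ) ≠ 0 := by simp
    apply mul_left_cancel₀ hq
    rw [h, inv_one]
    ring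
  · rw [avg_of_ne M (IB_class M μ) hl, IB_D M μ hl]

omit [Fintype G] in
theorem avg_const : avg M (fun _ => 1) = fun _ => 1 := by
  funext l
  have hq : (Fintype.card F : ℂ) ≠ 0 := by simp
  simp only [avg, Finset.sum_const, Finset.card_univ, nsmul_eq_mul]
  field_simp

theorem IB_irr {lam : Fˣ →* ℂˣ} (hl : lam ≠ 1) : IsIrrCharacter G (IB M fun l => lam l) := by
  classical
  refine (IB_char M (isIrrCharacter_monoidHom lam).isCharacter).isIrrCharacter_of_classInner_self ?_
  rw [inner_IB M _ (IB_class M _), avg_IB]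
  have h1 := classInner_monoidHom lam lam
  have h2 := classInner_monoidHom lam lam⁻¹
  have h3 : lam ≠ lam⁻¹ := by
    intro h
    apply hl
    refine MonoidHom.ext fun l => ?_
    obtain ⟨k, rfl⟩ := τ.exists_unit_sq l
    have h4 : lam k = (lam k)⁻¹ := DFunLike.congr_fun h k
    rw [sq, map_mul, MonoidHom.one_apply]
    exact mul_eq_one_iff_eq_inv.mpr h4
  rw [if_pos rfl] at h1
  rw [if_neg h3] at h2
  have h4 : (fun l => (lam l : ℂ) + (lam l⁻¹ : ℂ)) =
      (fun l => (lam l : ℂ)) + fun l => (lam⁻¹ l : ℂ) := by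
    funext l
    simp
  rw [h4, classInner_add_right, h1, h2, add_zero]

/-- the Steinberg character -/
noncomputable def St : G → ℂ := IB M (fun _ => 1) - fun _ => 1

theorem St_one : St M 1 = Fintype.card F ^ 2 := by simp [St, IB_one]

omit [Fintype F] in
theorem St_T {a b : F} (h : M.T a b ≠ 1) : St M (M.T a b) = 0 := by simp [St, IB_T M _ h]

omit [Fintype F] in
theorem St_D {l : Fˣ} (h : l ≠ 1) : St M (M.D l) = 1 := by simp [St, IB_D M _ h]

omit [Fintype F] in
theorem St_fpf {g : G} (hg : ∀ p : M.Pt, g • p ≠ p) : St M g = -1 := by simp [St, IB_fpf M _ hg]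

theorem St_irr : IsIrrCharacter G (St M) := by
  classical
  refine ((IB_char M isCharacter_one).isGeneralizedCharacter.sub
    isCharacter_one.isGeneralizedCharacter).isIrrCharacter_of_pos ?_ ?_
  · have h1 : classInner (IB M fun _ => 1) (fun _ => 1) = 1 := by
      rw [inner_IB M _ (isClassFunction_const 1), avg_const, classInner_one_one]
    have h2 : classInner (IB M fun _ => 1) (IB M fun _ => 1) = 2 := by
      rw [inner_IB M _ (IB_class M _), avg_IB]
      have h3 : (fun _ : Fˣ => (1 : ℂ) + 1) = (fun _ => 1) + fun _ => 1 := rfl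
      rw [h3, classInner_add_right, classInner_one_one]
      norm_num
    rw [classInner_sub_left, classInner_sub_right, classInner_sub_right, h2, h1,
      ← conj_classInner, h1, classInner_one_one]
    norm_num
  · change 0 < (St M 1).re
    rw [St_one]
    norm_cast
    exact pow_pos Fintype.card_pos 2

omit [Fintype F] in
theorem St_ne_one : St M ≠ fun _ => 1 := fun h => by
  have := congrFun h (M.T 0 1)
  rw [St_T M (by simp)] at this
  exact zero_ne_one this

/-- A class function orthogonal to everything induced from the torus. -/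
theorem avg_eq_zero {χ : G → ℂ} (hχ : IsClassFunction G χ)
    (h : ∀ lam : Fˣ →* ℂˣ, classInner (IB M fun l => lam l) χ = 0) : avg M χ = 0 := by
  classical
  refine (GL2.isClassFunction_of_comm mul_comm _).eq_zero_of_classInner_irr fun ψ hψ => ?_
  obtain ⟨lam, rfl⟩ := hψ.exists_monoidHom_of_comm mul_comm
  rw [classInner_eq_zero_comm, ← inner_IB M _ hχ, h]

theorem avg_irr_eq_zero {χ : G → ℂ} (hχ : IsIrrCharacter G χ) (h1 : χ ≠ fun _ => 1)
    (h2 : χ ≠ St M) (h3 : ∀ lam : Fˣ →* ℂˣ, lam ≠ 1 → χ ≠ IB M fun l => lam l) : avg M χ = 0 := by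
  refine avg_eq_zero M hχ.isClassFunction fun lam => ?_
  by_cases hl : lam = 1
  · subst hl
    have : (IB M fun l => ((1 : Fˣ →* ℂˣ) l : ℂ)) = St M + fun _ => 1 := by simp [St]
    rw [this, classInner_add_left, (St_irr M).classInner_of_ne hχ h2.symm,
      isIrrCharacter_one.classInner_of_ne hχ h1.symm, add_zero]
  · exact (IB_irr M hl).classInner_of_ne hχ (h3 lam hl).symm

open Classical in
/-- the class function with values `± c` on the elements of order four -/
noncomputable def beta (c : ℂ) : G → ℂ :=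
  indFun M.P fun u => if ((pEquiv M).symm u).1 = 1 then c * sg τ ((pEquiv M).symm u).2 else 0

omit [Fintype F] [Fintype G] in
theorem pEquiv_symm_tp (a b : F) : (pEquiv M).symm (tp M a b) = (a, b) := by
  rw [Equiv.symm_apply_eq]
  rfl

omit [Fintype F] in
theorem beta_class (c : ℂ) : IsClassFunction G (beta M c) := indFun_isClassFunction _ _

omit [Fintype F] in
theorem beta_one (c : ℂ) : beta M c 1 = 0 := by
  rw [beta, indFun_one, ← tp_zero, pEquiv_symm_tp]
  simp

omit [Fintype F] in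
theorem beta_of_not_conj (c : ℂ) {g : G} (hg : ∀ x, x * g * x⁻¹ ∉ M.P) : beta M c g = 0 :=
  indFun_eq_zero_of_not_conj _ _ hg

theorem beta_T (c : ℂ) (b : F) : beta M c (M.T 1 b) = c * sg τ b := by
  classical
  have h1 := indFun_apply_eq_self M.P (θ := fun u => if ((pEquiv M).symm u).1 = 1 then
    c * sg τ ((pEquiv M).symm u).2 else 0) ?_ (tp M 1 b) ?_
  · rw [pEquiv_symm_tp, if_pos rfl] at h1
    exact h1
  · intro u v
    obtain ⟨a, b, rfl⟩ := exists_tp M u
    obtain ⟨x, y, rfl⟩ := exists_tp M v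
    have : tp M x y * tp M a b * (tp M x y)⁻¹ = tp M a (b + (x * τ.θ a + τ.θ x * a)) :=
      Subtype.ext (by
        change M.T x y * M.T a b * (M.T x y)⁻¹ = M.T _ _
        rw [M.T_conj_T]
        congr 1
        ring)
    simp only [this, pEquiv_symm_tp]
    split_ifs with ha
    · subst ha
      rw [sg_add, sg_of_mem τ (b := x * τ.θ 1 + τ.θ x * 1) ⟨x, by simp [trMap]⟩, mul_one]
    · rfl
  · intro x hx h
    have hB : x⁻¹ ∈ M.B := mem_B_of_conj_T M (a := 1) (b := b) (by simp) (by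
      rw [inv_inv]
      exact M.P_le_B h)
    obtain ⟨a', b', l, rfl⟩ := M.mem_B_iff.mp (inv_mem_iff.mp hB)
    have hl : l ≠ 1 := by
      rintro rfl
      exact hx (by simpa using M.T_mem_P a' b')
    obtain ⟨y, hy⟩ : ∃ y, M.T a' b' * M.D l * M.T 1 b * (M.T a' b' * M.D l)⁻¹ = M.T (τ.θ l) y := by
      have h2 : M.T a' b' * M.D l * M.T 1 b * (M.T a' b' * M.D l)⁻¹ =
        M.T a' b' * (M.D l * M.T 1 b * (M.D l)⁻¹) * (M.T a' b')⁻¹ := by group
      rw [h2, M.D_conj_T, M.T_conj_T, mul_one]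
      exact ⟨_, rfl⟩
    have h2 : (⟨_, h⟩ : M.P) = tp M (τ.θ l) y := Subtype.ext hy
    rw [h2, pEquiv_symm_tp, if_neg]
    intro h3
    apply hl
    exact Units.ext (τ.θ_inj (by simpa using h3))

theorem inner_beta (c : ℂ) {χ : G → ℂ} (hχ : IsClassFunction G χ) :
    2 * Fintype.card F * classInner (beta M c) χ = c * conj (χ (M.T 1 0) - χ (M.T 1 1)) := by
  classical
  have := Fintype.ofFinite M.P
  have hq : (Fintype.card F : ℂ) ≠ 0 := by simp
  have h1 := congrArg conj (sum_sg_T_one M hχ)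
  rw [beta, classInner_indFun_left _ _ hχ, classInner, sum_P, M.card_P,
    Finset.sum_eq_single (1 : F) (fun a _ ha => by simp [pEquiv_symm_tp, ha]) (by simp)]
  simp only [pEquiv_symm_tp, if_true, coe_tp, mul_assoc, ← Finset.mul_sum]
  simp only [map_mul, map_sum, conj_sg, map_natCast, map_ofNat] at h1
  push_cast
  field_simp
  linear_combination c * h1

/-- The two characters that are not real on the elements of order four. -/
theorem exists_W {m : ℕ} (hF : Fintype.card F = 2 ^ (2 * m + 1)) :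
    ∃ W W' : G → ℂ, IsIrrCharacter G W ∧ IsIrrCharacter G W' ∧ W ≠ W' ∧
      beta M (2 ^ (m + 1) * Complex.I) = W - W' := by
  have hq : (2 * Fintype.card F : ℂ) ≠ 0 := by simp
  have hF' : (Fintype.card F : ℂ) = 2 * (2 ^ m) ^ 2 := by
    rw [hF]
    push_cast
    ring
  refine exists_eq_sub_of_norm_two ?_ ?_ (beta_one M _)
  · refine isGeneralizedCharacter_iff_classInner.mpr ⟨beta_class M _, fun χ hχ => ?_⟩
    obtain ⟨c, hc⟩ := exists_c M hF hχ.isCharacter (ε := Complex.I) Complex.I_mul_I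
    obtain ⟨c', hc'⟩ := exists_c M hF hχ.isCharacter (ε := -Complex.I) (by simp)
    refine ⟨c' - c, mul_left_cancel₀ hq ?_⟩
    have h1 : χ (M.T 1 0) - χ (M.T 1 1) = 2 ^ (m + 1) * Complex.I * (c' - c) := by
      apply mul_left_cancel₀ hq
      linear_combination (-Complex.I) * hc + Complex.I * hc' +
        2 * Fintype.card F * (χ (M.T 1 0) - χ (M.T 1 1)) * Complex.I_mul_I
    rw [inner_beta M _ hχ.isClassFunction, h1, hF']
    simp only [map_mul, map_pow, map_ofNat, Complex.conj_I, map_sub, map_natCast]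
    push_cast
    linear_combination (-4 * (2 ^ m) ^ 2 * (c' - c) : ℂ) * Complex.I_mul_I
  · apply mul_left_cancel₀ hq
    rw [inner_beta M _ (beta_class M _), beta_T, beta_T, hF']
    simp only [sg_zero, sg_one, map_mul, map_pow, map_ofNat, Complex.conj_I, map_sub, map_neg,
      map_one]
    linear_combination (-8 * (2 ^ m) ^ 2 : ℂ) * Complex.I_mul_I

end Cfsg.Lib.Known.SzChar
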