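/-
The character table of the Suzuki groups.
-/
import Cfsg.Agent.Known.SzCharB
import Cfsg.Agent.Known.TIChar
import Cfsg.Agent.Chev.SuzukiPart

set_option autoImplicit false

namespace Cfsg.Lib.Known.SzChar

open Cfsg Cfsg.Lib.Chev Cfsg.Lib.Char Cfsg.Lib.Known.TI
open scoped ComplexConjugate

section Abstract

variable {G : Type*} [Group G] [Fintype G]

theorem inner_sub_pair {v W W' : G → ℂ} (hW : IsIrrCharacter G W) (hW' : IsIrrCharacter G W')
    (hne : W ≠ W') {w : ℂ} (hw : w = 1 ∨ w = -1) (h1 : classInner v W = w)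
    (h2 : classInner v W' = w) :
    classInner (v - w • (W + W')) (v - w • (W + W')) = classInner v v - 2 := by
  have h3 : classInner W v = w := by rw [← conj_classInner, h1]; rcases hw with rfl | rfl <;> simp
  have h4 : classInner W' v = w := by rw [← conj_classInner, h2]; rcases hw with rfl | rfl <;> simp
  simp only [classInner_sub_left, classInner_sub_right, classInner_smul_left, classInner_smul_right,
    classInner_add_left, classInner_add_right, h1, h2, h3, h4, hW.classInner_self,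
    hW'.classInner_self, hW.classInner_of_ne hW' hne, hW'.classInner_of_ne hW hne.symm]
  rcases hw with rfl | rfl <;> simp <;> ring

omit [Fintype G] in
theorem gen_sub_pair {v W W' : G → ℂ} (hv : IsGeneralizedCharacter G v) (hW : IsIrrCharacter G W)
    (hW' : IsIrrCharacter G W') {w : ℂ} (hw : w = 1 ∨ w = -1) :
    IsGeneralizedCharacter G (v - w • (W + W')) := by
  have h := hW.isGeneralizedCharacter.add hW'.isGeneralizedCharacter
  rcases hw with rfl | rfl
  · simpa using hv.sub h
  · rw [neg_smul, one_smul, sub_neg_eq_add]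
    exact hv.add h

theorem abstract_w {v v' W W' : G → ℂ} (hv : IsGeneralizedCharacter G v)
    (hv' : IsGeneralizedCharacter G v') (hW : IsIrrCharacter G W) (hW' : IsIrrCharacter G W')
    (hne : W ≠ W') (hn : classInner v v = 3) (hn' : classInner v' v' = 3)
    (hvv : classInner v' v = -2) (h : classInner v W' = classInner v W)
    (h' : classInner v' W' = classInner v' W) (h0 : classInner v W ≠ 0) :
    classInner v' W = -classInner v W := by
  have hw := (classInner_irr_trichotomy hv (n := 3) le_rfl (by exact_mod_cast hn) hW).resolve_left h0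
  have h1 := inner_sub_pair hW hW' hne hw rfl h
  rw [hn] at h1
  obtain ⟨ψ, ε, hψ, hε, h2⟩ := exists_eq_sign_smul_of_norm_one (gen_sub_pair hv hW hW' hw)
    (by rw [h1]; norm_num)
  have h3 := congrArg (classInner v') h2
  rw [classInner_sub_right, classInner_smul_right, classInner_smul_right, classInner_add_right,
    hvv, h'] at h3
  have h4 := classInner_irr_trichotomy hv' (n := 3) le_rfl (by exact_mod_cast hn') hψ
  have h5 := classInner_irr_trichotomy hv' (n := 3) le_rfl (by exact_mod_cast hn') hW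
  rcases hw with hw | hw <;> rcases h5 with h5 | h5 | h5 <;> rw [hw, h5] at h3 ⊢ <;>
    rcases hε with rfl | rfl <;> rcases h4 with h4 | h4 | h4 <;> rw [h4] at h3 <;>
    first | (norm_num at h3; done) | norm_num

end Abstract

variable {F : Type*} [Field F] {τ : Tw F} {G : Type*} [Group G] (M : SzModel τ G)

/-- a non-split torus -/
structure IsT (A : Subgroup G) : Prop where
  cent : ∀ u ∈ A, u ≠ 1 → Subgroup.centralizer {u} = A
  fpf : ∀ u ∈ A, u ≠ 1 → M.Fpf u
  norm : Nat.card (Subgroup.normalizer (A : Set G)) = 4 * Nat.card A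
  ex : ∃ u ∈ A, u ≠ 1

variable [Fintype F]

/-- the two non-split tori -/
structure Pair (A A' : Subgroup G) (s : ℂ) : Prop where
  t : IsT M A
  t' : IsT M A'
  card : (Nat.card A : ℂ) = Fintype.card F + s + 1
  card' : (Nat.card A' : ℂ) = Fintype.card F - s + 1
  hs : s ^ 2 = 2 * Fintype.card F
  disj : ∀ u ∈ A, ∀ u' ∈ A', IsConj u u' → u = 1
  cover : ∀ g, M.Fpf g → (∃ u ∈ A, u ≠ 1 ∧ IsConj u g) ∨ ∃ u ∈ A', u ≠ 1 ∧ IsConj u g

theorem isT_centralizer {g : G} (hg : M.Fpf g) : IsT M (Subgroup.centralizer {g}) :=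
  ⟨fun _ hu h1 => hg.centralizer_eq hu h1, fun _ hu h1 => hg.of_mem_centralizer hu h1,
    hg.card_normalizer, g, Subgroup.mem_centralizer_singleton_iff.mpr rfl, hg.ne_one⟩

theorem exists_pair {m : ℕ} (hm : 1 ≤ m) (hF : Fintype.card F = 2 ^ (2 * m + 1)) :
    ∃ A A' : Subgroup G, Pair M A A' (2 ^ (m + 1)) := by
  obtain ⟨g₁, g₂, hg₁, hg₂, h1, h2, h, -⟩ := M.exists_tori hF
  refine ⟨_, _, isT_centralizer M hg₁, isT_centralizer M hg₂, by rw [h1]; push_cast; rfl, ?_, ?_,
    ?_, ?_⟩
  · rw [h2, Nat.cast_add, Nat.cast_sub (by rw [hF]; exact (sz_tori_lt hm).le)]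
    push_cast
    rfl
  · rw [hF]
    push_cast
    ring
  · intro u hu u' hu' hc
    have h3 := Subgroup.orderOf_dvd_natCard _ hu
    have h4 := Subgroup.orderOf_dvd_natCard _ hu'
    obtain ⟨x, rfl⟩ := isConj_iff.mp hc
    rw [h1, hF] at h3
    rw [h2, hF, show orderOf (x * u * x⁻¹) = orderOf u from (MulAut.conj x).orderOf_eq u] at h4
    exact orderOf_eq_one_iff.mp (Nat.eq_one_of_dvd_coprimes (sz_tori_coprime hm) h3 h4)
  · intro g hg
    have key : ∀ z, SzModel.ConjInto z g → ∃ u ∈ Subgroup.centralizer {z}, u ≠ 1 ∧ IsConj u g := by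
      rintro z ⟨h1, k, hk⟩
      exact ⟨_, hk, by simpa [mul_assoc, inv_mul_eq_iff_eq_mul] using h1,
        isConj_iff.mpr ⟨k, by group⟩⟩
    exact (h g hg).imp (key _) (key _)

variable {M} {A A' : Subgroup G} {s : ℂ}

theorem Pair.symm (h : Pair M A A' s) : Pair M A' A (-s) :=
  ⟨h.t', h.t, by rw [h.card']; ring, by rw [h.card]; ring, by rw [← h.hs]; ring,
    fun u hu u' hu' hc => by
      have := h.disj u' hu' u hu hc.symm
      subst this
      exact isConj_one_right.mp hc.symm,
    fun g hg => (h.cover g hg).symm⟩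

omit [Fintype F] in
theorem IsT.not_conj (h : IsT M A) {g : G} (hg : g ≠ 1) {p : M.Pt} (hp : g • p = p) (x : G) :
    x * g * x⁻¹ ∉ A := fun hx => by
  have := (h.fpf _ hx (by simpa using hg)).conj' x
  apply this p
  simpa [mul_assoc] using hp

theorem Pair.not_conj (h : Pair M A A' s) {u : G} (hu : u ∈ A') (h1 : u ≠ 1) (x : G) :
    x * u * x⁻¹ ∉ A := fun hx => h1 (h.symm.disj u hu _ hx (isConj_iff.mpr ⟨x, rfl⟩))

theorem Pair.classes (h : Pair M A A' s) (g : G) : g = 1 ∨ IsConj (M.T 0 1) g ∨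
    IsConj (M.T 1 0) g ∨ IsConj (M.T 1 1) g ∨ (∃ l, l ≠ 1 ∧ IsConj (M.D l) g) ∨
    (∃ u ∈ A, u ≠ 1 ∧ IsConj u g) ∨ ∃ u ∈ A', u ≠ 1 ∧ IsConj u g := by
  by_cases h1 : g = 1
  · exact Or.inl h1
  right
  by_cases hg : M.Fpf g
  · exact Or.inr (Or.inr (Or.inr (Or.inr (h.cover g hg))))
  simp only [SzModel.Fpf, not_forall, not_not] at hg
  obtain ⟨p, hp⟩ := hg
  obtain ⟨x, rfl⟩ := M.exists_smul_inf p
  obtain ⟨a, b, l, hx⟩ := M.mem_B_iff.mp ((conj_mem_B_iff M x g).mpr hp)
  have hc : IsConj (M.T a b * M.D l) g := isConj_iff.mpr ⟨x, by rw [← hx]; group⟩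
  by_cases hl : l = 1
  · subst hl
    rw [map_one, mul_one] at hc
    rcases isConj_T M a b with ⟨rfl, rfl⟩ | h2 | h2 | h2
    · exact absurd (by simpa [eq_comm] using hc) h1
    · exact Or.inl (h2.trans hc)
    · exact Or.inr (Or.inl (h2.trans hc))
    · exact Or.inr (Or.inr (Or.inl (h2.trans hc)))
  · obtain ⟨y, z, h2⟩ := M.TD_conj a b hl
    exact Or.inr (Or.inr (Or.inr (Or.inl ⟨l, hl, (isConj_iff.mpr ⟨_, h2.symm⟩).trans hc⟩)))

variable [Fintype G]

omit [Fintype F] in
theorem inner_ind_one {χ : G → ℂ} (hχ : IsClassFunction G χ) {k : ℂ}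
    (hk : ∀ u ∈ A, u ≠ 1 → χ u = k) :
    Nat.card A * classInner χ (indFun A fun _ => 1) = χ 1 + (Nat.card A - 1) * k := by
  classical
  have := Fintype.ofFinite A
  rw [classInner_indFun_right _ _ hχ, card_mul_classInner, ← Finset.add_sum_erase _ _
    (Finset.mem_univ 1), Finset.sum_congr rfl (g := fun _ => k) fun u hu => by
      rw [hk u u.2 fun h => Finset.ne_of_mem_erase hu (Subtype.ext h)]
      simp]
  simp only [Finset.sum_const, Finset.card_erase_of_mem (Finset.mem_univ _), Finset.card_univ,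
    nsmul_eq_mul, ← Nat.card_eq_fintype_card]
  rw [Nat.cast_sub Nat.card_pos]
  simp

open Classical in
theorem Pair.St_identity (h : Pair M A A' s) :
    (4 : ℂ) • St M = (2 : ℂ) • IB M (fun l => if l = 1 then 0 else 1) - indFun A (fun _ => 1) -
      indFun A' (fun _ => 1) + (2 / (Fintype.card F - 1) : ℂ) •
        fun g => if g = 1 then (Nat.card G : ℂ) else 0 := by
  have hq : (Fintype.card F - 1 : ℂ) ≠ 0 := by
    rw [sub_ne_zero]
    exact_mod_cast Fintype.one_lt_card.ne'
  have hc := (St_irr M).isClassFunction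
  have hA := indFun_isClassFunction A fun _ => 1
  have hA' := indFun_isClassFunction A' fun _ => 1
  have hI := IB_class M fun l => if l = 1 then 0 else 1
  have red : ∀ u g, u ≠ 1 → IsConj u g → 4 * St M u = 2 * IB M (fun l => if l = 1 then 0 else 1) u -
      indFun A (fun _ => 1) u - indFun A' (fun _ => 1) u →
      4 * St M g = 2 * IB M (fun l => if l = 1 then 0 else 1) g - indFun A (fun _ => 1) g -
        indFun A' (fun _ => 1) g + 2 / (Fintype.card F - 1) *
          (if g = 1 then (Nat.card G : ℂ) else 0) := by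
    intro u g hu hug h1
    rw [if_neg (fun h => hu (isConj_one_right.mp (h ▸ hug).symm)), ← hc.eq_of_isConj hug,
      ← hA.eq_of_isConj hug, ← hA'.eq_of_isConj hug, ← hI.eq_of_isConj hug, h1]
    simp
  have hT : ∀ a b g, M.T a b ≠ 1 → IsConj (M.T a b) g → _ := fun a b g h1 h2 => red _ g h1 h2 (by
    rw [St_T M h1, IB_T M _ h1, indFun_eq_zero_of_not_conj _ _ (h.t.not_conj h1 (M.T_smul_inf a b)),
      indFun_eq_zero_of_not_conj _ _ (h.t'.not_conj h1 (M.T_smul_inf a b))]
    simp)
  funext g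
  simp only [Pi.add_apply, Pi.sub_apply, Pi.smul_apply, smul_eq_mul]
  rcases h.classes g with rfl | h1 | h1 | h1 | ⟨l, hl, h1⟩ | ⟨u, hu, hu1, h1⟩ | ⟨u, hu, hu1, h1⟩
  · have h2 : (Nat.card A : ℂ) * A.index = Nat.card G := by exact_mod_cast A.card_mul_index
    have h3 : (Nat.card A' : ℂ) * A'.index = Nat.card G := by exact_mod_cast A'.card_mul_index
    have h4 : (Nat.card G : ℂ) = Fintype.card F ^ 2 * (Nat.card A * Nat.card A') *
        (Fintype.card F - 1) := by
      rw [M.card_G, h.card, h.card']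
      push_cast [Nat.cast_sub Fintype.card_pos]
      linear_combination (Fintype.card F : ℂ) ^ 2 * (Fintype.card F - 1) * h.hs
    have h5 : (A.index : ℂ) = Fintype.card F ^ 2 * Nat.card A' * (Fintype.card F - 1) :=
      mul_left_cancel₀ (card_ne_zero A) (by rw [h2, h4]; ring)
    have h6 : (A'.index : ℂ) = Fintype.card F ^ 2 * Nat.card A * (Fintype.card F - 1) :=
      mul_left_cancel₀ (card_ne_zero A') (by rw [h3, h4]; ring)
    rw [St_one, IB_one, indFun_one, indFun_one, if_pos rfl, if_pos rfl, h4, h5, h6, h.card, h.card']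
    field_simp
    linear_combination 2 * (Fintype.card F : ℂ) ^ 2 * h.hs
  · exact hT _ _ g (by simp) h1
  · exact hT _ _ g (by simp) h1
  · exact hT _ _ g (by simp) h1
  · have h2 : M.D l ≠ 1 := by simpa using hl
    refine red _ g h2 h1 ?_
    rw [St_D M hl, IB_D M _ hl, indFun_eq_zero_of_not_conj _ _ (h.t.not_conj h2 (M.D_smul_inf l)),
      indFun_eq_zero_of_not_conj _ _ (h.t'.not_conj h2 (M.D_smul_inf l))]
    simp only [hl, inv_eq_one, if_false]
    norm_num
  · refine red _ g hu1 h1 ?_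
    have h2 := (tiData_of_centralizer A h.t.cent).ind_one_apply h.t.norm (c := ⟨u, hu⟩)
      fun h => hu1 (congrArg Subtype.val h)
    rw [St_fpf M (h.t.fpf u hu hu1), IB_fpf M _ (h.t.fpf u hu hu1), h2,
      indFun_eq_zero_of_not_conj _ _ (h.symm.not_conj hu hu1)]
    norm_num
  · refine red _ g hu1 h1 ?_
    have h2 := (tiData_of_centralizer A' h.t'.cent).ind_one_apply h.t'.norm (c := ⟨u, hu⟩)
      fun h => hu1 (congrArg Subtype.val h)
    rw [St_fpf M (h.t'.fpf u hu hu1), IB_fpf M _ (h.t'.fpf u hu hu1), h2,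
      indFun_eq_zero_of_not_conj _ _ (h.not_conj hu hu1)]
    norm_num

theorem Pair.degree_eq (h : Pair M A A' s) {χ : G → ℂ} (hχ : IsIrrCharacter G χ) (h1 : χ ≠ St M)
    (h2 : avg M χ = 0) {k : ℂ} (hk : ∀ u ∈ A, u ≠ 1 → χ u = k)
    (hk' : ∀ u ∈ A', u ≠ 1 → χ u = -k) : 2 * χ 1 = k * s * (Fintype.card F - 1) := by
  classical
  have hq : (Fintype.card F - 1 : ℂ) ≠ 0 := by
    rw [sub_ne_zero]
    exact_mod_cast Fintype.one_lt_card.ne'
  have h3 := congrArg (classInner χ) h.St_identity
  have h4 : classInner χ (fun g => if g = 1 then (Nat.card G : ℂ) else 0) = χ 1 := by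
    apply mul_left_cancel₀ (card_ne_zero G)
    rw [card_mul_classInner, Finset.sum_eq_single 1 (fun g _ hg => by simp [hg]) (by simp)]
    simp [mul_comm]
  have h5 : classInner χ (IB M fun l => if l = 1 then 0 else 1) = 0 := by
    rw [classInner_eq_zero_comm, inner_IB M _ hχ.isClassFunction, h2, classInner_zero_right]
  have h6 := inner_ind_one hχ.isClassFunction hk
  have h7 := inner_ind_one hχ.isClassFunction hk'
  rw [classInner_add_right, classInner_sub_right, classInner_sub_right, classInner_smul_right,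
    classInner_smul_right, classInner_smul_right, hχ.classInner_of_ne (St_irr M) h1, h4, h5] at h3
  simp only [map_div₀, map_ofNat, map_sub, map_natCast, map_one, mul_zero] at h3
  rw [h.card] at h6
  rw [h.card'] at h7
  field_simp at h3
  have hs := h.hs
  generalize (Fintype.card F : ℂ) = q at *
  linear_combination (-(q + s + 1) * (q - s + 1) / 2) * h3 + (q - 1) * (q - s + 1) / 2 * h6 +
    (q - 1) * (q + s + 1) / 2 * h7 + χ 1 * hs

end Cfsg.Lib.Known.SzChar
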