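/-
The character table of the Suzuki groups, second part: the rows of the table.
-/
import Cfsg.Agent.Known.SzTable

set_option autoImplicit false

namespace Cfsg.Lib.Known.SzChar

open Cfsg Cfsg.Lib.Chev Cfsg.Lib.Char Cfsg.Lib.Known.TI
open scoped ComplexConjugate

variable {F : Type*} [Field F] {τ : Tw F} {G : Type*} [Group G] (M : SzModel τ G)
variable [Fintype F] [Fintype G]

/-- `(1 - λ)^G - 1 + St` -/
noncomputable def vv (A : Subgroup G) (lam : A →* ℂˣ) : G → ℂ :=
  alpha (MonoidHom.id A) lam - (fun _ => 1) + St M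

variable {M} {A A' : Subgroup G} {s : ℂ}

theorem vv_gen (lam : A →* ℂˣ) : IsGeneralizedCharacter G (vv M A lam) :=
  ((alpha_gen _ _).sub isCharacter_one.isGeneralizedCharacter).add (St_irr M).isGeneralizedCharacter

omit [Fintype F] in
theorem IsT.alpha_fix (h : IsT M A) (lam : A →* ℂˣ) {g : G} (hg : g ≠ 1) {p : M.Pt}
    (hp : g • p = p) : alpha (MonoidHom.id A) lam g = 0 :=
  alpha_eq_zero' _ _ (h.not_conj hg hp)

theorem IsT.inner_alpha_St (h : IsT M A) {lam : A →* ℂˣ} (hl : lam ≠ 1) :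
    classInner (alpha (MonoidHom.id A) lam) (St M) = -1 := by
  rw [inner_alpha_of_const Function.surjective_id hl (St_irr M).isClassFunction (k := -1)
    fun c hc => St_fpf M (h.fpf c c.2 fun h => hc (Subtype.ext h))]
  simp

theorem inner_vv_vv (h : IsT M A) (h' : IsT M A') {lam : A →* ℂˣ} (hl : lam ≠ 1) {mu : A' →* ℂˣ}
    (hm : mu ≠ 1) : classInner (vv M A lam) (vv M A' mu) =
      classInner (alpha (MonoidHom.id A) lam) (alpha (MonoidHom.id A') mu) - 2 := by
  have h1 := inner_alpha_one (π := MonoidHom.id A) Function.surjective_id hl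
  have h2 := h.inner_alpha_St hl
  have h3 : classInner (fun _ => 1) (alpha (MonoidHom.id A') mu) = 1 := by
    rw [← conj_classInner, inner_alpha_one Function.surjective_id hm, map_one]
  have h4 : classInner (St M) (alpha (MonoidHom.id A') mu) = -1 := by
    rw [← conj_classInner, h'.inner_alpha_St hm]
    simp
  simp only [vv, classInner_add_left, classInner_add_right, classInner_sub_left,
    classInner_sub_right, h1, h2, h3, h4, classInner_one_one, (St_irr M).classInner_self,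
    (St_irr M).classInner_of_ne isIrrCharacter_one (St_ne_one M),
    isIrrCharacter_one.classInner_of_ne (St_irr M) (St_ne_one M).symm]
  ring

theorem IsT.inner_vv_self (h : IsT M A) {lam : A →* ℂˣ} (hl : lam ≠ 1) :
    classInner (vv M A lam) (vv M A lam) = 3 := by
  rw [inner_vv_vv h h hl hl, (tiData_of_centralizer A h.cent).inner_alpha_self h.norm hl]
  norm_num

theorem Pair.inner_vv (h : Pair M A A' s) {lam : A →* ℂˣ} (hl : lam ≠ 1) {mu : A' →* ℂˣ}
    (hm : mu ≠ 1) : classInner (vv M A lam) (vv M A' mu) = -2 := by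
  rw [inner_vv_vv h.t h.t' hl hm, inner_alpha_of_const Function.surjective_id hl (alpha_class _ _)
    (k := 0) fun c hc => alpha_eq_zero' _ _ (h.symm.not_conj c.2 fun h => hc (Subtype.ext h))]
  simp

theorem inner_vv_irr (lam : A →* ℂˣ) {χ : G → ℂ} (hχ : IsIrrCharacter G χ) (h1 : χ ≠ fun _ => 1)
    (h2 : χ ≠ St M) : classInner (vv M A lam) χ = classInner (alpha (MonoidHom.id A) lam) χ := by
  rw [vv, classInner_add_left, classInner_sub_left, (St_irr M).classInner_of_ne hχ h2.symm,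
    isIrrCharacter_one.classInner_of_ne hχ h1.symm]
  ring

omit [Fintype F] [Fintype G] in
theorem IsT.comm (h : IsT M A) (a b : A) : a * b = b * a := (tiData_of_centralizer A h.cent).comm a b

omit [Fintype F] in
theorem IsT.exists_char (h : IsT M A) : ∃ lam : A →* ℂˣ, lam ≠ 1 := by
  obtain ⟨u, hu, h1⟩ := h.ex
  obtain ⟨lam, hl⟩ := exists_monoidHom_apply_ne_one_of_comm h.comm (g := ⟨u, hu⟩)
    fun h => h1 (congrArg Subtype.val h)
  exact ⟨lam, fun h => hl (by simp [h])⟩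

theorem avg_eq_zero_of_rho {χ : G → ℂ} (hχ : IsIrrCharacter G χ)
    (h : χ (M.T 1 0) ≠ χ (M.T 1 1)) : (χ ≠ fun _ => 1) ∧ χ ≠ St M ∧ avg M χ = 0 := by
  have h1 : χ ≠ fun _ => 1 := fun h' => h (by rw [h'])
  have h2 : χ ≠ St M := fun h' => h (by rw [h', St_T M (by simp), St_T M (by simp)])
  exact ⟨h1, h2, avg_irr_eq_zero M hχ h1 h2 fun lam _ h' =>
    h (by rw [h', IB_T M _ (by simp), IB_T M _ (by simp)])⟩

omit [Fintype G] in
theorem W_values {m : ℕ} (hF : Fintype.card F = 2 ^ (2 * m + 1)) {χ : G → ℂ}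
    (hχ : IsCharacter G χ) (h0 : avg M χ = 0) (h1 : χ 1 = 2 ^ m * (Fintype.card F - 1))
    (h : χ (M.T 1 0) ≠ χ (M.T 1 1)) :
    χ (M.T 0 1) = -2 ^ m ∧ χ (M.T 1 0) + χ (M.T 1 1) = 0 := by
  obtain ⟨c, hc⟩ := exists_c M hF hχ (ε := Complex.I) Complex.I_mul_I
  obtain ⟨c', hc'⟩ := exists_c M hF hχ (ε := -Complex.I) (by simp)
  obtain ⟨n, hn⟩ := exists_n M hχ
  have hq : (Fintype.card F : ℂ) ≠ 0 := by simp
  have hq1 : (Fintype.card F - 1 : ℂ) ≠ 0 := by
    rw [sub_ne_zero]
    exact_mod_cast Fintype.one_lt_card.ne'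
  have h2 : χ 1 - χ (M.T 0 1) = Fintype.card F * 2 ^ m * (c + c') := by
    linear_combination (hc + hc') / 4
  have h3 : 2 ^ m * (Fintype.card F - 1 : ℂ) = n + (Fintype.card F - 1) * 2 ^ m * (c + c') := by
    apply mul_left_cancel₀ hq
    rw [← h1]
    linear_combination hn + (Fintype.card F - 1) * h2
  have h4 : c + c' ≠ 0 := by
    intro h4
    obtain ⟨rfl, rfl⟩ : c = 0 ∧ c' = 0 := by omega
    apply h
    rw [← sub_eq_zero]
    apply mul_left_cancel₀ (mul_ne_zero Complex.I_ne_zero hq)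
    linear_combination (hc - hc') / 2
  have h5 : c + c' = 1 := by
    rw [show (Fintype.card F - 1 : ℂ) = ((Fintype.card F - 1 : ℕ) : ℂ) by
      rw [Nat.cast_sub Fintype.card_pos]; simp] at h3
    have h5 : 2 ^ m * (Fintype.card F - 1) = n + (Fintype.card F - 1) * 2 ^ m * (c + c') := by
      exact_mod_cast h3
    have h6 : 0 < (Fintype.card F - 1) * 2 ^ m :=
      Nat.mul_pos (Nat.sub_pos_of_lt Fintype.one_lt_card) (by positivity)
    by_contra h7
    have h8 : 2 ≤ c + c' := by omega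
    nlinarith
  have h6 : (c : ℂ) + c' = 1 := by exact_mod_cast h5
  have h7 : χ (M.T 0 1) = -2 ^ m := by
    rw [h6, h1] at h2
    linear_combination -h2
  refine ⟨h7, mul_left_cancel₀ (mul_ne_zero hq1 hq) ?_⟩
  have h8 := avg_one M hχ.isClassFunction
  rw [h0, h1, h7] at h8
  simp only [Pi.zero_apply] at h8
  linear_combination -h8

variable (M) in
/-- the rows of the two characters of degree `2 ^ m * (q - 1)` -/
structure RowW (A A' : Subgroup G) (k r ε : ℂ) (χ : G → ℂ) : Prop where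
  irr : IsIrrCharacter G χ
  one : χ 1 = r * (Fintype.card F - 1)
  sig : χ (M.T 0 1) = -r
  rho : χ (M.T 1 0) = ε * r
  rho' : χ (M.T 1 1) = -(ε * r)
  hD : ∀ l, l ≠ 1 → χ (M.D l) = 0
  hA : ∀ u ∈ A, u ≠ 1 → χ u = k
  hA' : ∀ u ∈ A', u ≠ 1 → χ u = -k

omit [Fintype G] in
theorem RowW.symm {k r ε : ℂ} {χ : G → ℂ} (h : RowW M A A' k r ε χ) : RowW M A' A (-k) r ε χ :=
  ⟨h.irr, h.one, h.sig, h.rho, h.rho', h.hD, h.hA', by simpa using h.hA⟩

theorem Pair.exists_rowW {m : ℕ} (hF : Fintype.card F = 2 ^ (2 * m + 1))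
    (h : Pair M A A' (2 ^ (m + 1))) :
    ∃ W W', RowW M A A' 1 (2 ^ m) Complex.I W ∧ RowW M A A' 1 (2 ^ m) (-Complex.I) W' := by
  obtain ⟨W, W', hW, hW', hne, hβ⟩ := exists_W M hF
  have hF' : (Fintype.card F : ℂ) = 2 * (2 ^ m) ^ 2 := by
    rw [hF]
    push_cast
    ring
  have hr : (2 : ℂ) ^ m ≠ 0 := by simp
  have key : ∀ (χ : G → ℂ) (ε : ℂ), IsClassFunction G χ → classInner (W - W') χ = ε →
      conj ε = ε → χ (M.T 1 0) - χ (M.T 1 1) = 2 * (ε * Complex.I * 2 ^ m) := by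
    intro χ ε hχ h1 hε
    have h2 := congrArg conj (inner_beta M (2 ^ (m + 1) * Complex.I) hχ)
    rw [hβ, h1, hF'] at h2
    simp only [map_mul, map_pow, map_ofNat, Complex.conj_I, Complex.conj_conj, hε] at h2
    apply mul_left_cancel₀ hr
    linear_combination (-Complex.I / 2) * h2 +
      (2 ^ m * (χ (M.T 1 0) - χ (M.T 1 1))) * Complex.I_mul_I
  have d1 := key W 1 hW.isClassFunction
    (by rw [classInner_sub_left, hW.classInner_self, hW'.classInner_of_ne hW hne.symm, sub_zero])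
    (by simp)
  have d2 := key W' (-1) hW'.isClassFunction
    (by rw [classInner_sub_left, hW'.classInner_self, hW.classInner_of_ne hW' hne, zero_sub])
    (by simp)
  have n1 : W (M.T 1 0) ≠ W (M.T 1 1) := by
    rw [← sub_ne_zero, d1]
    simp
  have n2 : W' (M.T 1 0) ≠ W' (M.T 1 1) := by
    rw [← sub_ne_zero, d2]
    simp
  obtain ⟨a1, a2, a3⟩ := avg_eq_zero_of_rho hW n1
  obtain ⟨b1, b2, b3⟩ := avg_eq_zero_of_rho hW' n2
  have eqW : ∀ {A : Subgroup G}, IsT M A → ∀ lam : A →* ℂˣ,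
      classInner (vv M A lam) W' = classInner (vv M A lam) W := by
    intro A hA lam
    have h1 := inner_beta M (2 ^ (m + 1) * Complex.I) (alpha_class (MonoidHom.id A) lam)
    rw [hA.alpha_fix lam (by simp) (M.T_smul_inf 1 0), hA.alpha_fix lam (by simp) (M.T_smul_inf 1 1),
      hβ] at h1
    simp only [sub_self, map_zero, mul_zero, mul_eq_zero, OfNat.ofNat_ne_zero, Nat.cast_eq_zero,
      Fintype.card_ne_zero, false_or] at h1
    rw [classInner_eq_zero_comm, classInner_sub_right, sub_eq_zero] at h1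
    rw [inner_vv_irr lam hW a1 a2, inner_vv_irr lam hW' b1 b2, h1]
  have rel : ∀ {A A' : Subgroup G} {s : ℂ}, Pair M A A' s → ∀ {lam : A →* ℂˣ}, lam ≠ 1 →
      ∀ {mu : A' →* ℂˣ}, mu ≠ 1 → classInner (vv M A lam) W ≠ 0 →
      classInner (vv M A' mu) W = -classInner (vv M A lam) W := fun h lam hl mu hm h0 =>
    abstract_w (vv_gen lam) (vv_gen mu) hW hW' hne (h.t.inner_vv_self hl) (h.t'.inner_vv_self hm)
      (h.symm.inner_vv hm hl) (eqW h.t lam) (eqW h.t' mu) h0
  have rel' : ∀ {lam : A →* ℂˣ}, lam ≠ 1 → ∀ {mu : A' →* ℂˣ}, mu ≠ 1 →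
      classInner (vv M A' mu) W = -classInner (vv M A lam) W := by
    intro lam hl mu hm
    by_cases h1 : classInner (vv M A lam) W = 0
    · by_contra h2
      have h3 : classInner (vv M A' mu) W ≠ 0 := fun h3 => h2 (by rw [h1, h3, neg_zero])
      have := rel h.symm hm hl h3
      rw [h1, eq_comm, neg_eq_zero] at this
      exact h3 this
    · exact rel h hl hm h1
  obtain ⟨lam₀, hl₀⟩ := h.t.exists_char
  obtain ⟨mu₀, hm₀⟩ := h.t'.exists_char
  obtain ⟨k, hk⟩ := (vv_gen (M := M) lam₀).exists_int_classInner hW.isGeneralizedCharacter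
  have e1 : ∀ lam : A →* ℂˣ, lam ≠ 1 → classInner (vv M A lam) W = k := fun lam hl => by
    have := (rel' hl hm₀).symm.trans (rel' hl₀ hm₀)
    rw [neg_inj.mp this, hk]
  have e2 : ∀ mu : A' →* ℂˣ, mu ≠ 1 → classInner (vv M A' mu) W = -k := fun mu hm => by
    rw [rel' hl₀ hm, hk]
  have row : ∀ (χ : G → ℂ) (ε : ℂ), IsIrrCharacter G χ → (χ ≠ fun _ => 1) → χ ≠ St M →
      avg M χ = 0 → χ (M.T 1 0) ≠ χ (M.T 1 1) →
      χ (M.T 1 0) - χ (M.T 1 1) = 2 * (ε * 2 ^ m) →
      (∀ lam : A →* ℂˣ, lam ≠ 1 → classInner (vv M A lam) χ = k) →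
      (∀ mu : A' →* ℂˣ, mu ≠ 1 → classInner (vv M A' mu) χ = -k) →
      RowW M A A' 1 (2 ^ m) ε χ := by
    intro χ ε hχ c1 c2 c3 c4 c5 c6 c7
    have f1 : ∀ u ∈ A, u ≠ 1 → χ u = k := fun u hu hu1 =>
      apply_eq_of_inner_alpha h.t.comm hχ.isClassFunction (fun lam hl => by
        rw [← inner_vv_irr lam hχ c1 c2, c6 lam hl, map_intCast]) hu hu1
    have f2 : ∀ u ∈ A', u ≠ 1 → χ u = -k := fun u hu hu1 =>
      apply_eq_of_inner_alpha h.t'.comm hχ.isClassFunction (fun lam hl => by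
        rw [← inner_vv_irr lam hχ c1 c2, c7 lam hl, map_neg, map_intCast]) hu hu1
    have f3 := h.degree_eq hχ c2 c3 f1 f2
    have f4 : (k : ℂ) = 1 := by
      have := classInner_irr_trichotomy (vv_gen (M := M) lam₀) (n := 3) le_rfl
        (by exact_mod_cast h.t.inner_vv_self hl₀) hW
      obtain ⟨d, hd0, hd⟩ := hχ.exists_nat_degree_pos
      rw [hk] at this
      rw [hd] at f3
      rcases this with h1 | h1 | h1
      · rw [h1] at f3
        simp [hd0.ne'] at f3
      · exact h1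
      · exfalso
        rw [h1] at f3
        have f5 : (2 * d : ℝ) = -1 * 2 ^ (m + 1) * (Fintype.card F - 1) := by exact_mod_cast f3
        have f6 : (1 : ℝ) < Fintype.card F := by exact_mod_cast Fintype.one_lt_card
        have f7 : (0 : ℝ) < 2 ^ (m + 1) * (Fintype.card F - 1) := by
          apply mul_pos (by positivity)
          linarith
        have f8 : (0 : ℝ) ≤ d := by positivity
        linarith
    rw [f4] at f1 f2 f3
    have f5 : χ 1 = 2 ^ m * (Fintype.card F - 1) := by linear_combination f3 / 2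
    obtain ⟨g1, g2⟩ := W_values hF hχ.isCharacter c3 f5 c4
    refine ⟨hχ, f5, g1, by linear_combination (g2 + c5) / 2, by linear_combination (g2 - c5) / 2,
      fun l hl => ?_, f1, f2⟩
    rw [← avg_of_ne M hχ.isClassFunction hl, c3, Pi.zero_apply]
  exact ⟨W, W', row W _ hW a1 a2 a3 n1 (by rw [d1]; ring) e1 e2,
    row W' _ hW' b1 b2 b3 n2 (by rw [d2]; ring) (fun lam hl => by rw [eqW h.t, e1 lam hl])
      (fun mu hm => by rw [eqW h.t', e2 mu hm])⟩

variable (M) in
/-- the rows of the principal series -/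
structure RowI (χ : G → ℂ) : Prop where
  irr : IsIrrCharacter G χ
  one : χ 1 = Fintype.card F ^ 2 + 1
  sig : χ (M.T 0 1) = 1
  rho : χ (M.T 1 0) = 1
  rho' : χ (M.T 1 1) = 1
  hD : ∀ l, l ≠ 1 → ‖χ (M.D l)‖ ≤ 2
  fpf : ∀ u, M.Fpf u → χ u = 0

variable (M) in
/-- the rows of the discrete series -/
structure RowY (A A' : Subgroup G) (s : ℂ) (χ : G → ℂ) : Prop where
  irr : IsIrrCharacter G χ
  one : χ 1 = (Fintype.card F - 1) * (Fintype.card F - s + 1)
  sig : χ (M.T 0 1) = s - 1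
  rho : χ (M.T 1 0) = -1
  rho' : χ (M.T 1 1) = -1
  hD : ∀ l, l ≠ 1 → χ (M.D l) = 0
  hA : ∀ u ∈ A, u ≠ 1 → ‖χ u‖ ≤ 4
  hA' : ∀ u ∈ A', u ≠ 1 → χ u = 0

theorem rowI_IB {lam : Fˣ →* ℂˣ} (hl : lam ≠ 1) : RowI M (IB M fun l => lam l) := by
  refine ⟨IB_irr M hl, by simp [IB_one], by simp [IB_T], by simp [IB_T], by simp [IB_T],
    fun l hl => ?_, fun u hu => IB_fpf M _ hu⟩
  rw [IB_D M _ hl]
  refine (norm_add_le _ _).trans ?_
  rw [norm_monoidHom_apply, norm_monoidHom_apply]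
  norm_num

omit [Fintype G] in
theorem RowW.ne {k r : ℂ} {W W' : G → ℂ} (hr : r ≠ 0) (hW : RowW M A A' k r Complex.I W)
    (hW' : RowW M A A' k r (-Complex.I) W') : W ≠ W' := by
  intro h
  have h1 := hW.rho
  rw [h, hW'.rho] at h1
  apply mul_ne_zero Complex.I_ne_zero hr
  linear_combination -h1 / 2

theorem RowW.ne_one_St {k r ε : ℂ} {W : G → ℂ} (hr : ε * r ≠ 0) (hW : RowW M A A' k r ε W) :
    (W ≠ fun _ => 1) ∧ W ≠ St M := by
  have := avg_eq_zero_of_rho (M := M) hW.irr (by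
    rw [hW.rho, hW.rho']
    intro h
    apply hr
    linear_combination h / 2)
  exact ⟨this.1, this.2.1⟩

theorem Pair.rowY {k r : ℂ} (hk : k = 1 ∨ k = -1) (hr : r ≠ 0) (h : Pair M A A' (2 * k * r))
    {W W' : G → ℂ} (hW : RowW M A A' k r Complex.I W) (hW' : RowW M A A' k r (-Complex.I) W')
    {lam : A →* ℂˣ} (hl : lam ≠ 1) : RowY M A A' (2 * k * r) (vv M A lam - k • (W + W')) := by
  have hkk : k * k = 1 := by rcases hk with rfl | rfl <;> simp
  have hck : conj k = k := by rcases hk with rfl | rfl <;> simp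
  have n1 := hW.ne_one_St (mul_ne_zero Complex.I_ne_zero hr)
  have n2 := hW'.ne_one_St (mul_ne_zero (neg_ne_zero.mpr Complex.I_ne_zero) hr)
  have i1 : ∀ {ε : ℂ} {W : G → ℂ}, RowW M A A' k r ε W → (W ≠ fun _ => 1) ∧ W ≠ St M →
      classInner (vv M A lam) W = k := fun hW n => by
    rw [inner_vv_irr lam hW.irr n.1 n.2, inner_alpha_of_const Function.surjective_id hl
      hW.irr.isClassFunction fun c hc => hW.hA c c.2 fun h => hc (Subtype.ext h), hck]
  have h1 : (vv M A lam - k • (W + W')) 1 =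
      (Fintype.card F - 1) * (Fintype.card F - 2 * k * r + 1) := by
    simp only [vv, Pi.sub_apply, Pi.add_apply, Pi.smul_apply, alpha_one, St_one, hW.one, hW'.one,
      smul_eq_mul]
    ring
  have hT : ∀ a b, M.T a b ≠ 1 → vv M A lam (M.T a b) = -1 := fun a b h1 => by
    simp [vv, h.t.alpha_fix lam h1 (M.T_smul_inf a b), St_T M h1]
  refine ⟨(gen_sub_pair (vv_gen lam) hW.irr hW'.irr hk).isIrrCharacter_of_pos ?_ ?_, h1, ?_, ?_, ?_,
    fun l hl => ?_, fun u hu hu1 => ?_, fun u hu hu1 => ?_⟩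
  · rw [inner_sub_pair hW.irr hW'.irr (hW.ne hr hW') hk (i1 hW n1) (i1 hW' n2), h.t.inner_vv_self hl]
    norm_num
  · rw [h1, ← h.card']
    have : (1 : ℝ) < Fintype.card F := by exact_mod_cast Fintype.one_lt_card
    have h2 : (0 : ℝ) < Nat.card A' := by exact_mod_cast Nat.card_pos
    simp only [Complex.mul_re, Complex.sub_re, Complex.natCast_re, Complex.one_re,
      Complex.natCast_im, mul_zero, sub_zero]
    exact mul_pos (by linarith) h2
  · simp only [Pi.sub_apply, Pi.add_apply, Pi.smul_apply, hT 0 1 (by simp), hW.sig, hW'.sig,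
      smul_eq_mul]
    ring
  · simp [hT 1 0 (by simp), hW.rho, hW'.rho]
  · simp [hT 1 1 (by simp), hW.rho', hW'.rho']
  · simp [vv, h.t.alpha_fix lam (by simpa using hl) (M.D_smul_inf l), St_D M hl, hW.hD l hl,
      hW'.hD l hl]
  · have h2 := (tiData_of_centralizer A h.t.cent).norm_alpha_sub_le h.t.norm lam (c := ⟨u, hu⟩)
      fun h => hu1 (congrArg Subtype.val h)
    simp only [Nat.cast_ofNat] at h2
    convert h2 using 2
    simp only [vv, Pi.sub_apply, Pi.add_apply, Pi.smul_apply, St_fpf M (h.t.fpf u hu hu1),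
      hW.hA u hu hu1, hW'.hA u hu hu1, smul_eq_mul]
    linear_combination -2 * hkk
  · simp only [vv, Pi.sub_apply, Pi.add_apply, Pi.smul_apply, St_fpf M (h.t'.fpf u hu hu1),
      hW.hA' u hu hu1, hW'.hA' u hu hu1, smul_eq_mul, alpha_eq_zero' _ _ (h.not_conj hu hu1)]
    linear_combination 2 * hkk

/-- The classification of the irreducible characters. -/
theorem Pair.classify {r : ℂ} (hr : r ≠ 0) (h : Pair M A A' (2 * r))
    {W W' : G → ℂ} (hW : RowW M A A' 1 r Complex.I W) (hW' : RowW M A A' 1 r (-Complex.I) W')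
    {χ : G → ℂ} (hχ : IsIrrCharacter G χ) (h1 : χ ≠ fun _ => 1) (h2 : χ ≠ St M) (h3 : χ ≠ W)
    (h4 : χ ≠ W') : RowI M χ ∨ RowY M A A' (2 * r) χ ∨ RowY M A' A (-(2 * r)) χ := by
  by_contra hcon
  simp only [not_or] at hcon
  obtain ⟨c1, c2, c3⟩ := hcon
  have e1 : avg M χ = 0 := avg_irr_eq_zero M hχ h1 h2 fun lam hl h => c1 (h ▸ rowI_IB hl)
  have key : ∀ {A A' : Subgroup G} {k : ℂ}, k = 1 ∨ k = -1 → Pair M A A' (2 * k * r) →
      RowW M A A' k r Complex.I W → RowW M A A' k r (-Complex.I) W' →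
      ¬ RowY M A A' (2 * k * r) χ → ∀ u ∈ A, u ≠ 1 → χ u = 0 := by
    intro A A' k hk h hW hW' c u hu hu1
    refine apply_eq_of_inner_alpha h.t.comm hχ.isClassFunction (fun lam hl => ?_) hu hu1
    have hY := h.rowY hk hr hW hW' hl
    have := hY.irr.classInner_of_ne hχ fun h => c (h ▸ hY)
    rw [classInner_sub_left, classInner_smul_left, classInner_add_left,
      hW.irr.classInner_of_ne hχ h3.symm, hW'.irr.classInner_of_ne hχ h4.symm,
      inner_vv_irr lam hχ h1 h2] at this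
    simpa using this
  have e2 := key (Or.inl rfl) (by rwa [mul_one]) hW hW' (by rwa [mul_one])
  have e3 := key (Or.inr rfl) (by convert h.symm using 1; ring) hW.symm hW'.symm
    (by convert c3 using 2; ring)
  have := h.degree_eq hχ h2 e1 e2 (by simpa using e3)
  exact hχ.apply_one_ne_zero (by simpa using this)

end Cfsg.Lib.Known.SzChar
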