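import Cfsg.Agent.Known.TwFS
import Cfsg.Agent.Char.Ramified
import Cfsg.Agent.Char.Degree

/-! The twisted Brauer–Witt reduction. -/

set_option autoImplicit false

namespace Cfsg.Lib.Known.TW

open Module Finset Cfsg.Lib.Char

variable {Γ : Type*} [Group Γ] {s : Γ →* ℤˣ} {V : Type} [AddCommGroup V] [Module ℂ V]
  [FiniteDimensional ℂ V] {ρ : HRep s V} {γ : Γ} {β : V →ₗ[ℂ] V →ₗ[ℂ] ℂ}

omit [FiniteDimensional ℂ V] in
theorem IsTw.move' {ε : ℂ} (h : IsTw ρ γ ε β) {g : Γ} (hg : s g = 1) (x y : V) :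
    β (ρ g x) y = β x (ρ (γ⁻¹ * g⁻¹ * γ) y) := by
  rw [h.move (by rw [s_conj, s_inv hg])]
  congr 3
  group

theorem lagr [Finite Γ] {L : Subgroup Γ} (hL : TW (s.comp L.subtype)) (hγ : γ ∈ L) (hs : s γ = -1)
    (h : IsTw ρ γ (-1) β) (h1 : Function.Injective β) :
    ∃ η : Γ → ℂ, IsCharacter (L ⊓ s.ker : Subgroup Γ) (fun g => η g) ∧ ∀ g ∈ L, s g = 1 →
      LinearMap.trace ℂ V (ρ g) = η g + η (γ⁻¹ * g⁻¹ * γ) := by
  classical
  let σ : Representation ℂ (L ⊓ s.ker : Subgroup Γ) V := ρ.rep.comp (Subgroup.inclusion inf_le_right)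
  let ρL := ρ.comp (t := s.comp L.subtype) L.subtype fun _ => rfl
  obtain ⟨Y, ⟨hY, hYβ⟩, hmax⟩ := WellFounded.has_min (wellFounded_gt (α := Submodule ℂ V))
    {Y | ρL.Inv Y ∧ ∀ x ∈ Y, ∀ y ∈ Y, β x y = 0} ⟨⊥, by simp [HRep.Inv], by simp⟩
  let Y' : Subrepresentation σ := ⟨Y, fun g v hv => hY ⟨g, g.2.1⟩ g.2.2 v hv⟩
  obtain ⟨C, hC⟩ := exists_isCompl Y'
  have hm : ∀ g ∈ L, s g = 1 → γ⁻¹ * g⁻¹ * γ ∈ L ⊓ s.ker := fun g hg hg' =>
    ⟨L.mul_mem (L.mul_mem (L.inv_mem hγ) (L.inv_mem hg)) hγ, (s_conj s γ _).trans (s_inv hg')⟩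
  have k1 : ∀ y ∈ C.toSubmodule, (∀ x ∈ Y, β x y = 0) → y = 0 := fun y hy hy' => by
    by_contra h0
    let Z : Submodule ℂ V := C.toSubmodule ⊓ ⨅ x : Y, LinearMap.ker (β x)
    have hZ : ∀ z, z ∈ Z ↔ z ∈ C.toSubmodule ∧ ∀ x ∈ Y, β x z = 0 := fun z => by simp [Z]
    have hZi : ρL.Inv Z := fun g hg z hz => (hZ _).2 ⟨C.2 ⟨g, g.2, hg⟩ ((hZ z).1 hz).1, fun x hx =>
      (h.move hg x z).trans (((hZ z).1 hz).2 _ (hY ((⟨γ, hγ⟩ : L) * g⁻¹ * (⟨γ, hγ⟩ : L)⁻¹)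
        (by rw [s_conj', s_inv hg]) x hx))⟩
    have : Nontrivial Z := ⟨⟨y, (hZ y).2 ⟨hy, hy'⟩⟩, 0, fun e => h0 (congrArg Subtype.val e)⟩
    obtain ⟨W, hW, hW0, hWi, hWβ⟩ := Iso.of_sub hZi (hL ⟨γ, hγ⟩ hs Z (ρL.sub Z hZi) _ (by simp)
      ((IsTw.comp (t := s.comp L.subtype) L.subtype (fun _ => rfl) (γ := ⟨γ, hγ⟩) h).sub hZi))
    refine hmax (Y ⊔ W) ⟨fun g hg z hz => ?_, fun a ha b hb => ?_⟩ (left_lt_sup.2 fun e => hW0 ?_)
    · obtain ⟨a, ha, b, hb, rfl⟩ := Submodule.mem_sup.1 hz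
      rw [map_add]
      exact Submodule.add_mem_sup (hY g hg a ha) (hWi g hg b hb)
    · obtain ⟨a, ha₁, a', ha', rfl⟩ := Submodule.mem_sup.1 ha
      obtain ⟨b, hb₁, b', hb', rfl⟩ := Submodule.mem_sup.1 hb
      have := ((hZ _).1 (hW ha')).2 _ (hY (⟨γ, hγ⟩ * ⟨γ, hγ⟩) (s_sq _ _) b hb₁)
      simp only [map_add, LinearMap.add_apply, hYβ a ha₁ b hb₁, hWβ a' ha' b' hb',
        ((hZ _).1 (hW hb')).2 a ha₁, h.sym b a', zero_add, add_zero]
      exact mul_eq_zero_of_right _ this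
    · refine (Submodule.eq_bot_iff _).2 fun w hw => ?_
      have : w ∈ (Y' ⊓ C).toSubmodule := ⟨e hw, ((hZ w).1 (hW hw)).1⟩
      rwa [hC.inf_eq_bot] at this
  refine ⟨extendByZero _ C.toRepresentation.character, ?_, fun g hg hg' => ?_⟩
  · simpa only [extendByZero_coe] using isCharacter_rep C.toRepresentation
  rw [extendByZero_coe _ _ ⟨_, hm g hg hg'⟩, extendByZero_coe (L ⊓ s.ker) _ ⟨g, hg, hg'⟩, add_comm]
  rw [show LinearMap.trace ℂ V (ρ g) = σ.character ⟨g, hg, hg'⟩ from rfl,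
    character_eq_add_of_isCompl hC, Pi.add_apply, add_left_inj]
  refine trace_eq_of_pairing (β := β.compl₁₂ Y.subtype C.toSubmodule.subtype)
    ((injective_iff_map_eq_zero _).2 fun x hx => Subtype.ext (h1 (LinearMap.ext fun y => ?_)))
    ((injective_iff_map_eq_zero _).2 fun y hy => Subtype.ext (k1 _ y.2 fun x hx =>
      LinearMap.congr_fun hy ⟨x, hx⟩)) fun x y => h.move' hg' x y
  have : y ∈ (Y' ⊔ C).toSubmodule := by rw [hC.sup_eq_top]; trivial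
  obtain ⟨a, ha, b, hb, rfl⟩ := Submodule.mem_sup.1 this
  rw [map_add, hYβ _ x.2 a ha, zero_add, ZeroMemClass.coe_zero, map_zero]
  exact LinearMap.congr_fun hx ⟨b, hb⟩

theorem prod_avg {A B : Type*} [Group A] [Group B] [Finite A] [Fintype B] {ξ : A × B → ℂ}
    (h : IsCharacter _ ξ) (a : A) : ∃ z, IsIntegral ℤ z ∧ ∑ b, ξ (a, b) = Fintype.card B * z := by
  classical
  have := Fintype.ofFinite A
  let e : B ≃ (MonoidHom.fst A B).ker :=
    ⟨fun b => ⟨(1, b), rfl⟩, fun n => n.1.2, fun _ => rfl, fun n => Subtype.ext (Prod.ext n.2.symm rfl)⟩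
  refine ⟨_, IsCharacter_isIntegral (isCharacter_coset_average (MonoidHom.fst A B).ker h) (a, 1), ?_⟩
  rw [← Nat.card_congr e, ← e.sum_comp, Nat.card_eq_fintype_card,
    mul_inv_cancel_left₀ (Nat.cast_ne_zero.2 Fintype.card_ne_zero)]
  simp [e]

theorem sum_mem_of_orbit {X : Type*} [Fintype X] [MulAction Γ X] (I : AddSubgroup ℂ) {S : X → ℂ}
    (h1 : ∀ (g : Γ) x, S (g • x) = S x)
    (h2 : ∀ x, ((MulAction.stabilizer Γ x).index : ℂ) * S x ∈ I) : ∑ x, S x ∈ I := by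
  classical
  have := Fintype.ofFinite (MulAction.orbitRel.Quotient Γ X)
  rw [← sum_fiberwise univ (fun x => (Quotient.mk'' x : MulAction.orbitRel.Quotient Γ X))]
  refine sum_mem fun ω _ => ?_
  induction ω using Quotient.inductionOn' with | h x => ?_
  rw [sum_congr rfl (g := fun _ => S x) fun y hy => ?_, sum_const, nsmul_eq_mul]
  · have := h2 x
    rwa [MulAction.index_stabilizer, Set.ncard_eq_toFinset_card', show Set.toFinset _ = _ from ?_] at this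
    ext y
    simp [Quotient.eq'', MulAction.orbitRel_apply]
  · obtain ⟨g, rfl⟩ := Quotient.exact' (mem_filter.1 hy).2
    exact h1 g x

/-- The twisted conjugation. -/
def tw (s : Γ →* ℤˣ) (n g : Γ) : Γ := (n * g * n⁻¹) ^ ((s n : ℤˣ) : ℤ)

theorem tw_eq_1' : type_of% @tw.eq_1 := @tw.eq_1

theorem tw_mul (m n g : Γ) : tw s (m * n) g = tw s m (tw s n g) := by
  simp only [tw, map_mul, Units.val_mul, ← MulAut.conj_apply, ← map_zpow, MulAut.mul_apply,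
    mul_comm (s m : ℤ), zpow_mul]

theorem tw_pow (n g : Γ) (k : ℕ) : tw s n (g ^ k) = tw s n g ^ k := by
  simp only [tw, ← MulAut.conj_apply, ← map_zpow, ← zpow_natCast, ← zpow_mul, mul_comm]

theorem tw_inv (n g : Γ) : tw s n g⁻¹ = (tw s n g)⁻¹ := by
  simp only [tw, ← MulAut.conj_apply, map_inv, inv_zpow]

theorem tw_mul_of_commute (n : Γ) {a b : Γ} (h : Commute a b) : tw s n (a * b) = tw s n a * tw s n b := by
  simp only [tw, ← MulAut.conj_apply, ← map_zpow, h.mul_zpow]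
  rw [map_mul]

theorem s_tw (n g : Γ) : s (tw s n g) = 1 ↔ s g = 1 := by
  rw [tw, map_zpow, s_conj']
  rcases Int.units_eq_one_or (s n) with h | h <;> simp [h]

/-- The group with the twisted conjugation action. -/
def Tw (_s : Γ →* ℤˣ) : Type _ := Γ

instance : MulAction Γ (Tw s) where
  smul := tw s
  one_smul (g : Γ) := show tw s 1 g = g by simp [tw]
  mul_smul := tw_mul

theorem tw_tw (n g : Γ) : tw s n⁻¹ (tw s n g) = g := by
  rw [← tw_mul, inv_mul_cancel]; simp [tw]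

theorem tw_mem_iff {P : Subgroup Γ} {n g : Γ} : tw s n g ∈ P ↔ n * g * n⁻¹ ∈ P := by
  rw [tw]
  rcases Int.units_eq_one_or (s n) with h | h <;> simp [h, -mul_inv_rev]

theorem odd_fixedBy {N : Type*} [Group N] [Finite N] (P : Sylow 2 N) {u : N} {v : ℕ} (h : u ^ 2 ^ v = 1) :
    Odd (Nat.card (MulAction.fixedBy (N ⧸ (P : Subgroup N)) u)) := by
  have h0 : IsPGroup 2 (Subgroup.zpowers u) := fun ⟨_, k, e⟩ => ⟨v, Subtype.ext (by
    subst e
    change (u ^ k) ^ 2 ^ v = 1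
    rw [← zpow_natCast, ← zpow_mul, mul_comm, zpow_mul, zpow_natCast, h, one_zpow])⟩
  have := h0.card_modEq_card_fixedPoints (N ⧸ (P : Subgroup N))
  rw [show MulAction.fixedPoints (Subgroup.zpowers u) (N ⧸ (P : Subgroup N)) = MulAction.fixedBy _ u from
    Set.ext fun q => ⟨fun h => h ⟨u, Subgroup.mem_zpowers u⟩, fun h ⟨_, k, e⟩ =>
      e ▸ MulAction.fixedBy_subset_fixedBy_zpow _ u k h⟩] at this
  have h1 : ¬ 2 ∣ Nat.card (N ⧸ (P : Subgroup N)) := P.not_dvd_index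
  rw [Nat.odd_iff, ← this]
  omega

open Classical in
theorem sum_fixedBy {N : Type*} [Group N] [Fintype N] (t : N →* ℤˣ) (P : Subgroup N) {f : N → ℂ}
    (hf : ∀ n u, t u = 1 → f (tw t n u) = f u) :
    ∑ u with t u = 1, Nat.card (MulAction.fixedBy (N ⧸ P) u) * f u =
      P.index * ∑ u : (P ⊓ t.ker : Subgroup N), f u := by
  have := Fintype.ofFinite (N ⧸ P)
  simp only [Nat.card_eq_fintype_card, Fintype.card_subtype, card_filter, Nat.cast_sum, sum_mul]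
  rw [sum_comm, Subgroup.index, Nat.card_eq_fintype_card, ← card_univ, ← nsmul_eq_mul, ← sum_const]
  refine sum_congr rfl fun q _ => ?_
  induction q using QuotientGroup.induction_on with | H n => ?_
  have k : ∀ u, (n : N ⧸ P) ∈ MulAction.fixedBy (N ⧸ P) u ↔ tw t n⁻¹ u ∈ P := fun u => by
    rw [tw_mem_iff, MulAction.mem_fixedBy, MulAction.Quotient.smul_coe, eq_comm, QuotientGroup.eq]
    simp [mul_assoc]
  simp only [Nat.cast_ite, Nat.cast_one, Nat.cast_zero, ite_mul, one_mul, zero_mul, ← sum_filter,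
    filter_filter, k]
  rw [← sum_subtype (univ.filter (· ∈ P ⊓ t.ker)) (by simp)]
  refine sum_nbij' (tw t n⁻¹) (tw t n) (fun u hu => ?_) (fun u hu => ?_) (fun u _ => ?_)
    (fun u _ => tw_tw _ _) fun u hu => (hf _ _ ?_).symm
  · simpa [s_tw, and_comm] using hu
  · simpa [s_tw, tw_tw, and_comm] using hu
  · simpa using tw_tw (s := t) n⁻¹ u
  · exact (mem_filter.1 hu).2.1

theorem IsTw.trace_tw {ε : ℂ} (h : IsTw ρ γ ε β) (hs : s γ = -1) (h1 : Function.Injective β)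
    (h2 : Function.Injective β.flip) (n : Γ) {g : Γ} (hg : s g = 1) :
    LinearMap.trace ℂ V (ρ (tw s n g)) = LinearMap.trace ℂ V (ρ g) := by
  have k : ∀ n g, s n = 1 → s g = 1 →
      LinearMap.trace ℂ V (ρ (tw s n g)) = LinearMap.trace ℂ V (ρ g) := fun n g hn hg => by
    simpa [tw, hn, Representation.character, HRep.rep] using ρ.rep.char_conj ⟨g, hg⟩ ⟨n, hn⟩
  rcases Int.units_eq_one_or (s n) with hn | hn
  · exact k n g hn hg
  · have h3 : s (γ * n) = 1 := by rw [map_mul, hs, hn]; rfl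
    rw [← k _ g h3 hg, ← inv_mul_cancel_left γ n, tw_mul, mul_inv_cancel_left,
      trace_eq_of_pairing h1 h2 (h.move' ((s_tw _ _).2 hg))]
    simp [tw, hs, mul_assoc]

theorem avg [Finite Γ] {x : Γ} {H : Subgroup Γ} (hx : x ∈ H) {B : Type*} [Group B] [Fintype B]
    (φ : B →* Γ) (hφ : ∀ b, φ b ∈ H) (hc : ∀ b, Commute x (φ b)) {τ : B → ℂ} (hτ : IsCharacter B τ)
    {η θ : Γ → ℂ} (hη : IsCharacter H fun g => η g) (hθ : IsCharacter H fun g => θ g) :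
    ∃ z, IsIntegral ℤ z ∧ ∑ b, τ b * (η (x * φ b) * θ (x * φ b)⁻¹) = Fintype.card B * z := by
  let ψ := ((Subgroup.zpowers x).subtype.noncommCoprod φ fun ⟨_, k, e⟩ b =>
    e ▸ (hc b).zpow_left k).codRestrict H fun ⟨⟨_, k, e⟩, b⟩ => H.mul_mem (e ▸ H.zpow_mem hx k) (hφ b)
  exact prod_avg ((hτ.comp (MonoidHom.snd _ _)).mul ((hη.mul hθ.inv).comp ψ)) ⟨x, Subgroup.mem_zpowers x⟩

theorem card_eq_two_mul (hs : s γ = -1) : Nat.card Γ = 2 * Nat.card s.ker := by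
  rw [← s.ker.index_mul_card, Subgroup.index_ker, MonoidHom.range_eq_top.2 fun u => ?_, Subgroup.card_top,
    Nat.card_eq_fintype_card, Fintype.card_units_int]
  rcases Int.units_eq_one_or u with rfl | rfl
  exacts [⟨1, map_one s⟩, ⟨γ, hs⟩]

theorem IsTw.two_part [Finite Γ] (h : IsTw ρ γ (-1) β) (hs : s γ = -1) (h1 : Function.Injective β)
    (h2 : Function.Injective β.flip) {x : Γ} (hx : s x = 1) {N : Subgroup Γ} (hN : ∀ n ∈ N, tw s n x = x)
    (P : Subgroup N) [Fintype (P ⊓ (s.comp N.subtype).ker : Subgroup N)] {L : Subgroup Γ} (hxL : x ∈ L)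
    (hPL : ∀ n ∈ P, (n : Γ) ∈ L) (hL : TW (s.comp L.subtype)) {τ : N → ℂ} (hτ : IsCharacter N τ)
    (hτ' : ∀ n u, τ (tw (s.comp N.subtype) n u) = τ u) :
    ∃ z, IsIntegral ℤ z ∧ ∑ u : (P ⊓ (s.comp N.subtype).ker : Subgroup N), τ u *
      (LinearMap.trace ℂ V (ρ (x * u)) * LinearMap.trace ℂ V (ρ (x * u)⁻¹)) = Nat.card P * z := by
  have hc : ∀ u : (P ⊓ (s.comp N.subtype).ker : Subgroup N), Commute x u := fun u => by
    have := hN _ u.1.2
    rw [tw, show s u = 1 from u.2.2] at this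
    exact (mul_inv_eq_iff_eq_mul.1 ((zpow_one _).symm.trans this)).symm
  have hθ : IsCharacter s.ker fun g => LinearMap.trace ℂ V (ρ g) := isCharacter_rep ρ.rep
  by_cases hP : ∀ n ∈ P, s n = 1
  · obtain ⟨z, hz, e⟩ := avg (H := s.ker) (η := fun g => LinearMap.trace ℂ V (ρ g))
      (θ := fun g => LinearMap.trace ℂ V (ρ g)) hx (N.subtype.comp (P ⊓ (s.comp N.subtype).ker).subtype)
      (fun u => u.2.2) hc
      (hτ.comp (Subgroup.subtype _)) hθ hθ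
    refine ⟨z, hz, e.trans ?_⟩
    rw [← Nat.card_eq_fintype_card, inf_eq_left.2 fun n hn => hP n hn]
  push Not at hP
  obtain ⟨c, hcP, hsc⟩ := hP
  replace hsc := (Int.units_eq_one_or _).resolve_left hsc
  obtain ⟨η, hη, hη'⟩ := lagr hL (hPL c hcP) hsc (h.change (hs.trans hsc.symm)) fun a b e =>
    h1 (LinearMap.ext fun y => by
      obtain ⟨y, rfl⟩ := ρ.surj (s_inv_mul (hs.trans hsc.symm)) y
      exact LinearMap.congr_fun e y)
  obtain ⟨z, hz, e⟩ := avg (H := L ⊓ s.ker) (θ := fun g => LinearMap.trace ℂ V (ρ g)) ⟨hxL, hx⟩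
    (N.subtype.comp (P ⊓ (s.comp N.subtype).ker).subtype)
    (fun u => ⟨hPL _ u.2.1, u.2.2⟩) hc (hτ.comp (Subgroup.subtype _)) hη
    (hθ.comp (Subgroup.inclusion inf_le_right))
  have hm : ∀ n ∈ P, ∀ u : (P ⊓ (s.comp N.subtype).ker : Subgroup N),
      tw (s.comp N.subtype) n u ∈ P ⊓ (s.comp N.subtype).ker := fun n hn u =>
    ⟨tw_mem_iff.2 (P.mul_mem (P.mul_mem hn u.2.1) (P.inv_mem hn)), (s_tw _ _).2 u.2.2⟩
  let E : (P ⊓ (s.comp N.subtype).ker : Subgroup N) ≃ (P ⊓ (s.comp N.subtype).ker : Subgroup N) :=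
    ⟨fun u => ⟨_, hm c⁻¹ (P.inv_mem hcP) u⟩, fun u => ⟨_, hm c hcP u⟩,
      fun u => Subtype.ext (by simpa using tw_tw c⁻¹ _), fun u => Subtype.ext (tw_tw c _)⟩
  have hE : ∀ u, x * (E u : N) = tw s (c : Γ)⁻¹ (x * u) := fun u => by
    rw [tw_mul_of_commute _ (hc u), hN _ (N.inv_mem c.2)]
    simp [E, tw]
  refine ⟨z, hz, ?_⟩
  rw [card_eq_two_mul (s := (s.comp N.subtype).comp P.subtype) (γ := ⟨c, hcP⟩) hsc,
    Nat.card_congr (α := ((s.comp N.subtype).comp P.subtype).ker) (β := (P ⊓ (s.comp N.subtype).ker : Subgroup N))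
      ⟨fun u => ⟨u, u.1.2, u.2⟩, fun u => ⟨⟨u, u.2.1⟩, u.2.2⟩, fun _ => rfl, fun _ => rfl⟩,
    Nat.cast_mul, mul_assoc, Nat.card_eq_fintype_card, ← e, Nat.cast_two, two_mul]
  nth_rw 3 [← E.sum_comp]
  rw [← sum_add_distrib]
  refine sum_congr rfl fun u _ => ?_
  have hu : s (x * u) = 1 := s_mul hx u.2.2
  simp only [MonoidHom.comp_apply, Subgroup.subtype_apply, hE]
  rw [hη' _ (L.mul_mem hxL (hPL _ u.2.1)) hu, ← tw_inv, h.trace_tw hs h1 h2 _ (s_inv hu),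
    show τ (E u) = τ u from hτ' _ _, show tw s (c : Γ)⁻¹ (x * u) = (c : Γ)⁻¹ * (x * u)⁻¹ * c by simp [tw, hsc, mul_assoc]]
  ring

theorem indicator_eq {N : Type*} [Group N] [Finite N] (P : Sylow 2 N) {v m : ℕ} (hm : Odd m)
    (h : Nat.card N ∣ 2 ^ v * m) (u : N) [Decidable (u ^ 2 ^ v = 1)] : ∃ c : ℤ,
    (if u ^ 2 ^ v = 1 then 1 else 0 : ℂ) = (Nat.card (MulAction.fixedBy (N ⧸ (P : Subgroup N)) u) : ℂ) ^
      ((2 ^ v).totient - 1 + 1) + 2 ^ v * c := by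
  split_ifs with hu
  · obtain ⟨c, hc⟩ := (Nat.ModEq.pow_totient
      ((Nat.coprime_two_right.2 (odd_fixedBy P hu)).pow_right v)).dvd
    rw [Nat.sub_add_cancel (Nat.totient_pos.2 (by positivity))]
    refine ⟨c, ?_⟩
    have := congrArg (Int.cast : ℤ → ℂ) hc
    push_cast at this
    linear_combination this
  refine ⟨0, ?_⟩
  rw [Set.eq_empty_of_forall_notMem (s := MulAction.fixedBy _ u) fun q hq => hu ?_]
  · simp
  induction q using QuotientGroup.induction_on with | H n => ?_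
  rw [MulAction.mem_fixedBy, MulAction.Quotient.smul_coe, eq_comm, QuotientGroup.eq] at hq
  obtain ⟨k, hk⟩ := P.2 ⟨_, hq⟩
  have h1 : u ^ 2 ^ k = 1 := by
    have : (n⁻¹ * u * n⁻¹⁻¹) ^ 2 ^ k = 1 := by simpa [mul_assoc] using congrArg Subtype.val hk
    rwa [conj_pow, conj_eq_one_iff] at this
  exact orderOf_dvd_iff_pow_eq_one.1 ((((Nat.coprime_two_left.2 hm).pow_left k).coprime_dvd_left
    (orderOf_dvd_of_pow_eq_one h1)).dvd_of_dvd_mul_right ((orderOf_dvd_natCard u).trans h))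

open Classical in
theorem IsTw.fibre [Fintype Γ] (h : IsTw ρ γ (-1) β) (hs : s γ = -1) (h1 : Function.Injective β)
    (h2 : Function.Injective β.flip) {v m e : ℕ} (hΓ : Nat.card Γ = 2 ^ v * m) (hm : Odd m)
    (he1 : 2 ^ v ∣ e) (he2 : e ≡ 1 [MOD m]) (H : ∀ x, s x = 1 → Odd (orderOf x) → ∀ P : Subgroup Γ,
      IsPGroup 2 P → (∀ n ∈ P, tw s n x = x) → ∃ L : Subgroup Γ, x ∈ L ∧ P ≤ L ∧ TW (s.comp L.subtype))
    (x : Γ) {N : Subgroup Γ} (hN : ∀ n, n ∈ N ↔ tw s n x = x) : ∃ z, IsIntegral ℤ z ∧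
      N.index * ∑ g with s g = 1 ∧ g ^ e = x,
        LinearMap.trace ℂ V (ρ g) * LinearMap.trace ℂ V (ρ g⁻¹) = 2 ^ v * z := by
  by_cases h0 : ¬ ∃ g, s g = 1 ∧ g ^ e = x
  · exact ⟨0, isIntegral_zero, by rw [filter_false_of_mem fun g _ hg => h0 ⟨g, hg⟩]; simp⟩
  obtain ⟨g₀, hg₀, hx⟩ := not_not.1 h0
  have hx1 : s x = 1 := by rw [← hx, map_pow, hg₀, one_pow]
  have hxm : x ^ m = 1 := by
    rw [← hx, ← pow_mul]
    exact orderOf_dvd_iff_pow_eq_one.1 ((orderOf_dvd_natCard _).trans (hΓ ▸ mul_dvd_mul_right he1 m))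
  have hpe : ∀ g : Γ, g ^ m = 1 → g ^ e = g := fun g hg => (pow_eq_pow_of_modEq he2 hg).trans (pow_one g)
  have hc : ∀ u, s u = 1 → (u ∈ N ↔ Commute x u) := fun u hu => by
    rw [hN, tw, hu, Units.val_one, zpow_one, mul_inv_eq_iff_eq_mul, eq_comm, commute_iff_eq]
  let P : Sylow 2 N := default
  obtain ⟨L, hxL, hPL, hL⟩ := H x hx1 (hm.of_dvd_nat (orderOf_dvd_of_pow_eq_one hxm)) _ (P.2.map N.subtype)
    (by rintro _ ⟨n, -, rfl⟩; exact (hN n).1 n.2)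
  have hπ := isCharacter_card_fixedBy N (N ⧸ (P : Subgroup N))
  have hπ' : ∀ n u, (Nat.card (MulAction.fixedBy (N ⧸ (P : Subgroup N)) (tw (s.comp N.subtype) n u)) : ℂ) =
      Nat.card (MulAction.fixedBy (N ⧸ (P : Subgroup N)) u) := fun n u => by
    refine .trans ?_ (hπ.isClassFunction u n)
    rw [tw]
    rcases Int.units_eq_one_or (s.comp N.subtype n) with h | h <;>
      simp [h, -mul_inv_rev, MulAction.fixedBy_inv]
  obtain ⟨z, hz, e1⟩ := h.two_part hs h1 h2 hx1 (fun n => (hN n).1) P hxL (fun n hn => hPL ⟨n, hn, rfl⟩) hL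
    (hπ.pow ((2 ^ v).totient - 1)) fun n u => by simp only [Pi.pow_apply, hπ']
  have e2 := sum_fixedBy (s.comp N.subtype) P (f := fun u =>
    (Nat.card (MulAction.fixedBy (N ⧸ (P : Subgroup N)) u) : ℂ) ^ ((2 ^ v).totient - 1) *
      (LinearMap.trace ℂ V (ρ (x * u)) * LinearMap.trace ℂ V (ρ (x * u)⁻¹))) fun n u hu => by
    replace hu : s u = 1 := hu
    have : x * (tw (s.comp N.subtype) n u : N) = tw s n (x * u) := by
      rw [tw_mul_of_commute _ ((hc _ hu).1 u.2), (hN _).1 n.2]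
      simp [tw]
    simp only [hπ', this]
    rw [← tw_inv, h.trace_tw hs h1 h2 _ (s_mul hx1 hu), h.trace_tw hs h1 h2 _ (s_inv (s_mul hx1 hu))]
  choose c hc' using fun u : N => indicator_eq P hm (hΓ ▸ N.card_subgroup_dvd_card) u
  have hθ : ∀ g, s g = 1 → IsIntegral ℤ (LinearMap.trace ℂ V (ρ g)) := fun g hg =>
    IsCharacter_isIntegral (isCharacter_rep ρ.rep) ⟨g, hg⟩
  refine ⟨m * z + N.index * ∑ u : N with s.comp N.subtype u = 1, c u *
    (LinearMap.trace ℂ V (ρ (x * u)) * LinearMap.trace ℂ V (ρ (x * u)⁻¹)),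
    ((isIntegral_natCast _).mul hz).add ((isIntegral_natCast _).mul (IsIntegral.sum _ fun u hu => ?_)), ?_⟩
  · have := s_mul hx1 (mem_filter.1 hu).2
    exact (isIntegral_intCast _).mul ((hθ _ this).mul (hθ _ (s_inv this)))
  rw [← sum_bij (s := univ.filter fun u : N => s.comp N.subtype u = 1 ∧ u ^ 2 ^ v = 1) (fun u _ => x * u)
    (fun u hu => ?_) (fun a _ b _ e => Subtype.ext (mul_left_cancel e)) (fun g hg => ?_) fun _ _ => rfl]
  · have e3 := congrArg (Nat.cast : ℕ → ℂ) (hΓ.symm.trans N.index_mul_card.symm)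
    rw [← (P : Subgroup N).index_mul_card] at e3
    push_cast at e3
    rw [← filter_filter, sum_filter (p := fun u : N => u ^ 2 ^ v = 1)]
    simp only [← boole_mul, hc', add_mul, sum_add_distrib, pow_succ', mul_assoc, ← mul_sum]
    linear_combination N.index * e2 + N.index * (P : Subgroup N).index * e1 - z * e3
  · obtain ⟨k, rfl⟩ := he1
    have ⟨hu1, hu2⟩ := (mem_filter.1 hu).2
    refine mem_filter.2 ⟨mem_univ _, s_mul hx1 hu1, ?_⟩
    rw [((hc u hu1).1 u.2).mul_pow, hpe x hxm, pow_mul, ← Subgroup.coe_pow, hu2]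
    simp
  · have ⟨hg1, hg2⟩ := (mem_filter.1 hg).2
    have hu := s_mul (s_inv hx1) hg1
    have hxg : Commute x g := hg2 ▸ (Commute.refl g).pow_left e
    refine ⟨⟨x⁻¹ * g, (hc _ hu).2 ((Commute.refl x).inv_right.mul_right hxg)⟩,
      mem_filter.2 ⟨mem_univ _, hu, Subtype.ext ?_⟩, mul_inv_cancel_left _ _⟩
    change (x⁻¹ * g) ^ 2 ^ v = 1
    rw [hxg.inv_left.mul_pow, inv_pow, inv_mul_eq_one, ← hg2, ← pow_mul, mul_comm, pow_mul, hpe]
    rw [← pow_mul, ← hΓ, pow_card_eq_one']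

theorem TW.of_BW [Finite Γ]
    (h : ∀ x, s x = 1 → Odd (orderOf x) → ∀ P : Subgroup Γ, IsPGroup 2 P →
      (∀ n ∈ P, (n * x * n⁻¹) ^ ((s n : ℤˣ) : ℤ) = x) →
      ∃ L : Subgroup Γ, x ∈ L ∧ P ≤ L ∧ TW (s.comp L.subtype)) : TW s := by
  classical
  have := Fintype.ofFinite Γ
  let _ : Fintype (Tw s) := this
  refine TWc.of_irr (by simp) fun γ hγ V _ _ _ _ ρ β hirr _ hβ => ?_
  by_cases h0 : β = 0
  · exact ⟨⊤, top_ne_bot, fun _ _ _ _ => trivial, by simp [h0]⟩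
  exfalso
  have h1 := (form_unique ρ (fun g => ρ (γ⁻¹ * g * γ)) (s · = 1) hirr
    (fun g hg => ρ.surj (by rw [s_conj, hg])) h0 hβ.inv hβ.inv).1
  have h2 : Function.Injective β.flip := (injective_iff_map_eq_zero _).2 fun y hy =>
    h1 (LinearMap.ext fun x => by rw [hβ.sym, ← LinearMap.flip_apply β, hy]; simp)
  obtain ⟨v, m, hm, hΓ⟩ := Nat.exists_eq_two_pow_mul_odd (Nat.card_pos (α := Γ)).ne'
  obtain ⟨e, he1, he2⟩ := Nat.chineseRemainder ((Nat.coprime_two_left.2 hm).pow_left v) 0 1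
  obtain ⟨z, hz, e1⟩ := sum_mem_of_orbit (Γ := Γ) (X := Tw s)
    ((integralClosure ℤ ℂ).toSubring.toAddSubgroup.map (AddMonoidHom.mulLeft (2 ^ v)))
    (S := fun x => ∑ g : Γ with s g = 1 ∧ g ^ e = x, LinearMap.trace ℂ V (ρ g) * LinearMap.trace ℂ V (ρ g⁻¹))
    (fun n (x : Γ) => (sum_nbij' (tw s n) (tw s n⁻¹) (fun g hg => mem_filter.2 ⟨mem_univ _,
        (s_tw _ _).2 (mem_filter.1 hg).2.1, by rw [← tw_pow, (mem_filter.1 hg).2.2]; rfl⟩)
      (fun g hg => mem_filter.2 ⟨mem_univ _, (s_tw _ _).2 (mem_filter.1 hg).2.1, by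
        rw [← tw_pow, (mem_filter.1 hg).2.2]; exact tw_tw _ _⟩) (fun g _ => tw_tw _ _)
      (fun g _ => by simpa using tw_tw n⁻¹ g) fun g hg => by
        rw [← tw_inv, hβ.trace_tw hγ h1 h2 _ (mem_filter.1 hg).2.1,
          hβ.trace_tw hγ h1 h2 _ (s_inv (mem_filter.1 hg).2.1)]).symm) fun x =>
    (hβ.fibre hγ h1 h2 hΓ hm ((Nat.modEq_zero_iff_dvd).1 he1) he2 h x
      (N := MulAction.stabilizer Γ x) fun n => Iff.rfl).imp fun z h => ⟨h.1, h.2.symm⟩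
  have : ρ.rep.IsIrreducible := (isIrreducible_iff _).2 ⟨‹_›, fun W hW => hirr W fun g hg => hW ⟨g, hg⟩⟩
  have e2 := (isIrrCharacter_rep ρ.rep).classInner_self
  simp only [classInner, ← (isCharacter_rep ρ.rep).apply_inv] at e2
  have e3 := congrArg (Nat.cast : ℕ → ℂ) (hΓ.symm.trans (card_eq_two_mul hγ))
  push_cast at e3
  have e4 := sum_fiberwise (univ.filter (s · = 1)) (· ^ e)
    fun g => LinearMap.trace ℂ V (ρ g) * LinearMap.trace ℂ V (ρ g⁻¹)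
  simp only [filter_filter] at e4
  replace e1 := e1.trans e4
  rw [sum_subtype (p := (· ∈ s.ker)) _ (by simp), AddMonoidHom.coe_mulLeft] at e1
  rw [inv_mul_eq_one₀ (Nat.cast_ne_zero.2 Nat.card_pos.ne')] at e2
  refine hm.not_two_dvd_nat (dvd_of_isIntegral_div two_ne_zero ?_)
  rwa [mul_left_cancel₀ (a := (2 : ℂ) ^ v) (b := m / (2 : ℕ)) (c := z) (by simp) ?_]
  rw [e1, Nat.cast_two]
  exact .trans (by linear_combination e3 / 2) e2

end Cfsg.Lib.Known.TW
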