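import Mathlib

/-!
Twisted Frobenius–Schur indicators, in terms of twisted invariant bilinear forms.
`TW s` says that no irreducible representation of `ker s` has twisted indicator `-1`.
-/

namespace Cfsg.Lib.Known.TW

open Module

section Lin

variable {V : Type*} [AddCommGroup V] [Module ℂ V] {ι : Type*}

theorem exists_irr [FiniteDimensional ℂ V] [Nontrivial V] (f : ι → End ℂ V) (P : ι → Prop) :
    ∃ Y : Submodule ℂ V, Y ≠ ⊥ ∧ (∀ i, P i → ∀ y ∈ Y, f i y ∈ Y) ∧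
      ∀ Z ≤ Y, (∀ i, P i → ∀ y ∈ Z, f i y ∈ Z) → Z = ⊥ ∨ Z = Y := by
  obtain ⟨Y, ⟨h0, hY⟩, hmin⟩ := WellFounded.has_min (wellFounded_lt (α := Submodule ℂ V))
    {Y | Y ≠ ⊥ ∧ ∀ i, P i → ∀ y ∈ Y, f i y ∈ Y} ⟨⊤, top_ne_bot, fun _ _ _ _ => trivial⟩
  refine ⟨Y, h0, hY, fun Z hZ hZ' => ?_⟩
  by_contra! h
  exact hmin Z ⟨h.1, hZ'⟩ (lt_of_le_of_ne hZ h.2)

theorem schur [FiniteDimensional ℂ V] [Nontrivial V] (f : ι → End ℂ V) (P : ι → Prop)
    (hirr : ∀ Z : Submodule ℂ V, (∀ i, P i → ∀ y ∈ Z, f i y ∈ Z) → Z = ⊥ ∨ Z = ⊤) {T : End ℂ V}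
    (hT : ∀ i, P i → T * f i = f i * T) : ∃ c : ℂ, T = c • 1 := by
  obtain ⟨c, hc⟩ := End.exists_eigenvalue T
  refine ⟨c, LinearMap.ext fun v => ?_⟩
  have := (hirr (T.eigenspace c) fun i hi y hy => by
    rw [End.mem_eigenspace_iff] at hy ⊢
    rw [← End.mul_apply, hT i hi, End.mul_apply, hy, map_smul]).resolve_left hc
  exact End.mem_eigenspace_iff.1 (this ▸ Submodule.mem_top)

theorem exists_common_eigen [FiniteDimensional ℂ V] [Nontrivial V] (f : ι → End ℂ V) (P : ι → Prop)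
    (hc : ∀ i j, P i → P j → f i * f j = f j * f i) :
    ∃ v : V, v ≠ 0 ∧ ∃ l : ι → ℂ, ∀ i, P i → f i v = l i • v := by
  classical
  obtain ⟨Y, h0, hY, hmin⟩ := exists_irr f P
  have : Nontrivial Y := Submodule.nontrivial_iff_ne_bot.2 h0
  have key : ∀ i, ∃ c : ℂ, P i → ∀ y ∈ Y, f i y = c • y := fun i => by
    by_cases hi : P i
    · obtain ⟨c, hc'⟩ := End.exists_eigenvalue ((f i).restrict (hY i hi))
      obtain ⟨y, hy⟩ := hc'.exists_hasEigenvector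
      have h1 := (hmin (Y ⊓ (f i).eigenspace c) inf_le_left fun j hj z hz => ⟨hY j hj z hz.1, by
        have := End.mem_eigenspace_iff.1 hz.2
        change _ ∈ (f i).eigenspace c
        rw [End.mem_eigenspace_iff, ← End.mul_apply, hc i j hi hj, End.mul_apply, this,
          map_smul]⟩).resolve_left fun h => hy.2 (Subtype.ext (by
            have : (y : V) ∈ Y ⊓ (f i).eigenspace c := ⟨y.2, End.mem_eigenspace_iff.2
              (congrArg Subtype.val hy.apply_eq_smul)⟩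
            rwa [h] at this))
      exact ⟨c, fun _ y hy => End.mem_eigenspace_iff.1 (h1.ge hy).2⟩
    · exact ⟨0, fun h => absurd h hi⟩
  choose l hl using key
  obtain ⟨v, hv, hv0⟩ := (Submodule.ne_bot_iff Y).1 h0
  exact ⟨v, hv0, l, fun i hi => hl i hi v hv⟩

theorem form_unique [FiniteDimensional ℂ V] [Nontrivial V] (f g : ι → End ℂ V) (P : ι → Prop)
    (hirr : ∀ Z : Submodule ℂ V, (∀ i, P i → ∀ y ∈ Z, f i y ∈ Z) → Z = ⊥ ∨ Z = ⊤)
    (hg : ∀ i, P i → Function.Surjective (g i)) {β β' : V →ₗ[ℂ] V →ₗ[ℂ] ℂ} (h0 : β ≠ 0)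
    (hβ : ∀ i, P i → ∀ a b, β (f i a) (g i b) = β a b)
    (hβ' : ∀ i, P i → ∀ a b, β' (f i a) (g i b) = β' a b) :
    Function.Injective β ∧ ∃ c : ℂ, ∀ a b, β' a b = c * β a b := by
  have hinj : Function.Injective β := by
    rw [← LinearMap.ker_eq_bot]
    refine (hirr _ fun i hi y hy => ?_).resolve_right fun h => h0 (LinearMap.ker_eq_top.1 h)
    rw [LinearMap.mem_ker] at hy ⊢
    refine LinearMap.ext fun b => ?_
    obtain ⟨b, rfl⟩ := hg i hi b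
    rw [hβ i hi, hy]; rfl
  refine ⟨hinj, ?_⟩
  let e : V ≃ₗ[ℂ] Dual ℂ V := LinearEquiv.ofInjectiveOfFinrankEq β hinj (Subspace.dual_finrank_eq).symm
  have he : ∀ φ, β (e.symm φ) = φ := fun φ => e.apply_symm_apply φ
  obtain ⟨c, hc⟩ := schur f P hirr (T := e.symm.toLinearMap ∘ₗ β') fun i hi =>
    LinearMap.ext fun a => hinj (LinearMap.ext fun b => by
      obtain ⟨b, rfl⟩ := hg i hi b
      simp only [End.mul_apply, LinearMap.comp_apply, LinearEquiv.coe_coe, he, hβ i hi, hβ' i hi])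
  refine ⟨c, fun a b => ?_⟩
  have := LinearMap.congr_fun hc a
  simp only [LinearMap.comp_apply, LinearEquiv.coe_coe, LinearMap.smul_apply, End.one_apply] at this
  rw [← he (β' a), this]; simp

theorem trace_eq_of_pairing {W : Type*} [AddCommGroup W] [Module ℂ W] [FiniteDimensional ℂ V]
    [FiniteDimensional ℂ W] {β : V →ₗ[ℂ] W →ₗ[ℂ] ℂ} (h1 : Function.Injective β)
    (h2 : Function.Injective β.flip) {S : End ℂ V} {T : End ℂ W}
    (h : ∀ x y, β (S x) y = β x (T y)) : LinearMap.trace ℂ V S = LinearMap.trace ℂ W T := by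
  have hd : finrank ℂ V = finrank ℂ (Dual ℂ W) := le_antisymm
    (LinearMap.finrank_le_finrank_of_injective h1) (by
      have := LinearMap.finrank_le_finrank_of_injective h2
      rw [Subspace.dual_finrank_eq] at this ⊢
      exact this)
  let e : V ≃ₗ[ℂ] Dual ℂ W := LinearEquiv.ofInjectiveOfFinrankEq β h1 hd
  rw [← LinearMap.trace_conj' S e, ← LinearMap.trace_transpose' T]
  congr 1
  refine LinearMap.ext fun φ => ?_
  obtain ⟨x, rfl⟩ := e.surjective φ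
  rw [LinearEquiv.conj_apply_apply, e.symm_apply_apply]
  exact LinearMap.ext fun y => h x y

end Lin

variable {Γ : Type*} [Group Γ] {s : Γ →* ℤˣ} {V : Type*} [AddCommGroup V] [Module ℂ V]

theorem s_conj (s : Γ →* ℤˣ) (γ g : Γ) : s (γ⁻¹ * g * γ) = s g := by
  rw [map_mul, map_mul, map_inv, mul_comm, ← mul_assoc, mul_inv_cancel, one_mul]

theorem s_conj' (s : Γ →* ℤˣ) (γ g : Γ) : s (γ * g * γ⁻¹) = s g := by
  rw [map_mul, map_mul, map_inv, mul_inv_cancel_comm]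

theorem s_sq (s : Γ →* ℤˣ) (γ : Γ) : s (γ * γ) = 1 := by rw [map_mul, Int.units_mul_self]

theorem s_mul {g h : Γ} (hg : s g = 1) (hh : s h = 1) : s (g * h) = 1 := by
  rw [map_mul, hg, hh, mul_one]

theorem s_inv {g : Γ} (hg : s g = 1) : s g⁻¹ = 1 := by rw [map_inv, hg, inv_one]

theorem s_inv_mul {g h : Γ} (hg : s g = s h) : s (g⁻¹ * h) = 1 := by
  rw [map_mul, map_inv, hg, inv_mul_cancel]

/-- A representation of the kernel of `s`, as a function on the whole group. -/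
structure HRep (s : Γ →* ℤˣ) (V : Type*) [AddCommGroup V] [Module ℂ V] where
  /-- the underlying function -/
  toFun : Γ → End ℂ V
  map_one : toFun 1 = 1
  map_mul : ∀ {g h}, s g = 1 → s h = 1 → toFun (g * h) = toFun g * toFun h

instance : CoeFun (HRep s V) fun _ => Γ → End ℂ V := ⟨HRep.toFun⟩

namespace HRep

variable (ρ : HRep s V)

theorem mul_apply {g h : Γ} (hg : s g = 1) (hh : s h = 1) (v : V) : ρ g (ρ h v) = ρ (g * h) v := by
  rw [ρ.map_mul hg hh, End.mul_apply]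

theorem inv_apply {g : Γ} (hg : s g = 1) (v : V) : ρ g⁻¹ (ρ g v) = v := by
  rw [ρ.mul_apply (s_inv hg) hg, inv_mul_cancel, ρ.map_one, End.one_apply]

theorem apply_inv {g : Γ} (hg : s g = 1) (v : V) : ρ g (ρ g⁻¹ v) = v := by
  rw [ρ.mul_apply hg (s_inv hg), mul_inv_cancel, ρ.map_one, End.one_apply]

theorem surj {g : Γ} (hg : s g = 1) : Function.Surjective (ρ g) := fun v => ⟨_, ρ.apply_inv hg v⟩

theorem inj {g : Γ} (hg : s g = 1) : Function.Injective (ρ g) :=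
  Function.LeftInverse.injective (ρ.inv_apply hg)

/-- The associated representation of the kernel. -/
def rep : Representation ℂ s.ker V where
  toFun g := ρ g
  map_one' := ρ.map_one
  map_mul' g h := ρ.map_mul g.2 h.2

/-- Invariant subspaces. -/
def Inv (Y : Submodule ℂ V) : Prop := ∀ g, s g = 1 → ∀ y ∈ Y, ρ g y ∈ Y

open Classical in
/-- Restriction to an invariant subspace. -/
noncomputable def sub (Y : Submodule ℂ V) (hY : ρ.Inv Y) : HRep s Y where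
  toFun g := if h : s g = 1 then (ρ g).restrict (hY g h) else 1
  map_one := by
    rw [dif_pos (_root_.map_one s)]
    exact LinearMap.ext fun y => Subtype.ext (by simp [ρ.map_one])
  map_mul {g h} hg hh := by
    rw [dif_pos hg, dif_pos hh, dif_pos (s_mul hg hh)]
    exact LinearMap.ext fun y => Subtype.ext (ρ.mul_apply hg hh y).symm

theorem coe_sub {Y : Submodule ℂ V} (hY : ρ.Inv Y) {g : Γ} (hg : s g = 1) (y : Y) :
    (ρ.sub Y hY g y : V) = ρ g y := by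
  simp only [sub, dif_pos hg]; rfl

/-- Restriction along a homomorphism. -/
def comp {K : Type*} [Group K] {t : K →* ℤˣ} (ι : K →* Γ) (h : ∀ k, s (ι k) = t k) : HRep t V where
  toFun k := ρ (ι k)
  map_one := by rw [_root_.map_one, ρ.map_one]
  map_mul {a b} ha hb := by rw [_root_.map_mul, ρ.map_mul (by rw [h, ha]) (by rw [h, hb])]

end HRep

/-- Twisted invariant forms with sign `ε`. -/
structure IsTw (ρ : HRep s V) (γ : Γ) (ε : ℂ) (β : V →ₗ[ℂ] V →ₗ[ℂ] ℂ) : Prop where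
  inv : ∀ g, s g = 1 → ∀ x y, β (ρ g x) (ρ (γ⁻¹ * g * γ) y) = β x y
  sym : ∀ x y, β y x = ε * β (ρ (γ * γ) x) y

/-- There is a non-zero isotropic invariant subspace. -/
def Iso (ρ : HRep s V) (β : V →ₗ[ℂ] V →ₗ[ℂ] ℂ) : Prop :=
  ∃ Y : Submodule ℂ V, Y ≠ ⊥ ∧ ρ.Inv Y ∧ ∀ x ∈ Y, ∀ y ∈ Y, β x y = 0

/-- No twisted indicator `-1` among the representations on which `N` acts by the scalars `μ`. -/
def TWc (s : Γ →* ℤˣ) (N : Set Γ) (μ : Γ → ℂ) : Prop :=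
  ∀ γ, s γ = -1 → ∀ (V : Type) [AddCommGroup V] [Module ℂ V] [FiniteDimensional ℂ V] [Nontrivial V]
    (ρ : HRep s V) (β : V →ₗ[ℂ] V →ₗ[ℂ] ℂ), (∀ n ∈ N, ρ n = μ n • 1) → IsTw ρ γ (-1) β → Iso ρ β

/-- No twisted indicator `-1`. -/
def TW (s : Γ →* ℤˣ) : Prop := TWc s ∅ 1

variable {ρ : HRep s V} {γ : Γ} {ε : ℂ} {β : V →ₗ[ℂ] V →ₗ[ℂ] ℂ}

theorem IsTw.move (h : IsTw ρ γ ε β) {g : Γ} (hg : s g = 1) (x y : V) :
    β x (ρ g y) = β (ρ (γ * g⁻¹ * γ⁻¹) x) y := by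
  have h1 : s (γ * g * γ⁻¹) = 1 := by rw [s_conj', hg]
  rw [← h.inv _ h1 (ρ (γ * g⁻¹ * γ⁻¹) x) y, ρ.mul_apply h1 (by rw [s_conj', s_inv hg])]
  simp [mul_assoc, ρ.map_one]

theorem IsTw.change (h : IsTw ρ γ ε β) {γ' : Γ} (hs : s γ = s γ') :
    IsTw ρ γ' ε (β.compl₂ (ρ (γ⁻¹ * γ'))) := by
  have h1 := s_inv_mul hs
  refine ⟨fun g hg x y => ?_, fun x y => ?_⟩
  · simp only [LinearMap.compl₂_apply]
    rw [ρ.mul_apply h1 (by rw [s_conj, hg]), ← h.inv g hg x,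
      ρ.mul_apply (by rw [s_conj, hg]) h1]
    congr 2; group
  · simp only [LinearMap.compl₂_apply]
    rw [h.sym, h.move h1, ρ.mul_apply (s_sq s γ) h1,
      ρ.mul_apply (by rw [s_conj', s_inv h1]) (s_sq s γ')]
    congr 4; group

theorem Iso.of_change {g : Γ} (hg : s g = 1) (h : Iso ρ (β.compl₂ (ρ g))) : Iso ρ β := by
  obtain ⟨Y, h0, hY, h⟩ := h
  refine ⟨Y, h0, hY, fun x hx y hy => ?_⟩
  have := h x hx _ (hY _ (s_inv hg) y hy)
  rwa [LinearMap.compl₂_apply, ρ.apply_inv hg] at this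

theorem IsTw.sub (h : IsTw ρ γ ε β) {Y : Submodule ℂ V} (hY : ρ.Inv Y) :
    IsTw (ρ.sub Y hY) γ ε (β.compl₁₂ Y.subtype Y.subtype) := by
  refine ⟨fun g hg x y => ?_, fun x y => ?_⟩
  · simp only [LinearMap.compl₁₂_apply, Submodule.subtype_apply]
    rw [ρ.coe_sub hY hg, ρ.coe_sub hY (by rw [s_conj, hg]), h.inv g hg]
  · simp only [LinearMap.compl₁₂_apply, Submodule.subtype_apply]
    rw [ρ.coe_sub hY (s_sq s γ), h.sym]

theorem Iso.of_sub {Y : Submodule ℂ V} (hY : ρ.Inv Y)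
    (h : Iso (ρ.sub Y hY) (β.compl₁₂ Y.subtype Y.subtype)) :
    ∃ Z ≤ Y, Z ≠ ⊥ ∧ ρ.Inv Z ∧ ∀ x ∈ Z, ∀ y ∈ Z, β x y = 0 := by
  obtain ⟨Z, h0, hZ, h⟩ := h
  refine ⟨Z.map Y.subtype, Submodule.map_subtype_le _ _, fun h1 => h0 ?_, ?_, ?_⟩
  · exact Submodule.map_injective_of_injective Y.injective_subtype (by simpa using h1)
  · rintro g hg _ ⟨y, hy, rfl⟩
    exact ⟨_, hZ g hg y hy, ρ.coe_sub hY hg y⟩
  · rintro _ ⟨x, hx, rfl⟩ _ ⟨y, hy, rfl⟩
    exact h x hx y hy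

theorem IsTw.comp {K : Type*} [Group K] {t : K →* ℤˣ} (ι : K →* Γ) (hι : ∀ k, s (ι k) = t k)
    {γ : K} (h : IsTw ρ (ι γ) ε β) : IsTw (ρ.comp ι hι) γ ε β :=
  ⟨fun g hg x y => by
    have := h.inv (ι g) (by rw [hι, hg]) x y
    simpa [HRep.comp] using this, fun x y => by simpa [HRep.comp] using h.sym x y⟩

theorem IsTw.iso_of_orbit (h : IsTw ρ γ ε β) (S : Set V) {v : V} (hv : v ∈ S) (hv0 : v ≠ 0)
    (hS : ∀ g, s g = 1 → ∀ x ∈ S, ∀ y ∈ S, β (ρ g x) y = 0) : Iso ρ β := by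
  let T : Set V := {z | ∃ g, s g = 1 ∧ ∃ x ∈ S, z = ρ g x}
  refine ⟨Submodule.span ℂ T, fun h0 => hv0 ?_, fun g hg y hy => ?_, fun x hx y hy => ?_⟩
  · have : v ∈ Submodule.span ℂ T :=
      Submodule.subset_span ⟨1, map_one s, v, hv, by rw [ρ.map_one]; rfl⟩
    rwa [h0] at this
  · refine Submodule.span_induction (p := fun y _ => ρ g y ∈ Submodule.span ℂ T) ?_ (by simp)
      (fun a b _ _ ha hb => by rw [map_add]; exact add_mem ha hb)
      (fun c a _ ha => by rw [map_smul]; exact Submodule.smul_mem _ _ ha) hy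
    rintro _ ⟨k, hk, x, hx, rfl⟩
    exact Submodule.subset_span ⟨g * k, s_mul hg hk, x, hx, ρ.mul_apply hg hk x⟩
  · refine Submodule.span_induction₂ (p := fun x y _ _ => β x y = 0) ?_ (by simp) (by simp)
      (fun a b c _ _ _ ha hb => by simp [ha, hb]) (fun a b c _ _ _ ha hb => by simp [ha, hb])
      (fun c a b _ _ ha => by simp [ha]) (fun c a b _ _ ha => by simp [ha]) hx hy
    rintro _ _ ⟨g, hg, x, hx, rfl⟩ ⟨k, hk, y, hy, rfl⟩
    have h1 : s (γ * k⁻¹ * γ⁻¹) = 1 := by rw [s_conj', s_inv hk]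
    rw [h.move hk, ρ.mul_apply h1 hg, hS _ (s_mul h1 hg) x hx y hy]

variable {N : Set Γ} {μ : Γ → ℂ}

theorem TW.twc (h : TW s) (N : Set Γ) (μ : Γ → ℂ) : TWc s N μ :=
  fun γ hγ V _ _ _ _ ρ β _ hβ => h γ hγ V ρ β (by simp) hβ

theorem TWc.of_irr (hN : ∀ n ∈ N, s n = 1) (h : ∀ γ, s γ = -1 → ∀ (V : Type) [AddCommGroup V]
    [Module ℂ V] [FiniteDimensional ℂ V] [Nontrivial V] (ρ : HRep s V) (β : V →ₗ[ℂ] V →ₗ[ℂ] ℂ),
    (∀ Y, ρ.Inv Y → Y = ⊥ ∨ Y = ⊤) → (∀ n ∈ N, ρ n = μ n • 1) → IsTw ρ γ (-1) β → Iso ρ β) :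
    TWc s N μ := fun γ hγ V _ _ _ _ ρ β hρ hβ => by
  obtain ⟨Y, h0, hY, hmin⟩ := exists_irr ρ (fun g => s g = 1)
  have : Nontrivial Y := Submodule.nontrivial_iff_ne_bot.2 h0
  obtain ⟨Z, -, h⟩ := Iso.of_sub hY (h γ hγ Y (ρ.sub Y hY) _ (fun Z hZ => by
    refine (hmin (Z.map Y.subtype) (Submodule.map_subtype_le _ _) ?_).imp
      (fun h => Submodule.map_injective_of_injective Y.injective_subtype (by simpa using h)) fun h =>
        Submodule.map_injective_of_injective Y.injective_subtype (by simpa using h)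
    rintro g hg _ ⟨y, hy, rfl⟩
    exact ⟨_, hZ g hg y hy, ρ.coe_sub hY hg y⟩)
    (fun n hn => LinearMap.ext fun y => Subtype.ext (by rw [ρ.coe_sub hY (hN n hn), hρ n hn]; rfl))
    (hβ.sub hY))
  exact ⟨Z, h⟩

theorem TW.of_inner (h : ∀ γ, s γ = 1) : TW s := fun γ hγ => by
  rw [h] at hγ; exact absurd hγ (by decide)

theorem TW.of_trivial (h : ∀ g, s g = 1 → g = 1) : TW s := fun γ _ V _ _ _ _ ρ β _ hβ => by
  obtain ⟨v, hv⟩ := exists_ne (0 : V)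
  refine hβ.iso_of_orbit {v} rfl hv ?_
  rintro g hg x hx y hy
  rw [Set.mem_singleton_iff.1 hx, Set.mem_singleton_iff.1 hy]
  have := hβ.sym v v
  rw [h _ (s_sq s γ), ρ.map_one, End.one_apply] at this
  rw [h g hg, ρ.map_one, End.one_apply]
  linear_combination (2⁻¹ : ℂ) * this

theorem TW.of_scalar (hN : ∀ n ∈ N, s n = 1) (hc : ∀ n ∈ N, ∀ g, s g = 1 → n * g = g * n)
    (h : ∀ μ, TWc s N μ) : TW s := by
  refine TWc.of_irr (by simp) fun γ hγ V _ _ _ _ ρ β hirr _ hβ => ?_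
  have : ∀ n, ∃ c : ℂ, n ∈ N → ρ n = c • 1 := fun n => by
    by_cases hn : n ∈ N
    · obtain ⟨c, hc'⟩ := schur ρ (fun g => s g = 1) hirr (T := ρ n) fun g hg => by
        rw [← ρ.map_mul (hN n hn) hg, hc n hn g hg, ρ.map_mul hg (hN n hn)]
      exact ⟨c, fun _ => hc'⟩
    · exact ⟨0, fun h => absurd h hn⟩
  choose μ hμ using this
  exact h μ γ hγ V ρ β hμ hβ

theorem TWc.of_compl {K : Type*} [Group K] {t : K →* ℤˣ} (ι : K →* Γ) (hι : ∀ k, s (ι k) = t k)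
    (hN : ∀ n ∈ N, s n = 1) (hd : ∀ g, ∃ n ∈ N, ∃ k, g = n * ι k) (h : TW t) : TWc s N μ :=
  fun γ hγ V _ _ _ _ ρ β hρ hβ => by
    obtain ⟨n, hn, k, rfl⟩ := hd γ
    have hk : s (ι k) = -1 := by rwa [map_mul, hN n hn, one_mul] at hγ
    obtain ⟨Y, h0, hY, h⟩ := h k (by rw [← hι, hk]) V (ρ.comp ι hι) _ (by simp)
      ((hβ.change (hγ.trans hk.symm)).comp ι hι)
    refine Iso.of_change (s_inv_mul (hγ.trans hk.symm)) ⟨Y, h0, fun g hg y hy => ?_, h⟩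
    obtain ⟨n, hn, k, rfl⟩ := hd g
    have hk : s (ι k) = 1 := by rwa [map_mul, hN n hn, one_mul] at hg
    rw [← ρ.mul_apply (hN n hn) hk, hρ n hn]
    exact Y.smul_mem _ (hY k (by rw [← hι, hk]) y hy)

theorem TWc.of_surj {K : Type*} [Group K] {t : K →* ℤˣ} (f : Γ →* K) (hf : ∀ g, t (f g) = s g)
    (hker : ∀ g, f g = 1 → g = 1 ∨ (g ∈ N ∧ μ g = 1)) (hs : ∀ k, t k = 1 → ∃ g, f g = k)
    (h : TW t) : TWc s N μ := fun γ hγ V _ _ _ _ ρ β hρ hβ => by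
  choose! σ hσ using hs
  have h1 : ∀ g g', s g = 1 → f g = f g' → ρ g = ρ g' := fun g g' hg h => by
    have hg' : s g' = 1 := by rw [← hf, ← h, hf, hg]
    have h3 : ρ (g⁻¹ * g') = 1 := by
      rcases hker (g⁻¹ * g') (by rw [map_mul, map_inv, h, inv_mul_cancel]) with h3 | h3
      · rw [h3, ρ.map_one]
      · rw [hρ _ h3.1, h3.2, one_smul]
    rw [show g' = g * (g⁻¹ * g') by group, ρ.map_mul hg (s_mul (s_inv hg) hg'), h3, mul_one]
  have h2 : ∀ k, t k = 1 → s (σ k) = 1 := fun k hk => by rw [← hf, hσ k hk, hk]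
  have h3 : ∀ g, s g = 1 → ρ (σ (f g)) = ρ g := fun g hg =>
    (h1 _ _ hg (hσ _ (by rw [hf, hg])).symm).symm
  let ρ' : HRep t V :=
    { toFun := fun k => ρ (σ k)
      map_one := by rw [← map_one f, h3 1 (map_one s), ρ.map_one]
      map_mul := fun {a b} ha hb => by
        rw [← ρ.map_mul (h2 a ha) (h2 b hb), ← h3 _ (s_mul (h2 a ha) (h2 b hb)), map_mul, hσ a ha,
          hσ b hb] }
  obtain ⟨Y, h0, hY, h⟩ := h (f γ) (by rw [hf, hγ]) V ρ' β (by simp) ⟨fun k hk x y => by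
    have := hβ.inv (σ k) (h2 k hk) x y
    rw [← h3 (γ⁻¹ * σ k * γ) (by rw [s_conj, h2 k hk]), map_mul, map_mul, map_inv, hσ k hk] at this
    exact this, fun x y => by
    rw [hβ.sym, ← h3 _ (s_sq s γ), map_mul]⟩
  exact ⟨Y, h0, fun g hg y hy => by rw [← h3 g hg]; exact hY _ (by rw [hf, hg]) y hy, h⟩

theorem TW.of_inj {K : Type*} [Group K] {t : K →* ℤˣ} (f : Γ →* K) (hf : ∀ g, t (f g) = s g)
    (hker : ∀ g, f g = 1 → g = 1) (hs : ∀ k, t k = 1 → ∃ g, f g = k) (h : TW t) : TW s :=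
  TWc.of_surj f hf (fun g hg => .inl (hker g hg)) hs h

/-- The stabiliser of a function on a normal subgroup. -/
def stab (A : Subgroup Γ) [hA : A.Normal] (l : Γ → ℂ) : Subgroup Γ where
  carrier := {γ | ∀ a ∈ A, l (γ⁻¹ * a * γ) = l a}
  one_mem' := by simp
  mul_mem' {g h} hg hh a ha := by
    rw [← hg a ha, ← hh _ (hA.conj_mem' a ha g)]; congr 1; group
  inv_mem' {g} hg a ha := by
    rw [← hg _ (hA.conj_mem' a ha g⁻¹)]; congr 1; group

theorem TWc.of_ab (A : Subgroup Γ) [hA : A.Normal] (hAs : ∀ a ∈ A, s a = 1) (hN : N ⊆ A)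
    (hc : ∀ a ∈ A, ∀ b ∈ A, a * b * a⁻¹ * b⁻¹ ∈ N ∧ μ (a * b * a⁻¹ * b⁻¹) = 1)
    (hsq : ∀ a ∈ A, a * a ∈ N ∧ μ (a * a) = 1)
    (h : ∀ l : Γ → ℂ, (∀ a ∈ A, ∀ b ∈ A, l (a * b) = l a * l b) → (∀ a ∈ A, l a * l a = 1) →
      (∀ n ∈ N, l n = μ n) →
      TWc (s.comp (stab A l).subtype) {g | (g : Γ) ∈ A} fun g => l g) : TWc s N μ :=
  fun γ hγ V _ _ _ _ ρ β hρ hβ => by
    obtain ⟨v, hv0, l, hl⟩ := exists_common_eigen ρ (· ∈ A) fun a b ha hb => by
      have h1 := hc a ha b hb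
      rw [← ρ.map_mul (hAs a ha) (hAs b hb), show a * b = (a * b * a⁻¹ * b⁻¹) * (b * a) by group,
        ρ.map_mul (hAs _ (hN h1.1)) (hAs _ (mul_mem hb ha)), hρ _ h1.1, h1.2, one_smul, one_mul,
        ρ.map_mul (hAs b hb) (hAs a ha)]
    have hl1 : ∀ a ∈ A, ∀ b ∈ A, l (a * b) = l a * l b := fun a ha b hb =>
      smul_left_injective ℂ hv0 (by
        simp only [← hl _ (mul_mem ha hb), ← ρ.mul_apply (hAs a ha) (hAs b hb), hl b hb, map_smul,
          hl a ha, smul_smul, mul_comm])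
    have hl3 : ∀ n ∈ N, l n = μ n := fun n hn => smul_left_injective ℂ hv0 (by
      simp only [← hl _ (hN hn), hρ n hn]; rfl)
    have hl2 : ∀ a ∈ A, l a * l a = 1 := fun a ha => by
      rw [← hl1 a ha a ha, hl3 _ (hsq a ha).1, (hsq a ha).2]
    let U : Submodule ℂ V := ⨅ a : A, (ρ a).eigenspace (l a)
    have hU : ∀ x, x ∈ U ↔ ∀ a ∈ A, ρ a x = l a • x := fun x => by
      simp [U, End.mem_eigenspace_iff]
    have hmove : ∀ g, s g = 1 → ∀ x ∈ U, ∀ a ∈ A, ρ a (ρ g x) = l (g⁻¹ * a * g) • ρ g x :=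
      fun g hg x hx a ha => by
        rw [← map_smul, ← (hU x).1 hx _ (hA.conj_mem' a ha g), ρ.mul_apply (hAs a ha) hg,
          ρ.mul_apply hg (by rw [s_conj, hAs a ha])]
        congr 2; group
    have key : ∀ {γ' β'}, IsTw ρ γ' (-1) β' → ∀ g, s g = 1 → ∀ x ∈ U, ∀ y ∈ U,
        β' (ρ g x) y ≠ 0 → γ'⁻¹ * g ∈ stab A l := fun {γ' β'} hβ' g hg x hx y hy h0 a ha => by
      have ha' := hA.conj_mem a ha γ'
      have h1 := hβ'.inv _ (hAs _ ha') (ρ g x) y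
      rw [hmove g hg x hx _ ha', show γ'⁻¹ * (γ' * a * γ'⁻¹) * γ' = a by group, (hU y).1 hy a ha]
        at h1
      simp only [map_smul, LinearMap.smul_apply, smul_eq_mul] at h1
      have h2 : l a * l (g⁻¹ * (γ' * a * γ'⁻¹) * g) = 1 :=
        mul_right_cancel₀ h0 (by rw [mul_assoc, h1, one_mul])
      rw [show (γ'⁻¹ * g)⁻¹ * a * (γ'⁻¹ * g) = g⁻¹ * (γ' * a * γ'⁻¹) * g by group]
      linear_combination (-l (g⁻¹ * (γ' * a * γ'⁻¹) * g)) * hl2 a ha + l a * h2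
    have hvU : v ∈ U := (hU v).2 hl
    by_cases hout : ∃ γ' ∈ stab A l, s γ' = -1
    · obtain ⟨γ', hγ', hs'⟩ := hout
      have hβ' := hβ.change (hγ.trans hs'.symm)
      refine Iso.of_change (s_inv_mul (hγ.trans hs'.symm)) ?_
      generalize β.compl₂ (ρ (γ⁻¹ * γ')) = β' at hβ'
      let ρ₁ := ρ.comp (t := s.comp (stab A l).subtype) (stab A l).subtype fun _ => rfl
      have hinv : ρ₁.Inv U := fun g hg x hx => (hU _).2 fun a ha => by
        have := hmove g hg x hx a ha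
        rwa [g.2 a ha] at this
      have : Nontrivial U := ⟨⟨v, hvU⟩, 0, fun h => hv0 (congrArg Subtype.val h)⟩
      obtain ⟨Z, hZU, hZ0, hZ, hZβ⟩ := Iso.of_sub hinv (h l hl1 hl2 hl3 ⟨γ', hγ'⟩ hs' U
        (ρ₁.sub U hinv) _ (fun a ha => LinearMap.ext fun y => Subtype.ext (by
          rw [ρ₁.coe_sub hinv (hAs _ ha)]; exact (hU _).1 y.2 _ ha))
        ((IsTw.comp (t := s.comp (stab A l).subtype) (stab A l).subtype (fun _ => rfl)
          (γ := ⟨γ', hγ'⟩) hβ').sub hinv))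
      obtain ⟨z, hz, hz0⟩ := (Submodule.ne_bot_iff Z).1 hZ0
      refine hβ'.iso_of_orbit Z hz hz0 fun g hg x hx y hy => ?_
      by_contra h0
      have h1 := key hβ' g hg x (hZU hx) y (hZU hy) h0
      have h2 : g ∈ stab A l := by simpa using mul_mem hγ' h1
      exact h0 (hZβ _ (hZ ⟨g, h2⟩ hg x hx) y hy)
    · refine hβ.iso_of_orbit U hvU hv0 fun g hg x hx y hy => ?_
      by_contra h0
      exact hout ⟨_, key hβ g hg x hx y hy h0, by rw [map_mul, map_inv, hγ, hg]; rfl⟩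

end Cfsg.Lib.Known.TW
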