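import Cfsg.Agent.Known.TwFS
import Cfsg.Agent.Char.InvForm
import Cfsg.Agent.Char.FSRes
import Cfsg.Agent.Char.PermLemma
import Cfsg.Agent.Char.Clifford
import Cfsg.Agent.Char.CharCenter

/-!
Groups all of whose Frobenius–Schur indicators are `+1`.
-/

set_option autoImplicit false

namespace Cfsg.Lib.Known.TW

open Cfsg.Lib.Char Matrix

variable {G H : Type*} [Group G] [Group H]

/-- All Frobenius–Schur indicators are `+1`. -/
def AllFS (G : Type*) [Group G] : Prop :=
  ∀ χ : G → ℂ, IsIrrCharacter G χ → ∑ᶠ g, χ (g * g) = Nat.card G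

theorem allFS_iff [Fintype G] : AllFS G ↔ ∀ χ : G → ℂ, IsIrrCharacter G χ → fsInd χ = 1 := by
  refine forall₂_congr fun χ _ => ?_
  rw [fsInd_def, inv_mul_eq_one₀ (by simp), finsum_eq_sum_of_fintype, eq_comm]

theorem AllFS.congr (h : AllFS H) (e : G ≃* H) : AllFS G := fun χ hχ => by
  rw [Nat.card_congr e.toEquiv, ← h _ (hχ.comp_equiv e.symm), ← finsum_comp_equiv e.symm.toEquiv]
  simp

theorem AllFS.inv_mul [Finite G] (h : AllFS G) (χ : IrrCharacter G) :
    (Nat.card G : ℂ)⁻¹ * ∑ᶠ g, (χ : G → ℂ) (g * g) = 1 := by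
  rw [h _ χ.2, inv_mul_cancel₀ (Nat.cast_ne_zero.2 Nat.card_pos.ne')]

theorem allFS_of_tw [Finite G] (h : TW (MonoidHom.snd G ℤˣ)) (hr : ∀ g : G, IsConj g g⁻¹) :
    AllFS G := by
  have := Fintype.ofFinite G
  refine allFS_iff.2 fun χ hχ => ?_
  have h1 := fun g => (isConj_inv_iff_forall_irr g).1 (hr g) χ hχ
  rcases hχ.fsInd_eq with e | e | e
  · obtain ⟨g, hg⟩ := hχ.fsInd_eq_zero_iff.1 e
    exact absurd (h1 g) hg
  · exact e
  obtain ⟨n, ρ, hρ, rfl⟩ := id hχ
  obtain ⟨⟨M, h0, h2⟩, h3⟩ := invariant_form ρ hχ h1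
  have h4 := h3 M h2
  have : Nontrivial (Fin n → ℂ) := by
    rcases n with _ | n
    · exact absurd (Subsingleton.elim _ _) h0
    · infer_instance
  obtain ⟨Y, y0, y1, y2⟩ := h (1, -1) rfl (Fin n → ℂ)
    ⟨fun x => ρ x.1, map_one ρ, fun _ _ => map_mul ρ _ _⟩ (toBilin' M) (by simp)
    ⟨fun g _ x y => by
      conv_rhs => rw [← h2 g.1, ← LinearMap.BilinForm.toMatrix'_toBilin' M]
      simp only [Prod.fst_mul, Prod.fst_inv, inv_one, one_mul, mul_one]
      rw [← LinearMap.BilinForm.toMatrix'_comp, toBilin'_toMatrix']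
      rfl, fun x y => by
      simp only [Prod.fst_mul, mul_one, map_one, Module.End.one_apply, toBilin'_apply']
      rw [dotProduct_mulVec, ← mulVec_transpose, h4, e, dotProduct_comm, smul_mulVec,
        dotProduct_smul, smul_eq_mul]⟩
  rcases eq_bot_or_eq_top (⟨Y, fun g _ hv => y1 (g, 1) rfl _ hv⟩ : Subrepresentation ρ) with k | k
  · exact absurd (congrArg Subrepresentation.toSubmodule k) y0
  · obtain rfl : Y = ⊤ := congrArg Subrepresentation.toSubmodule k
    exact absurd (toBilin'.injective (LinearMap.ext₂ fun x y => by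
      rw [y2 x trivial y trivial, map_zero]; rfl)) h0

theorem AllFS.of_index_two [Finite G] (h : AllFS G) {N : Subgroup G} [N.Normal] (h2 : N.index ≤ 2)
    (hr : ∀ g : N, IsConj g g⁻¹) : AllFS N := by
  have := Fintype.ofFinite G
  have := Fintype.ofFinite N
  rw [allFS_iff] at h ⊢
  intro θ hθ
  obtain ⟨χ, hχ, h1⟩ := exists_irr_over hθ
  obtain ⟨e, he, h3, -⟩ := clifford_res_nat hχ hθ h1
  have h4 := classInner_res_self_le N χ
  rw [clifford_norm hχ hθ h1, h3, hχ.classInner_self, ← Nat.cast_pow, ← Nat.cast_mul,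
    Complex.natCast_re, Complex.one_re, mul_one, Nat.cast_le] at h4
  have ht : 0 < (inertia N θ).index := Nat.pos_of_ne_zero Subgroup.index_ne_zero_of_finite
  obtain rfl : e = 1 := by nlinarith
  rw [fsInd_eq_of_classInner_eq_one N.subtype hχ hθ (fun g => ?_)
    (fun g => (isConj_inv_iff_forall_irr g).1 (hr g) θ hθ) (h3.trans Nat.cast_one), h χ hχ]
  by_contra n
  exact zero_ne_one ((hχ.fsInd_eq_zero_iff.2 ⟨g, n⟩).symm.trans (h χ hχ))

end Cfsg.Lib.Known.TW
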