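import Cfsg.Agent.Known.RealO
import Cfsg.Agent.Known.TwGlue
import Cfsg.Agent.Known.InvTwoClass
import Cfsg.Agent.Class.OrthOmega

/-!
Frobenius–Schur indicators of symplectic and orthogonal groups in characteristic two, given the
absence of invariant alternating forms on the irreducible representations.
-/

set_option autoImplicit false

namespace Cfsg.Lib.Known.TW

open Cfsg.Lib.Class Cfsg.Lib.Class.Orth QuadraticMap Module

universe u

variable {F : Type u} [Field F] [Fintype F] [CharP F 2]

section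

variable {V : Type*} [AddCommGroup V] [Module F V] [FiniteDimensional F V]
  {Q : QuadraticForm F V} {B : LinearMap.BilinForm F V}

theorem allFS_SpB (hB : B.Nondegenerate) (hA : B.IsAlt) (h : TW (MonoidHom.snd (SpB B) ℤˣ)) :
    AllFS (SpB B) :=
  have : Finite V := Module.finite_of_finite F
  have : Finite (V ≃ₗ[F] V) := Finite.of_injective _ DFunLike.coe_injective
  allFS_of_tw h (RealO.isConj_inv_SpB hB hA)

theorem allFS_O (hQ : (polarBilin Q).Nondegenerate) (h : TW (MonoidHom.snd (O Q) ℤˣ)) :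
    AllFS (O Q) := allFS_of_tw h (RealO.isConj_inv_O hQ)

theorem AllFS.commutator (hQ : (polarBilin Q).Nondegenerate) (hE : ¬ Exc Q)
    (h4 : 4 ∣ finrank F V) (h1 : 1 ≤ finrank F V) (h : AllFS (O Q)) : AllFS (commutator (O Q)) :=
  h.of_index_two (index_commutator_even hQ hE CharTwo.two_eq_zero h1).le
    (RealO.isConj_inv_commutator hQ hE h4)

end

/-- The hypothesis on symplectic groups. -/
def HSp (F : Type u) [Field F] : Prop :=
  ∀ (V : Type u) [AddCommGroup V] [Module F V] [FiniteDimensional F V]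
    (B : LinearMap.BilinForm F V), B.Nondegenerate → B.IsAlt → TW (MonoidHom.snd (SpB B) ℤˣ)

/-- The hypothesis on orthogonal groups. -/
def HO (F : Type u) [Field F] : Prop :=
  ∀ (V : Type u) [AddCommGroup V] [Module F V] [FiniteDimensional F V]
    (Q : QuadraticForm F V), (polarBilin Q).Nondegenerate → TW (MonoidHom.snd (O Q) ℤˣ)

theorem HSp.allFS (h : HSp F) (n : ℕ) : AllFS (Matrix.symplecticGroup (Fin n) F) :=
  (allFS_SpB (sympBilin_nondegenerate n) (sympBilin_isAlt n)
    (h _ _ (sympBilin_nondegenerate n) (sympBilin_isAlt n))).congr (spEquivSpB n F)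

theorem HO.plus (h : HO F) (n : ℕ) : AllFS (isometryGroup F (quadFormPlus n F)) := by
  rw [← coe_quadPlus]
  exact (allFS_O (quadPlus_nondegenerate n) (h _ _ (quadPlus_nondegenerate n))).congr (oEquivIsom _)

theorem HO.minus (h : HO F) (n : ℕ) {a b : F} (hab : Aniso a b) :
    AllFS (isometryGroup F (quadFormMinus n F a b)) := by
  rw [← coe_quadMinus]
  exact (allFS_O (quadMinus_nondegenerate n hab) (h _ _ (quadMinus_nondegenerate n hab))).congr
    (oEquivIsom _)

theorem allFS_Omega_plus {m : ℕ} (hm : 2 ≤ m) (h : AllFS (isometryGroup F (quadFormPlus (2 * m) F))) :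
    AllFS (Omega F (quadFormPlus (2 * m) F)) := by
  rw [← coe_quadPlus] at h ⊢
  exact ((h.congr (oEquivIsom _).symm).commutator (quadPlus_nondegenerate _)
    (not_exc_quadPlus (Or.inr (by omega))) (by rw [finrank_plusSpace]; omega)
    (by rw [finrank_plusSpace]; omega)).congr (omegaEquiv _)

theorem allFS_Omega_minus {m : ℕ} (hm : 1 ≤ m) {a b : F} (hab : Aniso a b)
    (h : AllFS (isometryGroup F (quadFormMinus (2 * m - 1) F a b))) :
    AllFS (Omega F (quadFormMinus (2 * m - 1) F a b)) := by
  rw [← coe_quadMinus] at h ⊢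
  exact ((h.congr (oEquivIsom _).symm).commutator (quadMinus_nondegenerate _ hab)
    (not_exc_quadMinus _ hab) (by simp; omega) (by simp)).congr (omegaEquiv _)

theorem allFS_of_inv_mul {G : Type*} [Group G] [Finite G] (h : ∀ χ : IrrCharacter G,
    (Nat.card G : ℂ)⁻¹ * ∑ᶠ g, (χ : G → ℂ) (g * g) = 1) : AllFS G := fun χ hχ =>
  ((inv_mul_eq_one₀ (Nat.cast_ne_zero.2 Nat.card_pos.ne')).1 (h ⟨χ, hχ⟩)).symm

end Cfsg.Lib.Known.TW
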