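import Cfsg.Agent.Known.TwWeil

/-!
Extended centralisers in symplectic and orthogonal groups: definitions, restriction to a
non-degenerate section, and the product decomposition.
-/

namespace Cfsg.Lib.Known.TW

open Module

variable {F V : Type*} [Field F] [AddCommGroup V] [Module F V] {B : LinearMap.BilinForm F V}
  {q : QuadraticForm F V} {o : Prop} {Δ : Type*} [CommGroup Δ] {δ : Δ →* (V ≃ₗ[F] V)} {u : V}

/-- A quadratic form with non-degenerate polar form. -/
structure Dat (B : LinearMap.BilinForm F V) (q : QuadraticForm F V) : Prop where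
  add : ∀ x y, q (x + y) = q x + q y + B x y
  nd : ∀ x, (∀ y, B x y = 0) → x = 0

theorem Dat.sym (h : Dat B q) (x y : V) : B x y = B y x := by
  have h1 := h.add x y
  rw [add_comm x, h.add] at h1
  linear_combination -h1

theorem Dat.ext (h : Dat B q) {x x' : V} (H : ∀ y, B x y = B x' y) : x = x' :=
  sub_eq_zero.1 (h.nd _ fun y => by simp [H])

theorem Dat.nondeg (h : Dat B q) : B.Nondegenerate :=
  ⟨h.nd, fun x hx => h.nd x fun y => by rw [h.sym, hx]⟩

theorem Dat.alt [CharP F 2] (h : Dat B q) (x : V) : B x x = 0 := by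
  have h1 := h.add x x
  rw [← two_smul F x, CharTwo.two_eq_zero, zero_smul, map_zero, CharTwo.add_self_eq_zero] at h1
  simpa using h1.symm

/-- Isometries. -/
def IsIso (B : LinearMap.BilinForm F V) (q : QuadraticForm F V) (o : Prop) (g : V → V) : Prop :=
  (∀ x y, B (g x) (g y) = B x y) ∧ (o → ∀ x, q (g x) = q x)

theorem zpow_units (d : Δ) (ε : ℤˣ) : (d ^ (ε : ℤ)) ^ (ε : ℤ) = d := by
  rw [← zpow_mul, ← Units.val_mul, Int.units_mul_self, Units.val_one, zpow_one]

/-- The extended centraliser of `δ` fixing `u`, as a subgroup. -/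
def GamS (B : LinearMap.BilinForm F V) (q : QuadraticForm F V) (o : Prop) (δ : Δ →* (V ≃ₗ[F] V))
    (u : V) : Subgroup ((V ≃ₗ[F] V) × ℤˣ) where
  carrier := {g | IsIso B q o g.1 ∧ (∀ d x, g.1 (δ d x) = δ (d ^ (g.2 : ℤ)) (g.1 x)) ∧ g.1 u = u}
  one_mem' := ⟨⟨fun _ _ => rfl, fun _ _ => rfl⟩, fun d x => by simp, rfl⟩
  mul_mem' {g h} hg hh := ⟨⟨fun x y => (hg.1.1 _ _).trans (hh.1.1 x y),
    fun ho x => (hg.1.2 ho _).trans (hh.1.2 ho x)⟩, fun d x => by
      simp only [Prod.fst_mul, Prod.snd_mul, LinearEquiv.mul_apply, hh.2.1, hg.2.1, Units.val_mul]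
      rw [← zpow_mul, mul_comm], by
      simp only [Prod.fst_mul, LinearEquiv.mul_apply, hh.2.2, hg.2.2]⟩
  inv_mem' {g} hg := ⟨⟨fun x y => by rw [← hg.1.1]; simp, fun ho x => by rw [← hg.1.2 ho]; simp⟩,
    fun d x => g.1.injective (by rw [hg.2.1, Prod.snd_inv, Int.units_inv_eq_self, zpow_units]; simp),
    g.1.injective (by simp [hg.2.2])⟩

/-- The extended centraliser of `δ` fixing `u`. -/
def Gam (B : LinearMap.BilinForm F V) (q : QuadraticForm F V) (o : Prop) (δ : Δ →* (V ≃ₗ[F] V))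
    (u : V) : Type _ := GamS B q o δ u

instance : Group (Gam B q o δ u) := inferInstanceAs (Group (GamS B q o δ u))

instance [Finite V] : Finite (Gam B q o δ u) :=
  have : Finite (V ≃ₗ[F] V) := Finite.of_injective _ DFunLike.coe_injective
  inferInstanceAs (Finite (GamS B q o δ u))

/-- The sign character. -/
def sg (B : LinearMap.BilinForm F V) (q : QuadraticForm F V) (o : Prop) (δ : Δ →* (V ≃ₗ[F] V))
    (u : V) : Gam B q o δ u →* ℤˣ := (MonoidHom.snd _ _).comp (GamS B q o δ u).subtype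

/-- The natural representation. -/
def nat (B : LinearMap.BilinForm F V) (q : QuadraticForm F V) (o : Prop) (δ : Δ →* (V ≃ₗ[F] V))
    (u : V) : Gam B q o δ u →* (V ≃ₗ[F] V) := (MonoidHom.fst _ _).comp (GamS B q o δ u).subtype

namespace Gam

variable (g h : Gam B q o δ u)

/-- The linear part. -/
def t : V ≃ₗ[F] V := g.1.1

/-- The sign. -/
def e : ℤˣ := g.1.2

instance : CoeFun (Gam B q o δ u) fun _ => V → V := ⟨fun g => g.t⟩

theorem sg_eq : sg B q o δ u g = g.e := rfl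

theorem form (x y : V) : B (g x) (g y) = B x y := g.2.1.1 x y

theorem quad (ho : o) (x : V) : q (g x) = q x := g.2.1.2 ho x

theorem tw (d : Δ) (x : V) : g (δ d x) = δ (d ^ (g.e : ℤ)) (g x) := g.2.2.1 d x

theorem comm (hg : g.e = 1) (d : Δ) (x : V) : g (δ d x) = δ d (g x) := by
  rw [g.tw, hg]; simp

theorem fix : g u = u := g.2.2.2

theorem mul_apply (x : V) : (g * h) x = g (h x) := rfl

theorem mul_e : (g * h).e = g.e * h.e := rfl

theorem inv_e : g⁻¹.e = g.e := Int.units_inv_eq_self _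

theorem one_apply (x : V) : (1 : Gam B q o δ u) x = x := rfl

theorem inv_apply (x : V) : g⁻¹ (g x) = x := by rw [← mul_apply, inv_mul_cancel]; rfl

theorem apply_inv (x : V) : g (g⁻¹ x) = x := by rw [← mul_apply, mul_inv_cancel]; rfl

theorem move (x y : V) : B (g x) y = B x (g⁻¹ y) := by rw [← g.form x, apply_inv]

theorem move' (x y : V) : B x (g y) = B (g⁻¹ x) y := by rw [← g.form _ y, apply_inv]

variable {g h} in
theorem ext (h1 : ∀ x, g x = h x) (h2 : g.e = h.e) : g = h :=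
  Subtype.ext (Prod.ext (LinearEquiv.ext h1) h2)

end Gam

theorem exists_gam [FiniteDimensional F V] (hB : Dat B q) (T : End F V) (ε : ℤˣ)
    (h1 : IsIso B q o T) (h2 : ∀ d x, T (δ d x) = δ (d ^ (ε : ℤ)) (T x)) (h3 : T u = u) :
    ∃ g : Gam B q o δ u, (∀ x, g x = T x) ∧ g.e = ε :=
  ⟨⟨(LinearEquiv.ofInjectiveEndo T ((injective_iff_map_eq_zero T).2 fun x hx =>
    hB.nd x fun y => by rw [← h1.1, hx]; simp), ε), h1, h2, h3⟩, fun _ => rfl, rfl⟩

/-- Self-adjoint projectors commuting with `δ`. -/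
structure Proj (B : LinearMap.BilinForm F V) (δ : Δ →* (V ≃ₗ[F] V)) (r : End F V) : Prop where
  idem : ∀ x, r (r x) = r x
  adj : ∀ x y, B (r x) y = B x (r y)
  comm : ∀ d x, r (δ d x) = δ d (r x)

variable {r : End F V}

theorem Proj.coe (hr : Proj B δ r) (x : LinearMap.range r) : r x = x := by
  obtain ⟨_, y, rfl⟩ := x
  exact hr.idem y

theorem Proj.compl (hr : Proj B δ r) : Proj B δ (1 - r) :=
  ⟨fun x => by simp [hr.idem], fun x y => by simp [hr.adj], fun d x => by simp [hr.comm]⟩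

theorem Proj.dat (hr : Proj B δ r) (hB : Dat B q) :
    Dat (B.restrict (LinearMap.range r)) (q.restrict (LinearMap.range r)) :=
  ⟨fun x y => hB.add x y, fun x hx => Subtype.ext (hB.nd _ fun y => by
    rw [← hr.coe x, hr.adj]; exact hx ⟨r y, y, rfl⟩)⟩

theorem Proj.quad (hr : Proj B δ r) (hB : Dat B q) (x : V) : q x = q (r x) + q (x - r x) := by
  have := hB.add (r x) (x - r x)
  rw [hr.adj, map_sub r, hr.idem] at this
  simpa using this

/-- Compression of an endomorphism to the range of `r`. -/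
def cmp (r : End F V) (T : V →ₗ[F] V) : End F (LinearMap.range r) :=
  (r ∘ₗ T).restrict fun x _ => ⟨T x, rfl⟩

/-- Compression of a representation. -/
def cmpHom {K : Type*} [Group K] (ρ : K →* (V ≃ₗ[F] V)) (hr : ∀ x, r (r x) = r x)
    (hm : ∀ a b v, r v = v → r (ρ a (r (ρ b v))) = r (ρ a (ρ b v))) :
    K →* (LinearMap.range r ≃ₗ[F] LinearMap.range r) :=
  have h0 : ∀ x : LinearMap.range r, r x = x := by rintro ⟨_, y, rfl⟩; exact hr y
  have key : ∀ a b x, cmp r (ρ a) (cmp r (ρ b) x) = cmp r (ρ (a * b)) x := fun a b x =>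
    Subtype.ext ((hm a b x (h0 x)).trans (by rw [map_mul]; rfl))
  have h1 : ∀ x, cmp r (ρ 1) x = x := fun x => Subtype.ext (by rw [map_one]; exact h0 x)
  MonoidHom.mk' (fun a => LinearEquiv.ofLinear (cmp r (ρ a)) (cmp r (ρ a⁻¹))
    (LinearMap.ext fun x => (key _ _ x).trans (by rw [mul_inv_cancel, h1]; rfl))
    (LinearMap.ext fun x => (key _ _ x).trans (by rw [inv_mul_cancel, h1]; rfl)))
    fun a b => LinearEquiv.ext fun x => (key a b x).symm

theorem coe_cmpHom {K : Type*} [Group K] (ρ : K →* (V ≃ₗ[F] V)) (hr : ∀ x, r (r x) = r x)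
    (hm : ∀ a b v, r v = v → r (ρ a (r (ρ b v))) = r (ρ a (ρ b v))) (a : K)
    (x : LinearMap.range r) : (cmpHom ρ hr hm a x : V) = r (ρ a x) := rfl

/-- Restriction of `δ`. -/
def Proj.res (hr : Proj B δ r) : Δ →* (LinearMap.range r ≃ₗ[F] LinearMap.range r) :=
  cmpHom δ hr.idem fun a b v hv => by rw [hr.comm b, hv]

theorem Proj.coe_res (hr : Proj B δ r) (d : Δ) (x : LinearMap.range r) :
    (hr.res d x : V) = δ d x := by
  rw [Proj.res, coe_cmpHom, hr.comm, hr.coe]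

theorem res_apply (U : Submodule F V) (x y : U) : B.restrict U x y = B x y := rfl

theorem Proj.res_iso (hr : Proj B δ r) (hδ : ∀ d, IsIso B q o (δ d)) (d : Δ) :
    IsIso (B.restrict (LinearMap.range r)) (q.restrict (LinearMap.range r)) o (hr.res d) :=
  ⟨fun x y => by simp only [res_apply, hr.coe_res, (hδ d).1],
    fun ho x => by simp only [QuadraticMap.restrict_apply, hr.coe_res, (hδ d).2 ho]⟩

theorem exists_res {K : Type*} [Group K] (ι : K →* Gam B q o δ u) (hr : Proj B δ r)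
    (W : Submodule F V) (hWr : ∀ w ∈ W, r w = 0) (hWi : ∀ w ∈ W, ∀ w' ∈ W, B w w' = 0)
    (h1 : ∀ k, ∀ w ∈ W, (ι k) w ∈ W)
    (h2 : ∀ k v, r v = v → (ι k) v - r ((ι k) v) ∈ W)
    (q' : QuadraticForm F (LinearMap.range r)) (o' : Prop) (u' : LinearMap.range r)
    (h3 : ∀ k, o' → ∀ x y : LinearMap.range r, (y : V) = r ((ι k) x) → q' y = q' x)
    (h4 : ∀ k, r ((ι k) u') = u') :
    ∃ π : K →* Gam (B.restrict (LinearMap.range r)) q' o' hr.res u',
      (∀ k x, ((π k) x : V) = r ((ι k) x)) ∧ ∀ k, (π k).e = (ι k).e := by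
  let ρ : K →* (V ≃ₗ[F] V) := (nat B q o δ u).comp ι
  have hm : ∀ a b v, r v = v → r (ρ a (r (ρ b v))) = r (ρ a (ρ b v)) := fun a b v hv => by
    have := hWr _ (h1 a _ (h2 b v hv))
    rw [map_sub, map_sub, sub_eq_zero] at this
    exact this.symm
  let π := (cmpHom ρ hr.idem hm).prod ((sg B q o δ u).comp ι)
  have hπ : ∀ k x, ((π k).1 x : V) = r ((ι k) x) := fun _ _ => rfl
  refine ⟨π.codRestrict _ fun k => ⟨⟨fun x y => ?_, fun ho x => h3 k ho _ _ (hπ k x)⟩,
    fun d x => Subtype.ext ?_, Subtype.ext (h4 k)⟩, hπ, fun _ => rfl⟩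
  · simp only [res_apply, hπ]
    have hx := h2 k x (hr.coe x)
    have hy := h2 k y (hr.coe y)
    have e1 := hWi _ hx _ hy
    have e2 := hr.adj ((ι k) x) (r ((ι k) y))
    have e3 := hr.adj ((ι k) x) ((ι k) y)
    simp only [map_sub, LinearMap.sub_apply, hr.idem] at e1 e2
    rw [← (ι k).form x y]
    linear_combination -e1 + 2 * e2 - e3
  · rw [hπ, hr.coe_res, hr.coe_res, hπ, Gam.tw, hr.comm]; rfl

theorem exists_ext [FiniteDimensional F V] (hB : Dat B q) (hr : Proj B δ r)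
    {q' : QuadraticForm F (LinearMap.range r)} {o' : Prop} {u' : LinearMap.range r}
    (g' : Gam (B.restrict (LinearMap.range r)) q' o' hr.res u') (hg' : g'.e = 1)
    (ho : o → ∀ x, q (g' x : V) = q x)
    (hu : ∀ x : LinearMap.range r, (x : V) = r u → g' x = x) :
    ∃ g : Gam B q o δ u, g.e = 1 ∧ (∀ x : LinearMap.range r, g x = g' x) ∧
      ∀ v, r v = 0 → g v = v := by
  let R := r.rangeRestrict
  have hR : ∀ x, (R x : V) = r x := fun _ => rfl
  let T : End F V := (LinearMap.range r).subtype ∘ₗ g'.t.toLinearMap ∘ₗ R + (1 - r)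
  have hT : ∀ x, T x = g' (R x) + (x - r x) := fun _ => rfl
  have hT' : ∀ x, r (T x) = g' (R x) := fun x => by
    rw [hT, map_add, hr.coe, map_sub, hr.idem, sub_self, add_zero]
  have hor : ∀ (x : LinearMap.range r) y, B x (y - r y) = 0 := fun x y => by
    rw [← hr.coe x, hr.adj, map_sub r, hr.idem, sub_self, map_zero]
  obtain ⟨g, hg, hg2⟩ := exists_gam (o := o) (δ := δ) (u := u) hB T 1 ⟨fun x y => by
      have e1 : B (g' (R x)) (g' (R y)) = B (r x) (r y) := g'.form _ _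
      have e2 := hor (R x) y
      have e3 := hor (R y) x
      rw [hB.sym] at e3
      rw [hT, hT, map_add, map_add, LinearMap.add_apply, LinearMap.add_apply, e1, hor,
        hB.sym (x - r x) (g' _), hor]
      simp only [hR, map_sub, LinearMap.sub_apply] at e2 e3 ⊢
      linear_combination -e2 - e3,
    fun h x => by rw [hr.quad hB (T x), hT', ho h, hT, add_sub_cancel_left, hr.quad hB x, hR]⟩
    (fun d x => by
      have : R (δ d x) = hr.res d (R x) := Subtype.ext (by rw [hr.coe_res, hR, hR, hr.comm])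
      rw [hT, hT, this, g'.comm hg', hr.coe_res, hr.comm]; simp)
    (by rw [hT, hu _ (hR u), hR, add_sub_cancel])
  refine ⟨g, hg2, fun x => ?_, fun v hv => ?_⟩
  · rw [hg, hT, hr.coe, sub_self, add_zero, show R x = x from Subtype.ext (hr.coe x)]
  · rw [hg, hT, show R v = 0 from Subtype.ext hv, hv]; simp

theorem tw_prod [FiniteDimensional F V] (hB : Dat B q) (hr : Proj B δ r)
    (hc : ∀ (g : Gam B q o δ u) x, r (g x) = g (r x))
    (h1 : ∀ u', TW (sg (B.restrict _) (q.restrict _) o hr.res u'))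
    (h2 : ∀ u', TW (sg (B.restrict _) (q.restrict _) o hr.compl.res u')) : TW (sg B q o δ u) := by
  have key : ∀ {r : End F V} (hr : Proj B δ r), (∀ (g : Gam B q o δ u) x, r (g x) = g (r x)) →
      ∃ π : Gam B q o δ u →* Gam (B.restrict _) (q.restrict _) o hr.res ⟨r u, u, rfl⟩,
        (∀ g x, ((π g) x : V) = g x) ∧ (∀ g, (π g).e = g.e) ∧ ∀ a, a.e = 1 →
          ∃ g, π g = a ∧ g.e = 1 ∧ ∀ v, r v = 0 → g v = v := fun {r} hr hc => by
    obtain ⟨π, hπ, hπ'⟩ := exists_res (MonoidHom.id (Gam B q o δ u)) hr ⊥ (by simp) (by simp)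
      (by simp) (fun k v hv => by simp [hc, hv]) (q.restrict _) o ⟨r u, u, rfl⟩
      (fun k ho x y h => by
        simp only [QuadraticMap.restrict_apply, h, MonoidHom.id_apply, hc, hr.coe, k.quad ho])
      (fun k => by simp only [MonoidHom.id_apply, ← hc, hr.idem, k.fix])
    have hπ1 : ∀ g x, ((π g) x : V) = g x := fun g x => by
      rw [hπ, MonoidHom.id_apply, hc, hr.coe]
    refine ⟨π, hπ1, hπ', fun a ha => ?_⟩
    obtain ⟨g, hg, hg1, hg2⟩ := exists_ext (u := u) hB hr a ha (fun ho x => a.quad ho x)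
      fun x hx => by rw [show x = ⟨r u, u, rfl⟩ from Subtype.ext hx, a.fix]
    exact ⟨g, Gam.ext (fun x => Subtype.ext (by rw [hπ1, hg1])) (by rw [hπ', ha]; exact hg), hg, hg2⟩
  obtain ⟨π₁, a1, b1, c1⟩ := key hr hc
  obtain ⟨π₂, a2, b2, c2⟩ := key hr.compl fun g x => by simp [hc]
  refine TW.of_prod π₁ π₂ b1 b2 (fun g e1 e2 => Gam.ext (fun x => ?_) (by rw [← b1, e1]; rfl))
    (fun a ha => ?_) (fun a ha => ?_) (h1 _) (h2 _)
  · have f1 := a1 g ⟨r x, x, rfl⟩
    have f2 := a2 g ⟨(1 - r) x, x, rfl⟩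
    rw [e1] at f1
    rw [e2] at f2
    rw [show x = r x + (1 - r) x by simp, map_add, ← f1, ← f2]; rfl
  · obtain ⟨g, e1, e2, e3⟩ := c1 a ha
    refine ⟨g, e1, Gam.ext (fun x => Subtype.ext ?_) (by rw [b2, e2]; rfl)⟩
    rw [a2, e3 _ (by rw [← hr.compl.coe x]; simp [hr.idem])]; rfl
  · obtain ⟨g, e1, e2, e3⟩ := c2 a ha
    refine ⟨g, Gam.ext (fun x => Subtype.ext ?_) (by rw [b1, e2]; rfl), e1⟩
    rw [a1, e3 _ (by simp [hr.coe])]; rfl

theorem exists_proj [FiniteDimensional F V] (hB : Dat B q) (hδ : ∀ d, IsIso B q o (δ d))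
    (U : Submodule F V) (hU : ∀ x ∈ U, (∀ y ∈ U, B x y = 0) → x = 0)
    (hD : ∀ d, ∀ x ∈ U, δ d x ∈ U) (hG : ∀ (g : Gam B q o δ u), ∀ x ∈ U, g x ∈ U) :
    ∃ r, Proj B δ r ∧ (∀ (g : Gam B q o δ u) x, r (g x) = g (r x)) ∧
      ∀ v, v ∈ U ↔ r v = v := by
  have hc : IsCompl U (B.orthogonal U) :=
    LinearMap.BilinForm.isCompl_orthogonal_of_restrict_nondegenerate
      (fun x y h => by rw [hB.sym, h]) ⟨fun x hx => Subtype.ext (hU x x.2 fun y hy => hx ⟨y, hy⟩),
        fun x hx => Subtype.ext (hU x x.2 fun y hy => by rw [hB.sym]; exact hx ⟨y, hy⟩)⟩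
  let r : End F V := U.subtype ∘ₗ U.projectionOnto _ hc
  have h1 : ∀ v, r v ∈ U := fun v => (U.projectionOnto _ hc v).2
  have h2 : ∀ v ∈ U, r v = v := fun v hv =>
    congrArg Subtype.val (Submodule.projectionOnto_apply_left hc ⟨v, hv⟩)
  have h3 : ∀ v, ∀ y ∈ U, B y (r v) = B y v := fun v y hy => by
    obtain ⟨a, b, rfl, -⟩ := Submodule.existsUnique_add_of_isCompl hc v
    have hb : r b = 0 := congrArg Subtype.val (Submodule.projectionOnto_apply_right hc b)
    have hb' : B y b = 0 := b.2 y hy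
    rw [map_add, hb, h2 _ a.2, add_zero, map_add, hb', add_zero]
  have h4 : ∀ x y, B (r x) y = B x (r y) := fun x y => by
    rw [← h3 y _ (h1 x), hB.sym, h3 x _ (h1 y), hB.sym]
  have h5 : ∀ g g' : V → V, (∀ x y, B (g x) y = B x (g' y)) → (∀ x ∈ U, g x ∈ U) →
      (∀ x ∈ U, g' x ∈ U) → ∀ x, r (g x) = g (r x) := fun g g' e1 e2 e3 x => hB.ext fun y => by
    rw [h4, e1, ← h2 _ (e3 _ (h1 y)), ← h4, ← e1, ← h4, h2 _ (e2 _ (h1 x))]
  refine ⟨r, ⟨fun x => h2 _ (h1 x), h4, fun d => h5 _ (δ d⁻¹) (fun x y => ?_) (hD d) (hD _)⟩,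
    fun g => h5 _ _ g.move (hG g) (hG _), fun v => ⟨h2 v, fun h => h ▸ h1 v⟩⟩
  rw [← (hδ d).1 x, ← LinearEquiv.mul_apply, ← map_mul, mul_inv_cancel, map_one]; rfl

end Cfsg.Lib.Known.TW
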