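import Cfsg.Agent.Known.TwGeoA

/-!
The group algebra of an abelian group of odd order acting on a symplectic space in
characteristic two.
-/

namespace Cfsg.Lib.Known.TW

open Module MonoidAlgebra

variable {F V : Type*} [Field F] [AddCommGroup V] [Module F V] {B : LinearMap.BilinForm F V}
  {q : QuadraticForm F V} {o : Prop} {Δ : Type*} [CommGroup Δ] {δ : Δ →* (V ≃ₗ[F] V)} {u : V}

/-- The action of the group algebra. -/
noncomputable def rho (δ : Δ →* (V ≃ₗ[F] V)) : MonoidAlgebra F Δ →ₐ[F] End F V :=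
  lift F (End F V) Δ (LinearEquiv.automorphismGroup.toLinearMapMonoidHom.comp δ)

/-- The involution of the group algebra. -/
noncomputable def st : MonoidAlgebra F Δ →ₐ[F] MonoidAlgebra F Δ :=
  lift F _ Δ ((of F Δ).comp invMonoidHom)

theorem rho_of (d : Δ) (x : V) : rho δ (of F Δ d) x = δ d x := by rw [rho, lift_of]; rfl

theorem st_of (d : Δ) : st (of F Δ d) = of F Δ d⁻¹ := by rw [st, lift_of]; rfl

theorem st_st (a : MonoidAlgebra F Δ) : st (st a) = a := by
  induction a using induction_on with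
  | of d => rw [st_of, st_of, inv_inv]
  | add a b ha hb => rw [map_add, map_add, ha, hb]
  | smul c a ha => rw [map_smul, map_smul, ha]

theorem rho_mul (a b : MonoidAlgebra F Δ) (x : V) : rho δ (a * b) x = rho δ a (rho δ b x) := by
  rw [map_mul]; rfl

theorem del_move (hδ : ∀ d, IsIso B q o (δ d)) (d : Δ) (x y : V) : B (δ d x) y = B x (δ d⁻¹ y) := by
  rw [← (hδ d).1 x, ← LinearEquiv.mul_apply, ← map_mul, mul_inv_cancel, map_one]; rfl

theorem del_mul (a b : Δ) (x : V) : δ a (δ b x) = δ (a * b) x := by rw [map_mul]; rfl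

theorem rho_adj (hδ : ∀ d, IsIso B q o (δ d)) (a : MonoidAlgebra F Δ) (x y : V) :
    B (rho δ a x) y = B x (rho δ (st a) y) := by
  induction a using induction_on with
  | of d => rw [st_of, rho_of, rho_of, del_move hδ]
  | add a b ha hb => simp [ha, hb]
  | smul c a ha => simp [ha]

/-- Maps commuting with `δ`. -/
def DL (δ : Δ →* (V ≃ₗ[F] V)) (T : V → V) : Prop := ∀ d x, T (δ d x) = δ d (T x)

theorem DL.rho {T : V →ₗ[F] V} (h : DL δ T) (a : MonoidAlgebra F Δ) (x : V) :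
    T (rho δ a x) = rho δ a (T x) := by
  induction a using induction_on with
  | of d => rw [rho_of, rho_of, h]
  | add a b ha hb => simp [ha, hb]
  | smul c a ha => simp [ha]

theorem dl_rho (a : MonoidAlgebra F Δ) : DL δ (rho δ a) := fun d x => by
  rw [← rho_of, ← rho_of, ← rho_mul, ← rho_mul, mul_comm]

theorem Gam.rho_inner (g : Gam B q o δ u) (hg : g.e = 1) (a : MonoidAlgebra F Δ) (x : V) :
    g (rho δ a x) = rho δ a (g x) := DL.rho (T := g.t.toLinearMap) (g.comm hg) a x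

theorem Gam.rho_outer (g : Gam B q o δ u) (hg : g.e = -1) (a : MonoidAlgebra F Δ) (x : V) :
    g (rho δ a x) = rho δ (st a) (g x) := by
  induction a using induction_on with
  | of d => rw [st_of, rho_of, rho_of, g.tw, hg]; simp
  | add a b ha hb => simp [ha, hb]
  | smul c a ha => simp [ha]

theorem exists_frob [Finite F] [CharP F 2] [Fintype Δ] (hodd : Odd (Fintype.card Δ)) :
    ∃ m : ℕ, ∀ a : MonoidAlgebra F Δ, a ^ (m + 2) = a := by
  cases nonempty_fintype F
  obtain ⟨f, -, hf⟩ := FiniteField.card F 2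
  have : CharP (MonoidAlgebra F Δ) 2 :=
    charP_of_injective_algebraMap (algebraMap F (MonoidAlgebra F Δ)).injective 2
  set t := Nat.totient (Fintype.card Δ)
  have h1 : Fintype.card F ^ t ≡ 1 [MOD Fintype.card Δ] := Nat.ModEq.pow_totient (by
    rw [hf]; exact (Nat.coprime_two_left.2 hodd).pow_left _)
  have h2 : 2 ≤ Fintype.card F ^ t := Fintype.one_lt_card.trans_le
    (Nat.le_self_pow (Nat.totient_pos.2 Fintype.card_pos).ne' _)
  obtain ⟨m, hm⟩ := Nat.exists_eq_add_of_le' h2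
  refine ⟨m, fun a => ?_⟩
  rw [← hm]
  induction a using induction_on with
  | of d => rw [← map_pow, ← pow_mod_card, h1, pow_mod_card, pow_one]
  | add a b ha hb => rw [hf, ← pow_mul, add_pow_char_pow, pow_mul, ← hf, ha, hb]
  | smul c a ha => rw [smul_pow, ha, FiniteField.pow_card_pow]

/-- No proper invariant orthogonal decomposition. -/
def Indec (B : LinearMap.BilinForm F V) (q : QuadraticForm F V) (o : Prop) (δ : Δ →* (V ≃ₗ[F] V))
    (u : V) : Prop :=
  ∀ r, Proj B δ r → (∀ (g : Gam B q o δ u) x, r (g x) = g (r x)) → r = 0 ∨ r = 1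

theorem Indec.idem (H : Indec B q o δ u) (hδ : ∀ d, IsIso B q o (δ d)) {a : MonoidAlgebra F Δ}
    (h1 : a * a = a) (h2 : st a = a) : rho δ a = 0 ∨ rho δ a = 1 :=
  H _ ⟨fun x => by rw [← rho_mul, h1], fun x y => by rw [rho_adj hδ, h2], dl_rho a⟩ fun g x => by
    rcases Int.units_eq_one_or g.e with h | h
    · rw [g.rho_inner h]
    · rw [g.rho_outer h, h2]

theorem two_alg [CharP F 2] : (2 : MonoidAlgebra F Δ) = 0 := by
  rw [← map_ofNat (algebraMap F (MonoidAlgebra F Δ)) 2, CharTwo.two_eq_zero, map_zero]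

theorem Indec.full [CharP F 2] (H : Indec B q o δ u) (hδ : ∀ d, IsIso B q o (δ d)) {m : ℕ}
    (hm : ∀ a : MonoidAlgebra F Δ, a ^ (m + 2) = a) {a : MonoidAlgebra F Δ} (ha : rho δ a ≠ 0) :
    rho δ (a ^ (m + 1) + st (a ^ (m + 1)) + a ^ (m + 1) * st (a ^ (m + 1))) = 1 := by
  have h2 := two_alg (F := F) (Δ := Δ)
  have h3 : a ^ (m + 1) * a = a := by rw [← pow_succ, hm]
  have h4 : a ^ (m + 1) * a ^ (m + 1) = a ^ (m + 1) := by
    linear_combination a ^ m * h3
  generalize a ^ (m + 1) = e at h3 h4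
  have h5 : st e * st e = st e := by rw [← map_mul, h4]
  refine (H.idem hδ ?_ (by simp only [map_add, map_mul, st_st]; ring)).resolve_left fun h => ha ?_
  · linear_combination (1 + 2 * st e + st e * st e) * h4 + (1 + 3 * e) * h5 + (3 * e * st e) * h2
  · rw [show a = (e + st e + e * st e) * a by
      linear_combination (-1 - st e) * h3 - (st e * a) * h2, map_mul, h, zero_mul]

theorem Indec.unit [CharP F 2] (H : Indec B q o δ u) (hδ : ∀ d, IsIso B q o (δ d)) {m : ℕ}
    (hm : ∀ a : MonoidAlgebra F Δ, a ^ (m + 2) = a) {d : Δ} (hd : δ d ≠ 1) :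
    ∃ c, rho δ (c + st c) = 1 ∧ rho δ (c * (1 + of F Δ d)) = 1 := by
  have h2 := two_alg (F := F) (Δ := Δ)
  set x := of F Δ d
  have hy : x * st x = 1 := by rw [st_of, ← map_mul, mul_inv_cancel, map_one]
  have hx : st x ^ (m + 1) = 1 := by
    have := hm (st x)
    rw [pow_succ] at this
    linear_combination x * this - (st x ^ (m + 1) - 1) * hy
  have h1 : st ((1 + x) ^ m) = x * (1 + x) ^ m := by
    rw [map_pow, map_add, map_one, show 1 + st x = st x * (1 + x) by linear_combination -hy, mul_pow]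
    rw [pow_succ] at hx
    linear_combination (x * (1 + x) ^ m) * hx - (st x ^ m * (1 + x) ^ m) * hy
  have h3 := hm (1 + x)
  have : rho δ ((1 + x) ^ m * (1 + x)) = 1 := by
    refine (H.idem hδ (by linear_combination (1 + x) ^ m * h3) ?_).resolve_left fun h => hd ?_
    · rw [map_mul, h1, map_add, map_one]
      linear_combination (1 + x) ^ m * hy
    · have h4 : rho δ (1 + x) = 0 := by rw [← h3, pow_succ, pow_succ, map_mul, h, zero_mul]
      refine LinearEquiv.ext fun v => ?_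
      rw [← rho_of, show of F Δ d = 1 + x + 1 by linear_combination -h2, map_add, h4, map_one]
      simp
  exact ⟨(1 + x) ^ m, by rw [h1, ← this]; congr 1; ring, this⟩

/-- The cyclic submodule generated by `u`. -/
noncomputable def Wsp (δ : Δ →* (V ≃ₗ[F] V)) (u : V) : Submodule F V :=
  LinearMap.range (LinearMap.applyₗ u ∘ₗ (rho δ).toLinearMap)

theorem mem_Wsp {w : V} : w ∈ Wsp δ u ↔ ∃ a, rho δ a u = w := Iff.rfl

theorem self_mem_Wsp : u ∈ Wsp δ u := ⟨1, by simp⟩

theorem rho_mem_Wsp (a : MonoidAlgebra F Δ) {w : V} (hw : w ∈ Wsp δ u) : rho δ a w ∈ Wsp δ u := by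
  obtain ⟨b, rfl⟩ := mem_Wsp.1 hw
  exact mem_Wsp.2 ⟨a * b, rho_mul _ _ _⟩

theorem del_mem_Wsp (d : Δ) {w : V} (hw : w ∈ Wsp δ u) : δ d w ∈ Wsp δ u := by
  rw [← rho_of]; exact rho_mem_Wsp _ hw

theorem Gam.mem_Wsp (g : Gam B q o δ u) {w : V} (hw : w ∈ Wsp δ u) : g w ∈ Wsp δ u := by
  obtain ⟨b, rfl⟩ := TW.mem_Wsp.1 hw
  rcases Int.units_eq_one_or g.e with h | h
  · rw [g.rho_inner h, g.fix]; exact hw
  · rw [g.rho_outer h, g.fix]; exact rho_mem_Wsp _ self_mem_Wsp

theorem Gam.fix_Wsp (g : Gam B q o δ u) (hg : g.e = 1) {w : V} (hw : w ∈ Wsp δ u) : g w = w := by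
  obtain ⟨b, rfl⟩ := TW.mem_Wsp.1 hw
  rw [g.rho_inner hg, g.fix]

theorem Indec.isotropic [CharP F 2] (H : Indec B q o δ u) (hδ : ∀ d, IsIso B q o (δ d)) {m : ℕ}
    (hm : ∀ a : MonoidAlgebra F Δ, a ^ (m + 2) = a) (γ : Gam B q o δ u) (hγ : γ.e = -1) {w : V}
    (hw : w ∈ Wsp δ u) (hw0 : w ≠ 0) (h : ∀ y ∈ Wsp δ u, B w y = 0) :
    ∀ x ∈ Wsp δ u, ∀ y ∈ Wsp δ u, B x y = 0 := by
  obtain ⟨a, rfl⟩ := mem_Wsp.1 hw
  have h1 : ∀ b, ∀ y ∈ Wsp δ u, B (rho δ (b * a) u) y = 0 := fun b y hy => by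
    rw [rho_mul, rho_adj hδ, h _ (rho_mem_Wsp _ hy)]
  have h2 : ∀ y ∈ Wsp δ u, B u y = 0 := fun y hy => by
    have := H.full hδ hm (a := a) fun h => hw0 (by rw [h]; rfl)
    rw [← End.one_apply (R := F) u, ← this]
    have e1 := h1 (a ^ m) y hy
    have e2 := h1 (st (a ^ (m + 1)) * a ^ m) y hy
    have e3 := h1 (a ^ m) _ (γ⁻¹.mem_Wsp hy)
    rw [← γ.move, γ.rho_outer hγ, γ.fix, ← pow_succ] at e3
    rw [mul_assoc, ← pow_succ, mul_comm] at e2
    rw [← pow_succ] at e1
    simp only [map_add, LinearMap.add_apply, e1, e2, e3, add_zero]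
  intro x hx y hy
  obtain ⟨b, rfl⟩ := mem_Wsp.1 hx
  rw [rho_adj hδ, h2 _ (rho_mem_Wsp _ hy)]

variable [Fintype Δ]

/-- Averaged rank one maps. -/
noncomputable def Phi (B : LinearMap.BilinForm F V) (δ : Δ →* (V ≃ₗ[F] V)) :
    V →ₗ[F] V →ₗ[F] End F V :=
  LinearMap.mk₂ F (fun v w => ∑ d, (B.flip (δ d v)).smulRight (δ d w))
    (fun _ _ _ => LinearMap.ext fun _ => by simp [Finset.sum_add_distrib, add_smul])
    (fun _ _ _ => LinearMap.ext fun _ => by simp [Finset.smul_sum, mul_smul])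
    (fun _ _ _ => LinearMap.ext fun _ => by simp [Finset.sum_add_distrib])
    (fun _ _ _ => LinearMap.ext fun _ => by simp [Finset.smul_sum, smul_smul, mul_comm])

theorem Phi_apply (v w x : V) : Phi B δ v w x = ∑ d, B x (δ d v) • δ d w := by simp [Phi]

theorem Phi_adj (hB : Dat B q) (v w x y : V) : B (Phi B δ v w x) y = B x (Phi B δ w v y) := by
  simp only [Phi_apply, map_sum, LinearMap.sum_apply, map_smul, LinearMap.smul_apply, smul_eq_mul]
  exact Finset.sum_congr rfl fun d _ => by rw [hB.sym y, mul_comm]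

theorem dl_Phi (hδ : ∀ d, IsIso B q o (δ d)) (v w : V) : DL δ (Phi B δ v w) := fun d x => by
  simp only [Phi_apply, map_sum, map_smul, del_move hδ, del_mul]
  exact (Fintype.sum_equiv (Equiv.mulLeft d) _ _ fun a => by simp).symm

theorem DL.Phi {T : V →ₗ[F] V} (h : DL δ T) (v w x : V) :
    T (Phi B δ v w x) = Phi B δ v (T w) x := by
  simp only [Phi_apply, map_sum, map_smul, h _ _]

theorem Phi_move {T T' : V → V} (h : DL δ T') (h' : ∀ x y, B (T x) y = B x (T' y)) (v w x : V) :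
    Phi B δ v w (T x) = Phi B δ (T' v) w x := by
  simp only [Phi_apply, h', h _ _]

theorem Phi_rho (hδ : ∀ d, IsIso B q o (δ d)) (a : MonoidAlgebra F Δ) (v w x : V) :
    Phi B δ (rho δ (st a) v) w x = Phi B δ v (rho δ a w) x := by
  rw [← Phi_move (dl_rho _) (rho_adj hδ a), (dl_Phi hδ v w).rho, (dl_rho a).Phi]

theorem Gam.Phi (g : Gam B q o δ u) (v w x : V) :
    g (Phi B δ v w x) = Phi B δ (g v) (g w) (g x) := by
  simp only [Phi_apply, map_sum, map_smul]
  exact Fintype.sum_bijective (fun d : Δ => d ^ (g.e : ℤ))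
    (Function.Involutive.bijective fun d => zpow_units d g.e) _ _ fun d => by
      rw [← g.tw, ← g.tw, g.form]

theorem Phi_mem {U : Submodule F V} (hU : ∀ d, ∀ x ∈ U, δ d x ∈ U) (v : V) {w : V} (hw : w ∈ U)
    (x : V) : Phi B δ v w x ∈ U := by
  rw [Phi_apply]; exact sum_mem fun d _ => U.smul_mem _ (hU d w hw)

theorem Phi_eq_zero {v x : V} (h : ∀ d, B x (δ d v) = 0) (w : V) : Phi B δ v w x = 0 := by
  simp [Phi_apply, h]

theorem card_eq_one [CharP F 2] (hodd : Odd (Fintype.card Δ)) : (Fintype.card Δ : F) = 1 := by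
  obtain ⟨k, hk⟩ := hodd
  rw [hk]; push_cast; rw [CharTwo.two_eq_zero, zero_mul, zero_add]

theorem sum_const_odd [CharP F 2] (hodd : Odd (Fintype.card Δ)) {M : Type*} [AddCommGroup M]
    [Module F M] (x : M) : ∑ _d : Δ, x = x := by
  rw [Finset.sum_const, Finset.card_univ, ← Nat.cast_smul_eq_nsmul F, card_eq_one hodd, one_smul]

theorem exists_Phi [CharP F 2] [FiniteDimensional F V] (hB : Dat B q)
    (hδ : ∀ d, IsIso B q o (δ d)) (hodd : Odd (Fintype.card Δ)) {T : V →ₗ[F] V} (hT : DL δ T)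
    (hW : ∀ x, T x ∈ Wsp δ u) : ∃ v, ∀ x, T x = Phi B δ v u x := by
  let b := Module.finBasis F V
  choose a ha using fun i => mem_Wsp.1 (hW (b i))
  have hv : ∀ i, ∃ v, ∀ x, B x v = b.repr x i := fun i =>
    ⟨(B.toDual hB.nondeg).symm (b.coord i), fun x => by
      rw [hB.sym, LinearMap.BilinForm.apply_toDual_symm_apply]; rfl⟩
  choose v hv using hv
  refine ⟨∑ i, rho δ (st (a i)) (v i), fun x => ?_⟩
  simp only [map_sum, LinearMap.sum_apply, Phi_rho hδ, ha, Phi_apply]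
  rw [Finset.sum_comm, ← sum_const_odd (F := F) hodd (T x)]
  refine Finset.sum_congr rfl fun d _ => ?_
  have : x = δ d (∑ i, b.repr (δ d⁻¹ x) i • b i) := by
    rw [b.sum_repr, del_mul, mul_inv_cancel, map_one]; rfl
  conv_lhs => rw [this, hT]
  simp only [map_sum, map_smul, ← hv, del_move hδ, inv_inv]

/-- Averaging. -/
noncomputable def avgD (δ : Δ →* (V ≃ₗ[F] V)) (T : End F V) : End F V :=
  ∑ d, (δ d).toLinearMap ∘ₗ T ∘ₗ (δ d⁻¹).toLinearMap

theorem avgD_apply (T : End F V) (x : V) : avgD δ T x = ∑ d, δ d (T (δ d⁻¹ x)) := by simp [avgD]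

theorem dl_avgD (T : End F V) : DL δ (avgD δ T) := fun d x => by
  simp only [avgD_apply, map_sum, del_mul]
  exact (Fintype.sum_equiv (Equiv.mulLeft d) _ _ fun a => by simp [mul_assoc]).symm

theorem exists_N [CharP F 2] [FiniteDimensional F V] (hB : Dat B q)
    (hδ : ∀ d, IsIso B q o (δ d)) (hodd : Odd (Fintype.card Δ)) : ∃ N : End F V, DL δ N ∧
      (∀ x y, B (N x) y + B x (N y) = B x y) ∧ (o → ∀ x, B (N x) x = q x) := by
  let b := q.toBilin (Module.finBasis F V)
  have hb : ∀ x, b x x = q x := fun x =>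
    DFunLike.congr_fun (q.toQuadraticMap_toBilin (Module.finBasis F V)) x
  let N := (B.toDual hB.nondeg).symm.toLinearMap ∘ₗ b
  have hN : ∀ x y, B (N x) y = b x y := fun x y =>
    LinearMap.BilinForm.apply_toDual_symm_apply (hB := hB.nondeg) _ _
  refine ⟨avgD δ N, dl_avgD N, fun x y => ?_, fun ho x => ?_⟩
  · rw [hB.sym x (avgD δ N y), avgD_apply, avgD_apply, ← sum_const_odd (F := F) hodd (B x y)]
    simp only [map_sum, LinearMap.sum_apply, ← Finset.sum_add_distrib, del_move hδ _ (N _), hN]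
    refine Finset.sum_congr rfl fun d _ => ?_
    have := hB.add (δ d⁻¹ x) (δ d⁻¹ y)
    simp only [← hb, map_add, LinearMap.add_apply, (hδ _).1] at this
    linear_combination this
  · rw [avgD_apply, ← sum_const_odd (F := F) hodd (q x)]
    simp only [map_sum, LinearMap.sum_apply, del_move hδ _ (N _), hN, hb, (hδ _).2 ho]

/-- A projector onto the isotropic subspace `W` with isotropic opposite. -/
structure Levi (B : LinearMap.BilinForm F V) (δ : Δ →* (V ≃ₗ[F] V)) (W : Submodule F V)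
    (P P' : End F V) : Prop where
  adj : ∀ x y, B (P x) y = B x (P' y)
  mem : ∀ x, P x ∈ W
  fix : ∀ w ∈ W, P w = w
  zero : ∀ x, P (P' x) = 0
  dl : DL δ P
  dl' : DL δ P'
  iso : ∀ x ∈ W, ∀ y ∈ W, B x y = 0

theorem exists_levi [CharP F 2] [FiniteDimensional F V] (hB : Dat B q)
    (hδ : ∀ d, IsIso B q o (δ d)) (hodd : Odd (Fintype.card Δ)) {W : Submodule F V}
    (hW : ∀ d, ∀ x ∈ W, δ d x ∈ W) (hi : ∀ x ∈ W, ∀ y ∈ W, B x y = 0) :
    ∃ P P', Levi B δ W P P' ∧ (o → (∀ w ∈ W, q w = 0) → ∀ x, q (P' x) = 0) := by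
  obtain ⟨N, hN, hN1, hN2⟩ := exists_N hB hδ hodd
  obtain ⟨C, hC⟩ := W.exists_isCompl
  let P := avgD δ (W.subtype ∘ₗ W.projectionOnto C hC)
  have h1 : ∀ x, P x ∈ W := fun x => by
    rw [avgD_apply]; exact sum_mem fun d _ => hW d _ (W.projectionOnto C hC _).2
  have h2 : ∀ w ∈ W, P w = w := fun w hw => by
    rw [avgD_apply, ← sum_const_odd (F := F) hodd w]
    refine Finset.sum_congr rfl fun d _ => ?_
    rw [sum_const_odd (F := F) hodd w, show (W.subtype ∘ₗ W.projectionOnto C hC) (δ d⁻¹ w) = δ d⁻¹ w from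
      congrArg Subtype.val (Submodule.projectionOnto_apply_left hC ⟨_, hW _ w hw⟩), del_mul,
      mul_inv_cancel, map_one]; rfl
  have h3 : DL δ P := dl_avgD _
  let P' := B.leftAdjointOfNondegenerate hB.nondeg P
  have h4 : ∀ x y, B (P x) y = B x (P' y) := fun x y => by
    rw [hB.sym, hB.sym x]; exact (B.isAdjointPairLeftAdjointOfNondegenerate hB.nondeg P y x).symm
  have h5 : DL δ P' := fun d x => hB.ext fun y => by
    rw [hB.sym, ← h4, del_move hδ, hB.sym (P' x), ← h4, h3, del_move hδ, inv_inv]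
  have h6 : ∀ w ∈ W, P' w = 0 := fun w hw => hB.nd _ fun y => by rw [hB.sym, ← h4, hi _ (h1 y) w hw]
  have h4' : ∀ x y, B x (P y) = B (P' x) y := fun x y => by rw [hB.sym, h4, hB.sym]
  have h7 : ∀ x, P' (P' x) = P' x := fun x => hB.ext fun y => by rw [← h4', ← h4', h2 _ (h1 y), h4']
  refine ⟨P - P ∘ₗ N ∘ₗ P', P' - P ∘ₗ P' + P ∘ₗ N ∘ₗ P', ⟨fun x y => ?_,
    fun x => sub_mem (h1 _) (h1 _), fun w hw => by simp [h2 w hw, h6 w hw], fun x => ?_,
    fun d x => by simp [h3 d, h5 d, hN d], fun d x => by simp [h3 d, h5 d, hN d], hi⟩,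
    fun ho hq x => ?_⟩
  · have e1 := hN1 (P' x) (P' y)
    simp only [LinearMap.sub_apply, LinearMap.add_apply, LinearMap.comp_apply, map_sub, map_add, h4,
      h4'] at e1 ⊢
    linear_combination -e1
  · simp [h2 _ (h1 _), h6 _ (h1 _), h7]
  · rw [show (P' - P ∘ₗ P' + P ∘ₗ N ∘ₗ P') x = P' x + P (N (P' x) - P' x) by simp; abel, hB.add,
      hq _ (h1 _), h4', h7, map_sub, hB.alt, hB.sym, hN2 ho, add_zero, sub_zero,
      CharTwo.add_self_eq_zero]

end Cfsg.Lib.Known.TW
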