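import Cfsg.Agent.Known.TwGeoB

/-!
The parabolic subgroup attached to an isotropic cyclic submodule.
-/

namespace Cfsg.Lib.Known.TW

open Module MonoidAlgebra

variable {F V : Type*} [Field F] [AddCommGroup V] [Module F V] {B : LinearMap.BilinForm F V}
  {q : QuadraticForm F V} {o : Prop} {Δ : Type*} [CommGroup Δ] {δ : Δ →* (V ≃ₗ[F] V)} {u : V}

/-- The orthogonal complement of the cyclic submodule. -/
noncomputable abbrev Wp (B : LinearMap.BilinForm F V) (δ : Δ →* (V ≃ₗ[F] V)) (u : V) :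
    Submodule F V := B.orthogonal (Wsp δ u)

theorem mem_Wp {v : V} : v ∈ Wp B δ u ↔ ∀ w ∈ Wsp δ u, B w v = 0 := Iff.rfl

theorem Gam.mem_Wp (g : Gam B q o δ u) {v : V} (hv : v ∈ Wp B δ u) : g v ∈ Wp B δ u :=
  fun w hw => show B w (g v) = 0 by rw [g.move']; exact hv _ (g⁻¹.mem_Wsp hw)

theorem Gam.sub_mem_Wp (g : Gam B q o δ u) (hg : g.e = 1) (v : V) : g v - v ∈ Wp B δ u :=
  fun w hw => show B w (g v - v) = 0 by
    rw [map_sub, g.move', g⁻¹.fix_Wsp (by rw [g.inv_e, hg]) hw, sub_self]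

theorem del_mem_Wp (hδ : ∀ d, IsIso B q o (δ d)) (d : Δ) {v : V} (hv : v ∈ Wp B δ u) :
    δ d v ∈ Wp B δ u := fun w hw => show B w (δ d v) = 0 by
  rw [← inv_inv d, ← del_move hδ]; exact hv _ (del_mem_Wsp _ hw)

theorem rho_mem_Wp (hδ : ∀ d, IsIso B q o (δ d)) (a : MonoidAlgebra F Δ) {v : V}
    (hv : v ∈ Wp B δ u) : rho δ a v ∈ Wp B δ u := fun w hw => show B w (rho δ a v) = 0 by
  rw [← st_st a, ← rho_adj hδ]; exact hv _ (rho_mem_Wsp _ hw)

theorem Gam.conj_e (g x : Gam B q o δ u) : (g * x * g⁻¹).e = x.e := s_conj' (sg B q o δ u) g x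

variable (B q o δ u) in
/-- The unipotent radical. -/
noncomputable def Qs : Subgroup (Gam B q o δ u) where
  carrier := {x | x.e = 1 ∧ ∀ v ∈ Wp B δ u, x v - v ∈ Wsp δ u}
  one_mem' := ⟨rfl, fun v _ => by simp [Gam.one_apply]⟩
  mul_mem' {a b} ha hb := ⟨by rw [Gam.mul_e, ha.1, hb.1, mul_one], fun v hv => by
    simpa [Gam.mul_apply] using add_mem (ha.2 _ (b.mem_Wp hv)) (hb.2 v hv)⟩
  inv_mem' {a} ha := ⟨by rw [Gam.inv_e, ha.1], fun v hv => by
    simpa [Gam.apply_inv] using neg_mem (ha.2 _ (a⁻¹.mem_Wp hv))⟩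

variable (B q o δ u) in
/-- The centre of the unipotent radical. -/
noncomputable def Zs : Subgroup (Gam B q o δ u) where
  carrier := {x | x.e = 1 ∧ ∀ v ∈ Wp B δ u, x v = v}
  one_mem' := ⟨rfl, fun _ _ => rfl⟩
  mul_mem' {a b} ha hb := ⟨by rw [Gam.mul_e, ha.1, hb.1, mul_one], fun v hv => by
    rw [Gam.mul_apply, hb.2 v hv, ha.2 v hv]⟩
  inv_mem' {a} ha := ⟨by rw [Gam.inv_e, ha.1], fun v hv => by
    conv_lhs => rw [← ha.2 v hv, a.inv_apply]⟩

variable (B q o δ u) in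
/-- The Levi complement. -/
def Ks (P : End F V) : Subgroup (Gam B q o δ u) where
  carrier := {g | ∀ v, P (g v) = g (P v)}
  one_mem' _ := rfl
  mul_mem' {a b} ha hb v := by rw [Gam.mul_apply, Gam.mul_apply, ha, hb]
  inv_mem' {a} ha v := a.t.injective (by rw [← ha, a.apply_inv, a.apply_inv])

instance : (Qs B q o δ u).Normal := ⟨fun x hx g => ⟨(g.conj_e x).trans hx.1, fun v hv => by
  simpa [Gam.mul_apply, Gam.apply_inv] using g.mem_Wsp (hx.2 _ (g⁻¹.mem_Wp hv))⟩⟩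

instance : (Zs B q o δ u).Normal := ⟨fun x hx g => ⟨(g.conj_e x).trans hx.1, fun v hv => by
  rw [Gam.mul_apply, Gam.mul_apply, hx.2 _ (g⁻¹.mem_Wp hv), g.apply_inv]⟩⟩

theorem Zs_le : Zs B q o δ u ≤ Qs B q o δ u := fun x hx => ⟨hx.1, fun v hv => by simp [hx.2 v hv]⟩

theorem Gam.apply_add_W (a : Gam B q o δ u) (ha : a.e = 1) (v : V) {w : V} (hw : w ∈ Wsp δ u) :
    a (v + w) = a v + w := by rw [map_add, a.fix_Wsp ha hw]

theorem comm_mem_Zs {a b : Gam B q o δ u} (ha : a ∈ Qs B q o δ u) (hb : b ∈ Qs B q o δ u) :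
    a * b * a⁻¹ * b⁻¹ ∈ Zs B q o δ u := by
  refine ⟨(mul_mem (mul_mem (mul_mem ha hb) (inv_mem ha)) (inv_mem hb)).1, fun v hv => ?_⟩
  have h1 := a⁻¹.mem_Wp (b⁻¹.mem_Wp hv)
  have e1 := a.apply_add_W ha.1 (a⁻¹ (b⁻¹ v)) (hb.2 _ h1)
  have e2 := b.apply_add_W hb.1 (a⁻¹ (b⁻¹ v)) (ha.2 _ h1)
  simp only [add_sub_cancel, Gam.apply_inv] at e1 e2
  simp only [Gam.mul_apply]
  rw [e1]
  conv_rhs => rw [e2]
  abel

theorem sq_mem_Zs [CharP F 2] {a : Gam B q o δ u} (ha : a ∈ Qs B q o δ u) :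
    a * a ∈ Zs B q o δ u := by
  refine ⟨(mul_mem ha ha).1, fun v hv => ?_⟩
  have e1 := a.apply_add_W ha.1 v (ha.2 _ hv)
  rw [add_sub_cancel] at e1
  rw [Gam.mul_apply, e1]
  linear_combination (norm := module) (CharTwo.two_eq_zero (R := F)) • (a v - v)

theorem dec (P P' : End F V) (v : V) : v = P v + (1 - P - P') v + P' v := by
  simp only [LinearMap.sub_apply, End.one_apply]; abel

namespace Levi

variable {P P' : End F V} (L : Levi B δ (Wsp δ u) P P') (hB : Dat B q)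
include L hB

theorem adj' (x y : V) : B x (P y) = B (P' x) y := by rw [hB.sym, L.adj, hB.sym]

theorem perp {v : V} (hv : v ∈ Wp B δ u) : P' v = 0 :=
  hB.nd _ fun y => by rw [← L.adj' hB, hB.sym]; exact hv _ (L.mem y)

omit hB in
theorem le {w : V} (hw : w ∈ Wsp δ u) : w ∈ Wp B δ u := fun x hx => L.iso x hx w hw

omit hB in
theorem sub_mem (y : V) : y - P' y ∈ Wp B δ u := fun w hw => show B w (y - P' y) = 0 by
  rw [map_sub, ← L.adj, L.fix w hw, sub_self]

theorem idem' (y : V) : P' (P' y) = P' y := by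
  have := L.perp hB (L.sub_mem y)
  rw [map_sub, sub_eq_zero] at this
  exact this.symm

theorem mem_of {t : V} (h : ∀ v ∈ Wp B δ u, B v t = 0) : t ∈ Wsp δ u := by
  have : t = P t := hB.ext fun y => by
    have := h _ (L.sub_mem y)
    rw [hB.sym, hB.sym (P t), L.adj' hB]
    simpa [sub_eq_zero] using this
  rw [this]; exact L.mem t

theorem proj : Proj B δ (1 - P - P') :=
  ⟨fun x => by simp [L.fix _ (L.mem _), L.zero, L.perp hB (L.le (L.mem _)), L.idem' hB],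
    fun x y => by simp [L.adj, L.adj' hB]; ring, fun d x => by simp [L.dl d, L.dl' d]⟩

theorem r_W {w : V} (hw : w ∈ Wsp δ u) : (1 - P - P') w = 0 := by
  simp [L.fix w hw, L.perp hB (L.le hw)]

omit hB in
theorem P_r (v : V) : P ((1 - P - P') v) = 0 := by simp [L.fix _ (L.mem _), L.zero]

omit hB in
theorem r_mem (v : V) : (1 - P - P') v ∈ Wp B δ u := by
  simpa [sub_right_comm] using _root_.sub_mem (L.sub_mem v) (L.le (L.mem v))

omit hB in
theorem coe_mem (x : LinearMap.range (1 - P - P')) : (x : V) ∈ Wp B δ u := by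
  obtain ⟨_, y, rfl⟩ := x
  exact L.r_mem y

theorem r_perp {v : V} (hv : v ∈ Wp B δ u) : (1 - P - P') v = v - P v := by simp [L.perp hB hv]

theorem Z_sub {z : Gam B q o δ u} (hz : z ∈ Zs B q o δ u) (y : V) : z y - y ∈ Wsp δ u :=
  L.mem_of hB fun v hv => by
    rw [map_sub, z.move', (inv_mem hz).2 v hv, sub_self]

theorem Z_central {z : Gam B q o δ u} (hz : z ∈ Zs B q o δ u) (g : Gam B q o δ u) (hg : g.e = 1) :
    z * g = g * z := Gam.ext (fun y => by
  have e1 := hz.2 _ (g.sub_mem_Wp hg y)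
  have e2 := g.apply_add_W hg y (L.Z_sub hB hz y)
  rw [add_sub_cancel] at e2
  rw [map_sub] at e1
  rw [Gam.mul_apply, Gam.mul_apply, e2]
  linear_combination (norm := module) e1) (mul_comm _ _)

theorem isPGroup [CharP F 2] : IsPGroup 2 (Qs B q o δ u) := fun x => ⟨2, Subtype.ext (by
  have hz := sq_mem_Zs x.2
  rw [SubgroupClass.coe_pow, show (x : Gam B q o δ u) ^ 2 ^ 2 = (x * x) * (x * x) by
    rw [show 2 ^ 2 = 4 from rfl, pow_succ, pow_three, mul_assoc, mul_assoc, mul_assoc]]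
  generalize (x : Gam B q o δ u) * x = z at hz
  refine Gam.ext (fun y => ?_) (mul_mem hz hz).1
  have e1 := z.apply_add_W hz.1 y (L.Z_sub hB hz y)
  rw [add_sub_cancel] at e1
  rw [Gam.mul_apply, e1, OneMemClass.coe_one, Gam.one_apply]
  linear_combination (norm := module) (CharTwo.two_eq_zero (R := F)) • (z y - y))⟩

theorem K_P' {g : Gam B q o δ u} (hg : g ∈ Ks B q o δ u P) (v : V) : P' (g v) = g (P' v) :=
  hB.ext fun y => by rw [← L.adj' hB, g.move, g.move, ← inv_mem hg, L.adj' hB]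

theorem K_r {g : Gam B q o δ u} (hg : g ∈ Ks B q o δ u P) (v : V) :
    (1 - P - P') (g v) = g ((1 - P - P') v) := by simp [hg v, L.K_P' hB hg]

theorem decomp [FiniteDimensional F V]
    (hq : o → (∀ w ∈ Wsp δ u, q w = 0) ∧ ∀ x, q (P' x) = 0) (g : Gam B q o δ u) :
    ∃ x ∈ Qs B q o δ u, ∃ k ∈ Ks B q o δ u P, g = x * k := by
  have hr := L.proj hB
  have h1 := fun w => L.r_W hB (w := w)
  have h2 := L.P_r
  have h3 := L.r_mem
  have h4 := fun v => L.r_perp hB (v := v)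
  have h5 := dec P P'
  generalize 1 - P - P' = r at *
  have a1 : ∀ x y, B (P x) (P y) = 0 := fun x y => L.iso _ (L.mem x) _ (L.mem y)
  have a2 : ∀ x y, B (P' x) (P' y) = 0 := fun x y => by rw [← L.adj, L.zero]; simp
  have a3 : ∀ x y, B (r x) (P' y) = 0 := fun x y => by rw [← L.adj, h2]; simp
  have a4 : ∀ x y, B (g (P x)) (g (P y)) = 0 := fun x y => by rw [g.form, a1]
  have a5 : ∀ x y, B (g (P x)) (r y) = 0 := fun x y => h3 y _ (g.mem_Wsp (L.mem x))
  have a6 : ∀ x y, B (g (P x)) (P' (g (P' y))) = B (P x) (P' y) := fun x y => by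
    rw [← L.adj, L.fix _ (g.mem_Wsp (L.mem x)), g.form]
  have a7 : ∀ x y, B (r (g (r x))) (r (g (r y))) = B (r x) (r y) := fun x y => by
    rw [hr.adj, hr.idem, h4 _ (g.mem_Wp (h3 y)), map_sub, g.form, hB.sym _ (P _),
      g.mem_Wp (h3 x) _ (L.mem _), sub_zero]
  have a8 : ∀ x y, B (P x) (r y) = 0 := fun x y => h3 y _ (L.mem x)
  let T : End F V := g.t.toLinearMap ∘ₗ P + r ∘ₗ g.t.toLinearMap ∘ₗ r + P' ∘ₗ g.t.toLinearMap ∘ₗ P'
  have hT : ∀ v, T v = g (P v) + r (g (r v)) + P' (g (P' v)) := fun _ => rfl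
  obtain ⟨k, hk, hke⟩ := exists_gam (o := o) (δ := δ) (u := u) hB T g.e ⟨fun x y => by
      conv_rhs => rw [h5 x, h5 y]
      simp only [hT, map_add, LinearMap.add_apply, a1, a2, a3, a4, a5, a6, a7, a8,
        hB.sym (r _) (g (P _)), hB.sym (P' _) (g (P _)), hB.sym (P' _) (r _), hB.sym (r _) (P _),
        hB.sym (P' _) (P _)], fun ho x => by
      have b1 : q (r (g (r x))) = q (r x) := by
        have := hB.add (r (g (r x))) (P (g (r x)))
        rw [h4 _ (g.mem_Wp (h3 x)), sub_add_cancel, ← h4 _ (g.mem_Wp (h3 x)), (hq ho).1 _ (L.mem _),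
          hB.sym, a8, g.quad ho] at this
        simpa using this.symm
      conv_rhs => rw [h5 x]
      simp only [hT, hB.add, map_add, LinearMap.add_apply, a3, a5, a6, a8, b1, (hq ho).2,
        g.quad ho]⟩
    (fun d x => by simp only [hT, L.dl d, L.dl' d, hr.comm, g.tw, L.dl' _, map_add])
    (by rw [hT, L.fix _ self_mem_Wsp, g.fix, h1 _ self_mem_Wsp, L.perp hB (L.le self_mem_Wsp)]; simp)
  refine ⟨g * k⁻¹, ⟨by rw [Gam.mul_e, Gam.inv_e, hke, Int.units_mul_self], fun v hv => ?_⟩, k,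
    fun v => ?_, by simp⟩
  · have h6 := k⁻¹.mem_Wp hv
    have h7 := k.apply_inv v
    rw [Gam.mul_apply]
    generalize k⁻¹ v = w at h6 h7
    rw [← h7, hk, hT, L.perp hB h6, h4 _ (g.mem_Wp (h3 w)), h4 _ h6]
    convert L.mem (g (w - P w)) using 1
    simp only [map_sub, map_zero]; abel
  · simp only [hk, hT, map_add, h2, L.zero, L.fix _ (g.mem_Wsp (L.mem _)), L.fix _ (L.mem _),
      h1 _ (L.mem _), L.perp hB (L.le (L.mem _)), map_zero]

theorem exists_ext_K [FiniteDimensional F V]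
    {q' : QuadraticForm F (LinearMap.range (1 - P - P'))} {o' : Prop}
    {u' : LinearMap.range (1 - P - P')}
    (g' : Gam (B.restrict _) q' o' (L.proj hB).res u') (hg' : g'.e = 1)
    (ho : o → ∀ x, q (g' x : V) = q x) :
    ∃ g ∈ Ks B q o δ u P, g.e = 1 ∧ (∀ x : LinearMap.range (1 - P - P'), g x = g' x) ∧
      ∀ v, (1 - P - P') v = 0 → g v = v := by
  have hr := L.proj hB
  obtain ⟨g, h1, h2, h3⟩ := exists_ext (u := u) hB hr g' hg' ho fun x hx => by
    rw [show x = 0 from Subtype.ext (hx.trans (L.r_W hB self_mem_Wsp)), map_zero]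
  refine ⟨g, fun v => ?_, h1, h2, h3⟩
  have e1 := h2 ⟨(1 - P - P') v, v, rfl⟩
  have e2 := h3 (v - (1 - P - P') v) (by rw [map_sub, hr.idem, sub_self])
  rw [h3 _ (L.r_W hB (L.mem v))]
  conv_lhs => rw [← add_sub_cancel ((1 - P - P') v) v, map_add, e1, e2, map_add, ← hr.coe (g' _),
    L.P_r, map_sub, L.P_r]
  simp

theorem tw_levi [FiniteDimensional F V] {K : Type*} [Group K] (ι : K →* Gam B q o δ u)
    (hinj : Function.Injective ι) (q' : QuadraticForm F (LinearMap.range (1 - P - P'))) (o' : Prop)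
    (u' : LinearMap.range (1 - P - P')) (hoq : o → o' ∧ ∀ x, q' x = q x)
    (h : ∀ g, g ∈ ι.range ↔ g ∈ Ks B q o δ u P ∧ (o' → ∀ x y : LinearMap.range (1 - P - P'),
      (y : V) = g x → q' y = q' x) ∧ g u' = u')
    (t : TW (sg (B.restrict _) q' o' (L.proj hB).res u')) : TW ((sg B q o δ u).comp ι) := by
  have hr := L.proj hB
  have h0 := fun k => (h _).1 ⟨k, rfl⟩
  have h1 : ∀ k (x : LinearMap.range (1 - P - P')), (1 - P - P') (ι k x) = ι k x := fun k x => by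
    rw [L.K_r hB (h0 k).1, hr.coe]
  obtain ⟨π, hπ, hπ'⟩ := exists_res ι hr ⊥ (by simp) (by simp) (by simp)
    (fun k v hv => by rw [L.K_r hB (h0 k).1, hv, sub_self]; rfl) q' o' u'
    (fun k ho x y e => (h0 k).2.1 ho x y (by rw [e, h1])) fun k => by rw [h1, (h0 k).2.2]
  refine TW.of_inj π hπ' (fun k hk => hinj ?_) (fun a ha => ?_) t
  · have he : (ι k).e = 1 := by rw [← hπ', hk]; rfl
    rw [map_one]
    refine Gam.ext (fun v => ?_) he
    have e1 := hπ k ⟨(1 - P - P') v, v, rfl⟩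
    rw [hk, h1] at e1
    have e2 := L.perp hB ((ι k).sub_mem_Wp he v)
    rw [map_sub, L.K_P' hB (h0 k).1, sub_eq_zero] at e2
    conv_lhs => rw [dec P P' v, map_add, map_add, e2, ← e1, (ι k).fix_Wsp he (L.mem v)]
    exact (dec P P' v).symm
  · obtain ⟨g, h2, h3, h4, -⟩ := L.exists_ext_K hB a ha fun ho x => by
      rw [← (hoq ho).2, ← (hoq ho).2, a.quad (hoq ho).1]
    obtain ⟨k, rfl⟩ := (h g).2 ⟨h2, fun ho x y e => by
      rw [show y = a x from Subtype.ext (e.trans (h4 x)), a.quad ho], by rw [h4, a.fix]⟩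
    exact ⟨k, Gam.ext (fun x => Subtype.ext (by rw [hπ, h1, h4])) (by rw [hπ', h3]; exact ha.symm)⟩

theorem twc_stab [FiniteDimensional F V]
    (hq : o → (∀ w ∈ Wsp δ u, q w = 0) ∧ ∀ x, q (P' x) = 0) {l : Gam B q o δ u → ℂ}
    (hl : ∀ a ∈ Qs B q o δ u, ∀ b ∈ Qs B q o δ u, l (a * b) = l a * l b)
    (hl2 : ∀ a ∈ Qs B q o δ u, l a * l a = 1)
    (q' : QuadraticForm F (LinearMap.range (1 - P - P'))) (o' : Prop)
    (u' : LinearMap.range (1 - P - P')) (hoq : o → o' ∧ ∀ x, q' x = q x)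
    (h : ∀ g ∈ Ks B q o δ u P, g ∈ stab (Qs B q o δ u) l ↔
      (o' → ∀ x y : LinearMap.range (1 - P - P'), (y : V) = g x → q' y = q' x) ∧ g u' = u')
    (t : TW (sg (B.restrict _) q' o' (L.proj hB).res u')) :
    TWc ((sg B q o δ u).comp (stab (Qs B q o δ u) l).subtype) {g | (g : Gam B q o δ u) ∈ Qs B q o δ u}
      fun g => l g := by
  let S := stab (Qs B q o δ u) l
  refine TWc.of_compl ((Ks B q o δ u P).subgroupOf S).subtype (fun _ => rfl) (fun n hn => hn.1)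
    (fun g => ?_) (L.tw_levi hB (S.subtype.comp ((Ks B q o δ u P).subgroupOf S).subtype)
      (S.subtype_injective.comp (Subgroup.subtype_injective _)) q' o' u' hoq (fun g => ?_) t)
  · obtain ⟨x, hx, k, hk, e⟩ := L.decomp hB hq g
    have hxS : x ∈ S := fun a ha => by
      have h1 := hl 1 (one_mem _) 1 (one_mem _)
      rw [hl2 1 (one_mem _), mul_one] at h1
      rw [hl _ (mul_mem (inv_mem hx) ha) _ hx, hl _ (inv_mem hx) _ ha, mul_right_comm,
        ← hl _ (inv_mem hx) _ hx, inv_mul_cancel, h1, one_mul]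
    have hkS : k ∈ S := by simpa [e] using mul_mem (inv_mem hxS) g.2
    exact ⟨⟨x, hxS⟩, hx, ⟨⟨k, hkS⟩, hk⟩, Subtype.ext e⟩
  · exact ⟨by rintro ⟨k, rfl⟩; exact ⟨k.2, (h _ k.2).1 k.1.2⟩,
      fun hg => ⟨⟨⟨g, (h g hg.1).2 hg.2⟩, hg.1⟩, rfl⟩⟩

end Levi

end Cfsg.Lib.Known.TW
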