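import Cfsg.Agent.Known.TwGeoC

/-!
Clifford theory over the unipotent radical.
-/

namespace Cfsg.Lib.Known.TW

open Module MonoidAlgebra

variable {F V : Type*} [Field F] [AddCommGroup V] [Module F V] {B : LinearMap.BilinForm F V}
  {q : QuadraticForm F V} {o : Prop} {Δ : Type*} [CommGroup Δ] {δ : Δ →* (V ≃ₗ[F] V)} {u : V}

theorem Dat.eq_of_char (hB : Dat B q) {ψ : AddChar F ℂ} (hψ : ψ ≠ 1) {y y' : V}
    (h : ∀ x, ψ (B x y) = ψ (B x y')) : y = y' := by
  by_contra hne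
  obtain ⟨x, hx⟩ : ∃ x, B (y - y') x ≠ 0 := by
    by_contra! h0
    exact hne (sub_eq_zero.1 (hB.nd _ h0))
  refine hψ (DFunLike.ext _ _ fun a => ?_)
  have : a = B ((a / B (y - y') x) • x) y - B ((a / B (y - y') x) • x) y' := by
    rw [← map_sub, map_smul, LinearMap.smul_apply, hB.sym x, smul_eq_mul, div_mul_cancel₀ _ hx]
  rw [this, AddChar.map_sub_eq_div, h, div_self (ψ.val_isUnit _).ne_zero, AddChar.one_apply]

theorem Dat.exists_char [Finite V] (hB : Dat B q) {ψ : AddChar F ℂ} (hψ : ψ ≠ 1) (f : AddChar V ℂ) :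
    ∃ y, ∀ x, f x = ψ (B x y) := by
  cases nonempty_fintype V
  let c : V → AddChar V ℂ := fun y => ψ.compAddMonoidHom (B.flip y).toAddMonoidHom
  obtain ⟨y, rfl⟩ := ((Fintype.bijective_iff_injective_and_card c).2
    ⟨fun y y' h => hB.eq_of_char hψ fun x => DFunLike.congr_fun h x, AddChar.card_eq.symm⟩).2 f
  exact ⟨y, fun _ => rfl⟩

theorem TWc.of_one {Γ : Type*} [Group Γ] {s : Γ →* ℤˣ} {N : Set Γ} {μ : Γ → ℂ} (h1 : 1 ∈ N)
    (h : μ 1 = 1 → TWc s N μ) : TWc s N μ := fun γ hγ V _ _ _ _ ρ β hρ hβ => by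
  refine h ?_ γ hγ V ρ β hρ hβ
  obtain ⟨v, hv⟩ := exists_ne (0 : V)
  have := LinearMap.congr_fun (hρ 1 h1) v
  rw [ρ.map_one] at this
  exact smul_left_injective ℂ hv (by simpa using this.symm)

theorem stab_iff {Γ : Type*} [Group Γ] {A : Subgroup Γ} [A.Normal] {l : Γ → ℂ} {g : Γ} :
    g ∈ stab A l ↔ ∀ a ∈ A, l (g * a * g⁻¹) = l a := by
  rw [← inv_mem_iff]
  exact forall₂_congr fun a _ => by rw [inv_inv]

variable [Fintype Δ] [CharP F 2] [FiniteDimensional F V] {P P' : End F V}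
  (L : Levi B δ (Wsp δ u) P P') (hB : Dat B q) (hδ : ∀ d, IsIso B q o (δ d))
  (hodd : Odd (Fintype.card Δ))
include L hB hδ

omit [CharP F 2] [FiniteDimensional F V] L in
theorem Phi_u_left {x : V} (hx : x ∈ Wp B δ u) {w : V} (hw : w ∈ Wsp δ u) (v : V) :
    Phi B δ w v x = 0 := Phi_eq_zero (fun d => by rw [hB.sym]; exact hx _ (del_mem_Wsp d hw)) v

omit [CharP F 2] [FiniteDimensional F V] L in
theorem Phi_u_right {x : V} (hx : x ∈ Wsp δ u) {w : V} (hw : w ∈ Wp B δ u) (v : V) :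
    Phi B δ w v x = 0 := Phi_eq_zero (fun d => del_mem_Wp hδ d hw x hx) v

include hodd

theorem Levi.exists_X (hq : o → ∀ w ∈ Wsp δ u, q w = 0) {v : V} (hv : v ∈ Wp B δ u) :
    ∃ x ∈ Qs B q o δ u, ∃ w ∈ Wsp δ u, ∀ y,
      x y = y + Phi B δ v u y + Phi B δ u v y + Phi B δ u w y := by
  obtain ⟨N, hN, hN1, hN2⟩ := exists_N hB hδ hodd
  have hW : ∀ v y, Phi B δ v u y ∈ Wsp δ u := fun v => Phi_mem (fun d _ => del_mem_Wsp d) v self_mem_Wsp
  have hP : ∀ y, Phi B δ u v y ∈ Wp B δ u := Phi_mem (fun d _ => del_mem_Wp hδ d) u hv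
  have h1 : ∀ y, Phi B δ u (Phi B δ v u (N v)) y = Phi B δ v u (N (Phi B δ u v y)) := fun y => by
    rw [hN.Phi, (dl_Phi hδ v u).Phi]
  have h2 : (2 : F) = 0 := CharTwo.two_eq_zero
  have a1 : ∀ x y, B (Phi B δ v u x) (Phi B δ v u y) = 0 := fun x y => L.iso _ (hW _ _) _ (hW _ _)
  have a2 : ∀ x y, B (Phi B δ v u x) (Phi B δ u v y) = 0 := fun x y => hP y _ (hW _ _)
  have a3 : ∀ x y, B x (Phi B δ v u y) = B (Phi B δ u v x) y := fun x y => (Phi_adj hB _ _ _ _).symm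
  let T : End F V := 1 + Phi B δ v u + Phi B δ u v + Phi B δ u (Phi B δ v u (N v))
  have hT : ∀ y, T y = y + Phi B δ v u y + Phi B δ u v y + Phi B δ v u (N (Phi B δ u v y)) :=
    fun y => by rw [← h1]; rfl
  obtain ⟨x, hx, hxe⟩ := exists_gam (o := o) (δ := δ) (u := u) hB T 1 ⟨fun x y => by
      have e1 := hN1 (Phi B δ u v x) (Phi B δ u v y)
      have e2 := a3 x y
      have e3 := a3 x (N (Phi B δ u v y))
      have e4 := Phi_adj hB (δ := δ) v u x y
      have e5 := Phi_adj hB (δ := δ) v u (N (Phi B δ u v x)) y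
      simp only [hT, map_add, LinearMap.add_apply, a1, a2, hB.sym (Phi B δ u v _) (Phi B δ v u _)]
      linear_combination e1 + e2 + e3 + e4 + e5 + (B (Phi B δ u v x) y + B x (Phi B δ u v y) +
        B (Phi B δ u v x) (Phi B δ u v y)) * h2, fun ho x => by
      have e1 := hN2 ho (Phi B δ u v x)
      have e2 := a3 x x
      have e3 := a3 x (N (Phi B δ u v x))
      rw [hB.sym] at e1
      rw [hB.sym _ x] at e2
      simp only [hT, hB.add, map_add, LinearMap.add_apply, a1, a2, hq ho _ (hW _ _),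
        hB.sym (Phi B δ u v _) (Phi B δ v u _)]
      linear_combination e1 + e2 + e3 + (B x (Phi B δ u v x) + q (Phi B δ u v x)) * h2⟩
    (fun d x => by simp [hT, dl_Phi hδ _ _ d, hN d])
    (by simp [hT, Phi_u_right hB hδ self_mem_Wsp hv,
      Phi_u_left hB hδ (L.le self_mem_Wsp) self_mem_Wsp])
  refine ⟨x, ⟨hxe, fun y hy => ?_⟩, _, hW v (N v), hx⟩
  simpa [hx, hT, Phi_u_left hB hδ hy self_mem_Wsp] using hW v y

theorem Levi.exists_sim {a : Gam B q o δ u} (ha : a ∈ Qs B q o δ u) :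
    ∃ v : LinearMap.range (1 - P - P'), ∀ w ∈ Wp B δ u, a w = w + Phi B δ v u w := by
  have hr := L.proj hB
  obtain ⟨v, hv⟩ := exists_Phi (u := u) hB hδ hodd (T := (a.t.toLinearMap - 1) ∘ₗ (1 - P - P'))
    (fun d x => by simp only [LinearMap.comp_apply, hr.comm]; simp [a.comm ha.1])
    fun x => ha.2 _ (L.r_mem x)
  refine ⟨⟨_, v, rfl⟩, fun w hw => ?_⟩
  rw [← Phi_move hr.comm hr.adj, ← hv, LinearMap.comp_apply, hr.idem, L.r_perp hB hw]
  simp [a.fix_Wsp ha.1 (L.mem w)]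

theorem Levi.exists_Z {z : Gam B q o δ u} (hz : z ∈ Zs B q o δ u) :
    ∃ a, (∀ y, z y = y + Phi B δ u (rho δ a u) y) ∧
      ∀ y, Phi B δ u (rho δ (st a) u) y = Phi B δ u (rho δ a u) y := by
  obtain ⟨v, hv⟩ := exists_Phi (u := u) hB hδ hodd (T := z.t.toLinearMap - 1)
    (fun d x => by simp [z.comm hz.1]) (L.Z_sub hB hz)
  obtain ⟨a, ha⟩ := mem_Wsp.1 (L.mem v)
  have h1 : ∀ y, z y = y + Phi B δ (rho δ a u) u y := fun y => by
    have := hz.2 _ (L.sub_mem y)
    rw [ha, ← Phi_move L.dl fun x y => (L.adj' hB x y).symm, ← hv]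
    simp only [map_sub, LinearMap.sub_apply, End.one_apply, LinearEquiv.coe_coe] at this ⊢
    linear_combination (norm := module) this
  have h2 : ∀ y, Phi B δ (rho δ a u) u y = Phi B δ u (rho δ a u) y := fun y => hB.ext fun x => by
    have e1 := z.form y x
    have hW := Phi_mem (B := B) (fun d _ => del_mem_Wsp d) (rho δ a u) (self_mem_Wsp (δ := δ) (u := u))
    simp only [h1, map_add, LinearMap.add_apply, L.iso _ (hW _) _ (hW _)] at e1
    rw [Phi_adj hB u]
    linear_combination e1 - B y (Phi B δ (rho δ a u) u x) * CharTwo.two_eq_zero (R := F)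
  exact ⟨a, fun y => by rw [h1, h2], fun y => by rw [← Phi_rho hδ, st_st, h2]⟩

theorem Levi.twc_triv [Finite F] (hq : o → (∀ w ∈ Wsp δ u, q w = 0) ∧ ∀ x, q (P' x) = 0)
    (IH : ∀ u', TW (sg (B.restrict _) (q.restrict _) o (L.proj hB).res u'))
    {μ : Gam B q o δ u → ℂ} (hμ : ∀ z ∈ Zs B q o δ u, μ z = 1) :
    TWc (sg B q o δ u) (Zs B q o δ u) μ := by
  have : Finite V := Module.finite_of_finite F
  have hr := L.proj hB
  refine TWc.of_ab (Qs B q o δ u) (fun a ha => ha.1) Zs_le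
    (fun a ha b hb => ⟨comm_mem_Zs ha hb, hμ _ (comm_mem_Zs ha hb)⟩)
    (fun a ha => ⟨sq_mem_Zs ha, hμ _ (sq_mem_Zs ha)⟩) fun l hl hl2 hl3 => ?_
  have hX : ∀ v : LinearMap.range (1 - P - P'), ∃ x ∈ Qs B q o δ u, ∀ w ∈ Wp B δ u,
      x w = w + Phi B δ v u w := fun v => by
    obtain ⟨x, hx, w, hw, h⟩ := L.exists_X hB hδ hodd (fun ho => (hq ho).1) (L.coe_mem v)
    exact ⟨x, hx, fun y hy => by simp [h, Phi_u_left hB hδ hy self_mem_Wsp]⟩
  choose X hX hX' using hX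
  have key : ∀ x ∈ Qs B q o δ u, ∀ v : LinearMap.range (1 - P - P'),
      (∀ w ∈ Wp B δ u, x w = w + Phi B δ v u w) → l x = l (X v) := fun x hx v h => by
    have hz : (X v)⁻¹ * x ∈ Zs B q o δ u := ⟨(mul_mem (inv_mem (hX v)) hx).1, fun w hw => by
      rw [Gam.mul_apply, h w hw, ← hX' v w hw, Gam.inv_apply]⟩
    rw [← mul_inv_cancel_left (X v) x, hl _ (hX v) _ (Zs_le hz), hl3 _ hz, hμ _ hz, mul_one]
  let f : AddChar (LinearMap.range (1 - P - P')) ℂ :=
    { toFun := fun v => l (X v)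
      map_zero_eq_one' := by
        rw [← key 1 (one_mem _) 0 fun w _ => by simp [Gam.one_apply], hl3 _ (one_mem _),
          hμ _ (one_mem _)]
      map_add_eq_mul' := fun a b => by
        rw [← hl _ (hX a) _ (hX b), key _ (mul_mem (hX a) (hX b)) (a + b) fun w hw => by
          rw [Gam.mul_apply, hX' b w hw, (X a).apply_add_W (hX a).1 _
            (Phi_mem (fun d _ => del_mem_Wsp d) _ self_mem_Wsp _), hX' a w hw]
          simp [add_assoc]] }
  obtain ⟨ψ, hψ⟩ := (AddChar.exists_apply_ne_zero (a := (1 : F))).2 one_ne_zero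
  replace hψ : ψ ≠ 1 := fun h => hψ (by rw [h, AddChar.one_apply])
  obtain ⟨u', hu'⟩ := (hr.dat hB).exists_char hψ f
  refine L.twc_stab hB hq hl hl2 (q.restrict _) o u' (fun ho => ⟨ho, fun _ => rfl⟩) (fun g hg => ?_)
    (IH u')
  have hU : ∀ v : LinearMap.range (1 - P - P'), g⁻¹ v ∈ LinearMap.range (1 - P - P') := fun v =>
    ⟨g⁻¹ v, by rw [L.K_r hB (inv_mem hg), hr.coe]⟩
  have hc : ∀ a ∈ Qs B q o δ u, ∀ v : LinearMap.range (1 - P - P'),
      (∀ w ∈ Wp B δ u, a w = w + Phi B δ v u w) → l (g⁻¹ * a * g) = ψ (B v (g u')) :=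
    fun a ha v h => by
      rw [key _ ((inferInstance : (Qs B q o δ u).Normal).conj_mem' a ha g) ⟨_, hU v⟩ fun w hw => by
        rw [Gam.mul_apply, Gam.mul_apply, h _ (g.mem_Wp hw), map_add, Gam.Phi, Gam.fix,
          Gam.inv_apply], g.move']
      exact hu' _
  refine ⟨fun h => ⟨fun ho x y e => ?_, ?_⟩, fun h a ha => ?_⟩
  · simp only [QuadraticMap.restrict_apply, e, g.quad ho]
  · have h1 : g u' ∈ LinearMap.range (1 - P - P') := ⟨g u', by rw [L.K_r hB hg, hr.coe]⟩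
    exact congrArg Subtype.val ((hr.dat hB).eq_of_char hψ (y := ⟨_, h1⟩) (y' := u') fun v => by
      rw [← hu', res_apply, ← hc _ (hX v) v (hX' v), h _ (hX v)]; rfl)
  · obtain ⟨v, hv⟩ := L.exists_sim hB hδ hodd ha
    rw [hc a ha v hv, key a ha v hv, h.2]
    exact (hu' v).symm

theorem Levi.twc_weil [Finite F] (H : Indec B q o δ u) {d : Δ} (hd : δ d ≠ 1)
    (hq : o → (∀ w ∈ Wsp δ u, q w = 0) ∧ ∀ x, q (P' x) = 0)
    (IH : TW (sg (B.restrict _) (q.restrict _) o (L.proj hB).res 0))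
    {μ : Gam B q o δ u → ℂ} {z : Gam B q o δ u} (hz : z ∈ Zs B q o δ u) (hμ : μ z ≠ 1) :
    TWc (sg B q o δ u) (Zs B q o δ u) μ := by
  have : Finite V := Module.finite_of_finite F
  have hr := L.proj hB
  obtain ⟨m, hm⟩ := exists_frob (F := F) hodd
  obtain ⟨c, hc1, hc2⟩ := H.unit hδ hm hd
  have hext : ∀ d : Δ, ∃ g : Gam B q o δ u, g ∈ Ks B q o δ u P ∧ g.e = 1 ∧
      ∀ v, g v = δ d ((1 - P - P') v) + (v - (1 - P - P') v) := fun d => by
    obtain ⟨g, h1, h2, h3, h4⟩ := L.exists_ext_K (o := o) hB (q' := q.restrict _) (o' := o) (u' := 0)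
      ⟨(hr.res d, 1), hr.res_iso hδ d, fun a x => by
        rw [Units.val_one, zpow_one, del_mul, del_mul, mul_comm], map_zero _⟩ rfl
      fun ho x => (hr.res_iso hδ d).2 ho x
    refine ⟨g, h1, h2, fun v => ?_⟩
    rw [← h4 (v - _) (by rw [map_sub, hr.idem, sub_self]), ← hr.coe_res d ⟨_, v, rfl⟩]
    exact (congrArg g.t (add_sub_cancel _ v).symm).trans
      ((map_add _ _ _).trans (congrArg (· + _) (h3 ⟨_, v, rfl⟩)))
  choose E hE1 hE2 hE3 using hext
  have hE4 : ∀ a b, E (a * b) = E a * E b := fun a b => Gam.ext (fun v => by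
    rw [Gam.mul_apply, hE3 a, hE3 b, hE3, map_add (1 - P - P'), hr.comm, map_sub (1 - P - P'),
      hr.idem, sub_self, add_zero, del_mul, add_sub_cancel_left]) (by simp [Gam.mul_e, hE2])
  let E' := MonoidHom.mk' E hE4
  refine TWc.of_weil (Qs B q o δ u) _ (Ks B q o δ u P) (L.isPGroup hB) (fun a ha => ha.1) Zs_le
    (fun z hz => L.Z_central hB hz) μ (fun x hx hxZ => ?_) (L.decomp hB hq) (E' d) (hE1 d) (hE2 d)
    (fun k hk => ?_) ((hodd.of_dvd_nat orderOf_dvd_card).of_dvd_nat (orderOf_map_dvd E' d))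
    (fun x hx h => ⟨hx.1, fun v hv => ?_⟩)
    (L.tw_levi hB _ (Subgroup.subtype_injective _) (q.restrict _) o 0
      (fun ho => ⟨ho, fun _ => rfl⟩) (fun g => ?_) IH)
  · obtain ⟨v, hv, hv0⟩ : ∃ v ∈ Wp B δ u, x v ≠ v := by
      by_contra! h
      exact hxZ ⟨hx.1, h⟩
    obtain ⟨α, hα⟩ := mem_Wsp.1 (hx.2 v hv)
    have hf := H.full hδ hm (a := α) fun h => hv0 (by rw [← sub_eq_zero, ← hα, h]; rfl)
    obtain ⟨a, ha, ha'⟩ := L.exists_Z hB hδ hodd hz
    let β := (1 + st (α ^ (m + 1)) * c) * a * α ^ m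
    have hv' := rho_mem_Wp hδ β hv
    obtain ⟨y, hy, w, hw, hy'⟩ := L.exists_X hB hδ hodd (fun ho => (hq ho).1) hv'
    suffices x * y * x⁻¹ * y⁻¹ = z by rw [← this] at hz hμ; exact ⟨y, hy, hz, hμ⟩
    suffices x * y = z * (y * x) by rw [this]; group
    refine Gam.ext (fun t => ?_) (by simp [Gam.mul_e, hx.1, hy.1, hz.1])
    have hW : ∀ v, ∀ w ∈ Wsp δ u, ∀ y, Phi B δ v w y ∈ Wsp δ u := fun v _ hw =>
      Phi_mem (fun d _ => del_mem_Wsp d) v hw
    have hx' : x (rho δ β v) = rho δ β v + rho δ (β * α) u := by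
      rw [x.rho_inner hx.1, rho_mul β α, hα, ← map_add, add_sub_cancel]
    have e1 : x (y t) = x t + Phi B δ (rho δ β v) u t + Phi B δ u (rho δ β v) t +
        Phi B δ u (rho δ (β * α) u) t + Phi B δ u w t := by
      rw [hy', x.apply_add_W hx.1 _ (hW _ _ hw _), map_add,
        x.apply_add_W hx.1 _ (hW _ _ self_mem_Wsp _),
        show x (Phi B δ u _ t) = Phi B δ u (x _) t from
          DL.Phi (T := x.t.toLinearMap) (x.comm hx.1) _ _ _, hx']
      simp [add_assoc]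
    have e2 : ∀ w', Phi B δ u w' (x t) = Phi B δ u w' t := fun w' => by
      rw [← sub_eq_zero, ← map_sub]
      exact Phi_u_left hB hδ (x.sub_mem_Wp hx.1 t) self_mem_Wsp _
    have e3 : Phi B δ (rho δ β v) u t =
        Phi B δ (rho δ β v) u (x t) + Phi B δ u (rho δ (st (β * α)) u) t := by
      have := x.Phi (rho δ β v) u t
      rw [x.fix_Wsp hx.1 (hW _ _ self_mem_Wsp _), x.fix, hx', map_add, LinearMap.add_apply,
        LinearMap.add_apply] at this
      rw [this, ← st_st (β * α), Phi_rho hδ, e2, st_st]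
    have e4 : z (y (x t)) = y (x t) + Phi B δ u (rho δ a u) t := by
      rw [ha, ← e2, add_right_inj, ← sub_eq_zero, ← map_sub]
      exact Phi_u_left hB hδ (y.sub_mem_Wp hy.1 _) self_mem_Wsp _
    have e5 : ∀ b a, Phi B δ u (rho δ (b * a) u) t = rho δ b (Phi B δ u (rho δ a u) t) :=
      fun b a => by rw [rho_mul, (dl_rho b).Phi]
    have e6 : Phi B δ u (rho δ (β * α) u) t + Phi B δ u (rho δ (st (β * α)) u) t =
        Phi B δ u (rho δ a u) t := by
      rw [show β * α = (α ^ (m + 1) + α ^ (m + 1) * st (α ^ (m + 1)) * c) * a by ring, map_mul st,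
        e5, e5, ha', ← LinearMap.add_apply, ← map_add]
      generalize α ^ (m + 1) = e at hf
      rw [show e + e * st e * c + st (e + e * st e * c) = e + st e + e * st e * (c + st c) by
        simp only [map_add, map_mul, st_st]; ring, map_add, map_mul, hc1, mul_one, ← map_add, hf]
      rfl
    rw [Gam.mul_apply, Gam.mul_apply, Gam.mul_apply, e1, e4, hy', e2, e2, e3, ← e6]
    abel
  · rw [← map_zpow]
    refine Gam.ext (fun v => ?_) ((k.conj_e _).trans ((hE2 _).trans (hE2 _).symm))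
    change k (E d (k⁻¹ v)) = E _ v
    rw [hE3, hE3, map_add, k.tw, map_sub, ← L.K_r hB hk, k.apply_inv]; rfl
  · have h1 := h.2 _ (x.mem_Wp ((E d).mem_Wp hv))
    simp only [Gam.mul_apply, Gam.inv_apply] at h1
    change E d (x ((E d)⁻¹ (E d v))) = _ at h1
    have h2 := hx.2 v hv
    have h3 := (E d).apply_add_W (hE2 d) v h2
    rw [Gam.inv_apply, ← add_sub_cancel v (x v), h3, hE3, L.r_perp hB hv, map_add,
      sub_sub_cancel, x.fix_Wsp hx.1 (L.mem v), x.comm hx.1, map_sub x.t,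
      x.fix_Wsp hx.1 (L.mem v)] at h1
    have h4 : rho δ (1 + of F Δ d) (x v - v) = 0 := by
      rw [map_add, map_one, LinearMap.add_apply, rho_of, End.one_apply]
      simp only [map_sub] at h1 ⊢
      linear_combination (norm := module) h1 +
        (CharTwo.two_eq_zero (R := F)) • (δ d (x v) - δ d v)
    rw [← sub_eq_zero, ← End.one_apply (R := F) (x v - v), ← hc2, rho_mul, h4, map_zero]
  · rw [Subgroup.range_subtype]
    exact ⟨fun h => ⟨h, fun ho x y e => by simp only [QuadraticMap.restrict_apply, e, g.quad ho],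
      map_zero _⟩, fun h => h.1⟩

end Cfsg.Lib.Known.TW
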