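import Cfsg.Agent.Known.TwGeoD
import Cfsg.Agent.Class.OrthGen
import Cfsg.Agent.Class.SpCore

/-!
Vector stabilisers in symplectic and orthogonal groups in characteristic two.
-/

namespace Cfsg.Lib.Known.TW

open Module MonoidAlgebra Cfsg.Lib.Class

variable {F V : Type*} [Field F] [AddCommGroup V] [Module F V] {B : LinearMap.BilinForm F V}
  {q : QuadraticForm F V} {o : Prop} {Δ : Type*} [CommGroup Δ] {δ : Δ →* (V ≃ₗ[F] V)} {u : V}

theorem exists_smul_of_mem_Wsp (hD : ∀ d, δ d = 1) {w : V} (hw : w ∈ Wsp δ u) : ∃ c : F, w = c • u := by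
  obtain ⟨a, rfl⟩ := mem_Wsp.1 hw
  clear hw
  induction a using induction_on with
  | of d => exact ⟨1, by rw [rho_of, hD, one_smul]; rfl⟩
  | add a b ha hb =>
    obtain ⟨c, hc⟩ := ha
    obtain ⟨c', hc'⟩ := hb
    exact ⟨c + c', by rw [map_add, LinearMap.add_apply, hc, hc', add_smul]⟩
  | smul c a ha =>
    obtain ⟨c', hc⟩ := ha
    exact ⟨c * c', by rw [map_smul, LinearMap.smul_apply, hc, mul_smul]⟩

theorem Dat.polar (hB : Dat B q) (x y : V) : QuadraticMap.polar q x y = B x y := by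
  rw [QuadraticMap.polar, hB.add]; ring

variable [Fintype Δ] [CharP F 2] [FiniteDimensional F V] [Finite F] {P P' : End F V}
  (L : Levi B δ (Wsp δ u) P P') (hB : Dat B q) (hδ : ∀ d, IsIso B q o (δ d))
  (hodd : Odd (Fintype.card Δ)) (hD : ∀ d, δ d = 1)
include hodd hD

omit [FiniteDimensional F V] [Finite F] in
theorem Phi_triv (v w x : V) : Phi B δ v w x = B x v • w := by
  simp only [Phi_apply, hD]; exact sum_const_odd (F := F) hodd _

include L hB hδ

omit [Finite F] in
theorem Levi.exists_Z' {z : Gam B q o δ u} (hz : z ∈ Zs B q o δ u) :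
    ∃ c : F, ∀ y, z y = y + (c * B y u) • u := by
  obtain ⟨a, ha, -⟩ := L.exists_Z hB hδ hodd hz
  obtain ⟨c, hc⟩ := exists_smul_of_mem_Wsp hD (rho_mem_Wsp a (self_mem_Wsp (δ := δ) (u := u)))
  exact ⟨c, fun y => by rw [ha, hc, Phi_triv hodd hD, smul_smul, mul_comm]⟩

theorem Levi.twc_sp (ho : ¬ o)
    (IH : ∀ q', Dat (B.restrict (LinearMap.range (1 - P - P'))) q' →
      TW (sg (B.restrict _) q' True (L.proj hB).res 0))
    {μ : Gam B q o δ u → ℂ} (hμ1 : μ 1 = 1) {z : Gam B q o δ u} (hz : z ∈ Zs B q o δ u)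
    (hμ : μ z ≠ 1) : TWc (sg B q o δ u) (Zs B q o δ u) μ := by
  have : Finite V := Module.finite_of_finite F
  have hr := L.proj hB
  have h2 : (2 : F) = 0 := CharTwo.two_eq_zero
  have hu : ∀ v : LinearMap.range (1 - P - P'), B u v = 0 := fun v => L.coe_mem v u self_mem_Wsp
  have hu' : ∀ v : LinearMap.range (1 - P - P'), B v u = 0 := fun v => by rw [hB.sym, hu]
  have hX : ∀ (v : LinearMap.range (1 - P - P')) (c : F), ∃ x : Gam B q o δ u, (∀ y,
      x y = y + B y v • u + B y u • (v : V) + (c * B y u) • u) ∧ x.e = 1 := fun v c => by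
    let T : End F V := 1 + (B.flip v).smulRight u + (B.flip u).smulRight (v : V) +
      (c • B.flip u).smulRight u
    have hT : ∀ y, T y = y + B y v • u + B y u • (v : V) + (c * B y u) • u := fun _ => rfl
    exact exists_gam hB T 1 ⟨fun x y => by
      simp only [hT, map_add, map_smul, LinearMap.add_apply, LinearMap.smul_apply, smul_eq_mul,
        hB.alt, hu, hu', hB.sym u y, hB.sym v y]
      linear_combination (B x v * B y u + B x u * B y v + c * B x u * B y u) * h2,
      fun h => absurd h ho⟩ (fun d x => by simp [hD]) (by simp [hT, hB.alt, hu])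
  choose X hX hXe using hX
  have hQ : ∀ v c, X v c ∈ Qs B q o δ u := fun v c => ⟨hXe v c, fun y hy => by
    have : B y u = 0 := by rw [hB.sym]; exact hy u self_mem_Wsp
    simpa [hX, this] using Submodule.smul_mem _ _ self_mem_Wsp⟩
  have hmul : ∀ v c v' c', X v c * X v' c' = X (v + v') (c + c' + B v v') := fun v c v' c' =>
    Gam.ext (fun y => by
      simp only [Gam.mul_apply, hX _ _ y, hX v c, map_add, map_smul, LinearMap.add_apply,
        LinearMap.smul_apply, smul_eq_mul, hB.alt, hu, hu', hB.sym v' v, Submodule.coe_add]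
      module) (by simp [Gam.mul_e, hXe])
  have h0 : X 0 0 = 1 := Gam.ext (fun y => by simp [hX, Gam.one_apply]) (hXe _ _)
  have hZ : ∀ z ∈ Zs B q o δ u, ∃ c, z = X 0 c := fun z hz => by
    obtain ⟨c, hc⟩ := L.exists_Z' hB hδ hodd hD hz
    exact ⟨c, Gam.ext (fun y => by simp [hX, hc]) (by rw [hXe, hz.1])⟩
  have hall : ∀ a ∈ Qs B q o δ u, ∃ v c, a = X v c := fun a ha => by
    obtain ⟨v, hv⟩ := L.exists_sim hB hδ hodd ha
    obtain ⟨c, hc⟩ := hZ ((X v 0)⁻¹ * a) ⟨(mul_mem (inv_mem (hQ v 0)) ha).1, fun w hw => by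
      have : B w u = 0 := by rw [hB.sym]; exact hw u self_mem_Wsp
      rw [Gam.mul_apply, hv w hw, Phi_triv hodd hD, show w + B w v • u = X v 0 w by simp [hX, this],
        Gam.inv_apply]⟩
    exact ⟨_, _, by rw [← mul_inv_cancel_left (X v 0) a, hc, hmul]⟩
  have hvv : ∀ v : LinearMap.range (1 - P - P'), v + v = 0 := fun v => by
    rw [← two_smul F, h2, zero_smul]
  refine TWc.of_ab (Qs B q o δ u) (fun a ha => ha.1) Zs_le (fun a ha b hb => ?_) (fun a ha => ?_)
    fun l hl hl2 hl3 => ?_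
  · obtain ⟨v, c, rfl⟩ := hall a ha
    obtain ⟨v', c', rfl⟩ := hall b hb
    have : X v c * X v' c' = X v' c' * X v c := by
      rw [hmul, hmul, add_comm v, add_comm c, hB.sym]
    rw [this, mul_inv_cancel_right, mul_inv_cancel]
    exact ⟨one_mem _, hμ1⟩
  · obtain ⟨v, c, rfl⟩ := hall a ha
    rw [hmul, hvv, hB.alt, CharTwo.add_self_eq_zero, add_zero, h0]
    exact ⟨one_mem _, hμ1⟩
  have hl1 : l 1 = 1 := (hl3 1 (one_mem _)).trans hμ1
  let χ : AddChar F ℂ :=
    { toFun := fun c => l (X 0 c)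
      map_zero_eq_one' := by rw [h0, hl1]
      map_add_eq_mul' := fun a b => by rw [← hl _ (hQ _ _) _ (hQ _ _), hmul]; simp }
  have hχ : ∀ v c, l (X v c) = l (X v 0) * χ c := fun v c => by
    change _ = _ * l _
    rw [← hl _ (hQ _ _) _ (hQ _ _), hmul]; simp
  let f : AddChar (LinearMap.range (1 - P - P')) ℂ :=
    { toFun := fun v => l (X v 0) * χ (q v)
      map_zero_eq_one' := by simp [h0, hl1]
      map_add_eq_mul' := fun a b => by
        rw [mul_mul_mul_comm, ← hl _ (hQ _ _) _ (hQ _ _), hmul, hχ _ (0 + 0 + _), Submodule.coe_add,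
          hB.add, χ.map_add_eq_mul, χ.map_add_eq_mul, zero_add, zero_add]
        ring }
  have hsq : ∀ a : F, (∀ t, χ (t ^ 2 * a) = 1) → a = 0 := fun a h => by
    by_contra ha
    obtain ⟨c, rfl⟩ := hZ z hz
    obtain ⟨t, ht⟩ := surjective_frobenius F 2 (c / a)
    have := h t
    rw [← frobenius_def, ht, div_mul_cancel₀ _ ha] at this
    exact hμ ((hl3 _ hz).symm.trans this)
  obtain ⟨y, hy⟩ := (hr.dat hB).exists_char
    (ψ := χ.compAddMonoidHom (frobenius F 2).toAddMonoidHom) (fun h => one_ne_zero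
      (hsq 1 fun t => by rw [mul_one]; exact DFunLike.congr_fun h t)) f
  let q' : QuadraticForm F (LinearMap.range (1 - P - P')) := q.restrict _ +
    QuadraticMap.linMulLin ((B.restrict _).flip y) ((B.restrict _).flip y)
  have hq' : ∀ x, q' x = q x + B x y * B x y := fun _ => rfl
  have hlX : ∀ v c, l (X v c) = χ (c + q' v) := fun v c => by
    have e1 : l (X v 0) * χ (q v) = χ (B v y ^ 2) := hy v
    have e2 : χ (q v) * χ (q v) = 1 := by
      rw [← χ.map_add_eq_mul, CharTwo.add_self_eq_zero, χ.map_zero_eq_one]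
    rw [hχ, hq', χ.map_add_eq_mul, χ.map_add_eq_mul, ← sq, ← e1]
    linear_combination (-l (X v 0) * χ c) * e2
  refine L.twc_stab hB (fun h => absurd h ho) hl hl2 q' True 0 (fun h => absurd h ho)
    (fun g hg => ?_) (IH q' ⟨fun a b => ?_, (hr.dat hB).nd⟩)
  · have hc : ∀ v w : LinearMap.range (1 - P - P'), (w : V) = g v → ∀ c,
        g * X v c * g⁻¹ = X w c := fun v w e c => Gam.ext (fun y => by
      simp only [Gam.mul_apply, hX, map_add, map_smul, g.apply_inv, g.fix, e, ← g.move'])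
        (by rw [Gam.conj_e, hXe, hXe])
    rw [stab_iff]
    refine ⟨fun h => ⟨fun _ v w e => ?_, map_zero _⟩, fun h a ha => ?_⟩
    · rw [← sub_eq_zero]
      refine hsq _ fun t => ?_
      have := h _ (hQ (t • v) 0)
      rw [hc _ (t • w) (by simp [e]), hlX, hlX, zero_add, zero_add] at this
      rw [mul_sub, χ.map_sub_eq_div, sq, ← smul_eq_mul _ (q' w), ← smul_eq_mul _ (q' v),
        ← q'.map_smul, ← q'.map_smul, this, div_self (χ.val_isUnit _).ne_zero]
    · obtain ⟨v, c, rfl⟩ := hall a ha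
      have hU : g v ∈ LinearMap.range (1 - P - P') := ⟨g v, by rw [L.K_r hB hg, hr.coe]⟩
      rw [hc v ⟨_, hU⟩ rfl, hlX, hlX, h.1 trivial v _ rfl]
  · simp only [hq', Submodule.coe_add, hB.add, map_add, LinearMap.add_apply, res_apply]
    linear_combination (B a y * B b y) * h2

open Orth in
theorem Levi.tw_nonsing (ho : o) (hu : q u ≠ 0)
    (IH : TW (sg (B.restrict _) (q.restrict _) False (L.proj hB).res 0)) : TW (sg B q o δ u) := by
  have hr := L.proj hB
  have h2 : (2 : F) = 0 := CharTwo.two_eq_zero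
  have hQ : (QuadraticMap.polarBilin q).Nondegenerate := by
    rw [show QuadraticMap.polarBilin q = B from LinearMap.ext₂ hB.polar]; exact hB.nondeg
  let j : Gam B q o δ u →* O q := (nat B q o δ u).codRestrict _ fun g => mem_O.2 (g.quad ho)
  have hj : ∀ g x, (j g).1 x = g x := fun _ _ => rfl
  have hj' : ∀ h : O q, h.1 u = u → ∃ g, j g = h ∧ g.e = 1 := fun h hh =>
    ⟨⟨(h.1, 1), ⟨fun x y => by rw [← hB.polar, ← hB.polar, O_polar], fun _ => O_map h⟩,
      fun d x => by simp [hD], hh⟩, rfl, rfl⟩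
  obtain ⟨π, hπ, hπ'⟩ := exists_res (MonoidHom.id (Gam B q o δ u)) hr (Wsp δ u) (fun w => L.r_W hB)
    L.iso (fun g w => g.mem_Wsp) (fun g v hv => by
      rw [MonoidHom.id_apply, L.r_perp hB (g.mem_Wp (hv ▸ L.r_mem v)), sub_sub_cancel]
      exact L.mem _) (q.restrict _) False 0 (by simp) (by simp)
  simp only [MonoidHom.id_apply] at hπ hπ'
  let M : Subgroup (O q) :=
    { carrier := {h | ∀ g, dick (g * h) = dick g * dick h}
      one_mem' := fun g => by rw [mul_one, dick_one, mul_one]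
      mul_mem' := fun {a b} ha hb g => by rw [← mul_assoc, hb, ha, hb, mul_assoc]
      inv_mem' := fun {a} ha g => by
        have e1 := ha (g * a⁻¹)
        have e2 := ha a⁻¹
        rw [inv_mul_cancel, dick_one] at e2
        rw [inv_mul_cancel_right] at e1
        rw [e1, mul_assoc, mul_comm (dick a), ← e2, mul_one] }
  have hM : ∀ v, q v ≠ 0 → refl q v ∈ M := fun v hv g => by
    rw [dick_mul_refl hQ _ hv, dick_refl hQ hv, mul_neg, mul_one]
  have hker : ∀ g, π g = 1 → j g = 1 ∨ j g = refl q u := fun g hg => by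
    have he : g.e = 1 := by rw [← hπ', hg]; rfl
    obtain ⟨c, hc⟩ := L.exists_Z' hB hδ hodd hD (z := g) ⟨he, fun v hv => by
      have e1 := hπ g ⟨_, v, rfl⟩
      rw [hg, Gam.one_apply, L.r_perp hB (g.mem_Wp (L.r_mem v))] at e1
      change (1 - P - P') v = g ((1 - P - P') v) - P (g ((1 - P - P') v)) at e1
      obtain ⟨c, hc⟩ := exists_smul_of_mem_Wsp hD (L.mem (g ((1 - P - P') v)))
      have e2 := g.quad ho ((1 - P - P') v)
      rw [hc, eq_sub_iff_add_eq] at e1
      rw [← e1, hB.add, q.map_smul, map_smul, hB.sym, L.r_mem v u self_mem_Wsp] at e2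
      have e3 : c = 0 := by simpa [hu] using e2
      rw [e3, zero_smul, add_zero, L.r_perp hB hv, map_sub, g.fix_Wsp he (L.mem v)] at e1
      exact (sub_left_injective e1).symm⟩
    obtain ⟨y, hy⟩ := exists_alt_eq_one hB.nondeg (x := u) fun h => hu (by rw [h, map_zero])
    have e1 := g.quad ho y
    rw [hc, hB.add, q.map_smul, map_smul, hB.sym y, hy] at e1
    rcases mul_eq_zero.1 (show c * (c * q u + 1) = 0 by
      simp only [smul_eq_mul] at e1; linear_combination e1) with h | h
    · exact .inl (O_ext fun x => by simp [hj, hc, h])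
    · refine .inr (O_ext fun x => ?_)
      rw [hj, hc, refl_apply, hB.polar, show c = -(q u)⁻¹ by field_simp; linear_combination h,
        neg_mul, neg_smul, sub_eq_add_neg]
  have hA : ∀ a, a.e = 1 → ∃ h, j h ∈ M ∧ π h = a := fun a ha => by
    have hA : (B.restrict (LinearMap.range (1 - P - P'))).IsAlt := (hr.dat hB).alt
    obtain ⟨h, ⟨h1, h2⟩, h3⟩ := SpB_le_of_altT_mem (hr.dat hB).nondeg hA
      ((M.comap j ⊓ (sg B q o δ u).ker).map ((nat _ _ _ _ _).comp π)) (fun w c => by
        rcases eq_or_ne c 0 with rfl | hc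
        · rw [altTEquiv_zero]; exact one_mem _
        obtain ⟨t, ht⟩ := surjective_frobenius F 2 ((c⁻¹ - q w) / q u)
        have hw : B u w = 0 := L.coe_mem w u self_mem_Wsp
        have hv : q (w + t • u) = c⁻¹ := by
          rw [hB.add, q.map_smul, map_smul, hB.sym, hw, ← sq, ← frobenius_def, ht, smul_eq_mul,
            div_mul_cancel₀ _ hu]; simp
        obtain ⟨g, hg, hge⟩ := hj' (refl q (w + t • u))
          (refl_apply_of_orth (by simp [hB.polar, hw, hB.alt]))
        refine ⟨g, ⟨show j g ∈ M from hg ▸ hM _ (by simp [hv, hc]), hge⟩,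
          LinearEquiv.ext fun x => Subtype.ext ((hπ g x).trans ?_)⟩
        have hx : B x u = 0 := by rw [hB.sym]; exact L.coe_mem x u self_mem_Wsp
        rw [← hj, hg, refl_apply, hB.polar, hv, inv_inv, altTEquiv_apply']
        simp only [map_sub (1 - P - P'), map_smul, map_add, hr.coe, L.r_W hB self_mem_Wsp, hx,
          Submodule.coe_add, Submodule.coe_smul, res_apply]
        linear_combination (norm := module) h2 • (-(c * B x w) • (w : V))) (show a.t ∈ SpB _ from a.form)
    exact ⟨h, h1, Gam.ext (fun x => LinearEquiv.congr_fun h3 x) (by rw [hπ', ha]; exact h2)⟩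
  have hall : ∀ g, j g ∈ M := fun g => by
    obtain ⟨g', hg, he⟩ := hj' (j g) g.fix
    obtain ⟨h, h1, h2⟩ := hA (π g') (by rw [hπ', he])
    have := hker (h⁻¹ * g') (by rw [map_mul, map_inv, h2, inv_mul_cancel])
    rw [← hg, ← mul_inv_cancel_left h g', map_mul]
    refine mul_mem h1 (this.elim (fun e => e ▸ one_mem _) fun e => e ▸ hM u hu)
  let dk : Gam B q o δ u →* ℤˣ := MonoidHom.mk' (fun g => dick (j g)) fun a b => by
    rw [map_mul, hall b]
  have hdk : ∀ g, dk g = dick (j g) := fun _ => rfl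
  obtain ⟨t, ht, hte⟩ := hj' (refl q u) (refl_apply_of_orth (by rw [hB.polar, hB.alt]))
  have hinj : ∀ {g g'}, j g = j g' → g.e = g'.e → g = g' := fun h => Gam.ext fun x => by
    rw [← hj, h, hj]
  have htt : t * t = 1 := hinj (by rw [map_mul, ht, refl_mul_self, map_one]) (Int.units_mul_self _)
  have hdt : ∀ g, dk g ≠ 1 → dk (t * g) = 1 := fun g hg => by
    rw [map_mul, hdk t, ht, dick_refl hQ hu, (Int.units_eq_one_or _).resolve_left hg]; rfl
  have hN : ∀ n ∈ ({1, t} : Set (Gam B q o δ u)), sg B q o δ u n = 1 := by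
    rintro _ (rfl | rfl)
    exacts [rfl, hte]
  refine TW.of_scalar hN ?_ fun μ => TWc.of_compl (t := (sg B q o δ u).comp dk.ker.subtype)
    dk.ker.subtype (fun _ => rfl) hN (fun g => ?_)
    (TW.of_inj (π.comp dk.ker.subtype) (fun g => hπ' g) (fun g hg => ?_) (fun a ha => ?_) IH)
  · rintro _ (rfl | rfl) g _
    · rw [mul_one, one_mul]
    · exact hinj (by rw [map_mul, map_mul, ht, mul_refl, hj, g.fix]) (mul_comm _ _)
  · by_cases h : dk g = 1
    · exact ⟨1, .inl rfl, ⟨g, h⟩, (one_mul g).symm⟩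
    · exact ⟨t, .inr rfl, ⟨t * g, hdt g h⟩, by
        rw [Subgroup.coe_subtype, ← mul_assoc, htt, one_mul]⟩
  · refine Subtype.ext (hinj ((hker g hg).elim (fun e => by rw [e]; rfl) fun e => ?_)
      (by rw [← hπ']; exact congrArg Gam.e hg))
    have := g.2
    rw [MonoidHom.mem_ker, hdk, e, dick_refl hQ hu] at this
    exact absurd this (by decide)
  · obtain ⟨h, -, rfl⟩ := hA a ha
    by_cases h1 : dk h = 1
    · exact ⟨⟨h, h1⟩, rfl⟩
    · refine ⟨⟨t * h, hdt h h1⟩, ?_⟩
      change π (t * h) = π h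
      rw [map_mul, show π t = 1 from Gam.ext (fun x => Subtype.ext (by
        rw [hπ, ← hj, ht, refl_apply, map_sub (1 - P - P'), map_smul, L.r_W hB self_mem_Wsp, hr.coe]
        simp [Gam.one_apply])) (by rw [hπ', hte]; rfl), one_mul]

end Cfsg.Lib.Known.TW
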