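import Cfsg.Agent.Known.TwGeoE
import Cfsg.Agent.Known.TwBW

/-!
No irreducible representation of a symplectic or orthogonal group in characteristic two has
Frobenius–Schur indicator `-1`.
-/

namespace Cfsg.Lib.Known.TW

open Module MonoidAlgebra Cfsg.Lib.Class

universe u v

variable {F : Type v} {V : Type u} [Field F] [AddCommGroup V] [Module F V] [CharP F 2] [Finite F]
  [FiniteDimensional F V] {B : LinearMap.BilinForm F V} {q : QuadraticForm F V} {o : Prop}

variable (F) in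
/-- The inductive claim. -/
def Claim (n : ℕ) : Prop :=
  ∀ (V : Type u) [AddCommGroup V] [Module F V] [FiniteDimensional F V]
    (B : LinearMap.BilinForm F V) (q : QuadraticForm F V) (o : Prop) (Δ : Type u) [CommGroup Δ]
    [Fintype Δ] (δ : Δ →* (V ≃ₗ[F] V)) (u : V), Dat B q → Odd (Fintype.card Δ) →
    (∀ d, IsIso B q o (δ d)) → finrank F V < n → TW (sg B q o δ u)

theorem step_ne {n : ℕ} (IH : Claim.{u} F n) (hn : finrank F V ≤ n) (hB : Dat B q) {Δ : Type u}
    [CommGroup Δ] [Fintype Δ] {δ : Δ →* (V ≃ₗ[F] V)} (hodd : Odd (Fintype.card Δ))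
    (hδ : ∀ d, IsIso B q o (δ d)) {u : V} (hu : u ≠ 0) : TW (sg B q o δ u) := by
  have hlt : ∀ {r}, Proj B δ r → r ≠ 1 → finrank F (LinearMap.range r) < n := fun {r} hr h =>
    (Submodule.finrank_lt fun h' => h (LinearMap.ext fun x =>
      hr.coe ⟨x, h'.ge Submodule.mem_top⟩)).trans_le hn
  by_cases hout : ∀ γ, sg B q o δ u γ = 1
  · exact TW.of_inner hout
  obtain ⟨γ, hγ⟩ := not_forall.1 hout
  replace hγ : γ.e = -1 := (Int.units_eq_one_or _).resolve_left hγ
  by_cases H : Indec B q o δ u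
  swap
  · simp only [Indec, not_forall, not_or] at H
    obtain ⟨r, hr, hc, h0, h1⟩ := H
    exact tw_prod hB hr hc
      (fun u' => IH _ _ _ _ _ _ u' (hr.dat hB) hodd (hr.res_iso hδ) (hlt hr h1))
      fun u' => IH _ _ _ _ _ _ u' (hr.compl.dat hB) hodd (hr.compl.res_iso hδ)
        (hlt hr.compl (by simpa using h0))
  by_cases hW : ∀ x ∈ Wsp δ u, (∀ y ∈ Wsp δ u, B x y = 0) → x = 0
  · obtain ⟨r, hr, hc, h⟩ := exists_proj (u := u) hB hδ _ hW (fun d _ => del_mem_Wsp d)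
      fun g _ => g.mem_Wsp
    rcases H r hr hc with rfl | rfl
    · exact absurd ((h u).1 self_mem_Wsp).symm hu
    · exact TW.of_trivial fun g hg => Gam.ext (fun x => g.fix_Wsp hg ((h x).2 rfl)) hg
  push Not at hW
  obtain ⟨w, hw, hw1, hw0⟩ := hW
  obtain ⟨m, hm⟩ := exists_frob (F := F) hodd
  have hi := H.isotropic hδ hm γ hγ hw hw0 hw1
  obtain ⟨P, P', L, hP⟩ := exists_levi hB hδ hodd (fun d _ => del_mem_Wsp d) hi
  have hr := L.proj hB
  have hn' := hlt hr fun h => hu (by rw [← L.r_W hB self_mem_Wsp, h]; rfl)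
  have IH' := fun u' => IH _ _ _ _ _ _ u' (hr.dat hB) hodd (hr.res_iso hδ) hn'
  have key : (o → ∀ w ∈ Wsp δ u, q w = 0) → (∀ μ : Gam B q o δ u → ℂ, μ 1 = 1 →
      ∀ z ∈ Zs B q o δ u, μ z ≠ 1 → TWc (sg B q o δ u) (Zs B q o δ u) μ) → TW (sg B q o δ u) :=
    fun hq h => TW.of_scalar (N := Zs B q o δ u) (fun z hz => hz.1) (fun z hz => L.Z_central hB hz)
      fun μ => TWc.of_one (one_mem _) fun h1 => by
        by_cases hμ : ∀ z ∈ Zs B q o δ u, μ z = 1
        · exact L.twc_triv hB hδ hodd (fun ho => ⟨hq ho, hP ho (hq ho)⟩) IH' hμ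
        · push Not at hμ
          obtain ⟨z, hz, hμ⟩ := hμ
          exact h μ h1 z hz hμ
  by_cases hD : ∀ d, δ d = 1
  · by_cases ho : o ∧ q u ≠ 0
    · exact L.tw_nonsing hB hδ hodd hD ho.1 ho.2 (IH _ _ _ _ _ _ _ (hr.dat hB) hodd
        (fun d => ⟨(hr.res_iso hδ d).1, False.elim⟩) hn')
    replace ho : o → q u = 0 := fun h => by simpa [h] using ho
    refine key (fun h w hw => ?_) fun μ h1 z hz hμ => L.twc_sp hB hδ hodd hD (fun h => hμ ?_)
      (fun q' hq' => IH _ _ _ _ _ _ _ hq' hodd (fun d => ⟨(hr.res_iso hδ d).1, fun _ x => ?_⟩) hn')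
      h1 hz hμ
    · obtain ⟨c, rfl⟩ := exists_smul_of_mem_Wsp hD hw
      rw [q.map_smul, ho h, smul_zero]
    · obtain ⟨c, hc⟩ := L.exists_Z' hB hδ hodd hD hz
      obtain ⟨y, hy⟩ := exists_alt_eq_one hB.nondeg hu
      have e1 := z.quad h y
      rw [hc, hB.add, q.map_smul, map_smul, hB.sym y, hy, ho h] at e1
      rw [show z = 1 from Gam.ext (fun x => by
        rw [hc, show c = 0 by simpa using e1]; simp [Gam.one_apply]) hz.1, h1]
    · rw [show hr.res d x = x from Subtype.ext (by rw [hr.coe_res, hD]; rfl)]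
  obtain ⟨d, hd⟩ := not_forall.1 hD
  have hq : o → ∀ w ∈ Wsp δ u, q w = 0 := fun ho w hw => by
    obtain ⟨c, -, hc⟩ := H.unit hδ hm hd
    have h1 : ∑ a, δ a w = 0 := by
      rw [← End.one_apply (R := F) (∑ a, δ a w), ← hc, rho_mul, map_add, map_one,
        LinearMap.add_apply, rho_of, End.one_apply, map_sum (δ d),
        Fintype.sum_equiv (Equiv.mulLeft d) (fun a => δ d (δ a w)) (fun a => δ a w)
          fun a => del_mul _ _ _, ← two_smul F, CharTwo.two_eq_zero, zero_smul, map_zero]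
    have h2 : ∀ s : Finset Δ, q (∑ a ∈ s, δ a w) = ∑ _a ∈ s, q w := fun s => by
      induction s using Finset.cons_induction with
      | empty => simp
      | cons a s _ ih => rw [Finset.sum_cons, Finset.sum_cons, hB.add, ih, (hδ a).2 ho,
          hi _ (del_mem_Wsp a hw) _ (sum_mem fun a _ => del_mem_Wsp a hw), add_zero]
    rw [← sum_const_odd (F := F) hodd (q w), ← h2, h1, map_zero]
  exact key hq fun μ _ z hz hμ =>
    L.twc_weil hB hδ hodd H hd (fun ho => ⟨hq ho, hP ho (hq ho)⟩) (IH' 0) hz hμ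

theorem step_zero (h : ∀ (Δ : Type u) [CommGroup Δ] [Fintype Δ] (δ : Δ →* (V ≃ₗ[F] V)),
      Odd (Fintype.card Δ) → (∀ d, IsIso B q o (δ d)) → ∀ u ≠ 0, TW (sg B q o δ u))
    (k : ℕ) (Δ : Type u) [CommGroup Δ] [Fintype Δ] (δ : Δ →* (V ≃ₗ[F] V))
    (hodd : Odd (Fintype.card Δ)) (hδ : ∀ d, IsIso B q o (δ d))
    (hk : Nat.card (V ≃ₗ[F] V) < Nat.card δ.range + k) : TW (sg B q o δ 0) := by
  have : Finite V := Module.finite_of_finite F
  have : Finite (V ≃ₗ[F] V) := Finite.of_injective _ DFunLike.coe_injective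
  induction k generalizing Δ with
  | zero => exact absurd (Subgroup.card_le_card_group δ.range) (by omega)
  | succ k ih =>
  rcases subsingleton_or_nontrivial V with _ | _
  · exact TW.of_trivial fun g hg => Gam.ext (fun _ => Subsingleton.elim _ _) hg
  refine TW.of_BW fun x hx hxo P hP hPx => ?_
  by_cases hy : x.t ∈ δ.range
  · obtain ⟨d, hd⟩ := hy
    letI : MulAction P V := MulAction.compHom V ((nat B q o δ 0).comp P.subtype)
    obtain ⟨u, hu, hu0⟩ := hP.exists_fixed_point_of_prime_dvd_card_of_fixed_point V (by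
      obtain ⟨v, hv⟩ := exists_ne (0 : V)
      rw [← addOrderOf_eq_prime (p := 2) (x := v) (by
        rw [two_smul, ← two_smul F, CharTwo.two_eq_zero, zero_smul]) hv]
      exact addOrderOf_dvd_natCard v) (a := 0) fun g => map_zero (g : Gam B q o δ 0).t
    let L : Subgroup (Gam B q o δ 0) :=
      { carrier := {g | ∃ d, g u = δ d u}
        one_mem' := ⟨1, by rw [map_one]; rfl⟩
        mul_mem' := by
          rintro a b ⟨c, hc⟩ ⟨e, he⟩
          exact ⟨_, by rw [Gam.mul_apply, he, a.tw, hc, del_mul]⟩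
        inv_mem' := by
          rintro a ⟨c, hc⟩
          refine ⟨(c⁻¹) ^ (a.e : ℤ), a.t.injective ?_⟩
          rw [a.apply_inv, a.tw, zpow_units, hc, del_mul, inv_mul_cancel, map_one]; rfl }
    let E : Δ → L := fun d => ⟨⟨(δ d, 1), hδ d, fun a x => by
      rw [Units.val_one, zpow_one, del_mul, del_mul, mul_comm], map_zero _⟩, d, rfl⟩
    let ι : Gam B q o δ u →* L := MonoidHom.mk' (fun g => ⟨⟨g.1, g.2.1, g.2.2.1, map_zero _⟩, 1, by
      rw [map_one]; exact g.fix⟩) fun _ _ => rfl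
    have hN : ∀ n ∈ Set.range E, (sg B q o δ 0).comp L.subtype n = 1 := by rintro _ ⟨d, rfl⟩; rfl
    refine ⟨L, ⟨d, by rw [hd]⟩, fun g hg => ⟨1, by rw [map_one]; exact hu ⟨g, hg⟩⟩,
      TW.of_scalar hN ?_ fun μ => TWc.of_compl ι (fun _ => rfl) hN (fun g => ?_)
        (h Δ δ hodd hδ u hu0.symm)⟩
    · rintro _ ⟨d, rfl⟩ g hg
      exact Subtype.ext (Gam.ext (fun x => (g.1.comm hg d x).symm) (mul_comm _ _))
    · obtain ⟨d, hd⟩ := g.2
      let k := ((E d)⁻¹ * g).1
      refine ⟨E d, ⟨d, rfl⟩, ⟨k.1, k.2.1, k.2.2.1, ?_⟩, (mul_inv_cancel_left _ _).symm⟩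
      change (δ d)⁻¹ (g.1 u) = u
      rw [hd]; simp
  · letI : CommGroup (Subgroup.zpowers x.t) := IsCyclic.commGroup
    cases nonempty_fintype (Subgroup.zpowers x.t)
    have hc : ∀ d (y : Subgroup.zpowers x.t), Commute (δ d) y := fun d y =>
      Subgroup.zpowers_le.2 (show x.t ∈ Subgroup.centralizer {δ d} from by
        rintro _ rfl; exact LinearEquiv.ext fun v => (x.comm hx d v).symm) y.2 _ rfl
    let δ' := δ.noncommCoprod (Subgroup.zpowers x.t).subtype hc
    have hδ' : ∀ a, δ' a = δ a.1 * a.2 := fun _ => rfl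
    have hle : GamS B q o δ' 0 ≤ GamS B q o δ 0 := fun g hg => ⟨hg.1, fun d v => by
      simpa [hδ'] using hg.2.1 (d, 1) v, hg.2.2⟩
    have hmem : ∀ g : Gam B q o δ 0, (g * x * g⁻¹) ^ (g.e : ℤ) = x → g.1 ∈ GamS B q o δ' 0 :=
      fun g hg => ⟨g.2.1, fun a v => by
        obtain ⟨d, _, i, rfl⟩ := a
        have h1 : g * x ^ i = (x ^ i) ^ (g.e : ℤ) * g := by
          conv_rhs => rw [← hg, ← zpow_mul, ← zpow_mul, mul_comm i, ← mul_assoc, ← Units.val_mul,
            Int.units_mul_self, Units.val_one, one_mul, conj_zpow, inv_mul_cancel_right]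
        have h2 := congrArg (fun a => nat B q o δ 0 a v) h1
        simp only [map_mul, map_zpow] at h2
        change g (δ d ((x.t ^ i) v)) = δ (d ^ (g.e : ℤ)) (((x.t ^ i) ^ (g.e : ℤ)) (g v))
        rw [g.tw]
        exact congrArg _ h2, g.2.2.2⟩
    let L : Subgroup (Gam B q o δ 0) := (GamS B q o δ' 0).subgroupOf (GamS B q o δ 0)
    let f : L →* Gam B q o δ' 0 := MonoidHom.mk' (fun g => ⟨g.1.1, g.2⟩) fun _ _ => rfl
    refine ⟨L, hmem x (by rw [show x.e = 1 from hx]; simp), fun g hg => hmem g (hPx g hg),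
      TW.of_inj f (fun _ => rfl) (fun g hg => Subtype.ext (Subtype.ext (congrArg (fun a : Gam B q o δ' 0 => a.1) hg)))
        (fun k _ => ⟨⟨⟨k.1, hle k.2⟩, k.2⟩, rfl⟩) (ih _ δ' ?_ (fun a => ?_) ?_)⟩
    · rw [Fintype.card_prod, Fintype.card_eq_nat_card (α := Subgroup.zpowers _), Nat.card_zpowers]
      exact hodd.mul (hxo.of_dvd_nat (orderOf_map_dvd (nat B q o δ 0) x))
    · obtain ⟨d, _, i, rfl⟩ := a
      have h1 : IsIso B q o (nat B q o δ 0 (x ^ i)) := (x ^ i).2.1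
      rw [map_zpow] at h1
      exact ⟨fun a b => ((hδ d).1 _ _).trans (h1.1 a b), fun ho a => ((hδ d).2 ho _).trans (h1.2 ho a)⟩
    · have : δ.range < δ'.range := lt_of_le_of_ne (by rintro _ ⟨d, rfl⟩; exact ⟨(d, 1), mul_one _⟩)
        fun e => hy (e ▸ ⟨(1, ⟨_, Subgroup.mem_zpowers _⟩), by simp [hδ']⟩)
      have : Nat.card δ.range < Nat.card δ'.range := Set.Finite.card_lt_card (Set.toFinite _) this
      omega

theorem claim (n : ℕ) : Claim.{u} F n := by
  induction n with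
  | zero => exact fun _ _ _ _ _ _ _ _ _ _ _ _ _ _ _ h => absurd h (Nat.not_lt_zero _)
  | succ n ih =>
    intro V _ _ _ B q o Δ _ _ δ u hB hodd hδ hn
    by_cases hu : u = 0
    · subst hu
      exact step_zero (fun Δ _ _ δ hodd hδ u => step_ne ih (by omega) hB hodd hδ)
        (Nat.card (V ≃ₗ[F] V) + 1) Δ δ hodd hδ (by omega)
    · exact step_ne ih (by omega) hB hodd hδ hu

theorem tw_of_dat (hB : Dat B q) (o : Prop) (G : Subgroup (V ≃ₗ[F] V))
    (hG : ∀ g, g ∈ G ↔ IsIso B q o g) : TW (MonoidHom.snd G ℤˣ) :=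
  TW.of_inj (t := sg B q o (1 : PUnit.{u + 1} →* _) 0)
    ((G.subtype.prodMap (MonoidHom.id ℤˣ)).codRestrict _ fun g =>
      ⟨(hG _).1 g.1.2, fun _ _ => rfl, map_zero _⟩) (fun _ => rfl)
    (fun g hg => Prod.ext (Subtype.ext (congrArg Gam.t hg)) (congrArg Gam.e hg))
    (fun k _ => ⟨(⟨k.t, (hG _).2 k.2.1⟩, k.e), rfl⟩)
    (claim _ V B q o _ _ 0 hB (by simp) (fun _ => ⟨fun _ _ => rfl, fun _ _ => rfl⟩)
      (Nat.lt_succ_self _))

theorem tw_O {Q : QuadraticForm F V} (hQ : (QuadraticMap.polarBilin Q).Nondegenerate) :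
    TW (MonoidHom.snd (Orth.O Q) ℤˣ) :=
  tw_of_dat (B := QuadraticMap.polarBilin Q) (q := Q) ⟨Orth.Q_add, hQ.1⟩ True _ fun g =>
    ⟨fun hg => ⟨Orth.O_polar ⟨g, hg⟩, fun _ => Orth.mem_O.1 hg⟩, fun hg => Orth.mem_O.2 (hg.2 trivial)⟩

theorem tw_Sp (hB : B.Nondegenerate) (hA : B.IsAlt) : TW (MonoidHom.snd (SpB B) ℤˣ) := by
  obtain ⟨b, hb⟩ : ∃ b : LinearMap.BilinForm F V, ∀ x y, B x y = b x y + b y x := by
    let e := Module.finBasis F V
    let b := e.constr F fun i => e.constr F fun j => if i < j then B (e i) (e j) else 0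
    refine ⟨b, fun x y => LinearMap.congr_fun₂ (show B = b + b.flip from
      LinearMap.BilinForm.ext_basis e fun i j => ?_) x y⟩
    have : ∀ i j, b (e i) (e j) = if i < j then B (e i) (e j) else 0 := fun i j => by
      simp only [b, Basis.constr_basis]
    rw [LinearMap.add_apply, LinearMap.add_apply, LinearMap.flip_apply, this, this]
    rcases lt_trichotomy i j with h | rfl | h
    · simp [h, h.not_gt]
    · simp [hA.self_eq_zero]
    · simp [h, h.not_gt, ← hA.neg_eq (e j), CharTwo.neg_eq]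
  exact tw_of_dat (q := b.toQuadraticMap) ⟨fun x y => by simp [hb]; ring, hB.1⟩ False _ fun g =>
    ⟨fun hg => ⟨hg, False.elim⟩, fun hg => hg.1⟩

end Cfsg.Lib.Known.TW
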