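import Cfsg.Agent.Known.TwFS

/-!
Twisted Frobenius–Schur indicators: passing to the multiplicity space `Hom_Q(W, V)`, and
fibre products.
-/

namespace Cfsg.Lib.Known.TW

open Module

variable {Γ : Type*} [Group Γ] {s : Γ →* ℤˣ}

/-- A representation of the subgroup `Q`, as a function on the whole group. -/
structure QRep (Q : Subgroup Γ) (W : Type*) [AddCommGroup W] [Module ℂ W] where
  /-- the underlying function -/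
  toFun : Γ → End ℂ W
  map_one : toFun 1 = 1
  map_mul : ∀ {g h}, g ∈ Q → h ∈ Q → toFun (g * h) = toFun g * toFun h

instance {Q : Subgroup Γ} {W : Type*} [AddCommGroup W] [Module ℂ W] :
    CoeFun (QRep Q W) fun _ => Γ → End ℂ W := ⟨QRep.toFun⟩

namespace QRep

variable {Q : Subgroup Γ} {W : Type*} [AddCommGroup W] [Module ℂ W] (ω : QRep Q W)

theorem mul_apply {g h : Γ} (hg : g ∈ Q) (hh : h ∈ Q) (v : W) : ω g (ω h v) = ω (g * h) v := by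
  rw [ω.map_mul hg hh, End.mul_apply]

theorem mul_inv {g : Γ} (hg : g ∈ Q) : ω g * ω g⁻¹ = 1 := by
  rw [← ω.map_mul hg (inv_mem hg), mul_inv_cancel, ω.map_one]

theorem inv_mul {g : Γ} (hg : g ∈ Q) : ω g⁻¹ * ω g = 1 := by
  rw [← ω.map_mul (inv_mem hg) hg, inv_mul_cancel, ω.map_one]

theorem surj {g : Γ} (hg : g ∈ Q) : Function.Surjective (ω g) := fun v =>
  ⟨ω g⁻¹ v, by rw [← End.mul_apply, ω.mul_inv hg, End.one_apply]⟩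

/-- Irreducibility. -/
def Irr : Prop := ∀ Z : Submodule ℂ W, (∀ x, x ∈ Q → ∀ y ∈ Z, ω x y ∈ Z) → Z = ⊥ ∨ Z = ⊤

end QRep

theorem exists_qrep {V : Type} [AddCommGroup V] [Module ℂ V] [FiniteDimensional ℂ V] [Nontrivial V]
    (ρ : HRep s V) (Q : Subgroup Γ) (hQs : ∀ x ∈ Q, s x = 1) :
    ∃ (W : Submodule ℂ V) (ω : QRep Q W), W ≠ ⊥ ∧ ω.Irr ∧ ∀ x ∈ Q, ∀ a : W, ρ x a = ω x a := by
  classical
  obtain ⟨Y, h0, hY, hmin⟩ := exists_irr ρ (· ∈ Q)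
  let f : Γ → End ℂ Y := fun g => if h : g ∈ Q then (ρ g).restrict (hY g h) else 1
  have hf : ∀ x ∈ Q, ∀ a : Y, ρ x a = f x a := fun x hx a => by simp only [f, dif_pos hx]; rfl
  refine ⟨Y, ⟨f, LinearMap.ext fun a => Subtype.ext ?_, fun {g h} hg hh =>
    LinearMap.ext fun a => Subtype.ext ?_⟩, h0, fun Z hZ => ?_, hf⟩
  · rw [← hf 1 (one_mem Q), ρ.map_one]; rfl
  · rw [← hf _ (mul_mem hg hh), End.mul_apply, ← hf g hg, ← hf h hh,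
      ρ.mul_apply (hQs g hg) (hQs h hh)]
  · refine (hmin (Z.map Y.subtype) (Submodule.map_subtype_le _ _) ?_).imp
      (fun h => Submodule.map_injective_of_injective Y.injective_subtype (by simpa using h)) fun h =>
        Submodule.map_injective_of_injective Y.injective_subtype (by simpa using h)
    rintro g hg _ ⟨y, hy, rfl⟩
    exact ⟨_, hZ g hg y hy, (hf g hg y).symm⟩

theorem hom_lemma {V W : Type} [AddCommGroup V] [Module ℂ V] [FiniteDimensional ℂ V]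
    [AddCommGroup W] [Module ℂ W] [FiniteDimensional ℂ W] [Nontrivial W]
    (ρ : HRep s V) {Q : Subgroup Γ} [hQ : Q.Normal] (hQs : ∀ x ∈ Q, s x = 1)
    (ω : QRep Q W) (hirr : ω.Irr) (φ₀ : W →ₗ[ℂ] V) (h0 : φ₀ ≠ 0)
    (hφ₀ : ∀ x ∈ Q, ∀ a, ρ x (φ₀ a) = φ₀ (ω x a))
    {K : Type*} [Group K] {t : K →* ℤˣ} (ι : K →* Γ) (hι : ∀ k, s (ι k) = t k)
    (hd : ∀ g, s g = 1 → ∃ x ∈ Q, ∃ k, g = x * ι k) (A : HRep t W)
    (hA : ∀ k, t k = 1 → ∀ x ∈ Q, A k * ω x = ω (ι k * x * (ι k)⁻¹) * A k)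
    {γ : K} (hγ : t γ = -1) {β : V →ₗ[ℂ] V →ₗ[ℂ] ℂ} (hβ : IsTw ρ (ι γ) (-1) β)
    (H : ∀ βW : W →ₗ[ℂ] W →ₗ[ℂ] ℂ, βW ≠ 0 →
      (∀ x ∈ Q, ∀ a b, βW (ω x a) (ω ((ι γ)⁻¹ * x * ι γ) b) = βW a b) → IsTw A γ 1 βW)
    {N : Set K} (hN : ∀ n ∈ N, ι n ∈ Q ∧ A n = ω (ι n)) (hK : TWc t N 1) : Iso ρ β := by
  have hi : ∀ {k}, t k = 1 → s (ι k) = 1 := fun {k} hk => by rw [hι, hk]
  let M : Submodule ℂ (W →ₗ[ℂ] V) :=
    { carrier := {φ | ∀ x ∈ Q, ∀ a, ρ x (φ a) = φ (ω x a)}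
      add_mem' := fun {φ ψ} hφ hψ x hx a => by
        simp only [LinearMap.add_apply, map_add, hφ x hx, hψ x hx]
      zero_mem' := fun x hx a => by simp
      smul_mem' := fun c φ hφ x hx a => by
        simp only [LinearMap.smul_apply, map_smul, hφ x hx] }
  let τ : HRep t (W →ₗ[ℂ] V) :=
    { toFun := fun k =>
        { toFun := fun φ => ρ (ι k) ∘ₗ φ ∘ₗ A k⁻¹
          map_add' := fun φ ψ => by ext a; simp
          map_smul' := fun c φ => by ext a; simp }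
      map_one := by ext φ a; simp [ρ.map_one, A.map_one]
      map_mul := fun {g h} hg hh => by
        ext φ a
        simp [ρ.map_mul (hi hg) (hi hh), A.map_mul (s_inv hh) (s_inv hg)] }
  have hτ : ∀ k, t k = 1 → ∀ φ a, τ k φ (A k a) = ρ (ι k) (φ a) := fun k hk φ a => by
    change ρ (ι k) (φ (A k⁻¹ (A k a))) = _
    rw [A.inv_apply hk]
  have hM : τ.Inv M := fun k hk φ hφ x hx a => by
    obtain ⟨a, rfl⟩ := A.surj hk a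
    have hx' := hQ.conj_mem' x hx (ι k)
    have h1 := LinearMap.congr_fun (hA k hk _ hx') a
    simp only [End.mul_apply] at h1
    rw [show ι k * ((ι k)⁻¹ * x * ι k) * (ι k)⁻¹ = x by group] at h1
    rw [← h1, hτ k hk, hτ k hk, ← hφ _ hx', ρ.mul_apply (hQs x hx) (hi hk),
      ρ.mul_apply (hi hk) (hQs _ hx')]
    congr 2; group
  have fin : ∀ M₁ : Set (W →ₗ[ℂ] V), (∃ φ ∈ M₁, φ ≠ 0) → (∀ φ ∈ M₁, φ ∈ M) →
      (∀ k, t k = 1 → ∀ φ ∈ M₁, τ k φ ∈ M₁) → (∀ φ ∈ M₁, ∀ ψ ∈ M₁, ∀ a b, β (φ a) (ψ b) = 0) →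
      Iso ρ β := fun M₁ ⟨φ, hφ, hφ0⟩ hM₁ hτ₁ hβ₁ => by
    obtain ⟨a, ha⟩ : ∃ a, φ a ≠ 0 := by
      by_contra! h
      exact hφ0 (LinearMap.ext h)
    refine hβ.iso_of_orbit {v | ∃ φ ∈ M₁, ∃ a, v = φ a} ⟨φ, hφ, a, rfl⟩ ha ?_
    rintro g hg _ ⟨φ, hφ, a, rfl⟩ _ ⟨ψ, hψ, b, rfl⟩
    obtain ⟨x, hx, k, rfl⟩ := hd g hg
    have hk : t k = 1 := by rwa [map_mul, hQs x hx, one_mul, hι] at hg
    rw [← ρ.mul_apply (hQs x hx) (hi hk), ← hτ k hk, hM₁ _ (hτ₁ k hk φ hφ) x hx]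
    exact hβ₁ _ (hτ₁ k hk φ hφ) ψ hψ _ _
  by_cases hv : ∀ φ ∈ M, ∀ ψ ∈ M, ∀ a b, β (φ a) (ψ b) = 0
  · exact fin M ⟨φ₀, hφ₀, h0⟩ (fun _ h => h) hM hv
  push Not at hv
  obtain ⟨φ₁, hφ₁, ψ₁, hψ₁, a₀, b₀, h₀⟩ := hv
  have hinv : ∀ φ ∈ M, ∀ ψ ∈ M, ∀ x, x ∈ Q → ∀ a b, β.compl₁₂ φ ψ (ω x a)
      (ω ((ι γ)⁻¹ * x * ι γ) b) = β.compl₁₂ φ ψ a b := fun φ hφ ψ hψ x hx a b => by
    simp only [LinearMap.compl₁₂_apply]
    rw [← hφ x hx, ← hψ _ (hQ.conj_mem' x hx _), hβ.inv x (hQs x hx)]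
  set βW := β.compl₁₂ φ₁ ψ₁ with hβW
  have h₁ : βW a₀ b₀ ≠ 0 := h₀
  have hW0 : βW ≠ 0 := fun h => h₁ (by rw [h]; rfl)
  have hW := H βW hW0 (hinv _ hφ₁ _ hψ₁)
  let c : M →ₗ[ℂ] M →ₗ[ℂ] ℂ := (βW a₀ b₀)⁻¹ • β.compl₁₂
    (LinearMap.applyₗ a₀ ∘ₗ M.subtype) (LinearMap.applyₗ b₀ ∘ₗ M.subtype)
  have hc : ∀ (φ ψ : M) a b, β (φ.1 a) (ψ.1 b) = c φ ψ * βW a b := fun φ ψ a b => by
    obtain ⟨-, e, he⟩ := form_unique ω (fun x => ω ((ι γ)⁻¹ * x * ι γ)) (· ∈ Q) hirr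
      (fun x hx => ω.surj (hQ.conj_mem' x hx _)) hW0 (hinv _ hφ₁ _ hψ₁) (hinv _ φ.2 _ ψ.2)
    have h2 : c φ ψ = e := by
      change (βW a₀ b₀)⁻¹ * β.compl₁₂ φ.1 ψ.1 a₀ b₀ = e
      rw [he]; field_simp
    rw [h2]; exact he a b
  have : Nontrivial M := ⟨⟨φ₀, hφ₀⟩, 0, fun h => h0 (congrArg Subtype.val h)⟩
  have hσ : ∀ k, t k = 1 → ∀ (φ : M) a, (τ.sub M hM k φ).1 (A k a) = ρ (ι k) (φ.1 a) :=
    fun k hk φ a => by rw [τ.coe_sub hM hk, hτ k hk]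
  obtain ⟨M₁, hM0, hM₁, hiso⟩ := hK γ hγ M (τ.sub M hM) c (fun n hn => by
      have hn' : t n = 1 := by rw [← hι, hQs _ (hN n hn).1]
      refine LinearMap.ext fun φ => Subtype.ext (LinearMap.ext fun a => ?_)
      obtain ⟨a, rfl⟩ := A.surj hn' a
      rw [hσ n hn', (hN n hn).2, φ.2 _ (hN n hn).1]
      simp)
    ⟨fun k hk φ ψ => mul_right_cancel₀ h₁ (by
      have hk' : t (γ⁻¹ * k * γ) = 1 := by rw [s_conj, hk]
      rw [← hc φ ψ, ← hW.inv k hk, ← hc, hσ k hk, hσ _ hk', map_mul, map_mul, map_inv,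
        hβ.inv _ (hi hk)]), fun φ ψ => mul_right_cancel₀ h₁ (by
      rw [← hc, hβ.sym, ← map_mul, ← hσ _ (s_sq t γ), hc, hW.sym b₀ a₀]; ring)⟩
  obtain ⟨φ, hφ, hφ0⟩ := (Submodule.ne_bot_iff _).1 hM0
  refine fin {ψ | ∃ φ ∈ M₁, ψ = φ.1} ⟨φ.1, ⟨φ, hφ, rfl⟩, fun h => hφ0 (Subtype.ext h)⟩ ?_ ?_ ?_
  · rintro _ ⟨φ, -, rfl⟩; exact φ.2
  · rintro k hk _ ⟨φ, hφ, rfl⟩
    exact ⟨_, hM₁ k hk φ hφ, (τ.coe_sub hM hk φ).symm⟩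
  · rintro _ ⟨φ, hφ, rfl⟩ _ ⟨ψ, hψ, rfl⟩ a b
    rw [hc, hiso φ hφ ψ hψ, zero_mul]

theorem sign_of_flip {W : Type*} [AddCommGroup W] [Module ℂ W] [FiniteDimensional ℂ W]
    [Nontrivial W] {Q : Subgroup Γ} [hQ : Q.Normal] {ω : QRep Q W} (hirr : ω.Irr) {γ : Γ}
    {β : W →ₗ[ℂ] W →ₗ[ℂ] ℂ} (h0 : β ≠ 0)
    (hβ : ∀ x ∈ Q, ∀ a b, β (ω x a) (ω (γ⁻¹ * x * γ) b) = β a b) {T : End ℂ W}
    (hT : Function.Surjective T) (hT' : ∀ x ∈ Q, T * ω x = ω (γ * γ * x * (γ * γ)⁻¹) * T) :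
    ∃ ε : ℂ, ∀ a b, β b a = ε * β (T a) b := by
  obtain ⟨-, ε, h⟩ := form_unique ω (fun x => ω (γ * x * γ⁻¹)) (· ∈ Q) hirr
    (fun x hx => ω.surj (hQ.conj_mem x hx _)) (β := β ∘ₗ T) (β' := β.flip)
    (fun h => h0 (LinearMap.ext fun a => by
      obtain ⟨a, rfl⟩ := hT a
      exact LinearMap.congr_fun h a))
    (fun x hx a b => by
      simp only [LinearMap.comp_apply]
      rw [← End.mul_apply, hT' x hx, End.mul_apply, ← hβ _ (hQ.conj_mem x hx (γ * γ)) (T a) b]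
      congr 3; group)
    (fun x hx a b => by
      simp only [LinearMap.flip_apply]
      rw [← hβ _ (hQ.conj_mem x hx γ) b a]
      congr 3; group)
  exact ⟨ε, h⟩

/-- TW-2a: fibre products. -/
theorem TW.of_prod {Γ₁ Γ₂ : Type*} [Group Γ₁] [Group Γ₂] {s₁ : Γ₁ →* ℤˣ} {s₂ : Γ₂ →* ℤˣ}
    (π₁ : Γ →* Γ₁) (π₂ : Γ →* Γ₂) (h₁ : ∀ g, s₁ (π₁ g) = s g) (h₂ : ∀ g, s₂ (π₂ g) = s g)
    (hinj : ∀ g, π₁ g = 1 → π₂ g = 1 → g = 1)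
    (l₁ : ∀ a, s₁ a = 1 → ∃ g, π₁ g = a ∧ π₂ g = 1)
    (l₂ : ∀ b, s₂ b = 1 → ∃ g, π₁ g = 1 ∧ π₂ g = b) (t₁ : TW s₁) (t₂ : TW s₂) : TW s := by
  intro γ hγ V _ _ _ _ ρ β _ hβ
  have hQs : ∀ x ∈ π₂.ker, s x = 1 := fun x hx => by rw [← h₂, MonoidHom.mem_ker.1 hx, map_one]
  obtain ⟨W, ω, hW, hirr, hω⟩ := exists_qrep ρ π₂.ker hQs
  have : Nontrivial W := Submodule.nontrivial_iff_ne_bot.2 hW
  choose! σ hσ₁ hσ₂ using l₁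
  have huniq : ∀ {a x}, x ∈ π₂.ker → π₁ x = a → σ a = x := fun {a x} hx ha => by
    have h1 : s₁ a = 1 := by rw [← ha, h₁, hQs x hx]
    rw [← inv_mul_eq_one]
    exact hinj _ (by rw [map_mul, map_inv, hσ₁ a h1, ha, inv_mul_cancel])
      (by rw [map_mul, map_inv, hσ₂ a h1, MonoidHom.mem_ker.1 hx, inv_mul_cancel])
  let ω₁ : HRep s₁ W :=
    { toFun := fun a => ω (σ a)
      map_one := by rw [huniq (one_mem _) (map_one π₁), ω.map_one]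
      map_mul := fun {a b} ha hb => by
        rw [huniq (mul_mem (hσ₂ a ha) (hσ₂ b hb)) (by rw [map_mul, hσ₁ a ha, hσ₁ b hb]),
          ω.map_mul (hσ₂ a ha) (hσ₂ b hb)] }
  have hconj : ∀ k, s k = 1 → ∀ x ∈ π₂.ker, σ (π₁ k) * x = k * x * k⁻¹ * σ (π₁ k) :=
    fun k hk x hx => by
      have h1 : s₁ (π₁ k) = 1 := by rw [h₁, hk]
      rw [← huniq (mul_mem (hσ₂ _ h1) hx) rfl, huniq (mul_mem
        ((MonoidHom.normal_ker π₂).conj_mem x hx k) (hσ₂ _ h1))]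
      simp [hσ₁ _ h1]
  have hA : ∀ k, s k = 1 → ∀ x ∈ π₂.ker, ω₁ (π₁ k) * ω x = ω (k * x * k⁻¹) * ω₁ (π₁ k) :=
    fun k hk x hx => by
      have h1 : s₁ (π₁ k) = 1 := by rw [h₁, hk]
      change ω (σ (π₁ k)) * ω x = ω (k * x * k⁻¹) * ω (σ (π₁ k))
      rw [← ω.map_mul (hσ₂ _ h1) hx, hconj k hk x hx,
        ω.map_mul ((MonoidHom.normal_ker π₂).conj_mem x hx k) (hσ₂ _ h1)]
  refine hom_lemma ρ hQs ω hirr W.subtype (fun h => hW (by simpa using congrArg LinearMap.range h))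
    hω (MonoidHom.id Γ) (fun _ => rfl) (fun g _ => ⟨1, one_mem _, g, by simp⟩) (ω₁.comp π₁ h₁) hA
    hγ hβ (fun βW h0 hinv => ?_) (N := π₂.ker)
    (fun n hn => ⟨hn, congrArg ω (huniq hn rfl)⟩)
    (TWc.of_surj π₂ h₂ (fun g hg => .inr ⟨hg, rfl⟩) (fun k hk => (l₂ k hk).imp fun _ h => h.2) t₂)
  simp only [MonoidHom.id_apply] at hinv
  have hγγ : s₁ (π₁ (γ * γ)) = 1 := by rw [h₁, s_sq]
  obtain ⟨ε, hε⟩ := sign_of_flip hirr h0 hinv (ω₁.surj hγγ) (hA _ (s_sq s γ))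
  have key : ∀ a, s₁ a = 1 → ∀ x y, βW (ω₁ a x) (ω₁ ((π₁ γ)⁻¹ * a * π₁ γ) y) = βW x y :=
    fun a ha x y => by
      rw [← hinv _ (hσ₂ a ha) x y]
      change βW (ω (σ a) x) (ω (σ _) y) = _
      rw [huniq (a := (π₁ γ)⁻¹ * a * π₁ γ) ((MonoidHom.normal_ker π₂).conj_mem' _ (hσ₂ a ha) γ)
        (by simp [hσ₁ a ha])]
  have hε2 : ε * ε = 1 := by
    obtain ⟨a, b, hab⟩ : ∃ a b, βW a b ≠ 0 := by
      by_contra! h
      exact h0 (LinearMap.ext₂ h)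
    refine mul_right_cancel₀ hab ?_
    have h3 := key _ hγγ a b
    rw [show (π₁ γ)⁻¹ * π₁ (γ * γ) * π₁ γ = π₁ (γ * γ) by simp] at h3
    rw [mul_assoc, ← h3, ← hε, ← hε, one_mul, h3]
  rcases mul_self_eq_one_iff.1 hε2 with rfl | rfl
  · exact ⟨fun k hk x y => by
      simpa [HRep.comp] using key (π₁ k) (by rw [h₁, hk]) x y, hε⟩
  · obtain ⟨Y, hY0, hY, hiso⟩ := t₁ (π₁ γ) (by rw [h₁, hγ]) W ω₁ βW (by simp)
      ⟨key, fun x y => by rw [hε, map_mul]⟩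
    have := (hirr Y fun x hx y hy => by
      rw [← huniq hx rfl]; exact hY _ (by rw [h₁, hQs x hx]) y hy).resolve_left hY0
    subst this
    exact absurd (LinearMap.ext₂ fun a b => hiso a trivial b trivial) h0

end Cfsg.Lib.Known.TW
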