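import Mathlib

/-!
Linear algebra for the Weil lifting: determinants and bilinear forms, eigenspaces of operators of
finite order, a Fourier-type summation formula.
-/

namespace Cfsg.Lib.Known.TW

open Module

variable {U : Type*} [AddCommGroup U] [Module ℂ U] [FiniteDimensional ℂ U]
  {β : U →ₗ[ℂ] U →ₗ[ℂ] ℂ}

theorem det_gram_ne (h : Function.Injective β) :
    (LinearMap.toMatrix₂ (finBasis ℂ U) (finBasis ℂ U) β).det ≠ 0 := by
  rw [← Matrix.separatingLeft_iff_det_ne_zero, LinearMap.separatingLeft_toMatrix₂_iff]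
  exact fun x hx => h (by rw [map_zero]; exact LinearMap.ext hx)

theorem flip_inj (h : Function.Injective β) : Function.Injective β.flip := by
  have := det_gram_ne h
  rw [← Matrix.separatingRight_iff_det_ne_zero, LinearMap.separatingRight_toMatrix₂_iff] at this
  rw [injective_iff_map_eq_zero]
  exact fun y hy => this y fun x => LinearMap.congr_fun hy x

theorem det_of_pairing (h : Function.Injective β) {S S' : End ℂ U} {χ : ℂ}
    (hS : ∀ a b, β (S a) (S' b) = χ * β a b) :
    LinearMap.det S * LinearMap.det S' = χ ^ finrank ℂ U := by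
  have h1 : β.compl₁₂ S S' = χ • β := LinearMap.ext₂ hS
  have h2 := congrArg (fun B => (LinearMap.toMatrix₂ (finBasis ℂ U) (finBasis ℂ U) B).det) h1
  simp only [LinearMap.toMatrix₂_compl₁₂ (finBasis ℂ U) (finBasis ℂ U), Matrix.det_mul,
    Matrix.det_transpose, LinearMap.det_toMatrix, map_smul, Matrix.det_smul, Fintype.card_fin] at h2
  refine mul_right_cancel₀ (det_gram_ne h) ?_
  rw [← h2]; ring

theorem det_of_flip (h : Function.Injective β) {S : End ℂ U} {ε : ℂ}
    (hS : ∀ a b, β b a = ε * β (S a) b) : ε ^ finrank ℂ U * LinearMap.det S = 1 := by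
  have h1 : β.flip = ε • β.compl₁₂ S LinearMap.id := LinearMap.ext₂ hS
  have h2 := congrArg (fun B => (LinearMap.toMatrix₂ (finBasis ℂ U) (finBasis ℂ U) B).det) h1
  have h3 : LinearMap.toMatrix₂ (finBasis ℂ U) (finBasis ℂ U) β.flip =
      (LinearMap.toMatrix₂ (finBasis ℂ U) (finBasis ℂ U) β).transpose := by
    ext i j; simp
  simp only [h3, LinearMap.toMatrix₂_compl₁₂ (finBasis ℂ U) (finBasis ℂ U), Matrix.det_mul,
    Matrix.det_transpose, LinearMap.det_toMatrix, map_smul, Matrix.det_smul, Fintype.card_fin,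
    LinearMap.det_id] at h2
  refine mul_right_cancel₀ (det_gram_ne h) ?_
  rw [one_mul]
  conv_rhs => rw [h2]
  ring

theorem isIntegral_root {T : End ℂ U} {n : ℕ} (hn : 0 < n) (hT : T ^ n = 1) {μ : ℂ}
    (hμ : μ ∈ T.charpoly.roots) : IsIntegral ℤ μ := by
  obtain ⟨v, hv⟩ := ((End.hasEigenvalue_iff_isRoot_charpoly T μ).2
    (Polynomial.isRoot_of_mem_roots hμ)).exists_hasEigenvector
  have h1 := hv.pow_apply n
  rw [hT, End.one_apply] at h1
  have h2 : μ ^ n = 1 := smul_left_injective ℂ hv.2 (by simp only [← h1, one_smul])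
  exact IsIntegral.of_pow hn (h2 ▸ isIntegral_one)

theorem isIntegral_trace_of_pow {T : End ℂ U} {n : ℕ} (hn : 0 < n) (hT : T ^ n = 1) :
    IsIntegral ℤ (LinearMap.trace ℂ U T) := by
  rw [End.trace_eq_sum_roots_charpoly_of_splits (IsAlgClosed.splits _)]
  exact IsIntegral.multiset_sum fun x hx => isIntegral_root hn hT hx

omit [FiniteDimensional ℂ U] in
theorem semisimple_of_pow {T : End ℂ U} {n : ℕ} (hn : 0 < n) (hT : T ^ n = 1) : T.IsSemisimple :=
  End.isSemisimple_of_squarefree_aeval_eq_zero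
    (Polynomial.separable_X_pow_sub_C (1 : ℂ) (Nat.cast_ne_zero.2 hn.ne') one_ne_zero).squarefree
    (by simp [hT])

theorem exists_odd_eigenspace {T T' : End ℂ U} {n : ℕ} (hn : 0 < n) (hT : T ^ n = 1)
    (hT' : T' ^ n = 1) (h : LinearMap.trace ℂ U T * LinearMap.trace ℂ U T' = 1) :
    ∃ l : ℂ, Odd (finrank ℂ (T.eigenspace l)) := by
  classical
  by_contra! hodd
  have h1 : ∀ l, ∃ m, T.charpoly.roots.count l = 2 * m := fun l => by
    have := Nat.not_odd_iff_even.1 (hodd l)
    rw [← (semisimple_of_pow hn hT).isFinitelySemisimple.maxGenEigenspace_eq_eigenspace,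
      LinearMap.finrank_maxGenEigenspace_eq, ← Polynomial.count_roots] at this
    exact this.two_dvd
  choose m hm using h1
  have h2 : LinearMap.trace ℂ U T = 2 * ∑ l ∈ T.charpoly.roots.toFinset, m l • l := by
    rw [End.trace_eq_sum_roots_charpoly_of_splits (IsAlgClosed.splits _), Finset.sum_multiset_count,
      Finset.mul_sum]
    exact Finset.sum_congr rfl fun l _ => by rw [hm]; simp [mul_assoc]
  have h3 : IsIntegral ℤ ((∑ l ∈ T.charpoly.roots.toFinset, m l • l) * LinearMap.trace ℂ U T') :=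
    (IsIntegral.sum _ fun l hl =>
      (isIntegral_root hn hT (Multiset.mem_toFinset.1 hl)).nsmul _).mul
      (isIntegral_trace_of_pow hn hT')
  have h4 : (∑ l ∈ T.charpoly.roots.toFinset, m l • l) * LinearMap.trace ℂ U T' =
      algebraMap ℚ ℂ (1 / 2) := by
    rw [h2] at h
    simp only [eq_ratCast]; push_cast
    linear_combination (1 / 2 : ℂ) * h
  rw [h4, isIntegral_algebraMap_iff (algebraMap ℚ ℂ).injective,
    IsIntegrallyClosed.isIntegral_iff] at h3
  obtain ⟨y, hy⟩ := h3
  have h5 : (2 * y : ℤ) = 1 := by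
    have : ((2 * y : ℤ) : ℚ) = 1 := by push_cast; rw [show (y : ℚ) = 1 / 2 from hy]; norm_num
    exact_mod_cast this
  omega

theorem inj_eigenspace (h : Function.Injective β) {T : End ℂ U} {n : ℕ} (hn : 0 < n)
    (hT : T ^ n = 1) (hβ : ∀ a b, β (T a) b = β a (T b)) (l : ℂ) :
    Function.Injective (β.compl₁₂ (T.eigenspace l).subtype (T.eigenspace l).subtype) := by
  rw [injective_iff_map_eq_zero]
  intro a ha
  refine Subtype.ext (h (LinearMap.ext fun b => ?_))
  have hb : b ∈ ⨆ m, T.eigenspace m := by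
    rw [(semisimple_of_pow hn hT).iSup_eigenspace_eq_top]; trivial
  simp only [ZeroMemClass.coe_zero, map_zero, LinearMap.zero_apply]
  refine Submodule.iSup_induction _ (motive := fun b => β a b = 0) hb (fun m b hb => ?_) (by simp)
    fun x y hx hy => by rw [map_add, hx, hy, add_zero]
  by_cases hm : m = l
  · subst hm
    exact LinearMap.congr_fun ha ⟨b, hb⟩
  · have := hβ a b
    rw [End.mem_eigenspace_iff.1 a.2, End.mem_eigenspace_iff.1 hb] at this
    simp only [map_smul, LinearMap.smul_apply, smul_eq_mul] at this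
    exact (mul_eq_zero.1 (show (m - l) * β a b = 0 by linear_combination -this)).resolve_left
      (sub_ne_zero.2 hm)

theorem sum_trace_smul {ι : Type*} [Fintype ι] (A B : ι → End ℂ U) (c : ℂ)
    (h : ∀ T, ∑ x, A x * T * B x = (c * LinearMap.trace ℂ U T) • (1 : End ℂ U)) :
    ∑ x, LinearMap.trace ℂ U (B x) • A x = c • (1 : End ℂ U) := by
  refine LinearMap.ext fun u => ?_
  let b := finBasis ℂ U
  have h1 : ∀ i, ∑ x, b.coord i (B x (b i)) • A x u = (c * b.coord i u) • b i := fun i => by
    have := LinearMap.congr_fun (h ((b.coord i).smulRight u)) (b i)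
    simpa [LinearMap.sum_apply] using this
  have h2 : ∀ x, LinearMap.trace ℂ U (B x) = ∑ i, b.coord i (B x (b i)) := fun x => by
    rw [LinearMap.trace_eq_matrix_trace ℂ b]
    simp [Matrix.trace, LinearMap.toMatrix_apply]
  simp only [LinearMap.sum_apply, LinearMap.smul_apply, h2, Finset.sum_smul, End.one_apply]
  rw [Finset.sum_comm]
  simp only [h1]
  simp only [mul_smul, ← Finset.smul_sum, Basis.coord_apply, b.sum_repr]

end Cfsg.Lib.Known.TW
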