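import Cfsg.Agent.Known.TwHom
import Cfsg.Agent.Known.TwLin

/-!
Twisted Frobenius–Schur indicators: lifting through a fully ramified normal 2-subgroup.
-/

namespace Cfsg.Lib.Known.TW

open Module LinearMap

variable {Γ : Type*} [Group Γ] {s : Γ →* ℤˣ} {Q : Subgroup Γ}
  {W : Type*} [AddCommGroup W] [Module ℂ W]

namespace QRep

variable (ω : QRep Q W)

/-- `T` intertwines `ω` with its conjugate by `g`. -/
def Int (g : Γ) (T : End ℂ W) : Prop := ∀ x ∈ Q, T * ω x = ω (g * x * g⁻¹) * T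

variable {ω}

theorem Int.mul [hQ : Q.Normal] {g h : Γ} {S T : End ℂ W} (hS : ω.Int g S) (hT : ω.Int h T) :
    ω.Int (g * h) (S * T) := fun x hx => by
  rw [mul_assoc, hT x hx, ← mul_assoc, hS _ (hQ.conj_mem x hx h), mul_assoc]
  congr 2; group

theorem Int.one : ω.Int 1 1 := fun x _ => by simp

theorem Int.smul {g : Γ} {S : End ℂ W} (hS : ω.Int g S) (c : ℂ) : ω.Int g (c • S) := fun x hx => by
  rw [smul_mul_assoc, mul_smul_comm, hS x hx]

theorem Int.pow [Q.Normal] {g : Γ} {S : End ℂ W} (hS : ω.Int g S) (n : ℕ) :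
    ω.Int (g ^ n) (S ^ n) := by
  induction n with
  | zero => simpa using Int.one
  | succ n ih => rw [pow_succ, pow_succ]; exact ih.mul hS

theorem Int.inv [hQ : Q.Normal] {g : Γ} {u : (End ℂ W)ˣ} (hu : ω.Int g u) :
    ω.Int g⁻¹ (u⁻¹ : (End ℂ W)ˣ) := fun x hx => by
  have := hu _ (hQ.conj_mem x hx g⁻¹)
  rw [show g * (g⁻¹ * x * g⁻¹⁻¹) * g⁻¹ = x by group] at this
  rw [Units.inv_mul_eq_iff_eq_mul, ← mul_assoc, this, Units.mul_inv_cancel_right]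

variable [FiniteDimensional ℂ W] [Nontrivial W]

theorem Int.unique [Q.Normal] (hirr : ω.Irr) {g : Γ} {S T : End ℂ W} (hS : ω.Int g S)
    (hS' : IsUnit S) (hT : ω.Int g T) : ∃ c : ℂ, T = c • S := by
  obtain ⟨u, rfl⟩ := hS'
  obtain ⟨c, hc⟩ := schur ω (· ∈ Q) hirr (T := (u⁻¹ : (End ℂ W)ˣ) * T) fun x hx => by
    simpa using hS.inv.mul hT x hx
  exact ⟨c, by rw [Units.inv_mul_eq_iff_eq_mul] at hc; simpa using hc⟩

omit [Nontrivial W] in
theorem Int.isUnit (hirr : ω.Irr) {g : Γ} {S : End ℂ W} (hS : ω.Int g S) (h0 : S ≠ 0) :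
    IsUnit S := by
  rw [isUnit_iff_ker_eq_bot]
  refine (hirr _ fun x hx y hy => ?_).resolve_right fun h => h0 (ker_eq_top.1 h)
  rw [mem_ker] at hy ⊢
  rw [← End.mul_apply, hS x hx, End.mul_apply, hy, map_zero]

omit [FiniteDimensional ℂ W] [Nontrivial W] in
theorem int_avg [hQ : Q.Normal] [Fintype Q] (g : Γ) (T : End ℂ W) :
    ω.Int g (∑ x : Q, ω (g * x * g⁻¹) * T * ω (x : Γ)⁻¹) := fun y hy => by
  rw [Finset.sum_mul, Finset.mul_sum]
  refine (Fintype.sum_equiv (Equiv.mulLeft (⟨y, hy⟩ : Q)) _ _ fun x => ?_).symm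
  simp only [Equiv.coe_mulLeft, Subgroup.coe_mul]
  rw [← mul_assoc, ← mul_assoc, ← ω.map_mul (hQ.conj_mem y hy g) (hQ.conj_mem _ x.2 g),
    mul_assoc (_ * T), ← ω.map_mul (inv_mem (mul_mem hy x.2)) hy]
  congr 3 <;> group

theorem avg [Q.Normal] [Fintype Q] (hirr : ω.Irr) (T : End ℂ W) :
    ∑ x : Q, ω x * T * ω (x : Γ)⁻¹ =
      ((Fintype.card Q : ℂ) / finrank ℂ W * trace ℂ W T) • (1 : End ℂ W) := by
  obtain ⟨c, hc⟩ := Int.unique hirr Int.one isUnit_one (int_avg (ω := ω) 1 T)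
  simp only [one_mul, inv_one, mul_one] at hc
  have h1 := congrArg (trace ℂ W) hc
  have h2 : ∀ x : Q, trace ℂ W (ω x * T * ω (x : Γ)⁻¹) = trace ℂ W T := fun x => by
    rw [trace_mul_cycle, ω.inv_mul x.2, one_mul]
  simp only [map_sum, h2, map_smul, trace_one, Finset.sum_const, Finset.card_univ, nsmul_eq_mul,
    smul_eq_mul] at h1
  have hd : (finrank ℂ W : ℂ) ≠ 0 := Nat.cast_ne_zero.2 finrank_pos.ne'
  rw [hc]; congr 1
  field_simp
  linear_combination -h1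

end QRep

theorem sum_on {ι E : Type*} [Fintype ι] [AddCommMonoid E] (p : ι → Prop) [DecidablePred p]
    (F : ι → E) (a : E) (h1 : ∀ x, p x → F x = a) (h0 : ∀ x, ¬ p x → F x = 0) :
    ∑ x, F x = (Finset.univ.filter p).card • a := by
  rw [← Finset.sum_const, Finset.sum_filter]
  exact Finset.sum_congr rfl fun x _ => by split_ifs with h; exacts [h1 x h, h0 x h]

theorem weil_ext [Finite Γ] [FiniteDimensional ℂ W] [Nontrivial W] [hQ : Q.Normal] (Z K : Subgroup Γ)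
    (hQ2 : IsPGroup 2 Q) (hZQ : Z ≤ Q) (hZ : ∀ z ∈ Z, ∀ g, s g = 1 → z * g = g * z)
    (ω : QRep Q W) (hirr : ω.Irr) (μ : Γ → ℂ) (hμ : ∀ z ∈ Z, ω z = μ z • 1)
    (hram : ∀ x ∈ Q, x ∉ Z → ∃ y ∈ Q, x * y * x⁻¹ * y⁻¹ ∈ Z ∧ μ (x * y * x⁻¹ * y⁻¹) ≠ 1)
    (z₀ : Γ) (hs : s z₀ = 1) (hc : ∀ k ∈ K, k * z₀ * k⁻¹ = z₀ ^ ((s k : ℤˣ) : ℤ))
    (hfpf : ∀ x ∈ Q, z₀ * x * z₀⁻¹ * x⁻¹ ∈ Z → x ∈ Z) :
    ∃ A : HRep (s.comp K.subtype) W, (∀ k : K, s k = 1 → ω.Int k (A k)) ∧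
      ∀ γ : K, s γ = -1 → ∀ β : W →ₗ[ℂ] W →ₗ[ℂ] ℂ, β ≠ 0 →
        (∀ x ∈ Q, ∀ a b, β (ω x a) (ω ((γ : Γ)⁻¹ * x * γ) b) = β a b) → IsTw A γ 1 β := by
  classical
  have := Fintype.ofFinite Q
  have hd : (finrank ℂ W : ℂ) ≠ 0 := Nat.cast_ne_zero.2 finrank_pos.ne'
  have hcZ : ∀ g, s g = 1 → ∀ z ∈ Z, g * z * g⁻¹ = z := fun g hg z hz => by
    rw [← hZ z hz g hg, mul_inv_cancel_right]
  have tr0 : ∀ x ∈ Q, x ∉ Z → trace ℂ W (ω x) = 0 := fun x hx hxZ => by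
    obtain ⟨y, hy, h1, h2⟩ := hram x hx hxZ
    have h3 : trace ℂ W (ω x) = μ (x * y * x⁻¹ * y⁻¹) * trace ℂ W (ω x) := by
      conv_lhs => rw [show x = (x * y * x⁻¹ * y⁻¹) * (y * x * y⁻¹) by group]
      rw [ω.map_mul (hZQ h1) (hQ.conj_mem x hx y), hμ _ h1, smul_mul_assoc, one_mul, map_smul,
        ω.map_mul (mul_mem hy hx) (inv_mem hy), trace_mul_comm, ω.map_mul hy hx, ← mul_assoc,
        ω.inv_mul hy, one_mul, smul_eq_mul]
    exact (mul_eq_zero.1 (show (μ (x * y * x⁻¹ * y⁻¹) - 1) * trace ℂ W (ω x) = 0 by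
      linear_combination -h3)).resolve_left (sub_ne_zero.2 h2)
  set m := (Finset.univ.filter fun x : Q => (x : Γ) ∈ Z).card with hm
  have hm0 : (m : ℂ) ≠ 0 := Nat.cast_ne_zero.2 (Finset.card_pos.2 ⟨1, by simp⟩).ne'
  have hsum : ∀ g, s g = 1 → ∑ x : Q, trace ℂ W (ω (x : Γ)⁻¹) • ω (g * x * g⁻¹) =
      ((m : ℂ) * finrank ℂ W) • (1 : End ℂ W) := fun g hg => by
    rw [sum_on (fun x : Q => (x : Γ) ∈ Z) _ ((finrank ℂ W : ℂ) • (1 : End ℂ W)), mul_smul,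
      Nat.cast_smul_eq_nsmul ℂ m]
    · intro x hx
      have h1 := ω.inv_mul x.2
      rw [hcZ g hg x hx]
      rw [hμ _ (inv_mem hx)] at h1 ⊢
      rw [smul_mul_assoc, one_mul] at h1
      rw [map_smul, trace_one, smul_eq_mul, mul_comm, mul_smul, h1]
    · intro x hx
      rw [tr0 _ (inv_mem x.2) (by simpa using hx), zero_smul]
  have hne : (1 : End ℂ W) ≠ 0 := one_ne_zero
  have hex : ∀ g, s g = 1 → ∃ T, ω.Int g T ∧ IsUnit T := fun g hg => by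
    by_contra! h
    have h1 := sum_trace_smul (fun x : Q => ω (g * x * g⁻¹)) (fun x => ω (x : Γ)⁻¹) 0 fun T => by
      rw [zero_mul, zero_smul]
      by_contra h0
      exact h _ (QRep.int_avg g T) ((QRep.int_avg g T).isUnit hirr h0)
    rw [hsum g hg] at h1
    exact mul_ne_zero hm0 hd (smul_left_injective ℂ hne h1)
  have hcard : (m : ℂ) * finrank ℂ W = Fintype.card Q / finrank ℂ W := by
    have h1 := sum_trace_smul (fun x : Q => ω x) (fun x => ω (x : Γ)⁻¹) _ (QRep.avg hirr)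
    have h2 := hsum 1 (map_one s)
    simp only [one_mul, inv_one, mul_one] at h2
    exact smul_left_injective ℂ hne (h2.symm.trans h1)
  obtain ⟨e, he⟩ : ∃ e, finrank ℂ W = 2 ^ e := by
    have : Fact (Nat.Prime 2) := ⟨Nat.prime_two⟩
    obtain ⟨r, hr⟩ := IsPGroup.iff_card.1 hQ2
    have h1 : m * finrank ℂ W * finrank ℂ W = Fintype.card Q := by
      rw [eq_div_iff hd] at hcard; exact_mod_cast hcard
    obtain ⟨e, -, he⟩ := (Nat.dvd_prime_pow Nat.prime_two).1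
      (show finrank ℂ W ∣ 2 ^ r from ⟨_, by rw [← hr, Nat.card_eq_fintype_card, ← h1, mul_comm]⟩)
    exact ⟨e, he⟩
  -- the operator `T` of the element `z₀`
  have hn := orderOf_pos z₀
  obtain ⟨T, hT, hTn⟩ : ∃ T, ω.Int z₀ T ∧ T ^ orderOf z₀ = 1 := by
    obtain ⟨T, hT, hu⟩ := hex z₀ hs
    have h1 := hT.pow (orderOf z₀)
    rw [pow_orderOf_eq_one] at h1
    obtain ⟨c, hc⟩ := QRep.Int.unique hirr QRep.Int.one isUnit_one h1
    have hc0 : c ≠ 0 := by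
      rintro rfl
      exact (hu.pow (orderOf z₀)).ne_zero (by rw [hc, zero_smul])
    obtain ⟨a, ha⟩ := IsAlgClosed.exists_pow_nat_eq c⁻¹ hn
    exact ⟨a • T, hT.smul a, by rw [smul_pow, hc, ha, smul_smul, inv_mul_cancel₀ hc0, one_smul]⟩
  obtain ⟨u, rfl⟩ : IsUnit T := IsUnit.of_pow_eq_one hTn hn.ne'
  have hun : ((u⁻¹ : (End ℂ W)ˣ) : End ℂ W) ^ orderOf z₀ = 1 := by
    rw [← Units.val_pow_eq_pow_val, inv_pow, Units.ext (show ((u ^ orderOf z₀ : (End ℂ W)ˣ) :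
      End ℂ W) = (1 : (End ℂ W)ˣ) from hTn), inv_one, Units.val_one]
  have htr : trace ℂ W u * trace ℂ W (u⁻¹ : (End ℂ W)ˣ) = 1 := by
    have h1 := congrArg (fun S => trace ℂ W (S * (u⁻¹ : (End ℂ W)ˣ))) (QRep.avg hirr (u : End ℂ W))
    simp only [Finset.sum_mul, map_sum, smul_mul_assoc, one_mul, map_smul, smul_eq_mul] at h1
    have h2 : ∀ x : Q, ω x * u * ω (x : Γ)⁻¹ * (u⁻¹ : (End ℂ W)ˣ) = ω (x * (z₀ * (x : Γ)⁻¹ * z₀⁻¹)) :=
      fun x => by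
        rw [mul_assoc (ω x), hT _ (inv_mem x.2), ← mul_assoc, Units.mul_inv_cancel_right,
          ω.map_mul x.2 (hQ.conj_mem _ (inv_mem x.2) _)]
    rw [sum_on (fun x : Q => (x : Γ) ∈ Z) _ (finrank ℂ W : ℂ) (fun x hx => by
      rw [h2, hcZ _ hs _ (inv_mem hx), mul_inv_cancel, ω.map_one, trace_one]) (fun x hx => by
      rw [h2]
      refine tr0 _ (mul_mem x.2 (hQ.conj_mem _ (inv_mem x.2) _)) fun h => hx (hfpf _ x.2 ?_)
      have := inv_mem h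
      simpa [mul_assoc] using this), ← hm, ← hcard, nsmul_eq_mul, mul_assoc _ (trace ℂ W u)] at h1
    exact (mul_left_cancel₀ (mul_ne_zero hm0 hd) (by rw [mul_one]; exact h1)).symm
  have htr0 : trace ℂ W u ≠ 0 := left_ne_zero_of_mul_eq_one htr
  obtain ⟨l, hl⟩ := exists_odd_eigenspace hn hTn hun htr
  set W₁ := (u : End ℂ W).eigenspace l
  obtain ⟨a, b, hab⟩ : ∃ a b : ℕ, finrank ℂ W₁ * b = finrank ℂ W * a + 1 := by
    have h1 : Nat.Coprime (finrank ℂ W₁) (finrank ℂ W * 2) := by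
      rw [he, ← pow_succ]; exact (Nat.coprime_two_right.2 hl).pow_right _
    obtain ⟨b, -, hb⟩ := Nat.exists_mul_mod_eq_one_of_coprime h1 (by
      have := finrank_pos (R := ℂ) (M := W); omega)
    exact ⟨2 * (finrank ℂ W₁ * b / (finrank ℂ W * 2)), b, by
      rw [← mul_assoc, ← hb, Nat.div_add_mod]⟩
  have key : ∀ c : ℂ, c ≠ 0 → (c ^ finrank ℂ W₁) ^ b = (c ^ finrank ℂ W) ^ a → c = 1 :=
    fun c hc h => by
      rw [← pow_mul, ← pow_mul, hab, pow_succ] at h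
      exact (mul_eq_left₀ (pow_ne_zero _ hc)).1 h
  let Good : Γ → End ℂ W → Prop := fun g S => ω.Int g S ∧ IsUnit S ∧
    ∃ S₁ : End ℂ W₁, (∀ y, (S₁ y : W) = S y) ∧ LinearMap.det S₁ ^ b = LinearMap.det S ^ a
  have hdet : ∀ {S : End ℂ W}, IsUnit S → LinearMap.det S ≠ 0 := fun h =>
    (h.map LinearMap.det).ne_zero
  have Gmul : ∀ {g h S S'}, Good g S → Good h S' → Good (g * h) (S * S') :=
    fun {g h S S'} ⟨h1, h2, S₁, h3, h4⟩ ⟨h1', h2', S₁', h3', h4'⟩ =>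
      ⟨h1.mul h1', h2.mul h2', S₁ * S₁', fun y => by rw [End.mul_apply, h3, h3', End.mul_apply],
        by rw [map_mul, map_mul, mul_pow, mul_pow, h4, h4']⟩
  have Guniq : ∀ {g S S'}, Good g S → Good g S' → S' = S :=
    fun {g S S'} ⟨h1, h2, S₁, h3, h4⟩ ⟨h1', h2', S₁', h3', h4'⟩ => by
      obtain ⟨c, rfl⟩ := QRep.Int.unique hirr h1 h2 h1'
      obtain rfl : S₁' = c • S₁ := LinearMap.ext fun y => Subtype.ext (by simp [h3, h3'])
      rw [LinearMap.det_smul, LinearMap.det_smul, mul_pow, mul_pow, h4] at h4'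
      rw [key c (by rintro rfl; exact h2'.ne_zero (zero_smul _ _))
        (mul_right_cancel₀ (pow_ne_zero _ (hdet h2)) h4'), one_smul]
  have Gex : ∀ k : K, s k = 1 → ∃ S, Good k S := fun k hk => by
    obtain ⟨S, hS, v, rfl⟩ := hex k hk
    have h1 : (k : Γ) * z₀ = z₀ * k := by
      have := hc k k.2
      rw [hk, Units.val_one, zpow_one] at this
      rw [← mul_inv_eq_iff_eq_mul, this]
    obtain ⟨c, hc⟩ := QRep.Int.unique hirr (hT.mul hS) (u * v).isUnit (h1 ▸ hS.mul hT)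
    have hc1 : c = 1 := by
      have h2 := trace_conj ℂ (u : End ℂ W) v
      rw [hc, smul_mul_assoc, Units.mul_inv_cancel_right, map_smul, smul_eq_mul] at h2
      exact (mul_eq_right₀ htr0).1 h2
    rw [hc1, one_smul] at hc
    have h2 : ∀ y ∈ W₁, (v : End ℂ W) y ∈ W₁ := fun y hy => by
      rw [End.mem_eigenspace_iff] at hy ⊢
      rw [← End.mul_apply, ← hc, End.mul_apply, hy, map_smul]
    have h3 : LinearMap.det ((v : End ℂ W).restrict h2) ≠ 0 := by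
      rw [ne_eq, det_eq_zero_iff_ker_ne_bot, not_not, ker_eq_bot']
      intro y hy
      exact Subtype.ext (((isUnit_iff_ker_eq_bot _).1 v.isUnit).le (congrArg Subtype.val hy))
    set D₁ := LinearMap.det ((v : End ℂ W).restrict h2)
    set D := LinearMap.det (v : End ℂ W)
    have hc0 : D ^ a / D₁ ^ b ≠ 0 := div_ne_zero (pow_ne_zero _ (hdet v.isUnit)) (pow_ne_zero _ h3)
    refine ⟨(D ^ a / D₁ ^ b) • (v : End ℂ W), hS.smul _, ?_, (D ^ a / D₁ ^ b) • (v : End ℂ W).restrict h2,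
      fun y => rfl, ?_⟩
    · exact (Units.mk0 _ hc0 • v).isUnit
    · rw [LinearMap.det_smul, LinearMap.det_smul, mul_pow, mul_pow, ← pow_mul, ← pow_mul, hab,
        pow_succ, mul_assoc, div_mul_cancel₀ _ (pow_ne_zero _ h3)]
  choose! A hA using Gex
  refine ⟨⟨A, Guniq ⟨QRep.Int.one, isUnit_one, 1, fun _ => rfl, by simp⟩ (hA 1 (map_one s)),
    fun {g h} hg hh => Guniq (Gmul (hA g hg) (hA h hh)) (hA (g * h) (s_mul hg hh))⟩,
    fun k hk => (hA k hk).1, fun γ hγ β h0 hβ => ?_⟩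
  have pair : ∀ {g S S'}, ω.Int g S → ω.Int ((γ : Γ)⁻¹ * g * γ) S' →
      Function.Injective β ∧ ∃ χ : ℂ, ∀ x y, β (S x) (S' y) = χ * β x y := fun {g S S'} hS hS' =>
    form_unique ω (fun x => ω ((γ : Γ)⁻¹ * x * γ)) (· ∈ Q) hirr
      (fun x hx => ω.surj (hQ.conj_mem' x hx _)) (β' := β.compl₁₂ S S') h0 hβ fun x hx a b => by
        simp only [compl₁₂_apply]
        rw [← End.mul_apply, hS x hx, ← End.mul_apply S', hS' _ (hQ.conj_mem' x hx _),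
          End.mul_apply, End.mul_apply, ← hβ _ (hQ.conj_mem x hx g) (S a)]
        congr 3; group
  have hz : (γ : Γ)⁻¹ * z₀ * γ = z₀⁻¹ := by
    have := hc _ (inv_mem γ.2)
    rw [map_inv, hγ] at this
    simpa using this
  obtain ⟨hinj, χ, hχ⟩ := pair hT (hz ▸ hT.inv)
  have hsa : ∀ x y, β ((u : End ℂ W) x) y = β x ((u : End ℂ W) y) := by
    have h1 : ∀ x y, β ((u : End ℂ W) x) y = β x ((χ • (u : End ℂ W)) y) := fun x y => by
      rw [LinearMap.smul_apply, map_smul, smul_eq_mul, ← hχ, ← End.mul_apply, Units.inv_mul, End.one_apply]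
    have h2 := trace_eq_of_pairing hinj (flip_inj hinj) h1
    rw [map_smul, smul_eq_mul] at h2
    rwa [(mul_eq_right₀ htr0).1 h2.symm, one_smul] at h1
  have hinj₁ := inj_eigenspace hinj hn hTn hsa l
  refine ⟨fun k hk x y => ?_, fun x y => ?_⟩
  · obtain ⟨h1, h2, S₁, h3, h4⟩ := hA k hk
    obtain ⟨h1', h2', S₁', h3', h4'⟩ := hA (γ⁻¹ * k * γ) (by
      rw [Subgroup.coe_mul, Subgroup.coe_mul, Subgroup.coe_inv, s_conj]; exact hk)
    obtain ⟨-, c, hc⟩ := pair h1 h1'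
    have h5 := det_of_pairing hinj hc
    have h6 := det_of_pairing hinj₁ (S := S₁) (S' := S₁') (χ := c) fun x y => by
      simp only [compl₁₂_apply, Submodule.subtype_apply, h3, h3', hc]
    have h7 := key c (by
      rintro rfl
      exact mul_ne_zero (hdet h2) (hdet h2') (by rw [h5, zero_pow finrank_pos.ne']))
      (by rw [← h5, ← h6, mul_pow, mul_pow, h4, h4'])
    exact (hc x y).trans (by rw [h7, one_mul])
  · obtain ⟨h1, h2, S₁, h3, h4⟩ := hA (γ * γ) (s_sq s γ)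
    obtain ⟨c, hc⟩ := sign_of_flip hirr h0 hβ (T := A (γ * γ))
      (range_eq_top.1 ((isUnit_iff_range_eq_top _).1 h2)) h1
    have h5 := det_of_flip hinj hc
    have h6 := det_of_flip hinj₁ (S := S₁) (ε := c) fun x y => by
      simp only [compl₁₂_apply, Submodule.subtype_apply, h3, hc x y]
    have h7 := key c (by
      rintro rfl
      rw [zero_pow finrank_pos.ne', zero_mul] at h5
      exact zero_ne_one h5) (mul_right_cancel₀ (pow_ne_zero a (hdet h2)) (by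
        rw [← mul_pow, h5, ← h4, ← mul_pow, h6, one_pow, one_pow]))
    exact (hc x y).trans (by rw [h7])

/-- TW-2b: fully ramified normal 2-subgroup with a complement. -/
theorem TWc.of_weil [Finite Γ] (Q Z K : Subgroup Γ) [Q.Normal] (hQ2 : IsPGroup 2 Q)
    (hQs : ∀ x ∈ Q, s x = 1) (hZQ : Z ≤ Q) (hZ : ∀ z ∈ Z, ∀ g, s g = 1 → z * g = g * z)
    (μ : Γ → ℂ) (hram : ∀ x ∈ Q, x ∉ Z → ∃ y ∈ Q, x * y * x⁻¹ * y⁻¹ ∈ Z ∧ μ (x * y * x⁻¹ * y⁻¹) ≠ 1)
    (hd : ∀ g, ∃ x ∈ Q, ∃ k ∈ K, g = x * k) (z₀ : Γ) (hz₀ : z₀ ∈ K) (hs : s z₀ = 1)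
    (hc : ∀ k ∈ K, k * z₀ * k⁻¹ = z₀ ^ ((s k : ℤˣ) : ℤ)) (ho : Odd (orderOf z₀))
    (hfpf : ∀ x ∈ Q, z₀ * x * z₀⁻¹ * x⁻¹ ∈ Z → x ∈ Z) (hK : TW (s.comp K.subtype)) :
    TWc s Z μ := by
  intro γ hγ V _ _ _ _ ρ β hρ hβ
  obtain ⟨x, hx, k, hk, rfl⟩ := hd γ
  have hk' : s k = -1 := by rwa [map_mul, hQs x hx, one_mul] at hγ
  refine Iso.of_change (s_inv_mul (hγ.trans hk'.symm)) ?_
  obtain ⟨W, ω, hW, hirr, hω⟩ := exists_qrep ρ Q hQs
  have : Nontrivial W := Submodule.nontrivial_iff_ne_bot.2 hW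
  obtain ⟨A, hA, H⟩ := weil_ext Z K hQ2 hZQ hZ ω hirr μ (fun z hz => LinearMap.ext fun a =>
    Subtype.ext (by rw [← hω z (hZQ hz), hρ z hz]; rfl)) hram z₀ hs hc hfpf
  exact hom_lemma ρ hQs ω hirr W.subtype (fun h => hW (by simpa using congrArg LinearMap.range h))
    hω K.subtype (fun _ => rfl) (fun g _ => by
      obtain ⟨x, hx, k, hk, rfl⟩ := hd g
      exact ⟨x, hx, ⟨k, hk⟩, rfl⟩) A hA (γ := ⟨k, hk⟩) hk' (hβ.change (hγ.trans hk'.symm))
    (H ⟨k, hk⟩ hk') (N := ∅) (by simp) hK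

end Cfsg.Lib.Known.TW
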