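import Cfsg.Agent.Known.UCommLin
import Cfsg.Agent.Known.StarNorm
import Cfsg.Agent.Class.HermField

/-!
Factorisations `l = M⁻¹ N` in the Levi factor of a maximal isotropic subspace of a unitary space.
-/

set_option autoImplicit false

namespace Cfsg.Lib.Known.UC

open Module Polynomial CP Function

variable {K : Type*} [Field K] {V Z : Type*} [AddCommGroup V] [Module K V] [AddCommGroup Z]
  [Module K Z] {σ : K →+* K}

/-- The polynomial whose roots are the inverses of the conjugates of the roots of `p`. -/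
noncomputable def dual (σ : K →+* K) (p : K[X]) : K[X] := (p.map σ).reverse

theorem coprime_dual {p : K[X]} (hp : p.Monic)
    (h : ∀ a : AlgebraicClosure K, a ≠ 0 → aeval a p = 0 → aeval a⁻¹ (p.map σ) ≠ 0) :
    IsCoprime p (dual σ p) :=
  (isCoprime_iff_aeval_ne_zero_of_isAlgClosed K (AlgebraicClosure K) _ _).2 fun a => by
    by_cases ha : a = 0
    · simp [ha, dual, aeval_def, eval₂_at_zero, (hp.map σ).leadingCoeff]
    by_contra! k
    have := invertibleOfNonzero (inv_ne_zero ha)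
    refine h a ha k.1 ((eval₂_reverse_eq_zero_iff _ a⁻¹ _).1 ?_)
    simpa [aeval_def, dual] using k.2

theorem dual_trinomial {m d : ℕ} (h0 : 0 < d) (hd : d < m) (α : K) :
    dual σ (X ^ m + C α * X ^ d + 1) = X ^ m + C (σ α) * X ^ (m - d) + 1 := by
  have : (X ^ m + C (σ α) * X ^ d + 1 : K[X]).natDegree = m := by
    rw [add_assoc, natDegree_add_eq_left_of_degree_lt, natDegree_X_pow]
    rw [degree_X_pow]
    exact (degree_add_le _ _).trans_lt (max_lt ((degree_C_mul_X_pow_le _ _).trans_lt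
      (by exact_mod_cast hd)) (degree_one_le.trans_lt (by exact_mod_cast h0.trans hd)))
  simp only [dual, Polynomial.map_add, Polynomial.map_mul, Polynomial.map_pow, map_X, map_C,
    Polynomial.map_one, reverse, this, reflect_add, reflect_C_mul, reflect_monomial, reflect_one,
    revAt_le hd.le, revAt_le le_rfl]
  simp [add_comm, add_left_comm]

/-- `M` gives a fixed-point-free Levi element with enough determinants in its centraliser. -/
structure Gd (σ : K →+* K) (M : End K V) (p : K[X]) : Prop where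
  ann : aeval M p = 0
  cop : IsCoprime p (dual σ p)
  det : LinearMap.det M ≠ 0
  fix : finrank K V = 1 ∨ σ (LinearMap.det M) = LinearMap.det M
  cen : ∀ d : K, d ≠ 0 → ∃ b : End K V, Commute b M ∧ LinearMap.det b = d

theorem Gd.of_sim {M : End K V} {M' : End K Z} {p : K[X]} (h : Gd σ M' p) (e : Sim M M') :
    Gd σ M p :=
  ⟨(e.aeval_eq_zero_iff p).2 h.ann, h.cop, e.det_eq ▸ h.det, e.det_eq ▸ e.finrank_eq ▸ h.fix,
    fun d hd => by
      obtain ⟨b, h1, h2⟩ := h.cen d hd
      obtain ⟨b', h3, h4⟩ := e.exists_commute h1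
      exact ⟨b', h3, h4.det_eq.trans h2⟩⟩

/-- The factorisation property. -/
def Fac (σ : K →+* K) (l : End K V) : Prop := ∃ (M : End K V) (p : K[X]), Gd σ M p ∧
  (Sim (M * l) M ∨ (dual σ p).Monic ∧ Irreducible (dual σ p) ∧ aeval (M * l) (dual σ p) = 0)

theorem Fac.of_sim {l : End K V} {l' : End K Z} (h : Fac σ l') (e : Sim l l') : Fac σ l := by
  obtain ⟨M, p, h1, h2⟩ := h
  obtain ⟨e, he⟩ := e
  have a : Sim (e.symm.conj M) M := ⟨e, by simp [LinearEquiv.conj_apply]⟩
  have b : Sim (e.symm.conj M * l) (M * l') := ⟨e, by simp [LinearEquiv.conj_apply, he]⟩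
  exact ⟨_, p, h1.of_sim a, h2.imp (fun t => (b.trans t).trans a.symm) fun t =>
    ⟨t.1, t.2.1, (b.aeval_eq_zero_iff _).2 t.2.2⟩⟩

theorem fac_one (hd : finrank K V = 1) {δ : K} (h0 : δ ≠ 0) (h : σ δ * δ ≠ 1) :
    Fac σ (1 : End K V) := by
  have := finite_of_finrank_eq_succ hd
  refine ⟨δ • 1, X - C δ, ⟨by simp [Algebra.algebraMap_eq_smul_one], coprime_dual (monic_X_sub_C δ)
    fun a ha k1 k2 => h ?_, by simp [h0], .inl hd, fun d _ => ⟨d • 1, (Commute.one_left _).smul_left d, by simp [hd]⟩⟩,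
    .inl (by simpa using Sim.refl _)⟩
  simp only [Polynomial.map_sub, map_X, map_C, map_sub, aeval_X, aeval_C, sub_eq_zero] at k1 k2
  apply (algebraMap K (AlgebraicClosure K)).injective
  rw [map_mul, ← k1, ← k2, inv_mul_cancel₀ ha, map_one]

variable [FiniteDimensional K V]

theorem fac_simple (l : V ≃ₗ[K] V) (h1 : LinearMap.det l.toLinearMap = 1)
    (hl : ¬ ∃ c : K, ∀ x, l x = c • x) {m : ℕ} (hm : finrank K V = m + 1) (m0 : m ≠ 0) {δ : K}
    (h0 : δ ≠ 0) (h2 : σ δ * δ ≠ 1) (h3 : δ ^ m ≠ σ δ) (h4 : σ δ ^ m ≠ δ) (h5 : δ ^ m ≠ δ⁻¹) :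
    Fac σ l.toLinearMap := by
  obtain ⟨x, hx⟩ := exists_not_eig (g := l.toLinearMap) hl
  obtain ⟨T, z, hT, t1, t2⟩ := OC.exists_cyc' (monic_X_pow_sub_C δ⁻¹ m0) (by simp [m0, h0])
    natDegree_X_pow_sub_C
  have t3 : ∀ a, T a = δ • a → a = 0 := fun a ha => by
    have := OC.aeval_eig (f := T.toLinearMap) ha (X ^ m - C δ⁻¹)
    rw [t1] at this
    simpa [sub_eq_zero, h5] using this.symm
  let A := (LinearEquiv.smulOfNeZero K K δ h0).prodCongr T
  have hA : A.toLinearMap = LinearMap.prodMap (δ • 1) T.toLinearMap := rfl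
  have h6 : LinearMap.det A.toLinearMap = -(-1) ^ m := by
    rw [hA, LinearMap.det_prodMap, t2]; simp [m0, mul_left_comm δ, h0]
  have h7 : Cy A.toLinearMap (1, z) := hA ▸ hT.prod (LinearMap.injective_iff_surjective.1
    ((injective_iff_map_eq_zero _).2 fun a ha => t3 a (by simpa [sub_eq_zero] using ha)))
  obtain ⟨e, e', he⟩ := exists_fac_simple l hx T.symm hT.symm (by simp [hm]) A h7
    (by simp [hm, add_comm]) (δ := δ⁻¹) (fun a ha => t3 a (by
      rw [T.symm_apply_eq] at ha; nth_rewrite 2 [ha]; simp [h0])) (by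
      rw [h1, hA, LinearMap.det_prodMap, LinearEquiv.det_coe_symm]
      simp [h0, mul_mul_mul_comm _ _ δ, T.isUnit_det'.ne_zero])
  have a : Sim (e.symm.conj A.toLinearMap) A.toLinearMap := ⟨e, by simp [LinearEquiv.conj_apply]⟩
  refine ⟨_, (X - C δ) * (X ^ m - C δ⁻¹), Gd.of_sim ⟨LinearMap.ext fun v => ?_, coprime_dual
    ((monic_X_sub_C δ).mul (monic_X_pow_sub_C _ m0)) fun a ha k1 k2 => ?_, by simp [h6],
    .inr (by simp [h6]), fun d _ => ⟨LinearMap.prodMap (d • 1) 1, ?_, ?_⟩⟩ a,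
    .inl (Sim.trans ⟨e', fun v => ?_⟩ a.symm)⟩
  · rw [hA, aeval_prodMap, mul_comm, map_mul, mul_comm (X ^ m - _), map_mul, t1]
    simp [Algebra.algebraMap_eq_smul_one]
  · simp only [Polynomial.map_sub, Polynomial.map_mul, Polynomial.map_pow, map_X, map_C, map_sub,
      map_mul, map_pow, aeval_X, aeval_C, mul_eq_zero, sub_eq_zero, map_inv₀, inv_pow,
      inv_inj] at k1 k2
    have i := (algebraMap K (AlgebraicClosure K)).injective
    rcases k1 with rfl | k1 <;> rcases k2 with k2 | k2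
    · exact h2 (i (by rw [map_mul, ← k2, inv_mul_cancel₀ ha, map_one]))
    · exact h3 (i (by rw [map_pow, k2]))
    · exact h4 (i (by rw [map_pow, ← k2, inv_pow, k1, inv_inv]))
    · exact h2 (i (by rw [map_mul, ← k2, k1, inv_mul_cancel₀ (by simpa), map_one]))
  · rw [hA]
    exact LinearMap.ext fun p => by simp [mul_left_comm]
  · rw [LinearMap.det_prodMap]; simp
  · simp [LinearEquiv.conj_apply, show e (l v) = A.symm _ from he v]

theorem aeval_C2 (t d : K) : aeval (C2 t d 1) (X ^ 2 - C t * X + C d) = 0 :=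
  LinearMap.ext fun p => Prod.ext (by simp [pow_two]) (by simp [pow_two]; ring)

theorem cen_C2 [Finite K] {t d : K} (h : ∀ c : K, c ^ 2 - t * c + d ≠ 0) (e : K) :
    ∃ b : End K (K × K), Commute b (C2 t d 1) ∧ LinearMap.det b = e := by
  obtain ⟨x, y, hxy⟩ := exists_binary_quad_eq (Class.discr_ne_zero_of_anisotropic (a := t) (b := d)
    fun x y k => by
      by_cases hy : y = 0
      · simpa [hy] using k
      · exact absurd (by field_simp; linear_combination k) (h (-x / y))) e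
  exact ⟨x • 1 + y • C2 t d 1, ((Commute.one_left _).smul_left x).add_left
    ((Commute.refl _).smul_left y), by
    rw [det_two]; simp; linear_combination hxy⟩

theorem irreducible_quad {t d : K} (h : ∀ c : K, c ^ 2 - t * c + d ≠ 0) :
    Irreducible (X ^ 2 - C t * X + C d : K[X]) :=
  irreducible_of_degree_le_three_of_not_isRoot (by
    rw [show (X ^ 2 - C t * X + C d : K[X]).natDegree = 2 by compute_degree!]; simp)
    (by simpa using h)

theorem fac_quad [Finite K] (l : V ≃ₗ[K] V) (h1 : LinearMap.det l.toLinearMap = 1)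
    (hl : ¬ ∃ c : K, ∀ x, l x = c • x) {r : K[X]} (hr : r.Monic) (r0 : r.eval 0 ≠ 0)
    (hm : finrank K V = r.natDegree + 2) (m2 : 2 ≤ r.natDegree) {t d : K}
    (h : ∀ c : K, c ^ 2 - t * c + d ≠ 0) (c1 : IsCoprime (X ^ 2 - C t * X + C d) r)
    (c2 : IsCoprime ((X ^ 2 - C t * X + C d) * r) (dual σ ((X ^ 2 - C t * X + C d) * r)))
    (hσ : σ (d * r.eval 0) = d * r.eval 0) : Fac σ l.toLinearMap := by
  have d0 : d ≠ 0 := by simpa using h 0
  obtain ⟨R, z, hR, t1, t2⟩ := OC.exists_cyc' hr r0 rfl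
  set A : End K _ := (C2 t d 1).prodMap R.toLinearMap with hA
  have h6 : LinearMap.det A = d * ((-1) ^ r.natDegree * r.eval 0) := by
    rw [hA, LinearMap.det_prodMap, t2, det_two]; simp
  have G : Gd σ A ((X ^ 2 - C t * X + C d) * r) := by
    refine ⟨LinearMap.ext fun v => ?_, c2, by simp [h6, d0, r0], .inr (by
      rw [h6, mul_left_comm, map_mul, hσ]; simp), fun e _ => ?_⟩
    · rw [hA, aeval_prodMap, mul_comm, map_mul, mul_comm r, map_mul, t1, aeval_C2]
      simp
    · obtain ⟨b, b1, b2⟩ := cen_C2 h e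
      exact ⟨b.prodMap 1, LinearMap.ext fun v => Prod.ext (LinearMap.congr_fun b1.eq v.1) rfl,
        by simp [LinearMap.det_prodMap, b2]⟩
  suffices ∃ M : End K V, Sim M A ∧ Sim (M * l.toLinearMap) A by
    obtain ⟨M, a, b⟩ := this
    exact ⟨M, _, G.of_sim a, .inl (b.trans a.symm)⟩
  by_cases hk : Rk1 l.symm.toLinearMap
  swap
  · obtain ⟨M, a, b⟩ := exists_fac_gen l h1 hk R hR (by simpa using hm) (by simpa) t d0
    exact ⟨M, a.sim (aeval_C2 t d) t1 c1, (b.sim t1 (aeval_C2 t d) c1.symm).trans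
      ⟨LinearEquiv.prodComm _ _ _, fun _ => rfl⟩⟩
  obtain ⟨c, φ, x, hx⟩ : Rk1 l.toLinearMap := by
    obtain ⟨c, φ, x, hx⟩ := hk
    have c0 : c ≠ 0 := by
      rintro rfl
      obtain ⟨v, hv⟩ := exists_notMem (W := Submodule.span K {x, x})
        ((finrank_pair_le _ _).trans_lt (by omega))
      exact hv (Submodule.mem_span_pair.2 ⟨_, 0, by simpa using (hx (l v)).symm⟩)
    refine rk1_of (c := c⁻¹) (x := l x) fun v => ⟨-(c⁻¹ * φ v), ?_⟩
    have := congrArg (fun y => c⁻¹ • l y) (hx v)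
    simp only [LinearEquiv.coe_coe, l.apply_symm_apply, map_add, map_smul, smul_add,
      inv_smul_smul₀ c0] at this
    rw [this]; module
  have c0 : c ≠ 0 := by
    rintro rfl
    obtain ⟨v, hv⟩ := exists_notMem (W := Submodule.span K {x, x})
      ((finrank_pair_le _ _).trans_lt (by omega))
    exact hv (Submodule.mem_span_pair.2 ⟨_, 0, by simpa using (hx (l.symm v)).symm⟩)
  have x0 : x ≠ 0 := fun e => hl ⟨c, by simpa [e] using hx⟩
  have φ0 : φ ≠ 0 := fun e => hl ⟨c, by simpa [e] using hx⟩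
  have hd : finrank K V = finrank K ((K × K) × (Fin r.natDegree → K)) := by simp [hm, add_comm]
  by_cases hs : φ x = 0 ∧ Sim (c • A) A
  · obtain ⟨M, a, b⟩ := fac_pair hd hx (y := ((1, 0), 0)) (ψ := LinearMap.proj ⟨0, by omega⟩ ∘ₗ
      LinearMap.snd K _ _) x0 φ0 (by simp) (fun e => by
        simpa using LinearMap.congr_fun e (0, 1)) (by simp [hs.1]) A
    refine ⟨M, a, b.trans (Sim.trans ?_ hs.2)⟩
    rw [← smul_inv_smul₀ c0 (A * _)]
    refine (Ext.sim ⟨LinearMap.inl _ _ _, LinearMap.snd _ _ _, LinearMap.inl_injective,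
      Prod.snd_surjective, fun v => ⟨fun e => ⟨v.1, Prod.ext rfl e.symm⟩, ?_⟩, fun u => ?_,
      fun v => ?_⟩ (aeval_C2 t d) t1 c1).smul c
    · rintro ⟨u, rfl⟩; rfl
    · simp [hA, c0]
    · simp [hA, c0]
  have cy : Cy A ((0, 1), z) := cy_prod (fun W w1 w2 => eq_top_iff.2 fun v _ => by
    simpa using add_mem (W.smul_mem v.1 (w2 _ w1)) (W.smul_mem v.2 w1)) hR (aeval_C2 t d) t1 c1
  have := fac_rk1 hd c0 hx x0 φ0 (LinearMap.equivOfIsUnitDet G.det.isUnit) (by simpa using cy) cy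
    (by simp [h1]) (by simpa using hs)
  simpa using this

theorem exists_tau [Fintype K] (hσ : σ ≠ RingHom.id K) :
    ∃ t : K, σ t ≠ t ∧ ∀ c : K, c ^ 2 - t * c + 1 ≠ 0 := by
  classical
  by_contra! h
  let s := Finset.univ.filter fun c : K => c ≠ c⁻¹
  let t := Finset.univ.filter fun c => σ c = c
  have h1 : Finset.univ ⊆ t ∪ s.image fun c => c + c⁻¹ := fun x _ => by
    by_cases hx : σ x = x
    · simp [t, hx]
    obtain ⟨c, hc⟩ := h x hx
    have c0 : c ≠ 0 := by rintro rfl; simp at hc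
    obtain rfl : x = c + c⁻¹ := by field_simp; linear_combination -hc
    refine Finset.mem_union_right _ (Finset.mem_image_of_mem _ ?_)
    simp only [s, Finset.mem_filter, Finset.mem_univ, true_and]
    intro e
    rcases (inv_eq_self₀.1 e.symm) with rfl | rfl | rfl <;> simp at hx
  have h2 := Finset.mul_card_image_le_card (f := fun c => c + c⁻¹) s 2 fun x hx => by
    obtain ⟨c, hc, rfl⟩ := Finset.mem_image.1 hx
    simp only [s, Finset.mem_filter, Finset.mem_univ, true_and] at hc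
    exact Finset.one_lt_card.2 ⟨c, by simpa [s] using hc, c⁻¹, by
      simpa [s, add_comm] using hc.symm, hc⟩
  have h3 : s.card < Fintype.card K := Finset.card_lt_univ_of_notMem (x := 0) (by simp [s])
  obtain ⟨w, hw⟩ := DFunLike.ne_iff.1 hσ
  have h4 := Finset.card_le_univ (t.disjUnion (t.map (addRightEmbedding w)) (by
    simp only [Finset.disjoint_left, t, Finset.mem_map, Finset.mem_filter, Finset.mem_univ]
    rintro _ ⟨-, a⟩ ⟨x, ⟨-, b⟩, rfl⟩
    exact hw (by simpa [b] using a)))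
  have h5 := (Finset.card_le_card h1).trans (Finset.card_union_le _ _)
  simp only [Finset.card_disjUnion, Finset.card_map, Finset.card_univ] at h4 h5
  omega

theorem fac_big [Fintype K] (hσ : σ ≠ RingHom.id K) (hσ2 : ∀ a, σ (σ a) = a) (l : V ≃ₗ[K] V)
    (h1 : LinearMap.det l.toLinearMap = 1) (hl : ¬ ∃ c : K, ∀ x, l x = c • x)
    (h4 : 4 ≤ finrank K V) (h : finrank K V = 4 → ∃ a : K, σ a = a ∧ a ≠ 0 ∧ a ≠ 1) :
    Fac σ l.toLinearMap := by
  classical
  let L := σ.eqLocusField (RingHom.id K)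
  obtain ⟨r, r1, r2, r3, r4, -⟩ := OC.exists_gp (F := L) (m := finrank K V - 2) (by omega) fun e => by
    by_contra t
    obtain ⟨a, a1, a2, a3⟩ := h (by omega)
    have := Fintype.two_lt_card_iff.2 ⟨(⟨a, a1⟩ : L), 0, 1, fun e => a2 (congrArg Subtype.val e),
      fun e => a3 (congrArg Subtype.val e), zero_ne_one⟩
    omega
  have r5 : (r.map L.subtype).map σ = r.map L.subtype := by
    rw [Polynomial.map_map]; congr 1; exact RingHom.ext fun x => x.2
  have r6 : ∀ a : AlgebraicClosure K, a ≠ 0 → aeval a (r.map L.subtype) = 0 →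
      aeval a⁻¹ (r.map L.subtype) ≠ 0 := fun a ha k1 k2 => by
    obtain ⟨u, v, e⟩ := r3
    have := invertibleOfNonzero (inv_ne_zero ha)
    simp only [aeval_def, eval₂_map] at k1 k2
    rw [← eval₂_reverse_eq_zero_iff, invOf_eq_inv, inv_inv] at k2
    simpa [k1, k2] using congrArg (eval₂ ((algebraMap K _).comp L.subtype) a) e
  have r7 : (r.map L.subtype).eval 0 = r.eval 0 := by simp
  have r8 : σ ((r.map L.subtype).eval 0) = (r.map L.subtype).eval 0 := r7 ▸ (r.eval 0).2
  have r9 := r1.natDegree_map L.subtype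
  replace r1 := r1.map L.subtype
  replace r4 : (r.map L.subtype).eval 0 ≠ 0 := by simpa [r7] using r4
  generalize r.map L.subtype = s at *
  have k : ∀ t : K, (∀ c : K, c ^ 2 - t * c + 1 ≠ 0) → IsCoprime (X ^ 2 - C t * X + C 1) s ∧
      ∀ a : AlgebraicClosure K, a ^ 2 - algebraMap K _ t * a + 1 = 0 → aeval a s ≠ 0 := fun t ht => by
    have : IsCoprime (X ^ 2 - C t * X + C 1) s := (irreducible_quad ht).coprime_iff_not_dvd.2
      fun ⟨u, hu⟩ => by
      obtain ⟨a, ha⟩ := IsAlgClosed.exists_aeval_eq_zero (AlgebraicClosure K)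
        (X ^ 2 - C t * X + C 1 : K[X]) (degree_pos_of_irreducible (irreducible_quad ht)).ne'
      have a0 : a ≠ 0 := by rintro rfl; simp at ha
      refine r6 a a0 (by rw [hu, map_mul, ha, zero_mul]) ?_
      rw [hu, map_mul]
      refine mul_eq_zero_of_left ?_ _
      simp only [map_add, map_sub, map_mul, map_pow, aeval_X, aeval_C, map_one] at ha ⊢
      field_simp
      linear_combination ha
    refine ⟨this, fun a ha k => ?_⟩
    obtain ⟨u, v, e⟩ := this
    simpa [ha, k] using congrArg (aeval a) e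
  obtain ⟨t, t1, t2⟩ := exists_tau hσ
  have t3 : ∀ c : K, c ^ 2 - σ t * c + 1 ≠ 0 := fun c e =>
    t2 (σ c) (by simpa [hσ2] using congrArg σ e)
  refine fac_quad l h1 hl r1 r4 (by omega) (by omega) t2 (k t t2).1 (coprime_dual
    (Monic.mul (by monicity!) r1) fun a ha k1 k2 => ?_) (by simpa using r8)
  simp only [Polynomial.map_mul, r5, map_mul, mul_eq_zero, Polynomial.map_add, Polynomial.map_sub,
    Polynomial.map_pow, map_X, map_C, map_add, map_sub, map_pow, aeval_X, aeval_C, map_one,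
    Polynomial.map_one] at k1 k2
  rcases k1 with k1 | k1 <;> rcases k2 with k2 | k2
  · refine t1 ((algebraMap K (AlgebraicClosure K)).injective (mul_right_cancel₀ ha ?_))
    field_simp at k2
    linear_combination k1 - k2
  · exact (k t t2).2 a⁻¹ (by field_simp; linear_combination k1) k2
  · exact (k _ t3).2 a (by field_simp at k2; linear_combination k2) k1
  · exact r6 a ha k1 k2

theorem fac_mid [Fintype K] (hσ : σ ≠ RingHom.id K) (hσ2 : ∀ a, σ (σ a) = a) (l : V ≃ₗ[K] V)
    (h1 : LinearMap.det l.toLinearMap = 1) (hl : ¬ ∃ c : K, ∀ x, l x = c • x)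
    (hd : finrank K V = 2 ∨ finrank K V = 3) (h : ∃ a : K, σ a = a ∧ a ≠ 0 ∧ a ≠ 1) :
    Fac σ l.toLinearMap := by
  obtain ⟨q, hq, hσq⟩ := Class.Form.exists_card_eq_sq hσ hσ2
  obtain ⟨r, rfl⟩ : ∃ r, q = r + 3 := by
    obtain ⟨a, a1, a2, a3⟩ := h
    have := Class.two_le_of_card_sq hq
    refine ⟨q - 3, (Nat.sub_add_cancel (Nat.lt_of_le_of_ne this ?_)).symm⟩
    rintro rfl
    exact a3 (mul_left_cancel₀ a2 (by rw [← pow_two, ← hσq, a1, mul_one]))
  obtain ⟨δ, hδ⟩ := IsCyclic.exists_ofOrder_eq_natCard (α := Kˣ)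
  rw [Nat.card_units, Nat.card_eq_fintype_card, hq, ← orderOf_units] at hδ
  have k : ∀ i j, i < j → j ≤ r + 4 → (δ : K) ^ i ≠ δ ^ j := fun i j h1 h2 e =>
    have : (r + 3) ^ 2 = r * r + 6 * r + 9 := by ring
    h1.ne (pow_injOn_Iio_orderOf (x := (δ : K)) (Set.mem_Iio.2 (by omega))
      (Set.mem_Iio.2 (by omega)) e)
  have k' : ∀ m, m = 1 ∨ m = 2 → finrank K V = m + 1 → Fac σ l.toLinearMap := fun m hm e => by
    have := k m (r + 3) (by omega) (by omega)
    refine fac_simple l h1 hl e (by omega) δ.ne_zero ?_ (hσq _ ▸ this)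
      (fun t => this (by rw [← hσq]; simpa [hσ2] using congrArg σ t)) fun t => k 0 (m + 1) (by omega) (by omega)
        (by simp [pow_succ, t])
    rw [hσq, ← pow_succ]
    simpa using (k 0 _ (by omega) le_rfl).symm
  exact hd.elim (k' 1 (by simp)) (k' 2 (by simp))

/-! ### The field with four elements -/

/-- A model of the field with four elements. -/
abbrev K4 := QuadraticAlgebra (ZMod 2) 1 1

/-- Decoding of an element. -/
def el (n : ℕ) : K4 := ⟨(n : ZMod 2), ((n / 2 : ℕ) : ZMod 2)⟩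

/-- Decoding of a matrix. -/
def dec (k n : ℕ) : Matrix (Fin k) (Fin k) K4 := .of fun i j => el (n >>> (2 * (k * i.1 + j.1)))

/-- Killed by `X ^ 3 + X ^ d + 1`, or by `X ^ 2 + c X + 1`. -/
def An {R : Type*} [CommRing R] {k : ℕ} (c : R) (d : ℕ) (A : Matrix (Fin k) (Fin k) R) : Prop :=
  A ^ k + c • A ^ d + 1 = 0

instance {k : ℕ} (c : K4) (d : ℕ) (A : Matrix (Fin k) (Fin k) K4) : Decidable (An c d A) := by
  unfold An; infer_instance

theorem An.map {R S : Type*} [CommRing R] [CommRing S] {k : ℕ} {c : R} {d : ℕ}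
    {A : Matrix (Fin k) (Fin k) R} (h : An c d A) (ψ : R →+* S) : An (ψ c) d (A.map ψ) := by
  have := congrArg ψ.mapMatrix h
  simp only [map_add, map_pow, map_one, map_zero] at this
  rw [An, ← this, ← ψ.mapMatrix_apply A, ← map_pow ψ.mapMatrix A d]
  congr 2
  ext; simp

theorem An.aeval {k : ℕ} {c : K} {d : ℕ} {A : Matrix (Fin k) (Fin k) K} (h : An c d A) :
    aeval (Matrix.toLin' A) (X ^ k + C c * X ^ d + 1) = 0 := by
  have := congrArg Matrix.toLinAlgEquiv' h
  simp only [map_add, map_pow, map_one, map_zero, map_smul] at this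
  simpa [Algebra.algebraMap_eq_smul_one] using
    show Matrix.toLin' A ^ k + c • Matrix.toLin' A ^ d + 1 = 0 from this

theorem tab2 : ∀ a < 4, ∃ n ∈ [103, 127], An (el 2) 1 (dec 2 n) ∧
    (An (el 2) 1 (dec 2 n * !![el a, 1; 1, 0]) ∨ An (el 3) 1 (dec 2 n * !![el a, 1; 1, 0])) := by
  decide +kernel

theorem tab3 : ∀ a < 4, ∀ b < 4, ∃ n ∈ [20560, 82256, 98720, 115184, 16468, 36048, 51344, 17632,
    37072, 98768, 17584, 115088, 53392], An 1 1 (dec 3 n) ∧
    (An 1 1 (dec 3 n * !![el a, el b, 1; 1, 0, 0; 0, 1, 0]) ∨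
      An 1 2 (dec 3 n * !![el a, el b, 1; 1, 0, 0; 0, 1, 0])) := by
  decide +kernel

theorem tab3' : ∀ a < 4, el a ≠ 0 → ∃ n ∈ [20560, 17488], An 1 1 (dec 3 n) ∧
    (An 1 1 (dec 3 n * !![el a, 0, 1; 0, el a, 0; 0, 0, el a]) ∨
      An 1 2 (dec 3 n * !![el a, 0, 1; 0, el a, 0; 0, 0, el a])) := by
  decide +kernel

theorem sim_horner2 {f : End K V} {w : V} (h : Cy f w) (hd : finrank K V = 2) :
    ∃ a b : K, Sim f (Matrix.toLin' !![a, b; 1, 0]) := by
  obtain ⟨b, g, c, g0, g1, g2, g3⟩ := exists_horner h hd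
  refine ⟨c 0, c 1, b.equivFun, LinearMap.congr_fun (f := b.equivFun.toLinearMap ∘ₗ f)
    (g := Matrix.toLin' _ ∘ₗ b.equivFun.toLinearMap) (b.ext fun j => ?_)⟩
  have e0 : f (b 0) = b 1 + c 0 • b 0 := by simpa [g2, g0] using g3 0
  have e1 : f (b 1) = c 1 • b 0 := by simpa [g2, g0, g1] using g3 1
  ext i
  fin_cases j <;> fin_cases i <;> simp [e0, e1, Matrix.vecHead, Matrix.vecTail]

theorem sim_horner3 {f : End K V} {w : V} (h : Cy f w) (hd : finrank K V = 3) :
    ∃ a b c : K, Sim f (Matrix.toLin' !![a, b, c; 1, 0, 0; 0, 1, 0]) := by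
  obtain ⟨b, g, c, g0, g1, g2, g3⟩ := exists_horner h hd
  refine ⟨c 0, c 1, c 2, b.equivFun, LinearMap.congr_fun (f := b.equivFun.toLinearMap ∘ₗ f)
    (g := Matrix.toLin' _ ∘ₗ b.equivFun.toLinearMap) (b.ext fun j => ?_)⟩
  have e0 : f (b 0) = b 1 + c 0 • b 0 := by simpa [g2, g0] using g3 0
  have e1 : f (b 1) = b 2 + c 1 • b 0 := by simpa [g2, g0] using g3 1
  have e2 : f (b 2) = c 2 • b 0 := by simpa [g2, g0, g1] using g3 2
  ext i
  fin_cases j <;> fin_cases i <;> simp [e0, e1, e2, Matrix.vecHead, Matrix.vecTail]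

omit [FiniteDimensional K V] in
theorem fac_tab [FiniteDimensional K Z] {k d : ℕ} (h0 : 0 < d) (hd : d < k) {c : K} {M : End K Z}
    (G : Gd σ M (X ^ k + C c * X ^ d + 1)) (hZ : finrank K Z = k)
    (i1 : Irreducible (X ^ k + C c * X ^ d + 1 : K[X]))
    (i2 : Irreducible (X ^ k + C (σ c) * X ^ (k - d) + 1 : K[X])) {A L : Matrix (Fin k) (Fin k) K}
    (h1 : An c d A) (h2 : An c d (A * L) ∨ An (σ c) (k - d) (A * L)) :
    Fac σ (Matrix.toLin' L) := by
  have m : ∀ (c : K) (d : ℕ), d < k → (X ^ k + C c * X ^ d + 1 : K[X]).Monic := fun c d hd => by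
    rw [add_assoc]
    exact monic_X_pow_add ((degree_add_le _ _).trans_lt (max_lt ((degree_C_mul_X_pow_le _ _).trans_lt
      (by exact_mod_cast hd)) (degree_one_le.trans_lt (by exact_mod_cast pos_of_gt hd))))
  refine ⟨Matrix.toLin' A, _, G.of_sim (sim_of_aeval_irreducible (m _ _ hd) i1 h1.aeval G.ann
    (by simp [hZ])), ?_⟩
  rw [dual_trinomial h0 hd, End.mul_eq_comp, ← Matrix.toLin'_mul]
  exact h2.imp (fun t => sim_of_aeval_irreducible (m _ _ hd) i1 t.aeval h1.aeval rfl) fun t =>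
    ⟨m _ _ (by omega), i2, t.aeval⟩

/-- The field has four elements. -/
structure Four (σ : K →+* K) (w : K) : Prop where
  two : (2 : K) = 0
  w1 : σ w = w + 1
  w2 : w ^ 2 + w + 1 = 0
  nr : ∀ {P : K → Prop}, P 0 → P 1 → P w → P (w + 1) → ∀ x, P x

theorem exists_four (hσ : σ ≠ RingHom.id K) (hσ2 : ∀ a, σ (σ a) = a)
    (h : ∀ a : K, σ a = a → a ≠ 0 → a = 1) : ∃ w, Four σ w := by
  have two : (2 : K) = 0 := by linear_combination -h (-1) (by simp) (by simp)
  obtain ⟨w, hw⟩ := DFunLike.ne_iff.1 hσ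
  have tr : ∀ x, σ x ≠ x → σ x = x + 1 := fun x hx => by
    linear_combination h (x + σ x) (by simp [hσ2, add_comm]) (fun e => hx (by
      linear_combination e - x * two)) - x * two
  have w1 := tr w hw
  have w2 : w ^ 2 + w + 1 = 0 := by
    linear_combination h (σ w * w) (by simp [hσ2, mul_comm]) (by
      simp; rintro rfl; simp at hw) - w * w1 + two
  refine ⟨w, two, w1, w2, fun {P} a b c d x => ?_⟩
  by_cases hx : σ x = x
  · by_cases t : x = 0
    exacts [t ▸ a, h x hx t ▸ b]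
  · have := h (x + w) (by rw [map_add, tr x hx, w1]; linear_combination two)
    by_cases t : x + w = 0
    · exact (by linear_combination t - w * two : x = w) ▸ c
    · exact (by linear_combination this t - w * two : x = w + 1) ▸ d

theorem Four.exists_hom {w : K} (h : Four σ w) : ∃ ψ : K4 →+* K, ψ (el 2) = w ∧ ψ (el 3) = σ w ∧
    ∀ x, ∃ a < 4, ψ (el a) = x := by
  have := (CharP.charP_iff_prime_eq_zero (R := K) Nat.prime_two).2 (by exact_mod_cast h.two)
  let := ZMod.algebra K 2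
  let ψ : K4 →+* K := (QuadraticAlgebra.lift ⟨w, by
    simp only [one_smul]; linear_combination h.w2 - (w + 1) * h.two⟩).toRingHom
  have p2 : ψ (el 2) = w := by simp [ψ, el, show (2 : ZMod 2) = 0 from rfl]
  have p3 : ψ (el 3) = σ w := by simp [ψ, el, show (3 : ZMod 2) = 1 from rfl, h.w1, add_comm]
  exact ⟨ψ, p2, p3, h.nr ⟨0, by simp, map_zero ψ⟩ ⟨1, by simp, map_one ψ⟩ ⟨2, by simp, p2⟩
    ⟨3, by simp, p3.trans h.w1⟩⟩

variable [Finite K] {w : K} (h : Four σ w) (l : V ≃ₗ[K] V) (h1 : LinearMap.det l.toLinearMap = 1)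
  (hl : ¬ ∃ c : K, ∀ x, l x = c • x)
include h h1 hl

theorem fac_four2 (hd : finrank K V = 2) : Fac σ l.toLinearMap := by
  obtain ⟨ψ, p2, p3, sj⟩ := h.exists_hom
  obtain ⟨two, w1, w2, nr⟩ := h
  have := (CharP.charP_iff_prime_eq_zero (R := K) Nat.prime_two).2 (by exact_mod_cast two)
  have o : (1 : K) ≠ 0 := one_ne_zero
  obtain ⟨v, hv⟩ := cy_two hd hl
  obtain ⟨a, b, e⟩ := sim_horner2 hv hd
  obtain rfl : b = 1 := by
    have := e.det_eq
    rw [h1, LinearMap.det_toLin', Matrix.det_fin_two_of] at this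
    linear_combination this - two
  obtain ⟨a, ha, rfl⟩ := sj a
  obtain ⟨n, -, t1, t2⟩ := tab2 a ha
  have r1 : ∀ c : K, c ^ 2 - w * c + 1 ≠ 0 := nr (by grind) (by grind) (by grind) (by grind)
  have r2 : ∀ c : K, c ^ 2 - σ w * c + 1 ≠ 0 := nr (by grind) (by grind) (by grind) (by grind)
  have e1 : ∀ t : K, (X ^ 2 + C t * X ^ 1 + 1 : K[X]) = X ^ 2 - C t * X + C 1 := fun t => by
    simp [CharTwo.sub_eq_add]
  have G : Gd σ (C2 w 1 1) (X ^ 2 + C w * X ^ 1 + 1) := by
    refine ⟨by rw [e1, aeval_C2], coprime_dual (by monicity!) fun a ha k1 k2 => ?_,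
      by simp [det_two], .inr (by simp [det_two]), fun d _ => cen_C2 r1 d⟩
    simp [w1] at k1 k2
    field_simp at k2
    exact ha (by linear_combination k2 - k1)
  have t3 := t2.imp (·.map ψ) (·.map ψ)
  rw [p2, p3, Matrix.map_mul] at t3
  refine (fac_tab one_pos one_lt_two G (by simp) (by rw [e1]; exact irreducible_quad r1)
    ((e1 _).symm ▸ irreducible_quad r2 :) (p2 ▸ t1.map ψ) t3).of_sim ?_
  convert e
  ext i j
  fin_cases i <;> fin_cases j <;> simp

omit [Finite K] in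
theorem fac_four3 (hd : finrank K V = 3) : Fac σ l.toLinearMap := by
  obtain ⟨ψ, p2, p3, sj⟩ := h.exists_hom
  obtain ⟨two, w1, w2, nr⟩ := h
  have := (CharP.charP_iff_prime_eq_zero (R := K) Nat.prime_two).2 (by exact_mod_cast two)
  have o : (1 : K) ≠ 0 := one_ne_zero
  have c3 : ∀ c : K, c ≠ 0 → c ^ 3 = 1 := nr (by simp) (by simp) (by grind) (by grind)
  have i : ∀ d, d = 1 ∨ d = 2 → Irreducible (X ^ 3 + C 1 * X ^ d + 1 : K[X]) := fun d hd =>
    irreducible_of_degree_le_three_of_not_isRoot (by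
      rw [show (X ^ 3 + C 1 * X ^ d + 1 : K[X]).natDegree = 3 by
        rcases hd with rfl | rfl <;> compute_degree!]; simp) fun x => by
      by_cases hx : x = 0
      · rcases hd with rfl | rfl <;> simp [hx]
      · simpa [c3 x hx, add_right_comm, CharTwo.add_self_eq_zero] using fun t => absurd t hx
  have k : ∀ {A L : Matrix (Fin 3) (Fin 3) K4}, An 1 1 A ∧ (An 1 1 (A * L) ∨ An 1 2 (A * L)) →
      Fac σ (Matrix.toLin' (L.map ψ)) := fun {A L} t => by
    have a : An (1 : K) 1 !![0, 1, 1; 1, 0, 0; 0, 1, 0] := by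
      ext i j
      fin_cases i <;> fin_cases j <;> simp [pow_succ, CharTwo.add_self_eq_zero]
    refine fac_tab (c := 1) one_pos (by omega) ⟨a.aeval, coprime_dual (by monicity!)
      fun a ha k1 k2 => ?_, by simp [Matrix.det_fin_three], .inr (by simp [Matrix.det_fin_three]),
      fun d hd => ⟨Matrix.toLin' (!![0, 1, 1; 1, 0, 0; 0, 1, 0] + d • 1), ?_, ?_⟩⟩ (by simp)
      (i 1 (by simp)) (by simpa using i 2 (by simp)) (by simpa using t.1.map ψ)
      (by simpa [Matrix.map_mul] using t.2.imp (·.map ψ) (·.map ψ))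
    · have : (2 : AlgebraicClosure K) = 0 := by rw [← map_ofNat (algebraMap K _), two, map_zero]
      simp at k1 k2
      field_simp at k2
      grind
    · rw [map_add, map_smul, Matrix.toLin'_one]
      exact (Commute.refl _).add_left ((Commute.one_left _).smul_left d)
    · rw [LinearMap.det_toLin']
      simp [Matrix.det_fin_three]
      linear_combination c3 d hd + (1 - d) * two
  by_cases hk : Rk1 l.toLinearMap
  · obtain ⟨c, φ, x, hx⟩ := hk
    have c0 : c ≠ 0 := by
      rintro rfl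
      obtain ⟨v, hv⟩ := exists_notMem (W := Submodule.span K {x, x})
        ((finrank_pair_le _ _).trans_lt (by omega))
      exact hv (Submodule.mem_span_pair.2 ⟨_, 0, by simpa using (hx (l.symm v)).symm⟩)
    have := det_rk1 c0 hx
    rw [h1, hd, c3 c c0] at this
    obtain ⟨E, e1, e2⟩ := exists_equiv_pair (Z := Fin 3 → K) (by simp [hd]) (x := x) (φ := φ)
      (y := Pi.single 0 1) (ψ := LinearMap.proj 2) (fun e => hl ⟨c, by simpa [e] using hx⟩)
      (fun e => hl ⟨c, by simpa [e] using hx⟩) (by simp)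
      (fun e => by simpa using LinearMap.congr_fun e 1) (by simpa [c0, eq_comm] using this)
    obtain ⟨a, ha, rfl⟩ := sj c
    obtain ⟨n, -, t⟩ := tab3' a ha fun e => c0 (by simp [e])
    refine (k t).of_sim ⟨E, fun v => funext fun i => ?_⟩
    rw [hx, map_add, map_smul, map_smul, e1, ← e2]
    fin_cases i <;> simp [Matrix.mulVec, dotProduct, Fin.sum_univ_three]
  obtain ⟨v, hv⟩ := cy_three hd hk
  obtain ⟨a, b, c, e⟩ := sim_horner3 hv hd
  obtain rfl : c = 1 := by simpa [h1, Matrix.det_fin_three] using e.det_eq.symm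
  obtain ⟨a, ha, rfl⟩ := sj a
  obtain ⟨b, hb, rfl⟩ := sj b
  obtain ⟨n, -, t⟩ := tab3 a ha b hb
  refine (k t).of_sim (by convert e; ext i j; fin_cases i <;> fin_cases j <;> simp)

theorem fac_four4 (hd : finrank K V = 4) : Fac σ l.toLinearMap := by
  obtain ⟨ψ, p2, p3, sj⟩ := h.exists_hom
  obtain ⟨two, w1, w2, nr⟩ := h
  have := (CharP.charP_iff_prime_eq_zero (R := K) Nat.prime_two).2 (by exact_mod_cast two)
  have o : (1 : K) ≠ 0 := one_ne_zero
  have r1 : ∀ c : K, c ^ 2 - (w + 1) * c + (w + 1) ≠ 0 :=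
    nr (by grind) (by grind) (by grind) (by grind)
  have n : (X ^ 2 + X + C w : K[X]).natDegree = 2 := by compute_degree!
  have t : (2 : AlgebraicClosure K) = 0 := by rw [← map_ofNat (algebraMap K _), two, map_zero]
  have w3 := congrArg (algebraMap K (AlgebraicClosure K)) w2
  refine fac_quad l h1 hl (r := X ^ 2 + X + C w) (by monicity!) (by simp; grind) (by omega)
    (by omega) r1 ((isCoprime_iff_aeval_ne_zero_of_isAlgClosed K (AlgebraicClosure K) _ _).2
      fun a => ?_) (coprime_dual (Monic.mul (by monicity!) (by monicity!)) fun a ha k1 k2 => ?_)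
    (by simp [w1]; grind)
  · simp at w3 ⊢
    grind
  · simp [w1] at w3 k1 k2
    rcases k1 with k1 | k1 <;> rcases k2 with k2 | k2 <;> field_simp at k2 <;> grind

omit h in
theorem fac_of_nonscalar (hσ : σ ≠ RingHom.id K) (hσ2 : ∀ a, σ (σ a) = a)
    (hd : 2 ≤ finrank K V) : Fac σ l.toLinearMap := by
  have := Fintype.ofFinite K
  by_cases h : ∃ a : K, σ a = a ∧ a ≠ 0 ∧ a ≠ 1
  · by_cases t : 4 ≤ finrank K V
    exacts [fac_big hσ hσ2 l h1 hl t fun _ => h, fac_mid hσ hσ2 l h1 hl (by omega) h]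
  obtain ⟨w, hw⟩ := exists_four hσ hσ2 (by simpa using h)
  rcases (by omega : finrank K V = 2 ∨ finrank K V = 3 ∨ finrank K V = 4 ∨ 4 < finrank K V)
    with t | t | t | t
  exacts [fac_four2 hw l h1 hl t, fac_four3 hw l h1 hl t, fac_four4 hw l h1 hl t,
    fac_big hσ hσ2 l h1 hl t.le fun e => absurd e t.ne']

end Cfsg.Lib.Known.UC
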