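import Cfsg.Agent.Known.OCommFac
import Cfsg.Agent.Known.Cov2Base

/-!
Factorisations `l = M⁻¹ N` of an automorphism with `M`, `N` similar to the sum of a
two-dimensional block and a cyclic map.
-/

set_option autoImplicit false

namespace Cfsg.Lib.Known.UC

open Module Polynomial CP Function

variable {K : Type*} [Field K] {U V Q Z : Type*} [AddCommGroup U] [Module K U] [AddCommGroup V]
  [Module K V] [AddCommGroup Q] [Module K Q] [AddCommGroup Z] [Module K Z]

/-- `f` is an extension of `f₂` by `f₁`. -/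
def Ext (f₁ : End K U) (f : End K V) (f₂ : End K Q) : Prop :=
  ∃ (ι : U →ₗ[K] V) (π : V →ₗ[K] Q), Injective ι ∧ Surjective π ∧ (∀ v, π v = 0 ↔ ∃ u, ι u = v) ∧
    (∀ u, ι (f₁ u) = f (ι u)) ∧ ∀ v, π (f v) = f₂ (π v)

theorem Ext.det [FiniteDimensional K V] {f₁ : End K U} {f : End K V} {f₂ : End K Q}
    (h : Ext f₁ f f₂) : LinearMap.det f = LinearMap.det f₁ * LinearMap.det f₂ := by
  obtain ⟨ι, π, h1, h2, h3, h4, h5⟩ := h
  have he : LinearMap.range ι ≤ (LinearMap.range ι).comap f := by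
    rintro _ ⟨u, rfl⟩; exact ⟨_, h4 u⟩
  rw [LinearMap.det_eq_det_mul_det _ f he]
  congr 1
  · exact (Sim.det_eq ⟨LinearEquiv.ofInjective ι h1, fun v => Subtype.ext (by simpa using h4 v)⟩).symm
  · refine Sim.det_eq ⟨(Submodule.quotEquivOfEq _ _ (Submodule.ext fun v => (h3 v).symm)).trans
      (π.quotKerEquivOfSurjective h2), fun v => ?_⟩
    obtain ⟨v, rfl⟩ := Submodule.Quotient.mk_surjective _ v
    simpa using h5 v

theorem Ext.sim {f₁ : End K U} {f : End K V} {f₂ : End K Q} (h : Ext f₁ f f₂) {p q : K[X]}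
    (hp : aeval f₁ p = 0) (hq : aeval f₂ q = 0) (hc : IsCoprime p q) :
    Sim f (f₁.prodMap f₂ : End K (U × Q)) := by
  obtain ⟨ι, π, h1, h2, h3, h4, h5⟩ := h
  obtain ⟨a, b, hab⟩ := hc
  let ρ : V →ₗ[K] U := (LinearEquiv.ofInjective ι h1).symm.toLinearMap ∘ₗ
    (aeval f (b * q)).codRestrict _ fun v => (h3 _).1 (by
      rw [intertwine_aeval π h5]; simp [hq])
  have k1 : ∀ v, ι (ρ v) = aeval f (b * q) v := fun v =>
    congrArg Subtype.val ((LinearEquiv.ofInjective ι h1).apply_symm_apply _)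
  have k2 : ∀ u, ρ (ι u) = u := fun u => h1 (by
    rw [k1, ← intertwine_aeval ι h4, eq_sub_of_add_eq' hab]; simp [hp])
  refine ⟨LinearEquiv.ofBijective (ρ.prod π) ⟨(injective_iff_map_eq_zero _).2 fun v hv => ?_,
    fun z => ?_⟩, fun v => Prod.ext (h1 ?_) (h5 v)⟩
  · obtain ⟨u, rfl⟩ := (h3 v).1 (congrArg Prod.snd hv)
    rw [← k2 u, show ρ (ι u) = 0 from congrArg Prod.fst hv, map_zero]
  · obtain ⟨v, hv⟩ := h2 z.2
    exact ⟨v + ι (z.1 - ρ v), by simp [k2, hv, (h3 _).2 ⟨_, rfl⟩]⟩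
  · exact (k1 _).trans (((intertwine_aeval f (fun _ => rfl) _ v).symm.trans
      (congrArg f (k1 v).symm)).trans (h4 _).symm)

/-- `w` is a cyclic vector of `f` on `W`. -/
def CyOn (f : End K V) (W : Submodule K V) (w : V) : Prop :=
  ∀ S ≤ W, w ∈ S → (∀ z ∈ S, f z ∈ S) → W ≤ S

variable [FiniteDimensional K V] [FiniteDimensional K Z]

theorem CyOn.place {f : End K V} {W : Submodule K V} {w : V} (h : CyOn f W w)
    (hf : ∀ v ∈ W, f v ∈ W) (hw : w ∈ W) {B : End K Z} {z : Z} (hB : Cy B z)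
    (hd : finrank K W = finrank K Z) : ∃ (ξ : Dual K V) (ι : Z →ₗ[K] V) (ρ : V →ₗ[K] Z),
      (∀ z, ρ (ι z) = z) ∧ (∀ z, ι z ∈ W) ∧ (∀ v ∈ W, ι (ρ v) = v) ∧
      ∀ z, ι (B z) = f (ι z) + ξ (ι z) • w := by
  have : Cy (f.restrict hf) ⟨w, hw⟩ := fun S s1 s2 => eq_top_iff.2 fun v _ => by
    obtain ⟨u, hu, e⟩ := h (S.map W.subtype) (W.map_subtype_le S) ⟨_, s1, rfl⟩
      (by rintro _ ⟨u, hu, rfl⟩; exact ⟨_, s2 u hu, rfl⟩) v.2
    exact (Subtype.ext e : u = v) ▸ hu
  obtain ⟨ξ, e, -, he⟩ := this.place hB hd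
  obtain ⟨π, hπ⟩ := W.subtype.exists_leftInverse_of_injective W.ker_subtype
  have k : ∀ v : W, π v = v := LinearMap.congr_fun hπ
  refine ⟨ξ ∘ₗ π, W.subtype ∘ₗ e.symm.toLinearMap, e.toLinearMap ∘ₗ π, fun z => by simp [k],
    fun z => (e.symm z).2, fun v hv => by simpa using congrArg Subtype.val (k ⟨v, hv⟩), fun z => ?_⟩
  obtain ⟨z, rfl⟩ := e.surjective z
  simp [← he, k]

theorem exists_nil_cyOn {A : End K V} {W : Submodule K V} (hA : ∀ v ∈ W, A v ∈ W)
    (hi : ∀ v ∈ W, A v = 0 → v = 0) {w : V} (hw : w ∈ W) (h0 : w ≠ 0) :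
    ∃ S : End K V, (∀ v, S v ∈ W) ∧ (∃ N, ∀ v ∈ W, (S ^ N) v = 0) ∧ CyOn (A * S) W w := by
  obtain ⟨S, ⟨N, hN⟩, hS⟩ := exists_nil_cy _ rfl (A.restrict hA) ((injective_iff_map_eq_zero _).2
    fun v hv => Subtype.ext (hi v v.2 (congrArg Subtype.val hv))) ⟨w, hw⟩
    fun e => absurd (congrArg Subtype.val e) h0
  obtain ⟨π, hπ⟩ := W.subtype.exists_leftInverse_of_injective W.ker_subtype
  have k : ∀ v : W, π v = v := LinearMap.congr_fun hπ
  refine ⟨W.subtype ∘ₗ S ∘ₗ π, fun v => (S (π v)).2, ⟨N, fun v hv => ?_⟩, fun T _ t1 t2 v hv => ?_⟩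
  · have := intertwine_aeval (f := S) (g := W.subtype ∘ₗ S ∘ₗ π) W.subtype (by simp [k]) (X ^ N)
      ⟨v, hv⟩
    simpa [hN] using this.symm
  · exact (hS (T.comap W.subtype) t1 fun z hz => by simpa [k] using t2 z hz).ge
      (Submodule.mem_top (x := ⟨v, hv⟩))

theorem finrank_ker_inf {φ ψ : Dual K V} {x y : V} (h1 : φ x = 1) (h2 : ψ x = 0) (h3 : φ y = 0)
    (h4 : ψ y = 1) : finrank K ↥(LinearMap.ker φ ⊓ LinearMap.ker ψ) + 2 = finrank K V := by
  have := (φ.prod ψ).finrank_range_add_finrank_ker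
  rw [LinearMap.range_eq_top.2 fun z => ⟨z.1 • x + z.2 • y, by simp [*]⟩, LinearMap.ker_prod] at this
  simpa [add_comm] using this

/-- A two-dimensional block. -/
def C2 (t d e : K) : End K (K × K) :=
  (t • LinearMap.fst K K K + e • LinearMap.snd K K K).prod (-d • LinearMap.fst K K K)

@[simp] theorem C2_apply (t d e : K) (p : K × K) : C2 t d e p = (t * p.1 + e * p.2, -d * p.1) := rfl

theorem det_two (f : End K (K × K)) :
    LinearMap.det f = (f (1, 0)).1 * (f (0, 1)).2 - (f (0, 1)).1 * (f (1, 0)).2 := by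
  rw [← LinearMap.det_toMatrix (Basis.finTwoProd K), Matrix.det_fin_two]
  simp [LinearMap.toMatrix_apply, Basis.finTwoProd]

theorem exists_fac_two (l : V ≃ₗ[K] V) (hl : LinearMap.det l.toLinearMap = 1) {w a : V}
    {f f' g : Dual K V} (f1 : f w = 0) (f2 : f a = 0) (f3 : f (l.symm a) = 0)
    (f4 : f (l.symm w) = 1) (f5 : f (l w) ≠ 0) (k1 : f' w = 0) (k2 : f' a = 1)
    (k3 : f' (l.symm a) = 0) (k4 : f' (l.symm w) = 0) (g1 : g w = 1) (g2 : g a = 0)
    (g3 : g (l.symm a) = 0) (R : Z ≃ₗ[K] Z) {z : Z} (hR : Cy R.toLinearMap z)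
    (hd : finrank K V = finrank K Z + 2) (t : K) {d : K} (d0 : d ≠ 0) : ∃ M : End K V,
      Ext (C2 t d 1) M R.toLinearMap ∧ Ext R.toLinearMap (M * l.toLinearMap) (C2 t d 1) := by
  let P : End K V := 1 - g.smulRight w - f'.smulRight a
  have P0 : ∀ v, P v = v - g v • w - f' v • a := fun _ => rfl
  let Z₀ := LinearMap.ker g ⊓ LinearMap.ker f'
  have m0 : ∀ {v}, v ∈ Z₀ ↔ g v = 0 ∧ f' v = 0 := Iff.rfl
  have P1 : ∀ v, P v ∈ Z₀ := fun v => by simp [*]
  have P2 : ∀ v ∈ Z₀, P v = v := fun v hv => by simp [P0, m0.1 hv]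
  let Z' := Z₀ ⊓ LinearMap.ker f
  have m1 : ∀ {v}, v ∈ Z' ↔ v ∈ Z₀ ∧ f v = 0 := Iff.rfl
  set κ := f (l w) with hκ
  let π : End K V := P - (κ⁻¹ • f).smulRight (P (l w))
  have π0 : ∀ v, π v = P v - (κ⁻¹ * f v) • P (l w) := fun _ => rfl
  have fP : ∀ v, f (P v) = f v := fun v => by simp [P0, f1, f2]
  have ηP : ∀ v, f' (l.symm (P v)) = f' (l.symm v) := fun v => by simp [P0, k3, k4]
  have π1 : ∀ v, π v ∈ Z' := fun v => ⟨sub_mem (P1 _) (Z₀.smul_mem _ (P1 _)), by
    simp [π0, fP, mul_right_comm _ _ κ, f5, ← hκ]⟩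
  have π2 : ∀ v ∈ Z', π v = v := fun v hv => by simp [π0, P2 v hv.1, (m1.1 hv).2]
  let w₂ := κ • P (l a)
  have w1 : w₂ ∈ Z₀ := Z₀.smul_mem _ (P1 _)
  have w2 : f' (l.symm (π w₂)) = κ := by simp [π0, w₂, ηP, k1, k2]
  obtain ⟨S, S1, ⟨N, S2⟩, S3⟩ := exists_nil_cyOn (A := π ∘ₗ l.toLinearMap +
      (f' ∘ₗ l.toLinearMap).smulRight (π w₂)) (W := Z') (fun v _ => add_mem (π1 _)
      (Z'.smul_mem _ (π1 _))) (fun v hv h => by
    replace h : π (l v) + f' (l v) • π w₂ = 0 := h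
    have h1 : f' (l v) = 0 := by
      simpa [w2, π0 (l v), ηP, k1, (m0.1 hv.1).2, f5] using congrArg (fun x => f' (l.symm x)) h
    rw [h1, zero_smul, add_zero, π0, P0, P0, h1] at h
    replace h := congrArg l.symm h
    simp only [map_sub, map_smul, l.symm_apply_apply, map_zero] at h
    generalize κ⁻¹ * f (l v) = c at h
    have h2 := congrArg f h
    have h3 := congrArg g h
    simp only [map_sub, map_smul, map_zero, smul_eq_mul, (m1.1 hv).2, (m0.1 hv.1).1, f1, f3, f4,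
      g1, g3] at h2 h3
    obtain rfl : c = 0 := by linear_combination g (l.symm w) * h2 - h3
    simpa [show g (l v) = 0 by linear_combination -h2] using h)
    (π1 w₂) (fun e => f5 (by simpa [e] using w2.symm))
  let T : End K V := P ∘ₗ l.toLinearMap ∘ₗ S ∘ₗ π + (κ⁻¹ • f).smulRight w₂
  have T0 : ∀ v, T v = P (l (S (π v))) + (κ⁻¹ * f v) • w₂ := fun _ => rfl
  obtain ⟨ξ, ι, ρ, i1, i2, i3, i4⟩ := CyOn.place (f := T) (W := Z₀) (w := P (l w))
    (fun W _ s1 s2 v hv => by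
      have s3 : ∀ y, P y ∈ W → π y ∈ W := fun y hy => sub_mem hy (W.smul_mem _ s1)
      have s4 : π w₂ ∈ W := s3 _ (by
        simpa [T0, π0, P2 _ (P1 _), P2 _ w1, fP, ← hκ, f5] using s2 _ s1)
      have := S3 (W ⊓ Z') inf_le_right ⟨s4, π1 _⟩ (fun y hy => ⟨add_mem (s3 _ (by
        simpa [T0, π2 y hy.2, (m1.1 hy.2).2] using s2 y hy.1)) (W.smul_mem _ s4),
        add_mem (π1 _) (Z'.smul_mem _ (π1 _))⟩) (π1 v)
      simpa [π0, P2 v hv] using add_mem this.1 (W.smul_mem (κ⁻¹ * f v) s1))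
    (fun v _ => add_mem (P1 _) (Z₀.smul_mem _ w1)) (P1 _) hR.symm
    (by have := finrank_ker_inf g1 k1 g2 k2; simp only [Z₀]; omega)
  have i5 : ∀ y, f (ι (R y)) = f' (l.symm (ι y)) := fun y => by
    have := congrArg (fun x => f' (l.symm x)) (i4 (R y))
    simp [T0, ηP, w₂, k1, k2, (m0.1 (S1 _).1).2, mul_right_comm _ _ κ, f5] at this
    exact this.symm
  let η : Dual K V := (t • f' - d • f) ∘ₗ l.symm.toLinearMap
  let M : End K V := ι ∘ₗ R.toLinearMap ∘ₗ ρ ∘ₗ P + η.smulRight a + (f' + t • g).smulRight w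
  have M0 : ∀ v, M v = ι (R (ρ (P v))) + (t * f' (l.symm v) - d * f (l.symm v)) • a +
    (f' v + t * g v) • w := fun _ => rfl
  have M1 : ∀ v, f (M (l v)) = f' v := fun v => by simp [M0, i5, i3 _ (P1 _), ηP, f1, f2]
  have M2 : ∀ v, f' (M (l v)) = t * f' v - d * f v := fun v => by
    simp [M0, (m0.1 (i2 _)).2, k1, k2]
  let V' := LinearMap.ker f ⊓ LinearMap.ker f'
  have m2 : ∀ {v}, v ∈ V' ↔ f v = 0 ∧ f' v = 0 := Iff.rfl
  obtain ⟨ξ', ι', ρ', j1, j2, j3, j4⟩ := CyOn.place (f := M * l.toLinearMap) (W := V') (w := w)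
    (fun W s0 s1 s2 v hv => by
      have s3 : ∀ y ∈ Z', S y ∈ W → y ∈ W := fun y hy h => by
        have h1 := add_mem h (W.smul_mem (ξ y) s1)
        have h2 := i4 (ρ y)
        rw [i3 _ hy.1, T0, π2 y hy, (m1.1 hy).2, mul_zero, zero_smul, add_zero, ← map_smul,
          ← map_smul, ← map_add, ← map_add] at h2
        have h3 := s2 _ h1
        rw [End.mul_apply, LinearEquiv.coe_coe, M0, ← h2, i1, l.symm_apply_apply,
          (m2.1 (s0 h1)).1, (m2.1 (s0 h1)).2, add_mem_cancel_right (W.smul_mem _ s1)] at h3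
        simpa [i3 _ hy.1] using h3
      have s4 : ∀ j, ∀ y ∈ Z', (S ^ j) y ∈ W → y ∈ W := fun j => by
        induction j with
        | zero => simp
        | succ j ih => exact fun y hy h => s3 y hy (ih _ (S1 _) (by simpa [pow_succ] using h))
      have h : v - g v • w ∈ Z' := by simp [m0, m1, m2.1 hv, g1, k1, f1]
      simpa using add_mem (s4 N _ h (by rw [S2 _ h]; exact zero_mem _)) (W.smul_mem (g v) s1))
    (fun v hv => m2.2 (by simp [M1, M2, m2.1 hv])) ⟨f1, k1⟩ hR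
    (by have := finrank_ker_inf f4 k4 f2 k2; simp only [V']; omega)
  let ζ : Dual K V := ξ' ∘ₗ (1 - f.smulRight (l.symm w) - f'.smulRight a) ∘ₗ l.symm.toLinearMap
  have e1 : Ext (C2 t d (1 + ζ a)) (M + ζ.smulRight w) R.toLinearMap := by
    refine ⟨(LinearMap.toSpanSingleton K V w).coprod (LinearMap.toSpanSingleton K V a), ρ ∘ₗ P,
      (injective_iff_map_eq_zero _).2 fun p hp => Prod.ext (by simpa [g1, g2] using congrArg g hp)
        (by simpa [k1, k2] using congrArg f' hp), fun y => ⟨ι y, by simp [P2 _ (i2 _), i1]⟩,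
      fun v => ⟨fun h => ⟨(g v, f' v), ?_⟩, ?_⟩, fun p => ?_, fun v => ?_⟩
    · have := i3 _ (P1 v)
      rw [show ρ (P v) = 0 from h, map_zero, P0, sub_sub, eq_comm, sub_eq_zero] at this
      exact this.symm
    · rintro ⟨p, rfl⟩
      simp [P0, g1, g2, k1, k2]
    · have : ζ w = 0 := by simp [ζ, f4, k4]
      simp [M0, P0, g1, g2, k1, k2, k3, k4, f3, f4, this]
      module
    · simp [M0, P2 _ (i2 _), i1, P0 a, P0 w, g1, g2, k1, k2]
  have e2 : Ext R.toLinearMap ((M + ζ.smulRight w) * l.toLinearMap) (C2 t d 1) := by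
    refine ⟨ι', f'.prod (-d • f), LeftInverse.injective j1, fun p => ⟨p.1 • a - (p.2 / d) • l.symm w,
      by simp [k2, k4, f2, f4]; field_simp⟩, fun v => ⟨fun h => ⟨ρ' v, j3 v ?_⟩, ?_⟩, fun y => ?_,
      fun v => by simp [M1, M2, f1, k1, sub_eq_add_neg]⟩
    · simpa [m2, d0, and_comm] using h
    · rintro ⟨y, rfl⟩
      simp [m2.1 (j2 y)]
    · simpa [ζ, m2.1 (j2 y)] using j4 y
  have h1 := e2.det
  rw [map_mul, e1.det, hl, det_two, det_two] at h1
  have h2 : 1 + ζ a = 1 := mul_left_cancel₀ (mul_ne_zero d0 R.isUnit_det'.ne_zero) (by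
    simp at h1; linear_combination h1)
  exact ⟨_, h2 ▸ e1, e2⟩

/-- `g` differs from a scalar by a map of rank at most one. -/
def Rk1 (g : End K V) : Prop := ∃ (c : K) (φ : Dual K V) (x : V), ∀ v, g v = c • v + φ v • x

omit [FiniteDimensional K V] in
theorem rk1_of {g : End K V} {c : K} {x : V} (h : ∀ v, ∃ e : K, g v = c • v + e • x) : Rk1 g := by
  by_cases hx : x = 0
  · exact ⟨c, 0, 0, fun v => by simpa [hx] using h v⟩
  obtain ⟨ψ, h1⟩ := Projective.exists_dual_eq_one K hx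
  refine ⟨c, ψ ∘ₗ (g - c • 1), x, fun v => ?_⟩
  obtain ⟨e, he⟩ := h v
  simp [he, h1]

/-- Linear independence of four vectors. -/
def Ind4 (K : Type*) [Field K] [Module K V] (a b c d : V) : Prop :=
  ∀ α β γ δ : K, α • a + β • b + γ • c + δ • d = 0 → α = 0 ∧ β = 0 ∧ γ = 0 ∧ δ = 0

omit [FiniteDimensional K V] in
theorem finrank_pair_le (a b : V) : finrank K (Submodule.span K {a, b}) ≤ 2 := by
  classical
  have := (finrank_span_finset_le_card (R := K) ({a, b} : Finset V)).trans Finset.card_le_two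
  rwa [Set.finrank, Finset.coe_pair] at this

omit [FiniteDimensional K V] in
theorem exists_notMem {W : Submodule K V} (h : finrank K W < finrank K V) : ∃ x, x ∉ W := by
  by_contra! k
  rw [show W = ⊤ from eq_top_iff.2 fun x _ => k x, finrank_top] at h
  omega

theorem exists_scalar_mod {g : End K V} (hd : 4 ≤ finrank K V) {w : V} (hw : ∀ c : K, g w ≠ c • w)
    (h : ∀ y, ¬ Ind4 K w y (g w) (g y)) :
    ∃ c : K, ∀ v, g v - c • v ∈ Submodule.span K {w, g w} := by
  set W := Submodule.span K {w, g w}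
  have w0 : w ≠ 0 := by rintro rfl; exact hw 0 (by simp)
  have h1 : ∀ y, W.mkQ y ≠ 0 → ∃ c : K, W.mkQ (g y) = c • W.mkQ y := fun y hy => by
    have := h y
    simp only [Ind4, not_forall] at this
    obtain ⟨α, β, γ, δ, e, t⟩ := this
    have e' := congrArg W.mkQ e
    have a1 : W.mkQ w = 0 := (Submodule.Quotient.mk_eq_zero _).2 (Submodule.subset_span (by simp))
    have a2 : W.mkQ (g w) = 0 :=
      (Submodule.Quotient.mk_eq_zero _).2 (Submodule.subset_span (by simp))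
    simp only [map_add, map_smul, a1, a2, smul_zero, zero_add, add_zero, map_zero] at e'
    by_cases hδ : δ = 0
    · obtain rfl : β = 0 := by
        simpa only [hδ, zero_smul, add_zero, smul_eq_zero, hy, or_false] using e'
      by_cases hγ : γ = 0
      · simp_all
      · refine absurd (smul_right_injective V hγ ?_) (hw (-α / γ))
        simp only [smul_smul, mul_div_cancel₀ _ hγ, neg_smul]
        exact eq_neg_of_add_eq_zero_right (by simpa [hδ] using e)
    · refine ⟨-β / δ, smul_right_injective _ hδ ?_⟩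
      simp only [smul_smul, mul_div_cancel₀ _ hδ, neg_smul]
      exact eq_neg_of_add_eq_zero_right e'
  obtain ⟨s, hs⟩ := W.mkQ.exists_rightInverse_of_surjective W.range_mkQ
  replace hs : ∀ x, W.mkQ (s x) = x := LinearMap.congr_fun hs
  obtain ⟨c, hc⟩ := LinearMap.exists_eq_smul_id_of_forall_notLinearIndependent
    (f := W.mkQ ∘ₗ g ∘ₗ s) fun x hx => by
      obtain ⟨c, hc⟩ := h1 (s x) (by rw [hs]; exact hx.ne_zero 0)
      exact one_ne_zero (LinearIndependent.pair_iff.1 hx (-c) 1 (by simp [hs] at hc; simp [hc])).2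
  replace hc : ∀ x, W.mkQ (g (s x)) = c • x := LinearMap.congr_fun hc
  refine ⟨c, fun v => (Submodule.Quotient.mk_eq_zero _).1 ?_⟩
  change W.mkQ _ = 0
  by_contra t
  obtain ⟨x, hx⟩ := exists_notMem (W := Submodule.span K {W.mkQ (g v - c • v)}) (by
    have := W.finrank_quotient_add_finrank
    have h2 : finrank K W ≤ 2 := finrank_pair_le _ _
    rw [finrank_span_singleton (K := K) t]
    omega)
  obtain ⟨e, he⟩ := h1 (s x + v - s (W.mkQ v)) (by
    simp only [map_sub, map_add, hs, add_sub_cancel_right]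
    rintro rfl
    exact hx (zero_mem _))
  simp only [map_sub, map_add, hs, hc, add_sub_cancel_right] at he
  have h4 : W.mkQ (g v - c • v) = (e - c) • x := by
    rw [map_sub, map_smul, sub_smul, ← he]; abel
  refine hx (Submodule.mem_span_singleton.2 ⟨(e - c)⁻¹, ?_⟩)
  rw [h4, inv_smul_smul₀ (by rintro h; simp [h4, h] at t)]

theorem range_eq_of_not_rk1 {g : End K V} (hg : ¬ Rk1 g) {c : K} {a b : V}
    (hc : ∀ v, g v - c • v ∈ Submodule.span K {a, b}) :
    LinearMap.range (g - c • 1) = Submodule.span K {a, b} := by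
  refine Submodule.eq_of_le_of_finrank_le (by rintro _ ⟨v, rfl⟩; exact hc v)
    ((finrank_pair_le _ _).trans ?_)
  by_contra t
  obtain ⟨x, hx⟩ := finrank_le_one_iff.1 (by omega : finrank K (LinearMap.range (g - c • 1)) ≤ 1)
  refine hg (rk1_of (c := c) (x := x) fun v => ?_)
  obtain ⟨e, he⟩ := hx ⟨_, v, rfl⟩
  exact ⟨e, by simpa [eq_sub_iff_add_eq', eq_comm] using congrArg Subtype.val he⟩

omit [FiniteDimensional K V] in
theorem exists_not_eig {g : End K V} (hg : ¬ ∃ c : K, ∀ v, g v = c • v) :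
    ∃ w, ∀ c : K, g w ≠ c • w := by
  by_contra! t
  obtain ⟨c, hc⟩ := LinearMap.exists_eq_smul_id_of_forall_notLinearIndependent (f := g)
    fun v hv => by
      obtain ⟨c, hc⟩ := t v
      exact one_ne_zero (LinearIndependent.pair_iff.1 hv (-c) 1 (by simp [hc])).2
  exact hg ⟨c, by simp [hc]⟩

theorem exists_ind4 {g : End K V} (hd : 4 ≤ finrank K V) (hg : ¬ Rk1 g) :
    ∃ w y, Ind4 K w y (g w) (g y) := by
  by_contra! h
  have k : ∀ w, (∀ c : K, g w ≠ c • w) → ∃ c : K,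
      LinearMap.range (g - c • 1) = Submodule.span K {w, g w} := fun w hw =>
    (exists_scalar_mod hd hw (h w)).imp fun _ => range_eq_of_not_rk1 hg
  obtain ⟨w, hw⟩ := exists_not_eig (g := g) fun ⟨c, hc⟩ => hg ⟨c, 0, 0, by simp [hc]⟩
  obtain ⟨c, hc⟩ := k w hw
  obtain ⟨u, u1, u2⟩ : ∃ u, u ∉ LinearMap.range (g - c • 1) ∧ g u ≠ c • u := by
    by_contra! t
    obtain ⟨u, hu⟩ := exists_notMem (W := LinearMap.range (g - c • 1)) (by
      have := finrank_pair_le (K := K) w (g w)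
      rw [hc]; omega)
    have hw' : w ∈ LinearMap.range (g - c • 1) := hc ▸ Submodule.subset_span (by simp)
    exact hw c (by simpa [t u hu] using t (u + w) fun e => hu ((add_mem_cancel_right hw').1 e))
  obtain ⟨c', hc'⟩ := k u fun e he => u1 ⟨(e - c)⁻¹ • u, by
    have : e - c ≠ 0 := fun t => u2 (sub_eq_zero.1 t ▸ he)
    simp [he, ← sub_smul, this]⟩
  have cc : c' - c ≠ 0 := fun t => u1 (sub_eq_zero.1 t ▸ hc' ▸ Submodule.subset_span (by simp))
  refine h w u fun α β γ δ e => ?_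
  have li : LinearIndependent K ![w, g w, u, g u] := by
    refine linearIndependent_of_top_le_span_of_card_le_finrank (fun v _ => ?_) ?_
    · have : Submodule.span K (Set.range ![w, g w, u, g u]) =
          Submodule.span K {w, g w} ⊔ Submodule.span K {u, g u} := by
        rw [← Submodule.span_union]; congr 1; ext; simp; tauto
      rw [this, ← hc, ← hc', ← inv_smul_smul₀ cc v]
      refine Submodule.smul_mem _ _ ?_
      rw [show (c' - c) • v = (g - c • 1) v - (g - c' • 1) v by simp [sub_smul]]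
      exact sub_mem (Submodule.mem_sup_left ⟨v, rfl⟩) (Submodule.mem_sup_right ⟨v, rfl⟩)
    · simpa using hd
  have := Fintype.linearIndependent_iff.1 li ![α, γ, β, δ] (by
    rw [← e]; simp [Fin.sum_univ_four]; abel)
  exact ⟨this 0, this 2, this 1, this 3⟩

theorem exists_fac_gen (l : V ≃ₗ[K] V) (hl : LinearMap.det l.toLinearMap = 1)
    (h : ¬ Rk1 l.symm.toLinearMap) (R : Z ≃ₗ[K] Z) {z : Z} (hR : Cy R.toLinearMap z)
    (hd : finrank K V = finrank K Z + 2) (hZ : 2 ≤ finrank K Z) (t : K) {d : K} (d0 : d ≠ 0) :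
    ∃ M : End K V, Ext (C2 t d 1) M R.toLinearMap ∧
      Ext R.toLinearMap (M * l.toLinearMap) (C2 t d 1) := by
  obtain ⟨w, a, h1, h2⟩ : ∃ w a, Ind4 K w a (l.symm w) (l.symm a) ∧
      l w ∉ Submodule.span K {w, a, l.symm a} := by
    obtain ⟨w, y, h1⟩ := exists_ind4 (by omega) h
    by_cases t : l w ∈ Submodule.span K {w, y, l.symm y}
    swap
    · exact ⟨w, y, h1, t⟩
    refine ⟨w, y + w, fun α β γ δ e => ?_, fun t' => ?_⟩
    · have := h1 (α + β) β (γ + δ) δ (by rw [← e]; simp only [map_add, LinearEquiv.coe_coe]; module)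
      grind
    · obtain ⟨α, β, γ, e⟩ := Submodule.mem_span_triple.1 t
      obtain ⟨α', β', γ', e'⟩ := Submodule.mem_span_triple.1 t'
      have k := h1 (α' + β' - α) (β' - β) γ' (γ' - γ) (by
        rw [← sub_eq_zero.2 (e'.trans e.symm)]; simp only [map_add, LinearEquiv.coe_coe]; module)
      obtain rfl : γ = 0 := by grind
      have := congrArg l.symm e
      simp only [zero_smul, add_zero, map_add, map_smul, l.symm_apply_apply] at this
      exact one_ne_zero (neg_eq_zero.1 (h1 (-1) 0 α β (by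
        rw [← sub_eq_zero.2 this]; simp only [LinearEquiv.coe_coe]; module)).1)
  have k : ∀ {x a b c : V}, x ∉ Submodule.span K {a, b, c} →
      ∃ φ : Dual K V, φ x = 1 ∧ φ a = 0 ∧ φ b = 0 ∧ φ c = 0 := fun {x a b c} hx => by
    obtain ⟨φ, k1, k2⟩ := Submodule.exists_le_ker_of_notMem hx
    have : ∀ y ∈ ({a, b, c} : Set V), φ y = 0 := fun y hy => k2 (Submodule.subset_span hy)
    exact ⟨(φ x)⁻¹ • φ, by simp [k1], by simp [this]⟩
  obtain ⟨f, f1, f2⟩ := exists_dual_ne (K := K)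
    (v := (Submodule.span K {w, a, l.symm a}).mkQ (l.symm w)) (fun e => by
      obtain ⟨α, β, γ, e⟩ := Submodule.mem_span_triple.1 ((Submodule.Quotient.mk_eq_zero _).1 e)
      simpa using (h1 α β (-1) γ (by rw [← sub_eq_zero.2 e]; module)).2.2.1)
    (w := (Submodule.span K {w, a, l.symm a}).mkQ (l w))
    fun e => h2 ((Submodule.Quotient.mk_eq_zero _).1 e)
  have f3 : ∀ y ∈ ({w, a, l.symm a} : Set V), f ((Submodule.span K {w, a, l.symm a}).mkQ y) = 0 :=
    fun y hy => by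
      rw [show Submodule.mkQ _ y = 0 from (Submodule.Quotient.mk_eq_zero _).2
        (Submodule.subset_span hy), map_zero]
  obtain ⟨f', k1, k2, k3, k4⟩ := k (x := a) (a := w) (b := l.symm a) (c := l.symm w) fun e => by
    obtain ⟨α, β, γ, e⟩ := Submodule.mem_span_triple.1 e
    simpa using (h1 α (-1) γ β (by rw [← sub_eq_zero.2 e]; module)).2.1
  obtain ⟨g, g1, g2, g3, -⟩ := k (x := w) (a := a) (b := l.symm a) (c := l.symm w) fun e => by
    obtain ⟨α, β, γ, e⟩ := Submodule.mem_span_triple.1 e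
    simpa using (h1 (-1) α γ β (by rw [← sub_eq_zero.2 e]; module)).1
  exact exists_fac_two l hl (f := f ∘ₗ Submodule.mkQ _) (f3 _ (by simp)) (f3 _ (by simp))
    (f3 _ (by simp)) f1 f2 k2 k1 k3 k4 g1 g2 g3 R hR hd t d0

theorem exists_equiv_pair (hd : finrank K V = finrank K Z) {x : V} {φ : Dual K V} {y : Z}
    {ψ : Dual K Z} (hx : x ≠ 0) (hφ : φ ≠ 0) (hy : y ≠ 0) (hψ : ψ ≠ 0) (h : ψ y = φ x) :
    ∃ E : V ≃ₗ[K] Z, E x = y ∧ ∀ v, ψ (E v) = φ v := by
  have := nontrivial_of_ne _ _ hx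
  obtain ⟨m, hm⟩ := Nat.exists_eq_succ_of_ne_zero (finrank_pos (R := K) (M := V)).ne'
  obtain ⟨E, hE⟩ := exists_equiv_prod (K := K) (Z := Fin m → K) hx (by simpa using hm)
  obtain ⟨E', hE'⟩ := exists_equiv_prod (K := K) (Z := Fin m → K) hy (by simpa [← hd] using hm)
  have e : (E.trans E'.symm) x = y := by simp [hE, ← hE']
  generalize E.trans E'.symm = E at e
  obtain ⟨u, u1, u2⟩ : ∃ u, ψ (E u) = 1 ∧ φ u ≠ 0 := by
    obtain ⟨a, ha⟩ := DFunLike.ne_iff.1 hψ
    obtain ⟨a, rfl⟩ := E.surjective a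
    obtain ⟨b, hb⟩ := DFunLike.ne_iff.1 hφ
    by_cases t : φ a = 0
    · exact ⟨(ψ (E a))⁻¹ • a + b - (ψ (E b) / ψ (E a)) • a, by simp at ha; simp [ha],
        by simpa [t] using hb⟩
    · exact ⟨(ψ (E a))⁻¹ • a, by simp at ha; simp [ha], by simp at ha; simp [ha, t]⟩
  have : IsUnit (LinearMap.det (LinearMap.transvection (φ - ψ ∘ₗ E.toLinearMap) u)) := by
    simpa [LinearMap.transvection.det, u1] using u2
  exact ⟨(LinearMap.equivOfIsUnitDet this).trans E, by simp [LinearMap.transvection.apply, e, h],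
    fun v => by simp [LinearMap.transvection.apply, u1]⟩

theorem fac_pair (hd : finrank K V = finrank K Z) {l : End K V} {c : K} {x : V} {φ : Dual K V}
    (hl : ∀ v, l v = c • v + φ v • x) {y : Z} {ψ : Dual K Z} (hx : x ≠ 0) (hφ : φ ≠ 0) (hy : y ≠ 0)
    (hψ : ψ ≠ 0) (h : ψ y = φ x) (M : End K Z) :
    ∃ M' : End K V, Sim M' M ∧ Sim (M' * l) (M * (c • 1 + ψ.smulRight y)) := by
  obtain ⟨E, h1, h2⟩ := exists_equiv_pair hd hx hφ hy hψ h
  exact ⟨E.symm.conj M, ⟨E, by simp [LinearEquiv.conj_apply]⟩,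
    ⟨E, by simp [LinearEquiv.conj_apply, hl, h1, h2]⟩⟩

theorem det_rk1 {l : End K V} {c : K} (hc : c ≠ 0) {x : V} {φ : Dual K V}
    (hl : ∀ v, l v = c • v + φ v • x) :
    LinearMap.det l = c ^ finrank K V * (1 + c⁻¹ * φ x) := by
  rw [show l = c • LinearMap.transvection (c⁻¹ • φ) x from LinearMap.ext fun v => by
    simp [hl, LinearMap.transvection.apply, smul_smul, hc], LinearMap.det_smul,
    LinearMap.transvection.det]
  simp

theorem fac_rk1 (hd : finrank K V = finrank K Z) {l : End K V} {c : K} (hc : c ≠ 0) {x : V}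
    {φ : Dual K V} (hl : ∀ v, l v = c • v + φ v • x) (hx : x ≠ 0) (hφ : φ ≠ 0) (M : Z ≃ₗ[K] Z)
    {z : Z} (hM : Cy M.toLinearMap z) {B : End K Z} {z' : Z} (hB : Cy B z')
    (hdet : LinearMap.det B = LinearMap.det M.toLinearMap * LinearMap.det l)
    (h : φ x = 0 → ¬ Sim (c • M.toLinearMap) B) :
    ∃ M' : End K V, Sim M' M.toLinearMap ∧ Sim (M' * l) B := by
  have h1 : Cy (c • M.toLinearMap) z := fun W w1 w2 => hM W w1 fun v hv => by
    simpa [hc] using W.smul_mem c⁻¹ (w2 v hv)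
  obtain ⟨ξ, e, -, he⟩ := h1.place hB rfl
  have h2 : Sim (M.toLinearMap * (c • 1 + ξ.smulRight (M.symm z))) B := ⟨e, by simpa using he⟩
  have h3 := h2.det_eq
  rw [map_mul, hdet, det_rk1 hc hl, det_rk1 (φ := ξ) (x := M.symm z) hc
    (l := c • 1 + ξ.smulRight (M.symm z)) fun _ => rfl, hd] at h3
  replace h3 : ξ (M.symm z) = φ x := by simpa [hc, M.isUnit_det'.ne_zero] using h3
  have h4 : z ≠ 0 := by
    rintro rfl
    have := nontrivial_of_ne _ _ hx
    have := finrank_pos (R := K) (M := V)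
    rw [hd, ← finrank_top, ← hM ⊥ (zero_mem _) (by simp), finrank_bot] at this
    omega
  obtain ⟨M', k1, k2⟩ := fac_pair hd hl hx hφ (by simpa using h4) (by
    rintro rfl; exact h h3.symm (by simpa using h2)) h3 M.toLinearMap
  exact ⟨M', k1, k2.trans h2⟩

omit [FiniteDimensional K V] [FiniteDimensional K Z] in
theorem aeval_prodMap (f : End K V) (g : End K Z) (p : K[X]) (v : V × Z) :
    aeval (f.prodMap g : End K (V × Z)) p v = (aeval f p v.1, aeval g p v.2) :=
  Prod.ext (intertwine_aeval (LinearMap.fst K V Z) (fun _ => rfl) p v)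
    (intertwine_aeval (LinearMap.snd K V Z) (fun _ => rfl) p v)

omit [FiniteDimensional K V] [FiniteDimensional K Z] in
theorem cy_prod {f : End K V} {g : End K Z} {v : V} {z : Z} (hf : Cy f v) (hg : Cy g z)
    {p q : K[X]} (hp : aeval f p = 0) (hq : aeval g q = 0) (hc : IsCoprime p q) :
    Cy (f.prodMap g : End K (V × Z)) (v, z) := fun W w1 w2 => by
  obtain ⟨a, b, hab⟩ := hc
  have h1 := SC.aeval_mem w2 (a * p) _ w1
  have h2 : ((0, z) : V × Z) ∈ W := by
    rw [aeval_prodMap] at h1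
    nth_rewrite 2 [eq_sub_of_add_eq hab] at h1
    simpa [hp, hq] using h1
  have h3 := hf (W.comap (LinearMap.inl K V Z)) (by simpa using sub_mem w1 h2)
    fun y hy => by simpa using w2 _ hy
  have h4 := hg (W.comap (LinearMap.inr K V Z)) h2 fun y hy => by simpa using w2 _ hy
  refine eq_top_iff.2 fun y _ => ?_
  simpa using W.add_mem (h3.ge (Submodule.mem_top (x := y.1)))
    (h4.ge (Submodule.mem_top (x := y.2)))

omit [FiniteDimensional K V] in
theorem finrank_pair_eq {g : End K V} {w : V} (hw : ∀ c : K, g w ≠ c • w) :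
    finrank K (Submodule.span K {w, g w}) = 2 := by
  have : LinearIndependent K ![w, g w] := (LinearIndependent.pair_iff'
    (by rintro rfl; exact hw 0 (by simp))).2 fun c => (hw c).symm
  rw [← Matrix.range_cons_cons_empty w (g w) ![], finrank_span_eq_card this, Fintype.card_fin]

theorem cy_two {g : End K V} (hd : finrank K V = 2) (hg : ¬ ∃ c : K, ∀ v, g v = c • v) :
    ∃ w, Cy g w := by
  obtain ⟨w, hw⟩ := exists_not_eig hg
  refine ⟨w, fun W w1 w2 => eq_top_iff.2 ((Submodule.eq_top_of_finrank_eq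
    ((finrank_pair_eq hw).trans hd.symm)).ge.trans (Submodule.span_le.2 ?_))⟩
  rintro _ (rfl | rfl)
  exacts [w1, w2 _ w1]

theorem cy_three {g : End K V} (hd : finrank K V = 3) (hg : ¬ Rk1 g) : ∃ w, Cy g w := by
  obtain ⟨w, hw⟩ := exists_not_eig (g := g) fun ⟨c, hc⟩ => hg ⟨c, 0, 0, by simp [hc]⟩
  have k : ∀ (W : Submodule K V) v, w ∈ W → g w ∈ W → v ∈ W → v ∉ Submodule.span K {w, g w} →
      W = ⊤ := fun W v a b c d => Submodule.eq_top_of_finrank_eq (by
    have := Submodule.finrank_lt_finrank_of_lt (SetLike.lt_iff_le_and_exists.2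
      ⟨Submodule.span_le.2 (by rintro _ (rfl | rfl) <;> assumption), v, c, d⟩)
    have := finrank_pair_eq hw
    have := W.finrank_le
    omega)
  by_cases h : g (g w) ∈ Submodule.span K {w, g w}
  swap
  · exact ⟨w, fun W w1 w2 => k W _ w1 (w2 _ w1) (w2 _ (w2 _ w1)) h⟩
  set W := Submodule.span K {w, g w}
  have w1 : w ∈ W := Submodule.subset_span (by simp)
  have w2 : g w ∈ W := Submodule.subset_span (by simp)
  have w3 : ∀ v ∈ W, g v ∈ W := fun v hv => by
    obtain ⟨a, b, rfl⟩ := Submodule.mem_span_pair.1 hv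
    simpa using add_mem (W.smul_mem a w2) (W.smul_mem b h)
  obtain ⟨y, hy⟩ := exists_notMem (W := W) (by rw [finrank_pair_eq hw]; omega)
  have h1 : ∀ v, ∃ c : K, ∃ u ∈ W, c • y + u = v := fun v => by
    simpa [Submodule.mem_sup, Submodule.mem_span_singleton] using (k (Submodule.span K {y} ⊔ W) y
      (Submodule.mem_sup_right w1) (Submodule.mem_sup_right w2)
      (Submodule.mem_sup_left (Submodule.mem_span_singleton_self y)) hy).ge
      (Submodule.mem_top (x := v))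
  obtain ⟨c, u, hu, hc⟩ := h1 (g y)
  have h2 := range_eq_of_not_rk1 hg (c := c) (a := w) (b := g w) fun v => by
    obtain ⟨e, x, hx, rfl⟩ := h1 v
    convert add_mem (W.smul_mem e hu) (sub_mem (w3 x hx) (W.smul_mem c hx)) using 1
    rw [map_add, map_smul, ← hc]; module
  obtain ⟨v, hv⟩ := h2.ge w1
  obtain ⟨v, hv, hv'⟩ : ∃ v, g v - c • v = w ∧ v ∉ W := by
    by_cases t : v ∈ W
    swap
    · exact ⟨v, hv, t⟩
    obtain ⟨a, b, e⟩ := Submodule.mem_span_pair.1 hu
    refine ⟨v + y - a • v - b • g v, ?_, fun s => hy (by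
      simpa using sub_mem (add_mem (add_mem s (W.smul_mem b (w3 v t))) (W.smul_mem a t)) t)⟩
    simp only [map_add, map_sub, map_smul, ← hc, ← e, ← hv, LinearMap.sub_apply,
      LinearMap.smul_apply, End.one_apply]
    module
  refine ⟨v, fun S s1 s2 => ?_⟩
  have := hv ▸ sub_mem (s2 _ s1) (S.smul_mem c s1)
  exact k S v this (s2 _ this) s1 hv'

end Cfsg.Lib.Known.UC
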