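import Mathlib
import Cfsg.Agent.Class.SpCore
import Cfsg.Agent.Char.Basic

/-!
The Weil representations of `Sp_{2n}(q)`, `q` odd.
-/

namespace Cfsg.Lib.Known

open Module Cfsg.Lib.Class Cfsg.Lib.Char Matrix

theorem isIrreducible_of_commutant {G V : Type*} [Group G] [Finite G] [AddCommGroup V]
    [Module ℂ V] [Nontrivial V] (ρ : Representation ℂ G V)
    (h : ∀ T : End ℂ V, (∀ g, ρ g * T = T * ρ g) → ∃ c : ℂ, T = c • 1) : ρ.IsIrreducible := by
  have := Fintype.ofFinite G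
  refine (isIrreducible_iff ρ).mpr ⟨inferInstance, fun U hU => or_iff_not_imp_left.mpr fun h0 => ?_⟩
  obtain ⟨U', hU'⟩ := U.exists_isCompl
  set E : End ℂ V := U.subtype ∘ₗ U.projectionOnto U' hU'
  obtain ⟨c, hc⟩ := h (∑ g, ρ g * E * ρ g⁻¹) fun x => by
    rw [Finset.mul_sum, Finset.sum_mul]
    refine Fintype.sum_equiv (Equiv.mulLeft x) _ _ fun g => ?_
    simp [← mul_assoc, mul_assoc _ (ρ x⁻¹), ← map_mul ρ x⁻¹]
  obtain ⟨u, hu, hu0⟩ := (Submodule.ne_bot_iff U).mp h0
  have h1 : c • u = (Fintype.card G : ℂ) • u := by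
    have := LinearMap.congr_fun hc u
    rw [LinearMap.sum_apply, Finset.sum_congr rfl (g := fun _ => u) fun g _ => by
      simp [E, Submodule.projection_apply_of_mem_left hU' (hU g⁻¹ u hu)]] at this
    simpa [Nat.cast_smul_eq_nsmul] using this.symm
  have h2 : c ≠ 0 := smul_left_injective ℂ hu0 h1 ▸ Nat.cast_ne_zero.mpr Fintype.card_ne_zero
  refine eq_top_iff.mpr fun v _ => (U.smul_mem_iff h2).mp ?_
  have := LinearMap.congr_fun hc v
  rw [LinearMap.sum_apply] at this
  rw [← show _ = c • v from this]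
  exact U.sum_mem fun g _ => hU g _ (Subtype.prop _)

theorem trace_eq_sum_single {ι : Type*} [Fintype ι] [DecidableEq ι] (A : End ℂ (ι → ℂ)) :
    LinearMap.trace ℂ _ A = ∑ x, A (Pi.single x 1) x := by
  rw [LinearMap.trace_eq_matrix_trace ℂ (Pi.basisFun ℂ ι)]
  simp [Matrix.trace]

variable {F : Type*} [Field F] [Fintype F] [DecidableEq F] {n : ℕ} {ψ : AddChar F ℂ}

theorem sum_addChar_dotProduct (hψ : ψ ≠ 1) (y : Fin n → F) :
    ∑ b : Fin n → F, ψ (b ⬝ᵥ y) = if y = 0 then (Fintype.card F : ℂ) ^ n else 0 := by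
  split_ifs with h
  · simp [h]
  · obtain ⟨i, hi⟩ := Function.ne_iff.mp h
    obtain ⟨t, ht⟩ := AddChar.ne_one_iff.mp hψ
    refine AddChar.sum_eq_zero_of_ne_one (ψ := ψ.compAddMonoidHom
      ⟨⟨fun b => b ⬝ᵥ y, zero_dotProduct y⟩, fun a b => add_dotProduct a b y⟩)
      (AddChar.ne_one_iff.mpr ⟨Pi.single i (t / y i), ?_⟩)
    simpa [div_mul_cancel₀ t hi] using ht

/-- The Heisenberg operators. -/
noncomputable def heis (ψ : AddChar F ℂ) (v : Fin n ⊕ Fin n → F) : End ℂ ((Fin n → F) → ℂ) where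
  toFun f x := ψ (v ∘ .inl ⬝ᵥ x + 2⁻¹ * (v ∘ .inl ⬝ᵥ v ∘ .inr)) * f (x + v ∘ .inr)
  map_add' f g := by ext x; simp [mul_add]
  map_smul' c f := by ext x; simp [mul_left_comm]

omit [Fintype F] [DecidableEq F] in
theorem heis_apply (v : Fin n ⊕ Fin n → F) (f : (Fin n → F) → ℂ) (x : Fin n → F) :
    heis ψ v f x = ψ (v ∘ .inl ⬝ᵥ x + 2⁻¹ * (v ∘ .inl ⬝ᵥ v ∘ .inr)) * f (x + v ∘ .inr) := rfl

omit [Fintype F] [DecidableEq F] in
theorem heis_zero : heis ψ (0 : Fin n ⊕ Fin n → F) = 1 := by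
  ext f x
  simp [heis_apply]

omit [Fintype F] [DecidableEq F] in
theorem heis_mul (h2 : (2 : F) ≠ 0) (v w : Fin n ⊕ Fin n → F) :
    heis ψ v * heis ψ w = ψ (2⁻¹ * sympForm n F v w) • heis ψ (v + w) := by
  refine LinearMap.ext fun f => funext fun x => ?_
  have h : sympForm n F v w = w ∘ .inl ⬝ᵥ v ∘ .inr - v ∘ .inl ⬝ᵥ w ∘ .inr := by
    simp [sympForm_eq, dotProduct, mul_comm]
  simp only [End.mul_apply, heis_apply, LinearMap.smul_apply, Pi.smul_apply, smul_eq_mul,
    ← mul_assoc, ← AddChar.map_add_eq_mul, h, Pi.add_comp, add_assoc, dotProduct_add,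
    add_dotProduct]
  congr 2
  field_simp
  ring

theorem trace_heis (hψ : ψ ≠ 1) (v : Fin n ⊕ Fin n → F) :
    LinearMap.trace ℂ _ (heis ψ v) = if v = 0 then (Fintype.card F : ℂ) ^ n else 0 := by
  rw [trace_eq_sum_single]
  by_cases h : v ∘ .inr = 0
  · simp only [heis_apply, h, dotProduct_zero, mul_zero, add_zero, Pi.single_eq_same, mul_one]
    simp only [dotProduct_comm (v ∘ .inl), sum_addChar_dotProduct hψ]
    refine if_congr ⟨fun h' => ?_, fun h' => by simp [h']⟩ rfl rfl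
    ext (i | i)
    exacts [congrFun h' i, congrFun h i]
  · rw [if_neg fun h' => h (by simp [h'])]
    simp [heis_apply, h]

theorem linearIndependent_heis (h2 : (2 : F) ≠ 0) (hψ : ψ ≠ 1) :
    LinearIndependent ℂ (heis ψ (n := n)) := by
  refine Fintype.linearIndependent_iff.mpr fun c hc w => ?_
  have := congrArg (fun A => LinearMap.trace ℂ _ (heis ψ (-w) * A)) hc
  simp only [Finset.mul_sum, mul_smul_comm, heis_mul h2, map_sum, map_smul, trace_heis hψ,
    neg_add_eq_zero, smul_eq_mul, mul_ite, mul_zero, Finset.sum_ite_eq, Finset.mem_univ, if_true,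
    map_zero, mul_eq_zero, (ψ.val_isUnit _).ne_zero, false_or] at this
  exact this.resolve_right (pow_ne_zero _ (Nat.cast_ne_zero.mpr Fintype.card_ne_zero))

/-- The Heisenberg operators form a basis of the endomorphism algebra. -/
noncomputable def heisBasis (h2 : (2 : F) ≠ 0) (hψ : ψ ≠ 1) :
    Basis (Fin n ⊕ Fin n → F) ℂ (End ℂ ((Fin n → F) → ℂ)) :=
  basisOfLinearIndependentOfCardEqFinrank (linearIndependent_heis h2 hψ)
    (by simp [finrank_linearMap, pow_add])

@[simp] theorem heisBasis_apply (h2 : (2 : F) ≠ 0) (hψ : ψ ≠ 1) (v : Fin n ⊕ Fin n → F) :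
    heisBasis h2 hψ v = heis ψ v := by simp [heisBasis]

/-- The parity operator. -/
def parity (F : Type*) [Neg F] (n : ℕ) : End ℂ ((Fin n → F) → ℂ) := LinearMap.funLeft ℂ ℂ Neg.neg

omit [Fintype F] [DecidableEq F] in
@[simp] theorem parity_apply (f : (Fin n → F) → ℂ) (x : Fin n → F) :
    parity F n f x = f (-x) := rfl

omit [Fintype F] [DecidableEq F] in
theorem parity_parity (f : (Fin n → F) → ℂ) : parity F n (parity F n f) = f := by
  ext x; simp

theorem sum_heis (h2 : (2 : F) ≠ 0) (hψ : ψ ≠ 1) :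
    ∑ v, heis ψ v = (Fintype.card F : ℂ) ^ n • parity F n := by
  refine LinearMap.ext fun f => funext fun x => ?_
  rw [LinearMap.sum_apply, Finset.sum_apply,
    ← (Equiv.sumArrowEquivProdArrow _ _ _).symm.sum_comp, Fintype.sum_prod_type_right]
  have h : ∀ a : Fin n → F, x + (2⁻¹ : F) • a = 0 ↔ -x - x = a := fun a => by
    rw [← smul_right_inj h2 (m₁ := x + _), smul_add, smul_inv_smul₀ h2, smul_zero, two_smul,
      add_eq_zero_iff_neg_eq, neg_add']
  simp only [heis_apply, Equiv.sumArrowEquivProdArrow, Equiv.coe_fn_symm_mk, Sum.elim_comp_inl,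
    Sum.elim_comp_inr, ← Finset.sum_mul, ← smul_eq_mul (2⁻¹ : F), ← dotProduct_smul,
    ← dotProduct_add, sum_addChar_dotProduct hψ, h, ite_mul, zero_mul, Finset.sum_ite_eq,
    Finset.mem_univ, if_true]
  simp

theorem trace_parity (h2 : (2 : F) ≠ 0) : LinearMap.trace ℂ _ (parity F n) = 1 := by
  have h : ∀ x : Fin n → F, -x = x ↔ x = 0 := fun x => by
    rw [neg_eq_iff_add_eq_zero, ← two_smul F, smul_eq_zero_iff_right h2]
  simp [trace_eq_sum_single, Pi.single_apply, h]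

/-- The even (`ε = 1`) and odd (`ε = -1`) functions. -/
abbrev WeilSp (F : Type*) [Neg F] (n : ℕ) (ε : ℤˣ) : Submodule ℂ ((Fin n → F) → ℂ) :=
  (parity F n).eigenspace ((ε : ℤ) : ℂ)

/-- The projection onto the even or odd functions. -/
noncomputable def weilProj (F : Type*) [Field F] (n : ℕ) (ε : ℤˣ) :
    ((Fin n → F) → ℂ) →ₗ[ℂ] WeilSp F n ε :=
  LinearMap.codRestrict _ ((2⁻¹ : ℂ) • (1 + ((ε : ℤ) : ℂ) • parity F n)) fun f => by
    rw [End.mem_eigenspace_iff]
    rcases Int.units_eq_one_or ε with rfl | rfl <;> simp [parity_parity, add_comm]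

omit [Fintype F] [DecidableEq F] in
theorem coe_weilProj (ε : ℤˣ) (f : (Fin n → F) → ℂ) :
    (weilProj F n ε f : (Fin n → F) → ℂ) = (2⁻¹ : ℂ) • (f + ((ε : ℤ) : ℂ) • parity F n f) := rfl

omit [Fintype F] [DecidableEq F] in
theorem weilProj_coe {ε : ℤˣ} (f : WeilSp F n ε) : weilProj F n ε f = f := Subtype.ext <| by
  rw [coe_weilProj, End.mem_eigenspace_iff.mp f.2, smul_smul, ← Int.cast_mul, ← Units.val_mul,
    Int.units_mul_self, Units.val_one, Int.cast_one, one_smul, ← two_smul ℂ, smul_smul]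
  simp

theorem two_mul_finrank_weilSp (h2 : (2 : F) ≠ 0) (ε : ℤˣ) :
    (2 * finrank ℂ (WeilSp F n ε) : ℤ) = Fintype.card F ^ n + ε := by
  have h : LinearMap.IsProj (WeilSp F n ε) ((2⁻¹ : ℂ) • (1 + ((ε : ℤ) : ℂ) • parity F n)) :=
    ⟨fun f => (weilProj F n ε f).2, fun f hf => congrArg Subtype.val (weilProj_coe ⟨f, hf⟩)⟩
  have := h.trace
  rw [map_smul, map_add, map_smul, trace_parity h2, LinearMap.trace_one] at this
  apply Int.cast_injective (α := ℂ)
  push_cast
  rw [← this]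
  simp

/-- Restriction to the even or odd functions. -/
noncomputable def weilRes (ε : ℤˣ) (T : End ℂ ((Fin n → F) → ℂ)) : End ℂ (WeilSp F n ε) :=
  weilProj F n ε ∘ₗ T ∘ₗ Submodule.subtype _

omit [Fintype F] [DecidableEq F] in
theorem coe_weilRes {ε : ℤˣ} {T : End ℂ ((Fin n → F) → ℂ)} (h : Commute T (parity F n))
    (f : WeilSp F n ε) : (weilRes ε T f : (Fin n → F) → ℂ) = T f :=
  congrArg Subtype.val (weilProj_coe ⟨T f, End.mem_eigenspace_iff.mpr (by
    rw [← End.mul_apply, ← h.eq, End.mul_apply, End.mem_eigenspace_iff.mp f.2, map_smul])⟩)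

omit [Fintype F] [DecidableEq F] in
theorem weilRes_one (ε : ℤˣ) : weilRes ε (1 : End ℂ ((Fin n → F) → ℂ)) = 1 :=
  LinearMap.ext weilProj_coe

omit [Fintype F] [DecidableEq F] in
theorem weilRes_mul (ε : ℤˣ) (S : End ℂ ((Fin n → F) → ℂ)) {T : End ℂ ((Fin n → F) → ℂ)}
    (h : Commute T (parity F n)) : weilRes ε (S * T) = weilRes ε S * weilRes ε T :=
  LinearMap.ext fun f => congrArg (fun x => weilProj F n ε (S x)) (coe_weilRes h f).symm

omit [Fintype F] [DecidableEq F] in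
theorem weilRes_smul (ε : ℤˣ) (c : ℂ) (T : End ℂ ((Fin n → F) → ℂ)) :
    weilRes ε (c • T) = c • weilRes ε T := LinearMap.ext fun f => by simp [weilRes]

omit [Fintype F] [DecidableEq F] in
theorem det_weilRes_ne_zero (ε : ℤˣ) {T : End ℂ ((Fin n → F) → ℂ)} (hT : IsUnit T)
    (h : Commute T (parity F n)) : LinearMap.det (weilRes ε T) ≠ 0 := by
  obtain ⟨T, rfl⟩ := hT
  have := weilRes_mul ε (↑T⁻¹) h
  rw [Units.inv_mul, weilRes_one] at this
  exact right_ne_zero_of_mul_eq_one (by rw [← map_mul, ← this, map_one])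

/-- `T` implements the symplectic map `g`, with normalised determinant. -/
def WeilImpl (ψ : AddChar F ℂ) (g : SpB (sympBilin n F)) (T : End ℂ ((Fin n → F) → ℂ)) : Prop :=
  IsUnit T ∧ (∀ v, T * heis ψ v = heis ψ (g.1 v) * T) ∧
    LinearMap.det (weilRes 1 T) = LinearMap.det (weilRes (-1) T)

theorem commute_parity (h2 : (2 : F) ≠ 0) (hψ : ψ ≠ 1) {g : SpB (sympBilin n F)}
    {T : End ℂ ((Fin n → F) → ℂ)} (h : ∀ v, T * heis ψ v = heis ψ (g.1 v) * T) :
    Commute T (parity F n) := by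
  refine smul_right_injective _ (pow_ne_zero n (Nat.cast_ne_zero.mpr
    (Fintype.card_ne_zero (α := F)) : (Fintype.card F : ℂ) ≠ 0)) ?_
  beta_reduce
  rw [← mul_smul_comm, ← smul_mul_assoc, ← sum_heis h2 hψ, Finset.mul_sum, Finset.sum_mul]
  exact Fintype.sum_equiv g.1.toEquiv _ _ h

theorem finrank_weilSp_one (h2 : (2 : F) ≠ 0) :
    finrank ℂ (WeilSp F n 1) = finrank ℂ (WeilSp F n (-1)) + 1 := by
  have h1 := two_mul_finrank_weilSp (n := n) h2 1
  have h3 := two_mul_finrank_weilSp (n := n) h2 (-1)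
  simp only [Units.val_one, Units.val_neg] at h1 h3
  omega

theorem finrank_weilSp_neg_one (h2 : (2 : F) ≠ 0) :
    finrank ℂ (WeilSp F n (-1)) = (Fintype.card F ^ n - 1) / 2 := by
  have h3 := two_mul_finrank_weilSp (n := n) h2 (-1)
  rw [← Nat.cast_pow, Units.val_neg, Units.val_one] at h3
  omega

theorem existsUnique_weilImpl (h2 : (2 : F) ≠ 0) (hψ : ψ ≠ 1) (g : SpB (sympBilin n F)) :
    ∃! T, WeilImpl ψ g T := by
  have hg : ∀ u v, sympForm n F (g.1 u) (g.1 v) = sympForm n F u v := fun u v => by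
    simpa using g.2 u v
  set b := heisBasis (n := n) h2 hψ
  have hb : ∀ v, b.equiv b g.1.toEquiv (heis ψ v) = heis ψ (g.1 v) := fun v => by
    rw [← heisBasis_apply h2 hψ, Basis.equiv_apply, heisBasis_apply]; rfl
  obtain ⟨T, hT⟩ := (AlgEquiv.ofLinearEquiv (b.equiv b g.1.toEquiv)
    (by rw [← heis_zero (ψ := ψ), hb, map_zero]) ((LinearMap.map_mul_iff
      (b.equiv b g.1.toEquiv).toLinearMap).mpr (b.ext fun u => b.ext fun v => by
        simp [b, hb, heis_mul h2, hg]))).eq_linearEquivConjAlgEquiv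
  have h1 : ∀ v, (T : End ℂ _) * heis ψ v = heis ψ (g.1 v) * (T : End ℂ _) := fun v => by
    rw [← hb, show b.equiv b g.1.toEquiv (heis ψ v) = _ from DFunLike.congr_fun hT (heis ψ v)]
    exact LinearMap.ext fun f => by simp [LinearEquiv.conjAlgEquiv_apply]
  have hu : IsUnit (T : End ℂ ((Fin n → F) → ℂ)) := (End.isUnit_iff _).mpr T.bijective
  generalize (T : End ℂ ((Fin n → F) → ℂ)) = T at h1 hu
  have a := det_weilRes_ne_zero 1 hu (commute_parity h2 hψ h1)
  have a' := det_weilRes_ne_zero (-1) hu (commute_parity h2 hψ h1)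
  have key : ∀ c : ℂ, c ≠ 0 → (LinearMap.det (weilRes 1 (c • T)) =
      LinearMap.det (weilRes (-1) (c • T)) ↔ c = LinearMap.det (weilRes (-1) T) /
        LinearMap.det (weilRes 1 T)) := fun c hc => by
    rw [weilRes_smul, weilRes_smul, LinearMap.det_smul, LinearMap.det_smul, finrank_weilSp_one h2,
      pow_succ, mul_assoc, mul_right_inj' (pow_ne_zero _ hc), eq_div_iff a]
  have hc := div_ne_zero a' a
  refine ⟨_, ⟨hu.smul (Units.mk0 _ hc), fun v => by rw [smul_mul_assoc, h1, mul_smul_comm],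
    (key _ hc).mpr rfl⟩, fun S ⟨s1, s2, s3⟩ => ?_⟩
  obtain ⟨U, hU⟩ := hu
  obtain ⟨c, h3⟩ := (Algebra.IsCentral.mem_center_iff ℂ).mp
    (show S * ↑U⁻¹ ∈ Subalgebra.center ℂ (End ℂ ((Fin n → F) → ℂ)) from
      Subalgebra.mem_center_iff.mpr fun A => LinearMap.congr_fun (b.ext (f₁ := .mulRight ℂ _)
        (f₂ := .mulLeft ℂ _) fun v => by
          obtain ⟨v, rfl⟩ := g.1.surjective v
          rw [LinearMap.mulRight_apply, LinearMap.mulLeft_apply, heisBasis_apply, ← mul_assoc,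
            ← s2, mul_assoc, mul_assoc, (Units.mul_inv_eq_iff_eq_mul U).mpr]
          rw [mul_assoc, hU, ← h1, ← hU, Units.inv_mul_cancel_left]) A)
  rw [Units.mul_inv_eq_iff_eq_mul, hU, Algebra.algebraMap_eq_smul_one, smul_mul_assoc,
    one_mul] at h3
  subst h3
  exact congrArg (· • T) ((key c (by rintro rfl; simp at s1)).mp s3)

/-- The Weil representation of degree `q ^ n`. -/
noncomputable def weil (h2 : (2 : F) ≠ 0) (hψ : ψ ≠ 1) :
    Representation ℂ (SpB (sympBilin n F)) ((Fin n → F) → ℂ) where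
  toFun g := (existsUnique_weilImpl h2 hψ g).choose
  map_one' := (existsUnique_weilImpl h2 hψ 1).unique (existsUnique_weilImpl h2 hψ 1).choose_spec.1
    ⟨isUnit_one, fun v => by simp, by change LinearMap.det (weilRes 1 1) = _; simp [weilRes_one]⟩
  map_mul' g h := by
    obtain ⟨a1, a2, a3⟩ := (existsUnique_weilImpl h2 hψ g).choose_spec.1
    obtain ⟨b1, b2, b3⟩ := (existsUnique_weilImpl h2 hψ h).choose_spec.1
    refine (existsUnique_weilImpl h2 hψ (g * h)).unique
      (existsUnique_weilImpl h2 hψ (g * h)).choose_spec.1 ⟨a1.mul b1, fun v => ?_, ?_⟩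
    · rw [mul_assoc, b2, ← mul_assoc, a2, mul_assoc]; rfl
    · rw [weilRes_mul _ _ (commute_parity h2 hψ b2), weilRes_mul _ _ (commute_parity h2 hψ b2),
        map_mul, map_mul, a3, b3]

theorem weil_mul_heis (h2 : (2 : F) ≠ 0) (hψ : ψ ≠ 1) (g : SpB (sympBilin n F))
    (v : Fin n ⊕ Fin n → F) : weil h2 hψ g * heis ψ v = heis ψ (g.1 v) * weil h2 hψ g :=
  (existsUnique_weilImpl h2 hψ g).choose_spec.1.2.1 v

theorem weil_commute_parity (h2 : (2 : F) ≠ 0) (hψ : ψ ≠ 1) (g : SpB (sympBilin n F)) :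
    Commute (weil h2 hψ g) (parity F n) := commute_parity h2 hψ (weil_mul_heis h2 hψ g)

theorem weil_commutant (h2 : (2 : F) ≠ 0) (hψ : ψ ≠ 1) {A : End ℂ ((Fin n → F) → ℂ)}
    (h : ∀ g, weil h2 hψ g * A = A * weil h2 hψ g) : ∃ a b : ℂ, A = a • 1 + b • parity F n := by
  set b := heisBasis (n := n) h2 hψ
  have h1 : ∀ (g : SpB (sympBilin n F)) v, b.repr A (g.1 v) = b.repr A v := fun g v => by
    have h3 := h g
    nth_rewrite 1 [← b.sum_repr A] at h3
    simp only [Finset.mul_sum, mul_smul_comm, b, heisBasis_apply, weil_mul_heis,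
      ← smul_mul_assoc, ← Finset.sum_mul] at h3
    have h4 := congrArg (fun B => b.repr B (g.1 v))
      (((weil h2 hψ).toHomUnits g).isUnit.mul_left_injective h3)
    have h5 : ∀ w, b.repr (heis ψ w) = Finsupp.single w 1 := fun w => by
      rw [← heisBasis_apply h2 hψ, Basis.repr_self]
    simpa [h5, Finsupp.single_apply] using h4.symm
  obtain ⟨c, hc⟩ : ∃ c, ∀ v ≠ 0, b.repr A v = c := by
    by_cases h0 : ∃ w : Fin n ⊕ Fin n → F, w ≠ 0
    · obtain ⟨w, hw⟩ := h0
      refine ⟨b.repr A w, fun v hv => ?_⟩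
      obtain ⟨g, hg, rfl⟩ := SpB_exists_apply_eq (sympBilin_nondegenerate n) (sympBilin_isAlt n) hw hv
      exact h1 ⟨g, hg⟩ w
    · exact ⟨0, fun v hv => absurd ⟨v, hv⟩ h0⟩
  refine ⟨b.repr A 0 - c, c * Fintype.card F ^ n, ?_⟩
  rw [mul_smul, ← sum_heis h2 hψ, Finset.smul_sum, ← heis_zero (ψ := ψ)]
  nth_rewrite 1 [← b.sum_repr A]
  rw [← Finset.add_sum_erase _ _ (Finset.mem_univ 0), ← Finset.add_sum_erase _ _ (Finset.mem_univ 0),
    ← add_assoc, ← add_smul, sub_add_cancel, heisBasis_apply]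
  exact congrArg _ (Finset.sum_congr rfl fun v hv => by
    rw [hc v (Finset.ne_of_mem_erase hv), heisBasis_apply])

/-- The even and odd Weil representations. -/
noncomputable def weilPart (h2 : (2 : F) ≠ 0) (hψ : ψ ≠ 1) (ε : ℤˣ) :
    Representation ℂ (SpB (sympBilin n F)) (WeilSp F n ε) where
  toFun g := weilRes ε (weil h2 hψ g)
  map_one' := by rw [map_one, weilRes_one]
  map_mul' g h := by rw [map_mul, weilRes_mul _ _ (weil_commute_parity h2 hψ h)]

theorem weilPart_isIrreducible (h2 : (2 : F) ≠ 0) (hψ : ψ ≠ 1) (ε : ℤˣ)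
    [Nontrivial (WeilSp F n ε)] : (weilPart (n := n) h2 hψ ε).IsIrreducible := by
  have : Finite (SpB (sympBilin n F)) := Finite.of_equiv _ (spEquivSpB n F).toEquiv
  refine isIrreducible_of_commutant _ fun T hT => ?_
  obtain ⟨a, b, h⟩ := weil_commutant h2 hψ (A := Submodule.subtype _ ∘ₗ T ∘ₗ weilProj F n ε)
    fun g => LinearMap.ext fun f => by
      have hc := weil_commute_parity h2 hψ g
      have h1 : weilProj F n ε (weil h2 hψ g f) = weilPart h2 hψ ε g (weilProj F n ε f) :=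
        Subtype.ext (by
          rw [show weilPart h2 hψ ε g = weilRes ε (weil h2 hψ g) from rfl, coe_weilRes hc,
            coe_weilProj, coe_weilProj, map_smul, map_add, map_smul, ← End.mul_apply, ← hc.eq,
            End.mul_apply])
      simp only [End.mul_apply, LinearMap.comp_apply, h1, Submodule.subtype_apply]
      rw [← End.mul_apply T, ← hT, End.mul_apply]
      exact (coe_weilRes hc _).symm
  refine ⟨a + b * (ε : ℤ), LinearMap.ext fun f => Subtype.ext ?_⟩
  have := LinearMap.congr_fun h f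
  simp only [LinearMap.comp_apply, weilProj_coe, Submodule.subtype_apply, LinearMap.add_apply,
    LinearMap.smul_apply, End.one_apply, End.mem_eigenspace_iff.mp f.2] at this
  simp [this, add_smul, mul_smul]

end Cfsg.Lib.Known
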