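import Cfsg.Agent.Chev.TorCert
import Cfsg.Agent.Chev.WeylSum
/-!
# Kernel enumeration of a Weyl group; annihilating polynomials of twisted tori
-/
set_option autoImplicit false
set_option linter.unusedSectionVars false

namespace Cfsg.Lib.Known.WE

open Cfsg.Lib.Chev

/-- Evaluate a natural number before passing it on. -/
noncomputable def forceN (k : ℕ) (f : ℕ → Bool) : Bool :=
  Nat.rec (f 0) (fun p _ => f (Nat.succ p)) k

/-- Evaluate an integer before passing it on. -/
noncomputable def forceZ (z : ℤ) (f : ℤ → Bool) : Bool :=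
  Int.rec (fun k => forceN k fun k => f (Int.ofNat k))
    (fun k => forceN k fun k => f (Int.negSucc k)) z

/-- Evaluate a vector before passing it on. -/
noncomputable def forceL (v : List ℤ) : (List ℤ → Bool) → Bool :=
  List.rec (fun f => f []) (fun a _ ih f => forceZ a fun a => ih fun t => f (a :: t)) v

/-- Evaluate a matrix before passing it on. -/
noncomputable def forceM (M : List (List ℤ)) : (List (List ℤ) → Bool) → Bool :=
  List.rec (fun f => f []) (fun a _ ih f => forceL a fun a => ih fun t => f (a :: t)) M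

theorem forceN_eq_1' : type_of% @forceN.eq_1 := @forceN.eq_1
theorem forceZ_eq_1' : type_of% @forceZ.eq_1 := @forceZ.eq_1
theorem forceL_eq_1' : type_of% @forceL.eq_1 := @forceL.eq_1
theorem forceM_eq_1' : type_of% @forceM.eq_1 := @forceM.eq_1

theorem forceN_eq (k : ℕ) (f : ℕ → Bool) : forceN k f = f k := by cases k <;> rfl

theorem forceZ_eq (z : ℤ) (f : ℤ → Bool) : forceZ z f = f z := by
  cases z with
  | ofNat k => exact forceN_eq k fun k => f (Int.ofNat k)
  | negSucc k => exact forceN_eq k fun k => f (Int.negSucc k)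

theorem forceL_eq (v : List ℤ) (f : List ℤ → Bool) : forceL v f = f v := by
  induction v generalizing f with
  | nil => rfl
  | cons a v ih => exact (forceZ_eq a fun a => forceL v fun t => f (a :: t)).trans (ih _)

theorem forceM_eq (M : List (List ℤ)) (f : List (List ℤ) → Bool) : forceM M f = f M := by
  induction M generalizing f with
  | nil => rfl
  | cons a v ih => exact (forceL_eq a fun a => forceM v fun t => f (a :: t)).trans (ih _)

/-- Walk through the Weyl group along canonical ascents, testing `good` on every matrix. -/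
noncomputable def treeChk {l : ℕ} (CL : List (List ℤ)) (good : List (List ℤ) → Bool) (m : ℕ) :
    List ℤ → List (List ℤ) → Bool :=
  Nat.rec (fun _ _ => false) (fun _ ih μ M => good M && (List.finRange l).all fun i =>
    !decide (0 < evL μ i) || forceL (sreflL CL i μ) fun ν =>
      !(((List.finRange l).find? fun j => decide (evL ν j < 0)) == some i) ||
      forceM (M.map (sreflL CL i)) fun N => ih ν N) m

/-- Matrix times vector. -/
def mulL (M : List (List ℤ)) (v : List ℤ) : List ℤ := M.map fun row => dotL row v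

/-- The value of the polynomial `P` in `M` on the vector `v`. -/
def hornerL (M : List (List ℤ)) (P : List ℤ) (v : List ℤ) : List ℤ :=
  P.foldr (fun a acc => List.zipWith (fun x y => a * x + y) v (mulL M acc)) (v.map fun _ => 0)

/-- Strict version of `hornerL`. -/
noncomputable def hornerK (M : List (List ℤ)) (P : List ℤ) (v : List ℤ) :
    (List ℤ → Bool) → Bool :=
  List.rec (fun f => f (v.map fun _ => 0)) (fun a _ ih f => ih fun acc =>
    forceL (List.zipWith (fun x y => a * x + y) v (mulL M acc)) f) P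

theorem hornerK_eq_1' : type_of% @hornerK.eq_1 := @hornerK.eq_1

theorem hornerK_eq (M : List (List ℤ)) (P : List ℤ) (v : List ℤ) (f : List ℤ → Bool) :
    hornerK M P v f = f (hornerL M P v) := by
  induction P generalizing f with
  | nil => rfl
  | cons a P ih => exact (ih _).trans (forceL_eq _ _)

/-- The polynomial `P` annihilates `M`. -/
noncomputable def annChk (l : ℕ) (M : List (List ℤ)) (P : List ℤ) : Bool :=
  (List.finRange l).all fun i => forceL (omegaL i) fun v =>
    hornerK M P v fun x => x == List.replicate l 0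

/-- The identity matrix. -/
def idL (l : ℕ) : List (List ℤ) := (List.finRange l).map omegaL

/-- The matrix attached to a word. -/
def matL {l : ℕ} (CL : List (List ℤ)) (ω : List (Fin l)) : List (List ℤ) :=
  (idL l).map (actL CL ω)

theorem treeChk_eq_1' : type_of% @treeChk.eq_1 := @treeChk.eq_1
theorem mulL_eq_1' : type_of% @mulL.eq_1 := @mulL.eq_1
theorem hornerL_eq_1' : type_of% @hornerL.eq_1 := @hornerL.eq_1
theorem annChk_eq_1' : type_of% @annChk.eq_1 := @annChk.eq_1
theorem idL_eq_1' : type_of% @idL.eq_1 := @idL.eq_1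
theorem matL_eq_1' : type_of% @matL.eq_1 := @matL.eq_1

variable {l : ℕ} {X : Type} [DecidableEq X] (R : WeylData (Fin l) X) {CL : List (List ℤ)}

/-- The matrix of `w⁻¹` on the root lattice as a list of rows. -/
def MW (w : R.W) : List (List ℤ) :=
  (List.finRange l).map fun i => List.ofFn (R.co w (Pi.single i 1))

theorem MW_eq_1' : type_of% @MW.eq_1 := @MW.eq_1

theorem MW_one : MW R 1 = idL l :=
  List.map_congr_left fun i _ => by rw [R.co_one, omegaL_eq]

variable {R}

theorem MW_s_mul (h : R.HasC CL) (i : Fin l) (w : R.W) :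
    MW R (R.s i * w) = (MW R w).map (sreflL CL i) := by
  rw [MW, MW, List.map_map]
  exact List.map_congr_left fun j _ => by rw [R.co_mul, h.ofFn_co_s]; rfl

theorem MW_wprod (h : R.HasC CL) (ω : List (Fin l)) : MW R (wprod R.s ω) = matL CL ω := by
  rw [MW, matL, idL, List.map_map]
  exact List.map_congr_left fun j _ => by rw [h.ofFn_co_wprod, ← omegaL_eq]; rfl

theorem treeChk_succ (good : List (List ℤ) → Bool) (m : ℕ) (μ : List ℤ) (M : List (List ℤ)) :
    treeChk (l := l) CL good (m + 1) μ M = (good M && (List.finRange l).all fun i =>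
    !decide (0 < evL μ i) || forceL (sreflL CL i μ) fun ν =>
      !(((List.finRange l).find? fun j => decide (evL ν j < 0)) == some i) ||
      forceM (M.map (sreflL CL i)) fun N => treeChk (l := l) CL good m ν N) := rfl

theorem treeChk_sound (h : R.HasC CL) {good : List (List ℤ) → Bool} {m : ℕ}
    (hc : treeChk (l := l) CL good m (rhoL l) (idL l) = true) (w : R.W) :
    good (MW R w) = true := by
  have key : ∀ n, ∀ w : R.W, R.len w = n → ∃ m, treeChk (l := l) CL good m
      (List.ofFn (R.co w fun _ => 1)) (MW R w) = true := by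
    intro n
    induction n with
    | zero =>
      intro w hw
      rw [R.len_eq_zero_iff.1 hw, R.co_one, MW_one, ← rhoL_eq]
      exact ⟨m, hc⟩
    | succ n ih =>
      intro w hw
      have h1 : w⁻¹ ≠ 1 := fun e => by
        rw [inv_eq_one] at e
        rw [e, R.len_one] at hw
        omega
      obtain ⟨j, hj⟩ := R.exists_not_pos_of_ne_one h1
      have hρ : ∀ j : Fin l, 0 < (fun _ : Fin l => (1 : ℤ)) j := fun _ => one_pos
      obtain ⟨i, hi⟩ : ∃ i, ((List.finRange l).find? fun j =>
          decide (evL (List.ofFn (R.co w fun _ => 1)) j < 0)) = some i := by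
        rw [← Option.isSome_iff_exists, List.find?_isSome]
        exact ⟨j, List.mem_finRange j, by rw [evL_ofFn]; simpa using (R.co_neg_iff hρ w j).2 hj⟩
      have h2 := List.find?_some hi
      rw [evL_ofFn, decide_eq_true_eq] at h2
      have h3 := R.len_s_mul_of_not_pos ((R.co_neg_iff hρ w i).1 h2)
      obtain ⟨m', hm'⟩ := ih (R.s i * w) (by omega)
      obtain _ | m' := m'
      · exact absurd hm' (by simp [treeChk])
      rw [treeChk_succ, Bool.and_eq_true, List.all_eq_true] at hm'
      have h4 := hm'.2 i (List.mem_finRange i)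
      rw [forceL_eq, forceM_eq, ← h.ofFn_co_s, ← R.co_mul, R.s_mul_s_mul, ← MW_s_mul h, R.s_mul_s_mul, hi, evL_ofFn,
        R.co_mul, R.co_s_self] at h4
      exact ⟨m', by simpa [h2] using h4⟩
  obtain ⟨m', hm'⟩ := key _ w rfl
  obtain _ | m' := m'
  · exact absurd hm' (by simp [treeChk])
  rw [treeChk_succ, Bool.and_eq_true] at hm'
  exact hm'.1

theorem mulL_MW (w : R.W) (v : Fin l → ℤ) :
    mulL (MW R w) (List.ofFn v) = List.ofFn (R.lin w⁻¹ v) := by
  rw [mulL, MW, List.map_map, List.ofFn_eq_map (f := R.lin w⁻¹ v)]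
  refine List.map_congr_left fun i _ => ?_
  rw [Function.comp_apply, dotL_ofFn, evL_ofFn]
  have := R.co_dot w (Pi.single i 1) v
  rw [single_dotProduct, one_mul] at this
  exact this

/-- Horner evaluation for the action on the root lattice. -/
def hornerF (w : R.W) (P : List ℤ) (v : Fin l → ℤ) : Fin l → ℤ :=
  P.foldr (fun a acc => a • v + R.lin w⁻¹ acc) 0

theorem hornerF_eq_1' : type_of% @hornerF.eq_1 := @hornerF.eq_1

theorem hornerL_MW (w : R.W) (P : List ℤ) (v : Fin l → ℤ) :
    hornerL (MW R w) P (List.ofFn v) = List.ofFn (hornerF w P v) := by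
  induction P with
  | nil => exact List.map_ofFn
  | cons a P ih =>
    change List.zipWith _ _ (mulL _ (hornerL (MW R w) P (List.ofFn v))) = _
    rw [ih, mulL_MW]
    apply List.ext_getElem
    · simp
    · intro k h1 h2
      simp [hornerF]

variable {M : Type*} [CommGroup M] {w : R.W} {c : Fin l → M} {q : ℕ}

theorem chr_pow' (c : Fin l → M) (q : ℕ) (v : Fin l → ℤ) : chr (c ^ q) v = chr c v ^ q := by
  rw [chr, chr, ← Finset.prod_pow]
  exact Finset.prod_congr rfl fun i _ => by
    rw [Pi.pow_apply, ← zpow_natCast, ← zpow_natCast, ← zpow_mul, ← zpow_mul, mul_comm]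

theorem chr_lin (hw : R.tor M w c = c ^ q) (v : Fin l → ℤ) :
    chr c (R.lin w⁻¹ v) = chr c v ^ q := by rw [← R.chr_tor, hw, chr_pow']

theorem chr_hornerF (hw : R.tor M w c = c ^ q) (P : List ℤ) (v : Fin l → ℤ) :
    chr c (hornerF w P v) = chr c v ^ evalZ P q := by
  induction P with
  | nil => simp [hornerF, chr_zero, evalZ_nil]
  | cons a P ih =>
    change chr c (a • v + R.lin w⁻¹ (hornerF w P v)) = _
    rw [chr_add, chr_smul, chr_lin hw, ih, evalZ_cons, zpow_add, ← zpow_natCast, ← zpow_mul,
      mul_comm (q : ℤ)]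

theorem zpow_eq_of_horner (hw : R.tor M w c = c ^ q) {P : List ℤ} {i j : Fin l} {d : ℤ}
    (h : hornerL (MW R w) P (omegaL i) = (omegaL j).map (d * ·)) : c j ^ d = c i ^ evalZ P q := by
  rw [omegaL_eq, hornerL_MW, omegaL_eq, List.map_ofFn, List.ofFn_inj] at h
  rw [← chr_single c i, ← chr_hornerF hw, h, ← chr_single c j, ← chr_smul]
  rfl

theorem orderOf_dvd_of_ann (hw : R.tor M w c = c ^ q) {P : List ℤ}
    (h : annChk l (MW R w) P = true) : (orderOf c : ℤ) ∣ evalZ P q := by
  rw [orderOf_dvd_iff_zpow_eq_one]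
  funext i
  have h1 := List.all_eq_true.1 h i (List.mem_finRange i)
  rw [forceL_eq, hornerK_eq, beq_iff_eq] at h1
  have h2 := zpow_eq_of_horner hw (i := i) (j := i) (d := 0) (P := P) (by
    rw [h1, omegaL_eq]; simp [List.map_ofFn, Function.comp_def])
  rw [zpow_zero] at h2
  exact h2.symm

/-- Moving a root in the kernel of `c` to a simple root. -/
theorem exists_simple_of_root (hw : R.tor M w c = c ^ q) {r : X} (hr : r ∈ R.Φ)
    (h1 : chr c (R.rc r) = 1) : ∃ (w' : R.W) (c' : Fin l → M) (i : Fin l),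
      R.tor M w' c' = c' ^ q ∧ orderOf c' = orderOf c ∧ c' i = 1 := by
  obtain ⟨u, i, rfl⟩ := RGD.exists_smul_simple R hr
  refine ⟨u⁻¹ * w * u, R.tor M u⁻¹ c, i, ?_, orderOf_injective _ (R.tor_injective _) _, ?_⟩
  · rw [R.tor_mul, R.tor_mul, R.tor_tor_inv, hw, map_pow]
  · rw [R.tor_apply, inv_inv, h1]

theorem mat_inv_eq (w : R.W) : R.mat w⁻¹ = (listMat l (MW R w)).transpose := by
  ext i j
  have : (MW R w).getD j [] = List.ofFn (R.co w (Pi.single j 1)) := by
    simp [MW, List.getD_eq_getElem?_getD]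
  rw [Matrix.transpose_apply, listMat, Matrix.of_apply, this]
  change _ = evL _ i
  rw [evL_ofFn, R.co_apply, single_dotProduct, one_mul]
  rfl

theorem smul_simple_of_MW {i : Fin l} (h : mulL (MW R w) (omegaL i) = omegaL i) :
    w • R.simple i = R.simple i := by
  rw [omegaL_eq, mulL_MW, List.ofFn_inj, R.lin_single, ← R.rc_simple] at h
  have := R.rc_inj _ (R.smul_mem _ (R.simple_mem i)) _ (R.simple_mem i) h
  rw [inv_smul_eq_iff] at this
  exact this.symm

variable (R) in
/-- The twisted torus. -/
def torW (M : Type*) [CommGroup M] (w : R.W) (q : ℕ) : Subgroup (Fin l → M) :=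
  (R.tor M w).eqLocus (powMonoidHom q)

theorem torW_eq_1' : type_of% @torW.eq_1 := @torW.eq_1

theorem exists_tor_prime (k : Type*) [Field k] [IsAlgClosed k] (hq : 1 < q) (hk : (q : k) = 0)
    (w : R.W) {s : ℕ} (hs : s.Prime)
    (h : (s : ℤ) ∣ ((q : ℤ) • (1 : Matrix (Fin l) (Fin l) ℤ) - listMat l (MW R w)).det) :
    ∃ c : Fin l → kˣ, R.tor kˣ w c = c ^ q ∧ orderOf c = s := by
  have h1 := R.card_tor_eq k hq hk w
  rw [mat_inv_eq, ← Matrix.det_transpose, Matrix.transpose_sub, Matrix.transpose_smul,
    Matrix.transpose_one, Matrix.transpose_transpose] at h1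
  rw [← h1, Int.natCast_dvd_natCast] at h
  have : Finite (torW R kˣ w q) := R.finite_tor_eq k hq hk w
  have : Fact s.Prime := ⟨hs⟩
  obtain ⟨c, hc⟩ := exists_prime_orderOf_dvd_card' (G := torW R kˣ w q) s h
  exact ⟨c, c.2, by rw [Subgroup.orderOf_coe, hc]⟩

theorem exists_tor_mul (k : Type*) [Field k] [IsAlgClosed k] (hq : 1 < q) (hk : (q : k) = 0)
    (w : R.W) {r s : ℕ} (hr : r.Prime) (hs : s.Prime) (hrs : r ≠ s)
    (h : (r : ℤ) ∣ ((q : ℤ) • (1 : Matrix (Fin l) (Fin l) ℤ) - listMat l (MW R w)).det)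
    (h' : (s : ℤ) ∣ ((q : ℤ) • (1 : Matrix (Fin l) (Fin l) ℤ) - listMat l (MW R w)).det) :
    ∃ c : Fin l → kˣ, R.tor kˣ w c = c ^ q ∧ orderOf c = r * s := by
  obtain ⟨c, h1, h2⟩ := exists_tor_prime k hq hk w hr h
  obtain ⟨c', h1', h2'⟩ := exists_tor_prime k hq hk w hs h'
  refine ⟨c * c', by rw [map_mul, h1, h1', mul_pow], ?_⟩
  rw [(Commute.all c c').orderOf_mul_eq_mul_orderOf_of_coprime
    (by rw [h2, h2']; exact (Nat.coprime_primes hr hs).2 hrs), h2, h2']

end Cfsg.Lib.Known.WE
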